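/-
Geometric-class vocabulary: elementary facts about stabilisers of subspaces and transvection matrices.
-/
import Cfsg.Prelude.Def_GeometricClasses

set_option autoImplicit false

namespace CfsgLib.Geo

open Matrix Cfsg Cfsg.Geo

variable {ι : Type} [Fintype ι] [DecidableEq ι] {F : Type*} [Field F]

/-- The action of an invertible matrix on column vectors, as a linear automorphism. -/
noncomputable def glEquiv (g : GL ι F) : (ι → F) ≃ₗ[F] (ι → F) :=
  LinearEquiv.ofLinearMap (Matrix.toLin' (g : Matrix ι ι F)) (Matrix.toLin' ((g⁻¹ : GL ι F) : Matrix ι ι F))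
    (by rw [← Matrix.toLin'_mul, ← Units.val_mul, mul_inv_cancel, Units.val_one, Matrix.toLin'_one])
    (by rw [← Matrix.toLin'_mul, ← Units.val_mul, inv_mul_cancel, Units.val_one, Matrix.toLin'_one])

@[simp] lemma glEquiv_apply (g : GL ι F) (v : ι → F) :
    glEquiv g v = (g : Matrix ι ι F) *ᵥ v := by
  simp [glEquiv, Matrix.toLin'_apply]

lemma inv_mulVec_mulVec (g : GL ι F) (v : ι → F) :
    ((g⁻¹ : GL ι F) : Matrix ι ι F) *ᵥ ((g : Matrix ι ι F) *ᵥ v) = v := by
  rw [Matrix.mulVec_mulVec, ← Units.val_mul, inv_mul_cancel, Units.val_one, Matrix.one_mulVec]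

lemma mulVec_inv_mulVec (g : GL ι F) (v : ι → F) :
    (g : Matrix ι ι F) *ᵥ (((g⁻¹ : GL ι F) : Matrix ι ι F) *ᵥ v) = v := by
  rw [Matrix.mulVec_mulVec, ← Units.val_mul, mul_inv_cancel, Units.val_one, Matrix.one_mulVec]

lemma mem_subspaceStabilizer' {W : Submodule F (ι → F)} {g : GL ι F} :
    g ∈ subspaceStabilizer W ↔ ∀ v, v ∈ W ↔ (g : Matrix ι ι F) *ᵥ v ∈ W :=
  Iff.rfl

/-- In finite dimension mapping `W` into itself is enough. -/
lemma mem_subspaceStabilizer {W : Submodule F (ι → F)} {g : GL ι F} :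
    g ∈ subspaceStabilizer W ↔ ∀ v ∈ W, (g : Matrix ι ι F) *ᵥ v ∈ W := by
  refine ⟨fun h v hv => (mem_subspaceStabilizer'.1 h v).1 hv, fun h => ?_⟩
  have hle : W.map (glEquiv g).toLinearMap ≤ W := by
    rintro _ ⟨v, hv, rfl⟩
    simpa using h v hv
  have heq : W.map (glEquiv g).toLinearMap = W :=
    Submodule.eq_of_le_of_finrank_le hle (le_of_eq (LinearEquiv.finrank_map_eq (glEquiv g) W).symm)
  refine mem_subspaceStabilizer'.2 fun v => ⟨h v, fun hv => ?_⟩
  rw [← heq] at hv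
  obtain ⟨w, hw, hwv⟩ := hv
  have : w = v := (glEquiv g).injective (by simpa using hwv)
  exact this ▸ hw

lemma mem_specialLinear {g : GL ι F} :
    g ∈ specialLinear ι F ↔ (g : Matrix ι ι F).det = 1 := by
  simp [specialLinear, MonoidHom.mem_ker, Units.ext_iff]

/-! ### Transvections given by a centre `a` and an axis covector `φ` -/

omit [DecidableEq ι] in
lemma vecMulVec_mul_self_eq_zero {a φ : ι → F} (h : φ ⬝ᵥ a = 0) :
    vecMulVec a φ * vecMulVec a φ = 0 := by
  rw [Matrix.vecMulVec_mul_vecMulVec, h]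
  ext i j; simp [vecMulVec_apply]

/-- The transvection `x ↦ x + (φ ⬝ x) a` (where `φ ⬝ a = 0`) as an element of `GL(ι, F)`. -/
def tvec (a φ : ι → F) (h : φ ⬝ᵥ a = 0) : GL ι F where
  val := 1 + vecMulVec a φ
  inv := 1 - vecMulVec a φ
  val_inv := by
    rw [mul_sub, mul_one, add_mul, one_mul, vecMulVec_mul_self_eq_zero h, add_zero]
    abel
  inv_val := by
    rw [sub_mul, one_mul, mul_add, mul_one, vecMulVec_mul_self_eq_zero h, add_zero]
    abel

lemma tvec_val (a φ : ι → F) (h : φ ⬝ᵥ a = 0) :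
    (tvec a φ h : Matrix ι ι F) = 1 + vecMulVec a φ := rfl

lemma tvec_mulVec (a φ : ι → F) (h : φ ⬝ᵥ a = 0) (x : ι → F) :
    (tvec a φ h : Matrix ι ι F) *ᵥ x = x + (φ ⬝ᵥ x) • a := by
  rw [tvec_val, Matrix.add_mulVec, Matrix.one_mulVec, Matrix.vecMulVec_mulVec]
  ext i; simp

lemma det_one_add_vecMulVec (a φ : ι → F) : (1 + vecMulVec a φ).det = 1 + φ ⬝ᵥ a := by
  rw [vecMulVec_eq Unit, Matrix.det_one_add_replicateCol_mul_replicateRow]

lemma tvec_mem_specialLinear (a φ : ι → F) (h : φ ⬝ᵥ a = 0) :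
    tvec a φ h ∈ specialLinear ι F := by
  rw [mem_specialLinear, tvec_val, det_one_add_vecMulVec, h, add_zero]

lemma tvec_mem_subspaceStabilizer {W : Submodule F (ι → F)} {a φ : ι → F} (h : φ ⬝ᵥ a = 0)
    (hW : a ∈ W ∨ ∀ w ∈ W, φ ⬝ᵥ w = 0) : tvec a φ h ∈ subspaceStabilizer W := by
  rw [mem_subspaceStabilizer]
  intro v hv
  rw [tvec_mulVec]
  rcases hW with hW | hW
  · exact W.add_mem hv (W.smul_mem _ hW)
  · simpa [hW v hv] using hv

lemma tvec_notMem_subspaceStabilizer {W : Submodule F (ι → F)} {a φ : ι → F} (h : φ ⬝ᵥ a = 0)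
    (ha : a ∉ W) {w : ι → F} (hw : w ∈ W) (hφw : φ ⬝ᵥ w ≠ 0) :
    tvec a φ h ∉ subspaceStabilizer W := by
  intro hs
  have h1 := mem_subspaceStabilizer.1 hs w hw
  rw [tvec_mulVec] at h1
  exact ha ((W.smul_mem_iff hφw).1 (by simpa using W.sub_mem h1 hw))

/-- A vector outside a subspace is detected by a covector vanishing on the subspace. -/
lemma exists_covector (S : Submodule F (ι → F)) {u : ι → F} (hu : u ∉ S) :
    ∃ φ : ι → F, (∀ s ∈ S, φ ⬝ᵥ s = 0) ∧ φ ⬝ᵥ u = 1 := by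
  obtain ⟨f, hf0, hf⟩ := Submodule.exists_le_ker_of_notMem hu
  have key : ∀ x, (fun i => (f u)⁻¹ * f (Pi.single i 1)) ⬝ᵥ x = (f u)⁻¹ * f x := fun x => by
    conv_rhs => rw [pi_eq_sum_univ' x]
    simp only [dotProduct, map_sum, map_smul, smul_eq_mul, Finset.mul_sum]
    exact Finset.sum_congr rfl fun i _ => by ring
  exact ⟨_, fun s hs => by rw [key, LinearMap.mem_ker.1 (hf hs), mul_zero],
    by rw [key, inv_mul_cancel₀ hf0]⟩

/-- A non-trivial proper subspace is not stabilised by the special linear group. -/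
lemma exists_specialLinear_notMem_stabilizer {W : Submodule F (ι → F)} (h0 : W ≠ ⊥) (h1 : W ≠ ⊤) :
    ∃ g ∈ specialLinear ι F, g ∉ subspaceStabilizer W := by
  obtain ⟨w, hw, hw0⟩ := W.ne_bot_iff.1 h0
  obtain ⟨a, ha⟩ : ∃ a, a ∉ W := by
    by_contra hall
    push Not at hall
    exact h1 (Submodule.eq_top_iff'.2 hall)
  obtain ⟨φ, hφ, hφw⟩ := exists_covector (F ∙ a) (u := w) (by
    rw [Submodule.mem_span_singleton]
    rintro ⟨c, rfl⟩
    have hc : c ≠ 0 := by rintro rfl; simp at hw0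
    exact ha ((W.smul_mem_iff hc).1 hw))
  have hφa : φ ⬝ᵥ a = 0 := hφ a (Submodule.mem_span_singleton_self a)
  exact ⟨tvec a φ hφa, tvec_mem_specialLinear a φ hφa,
    tvec_notMem_subspaceStabilizer hφa ha hw (by rw [hφw]; exact one_ne_zero)⟩

/-- The joint stabiliser of two subspaces is not maximal as soon as some transvection separates them. -/
lemma exists_between_of_pair {W U : Submodule F (ι → F)} (hW0 : W ≠ ⊥) (hW1 : W ≠ ⊤)
    {a u : ι → F} (haU : a ∉ U) (hu : u ∈ U) (huS : u ∉ W ⊔ (F ∙ a)) :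
    ∃ K : Subgroup (GL ι F), subspaceStabilizer W ⊓ subspaceStabilizer U ⊓ specialLinear ι F < K ∧
      K < specialLinear ι F := by
  refine ⟨subspaceStabilizer W ⊓ specialLinear ι F, ?_, ?_⟩
  · refine lt_of_le_not_ge (inf_le_inf_right _ inf_le_left) fun hle => ?_
    obtain ⟨φ, hφ, hφu⟩ := exists_covector _ huS
    have hφa : φ ⬝ᵥ a = 0 := hφ a (Submodule.mem_sup_right (Submodule.mem_span_singleton_self a))
    have hW' : tvec a φ hφa ∈ subspaceStabilizer W :=
      tvec_mem_subspaceStabilizer hφa (Or.inr fun w hw => hφ w (Submodule.mem_sup_left hw))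
    exact tvec_notMem_subspaceStabilizer hφa haU hu (by rw [hφu]; exact one_ne_zero)
      (hle ⟨hW', tvec_mem_specialLinear a φ hφa⟩).1.2
  · refine lt_of_le_not_ge inf_le_right fun hle => ?_
    obtain ⟨g, hg, hgW⟩ := exists_specialLinear_notMem_stabilizer hW0 hW1
    exact hgW (hle hg).1

end CfsgLib.Geo
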