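/-
Transvections inside a subgroup of GL: centre/axis calculus and criteria for containing SL.
-/
import Cfsg.Agent.Geo.Basic
import Cfsg.Agent.Classical.Transvections

set_option autoImplicit false

namespace CfsgLib.Geo

open Matrix Cfsg Cfsg.Geo

variable {ι : Type} [Fintype ι] [DecidableEq ι] {F : Type*} [Field F]

lemma gl_ext_mulVec {g h : GL ι F} (H : ∀ x : ι → F, (g : Matrix ι ι F) *ᵥ x = (h : Matrix ι ι F) *ᵥ x) :
    g = h :=
  Units.ext (Matrix.ext_iff_mulVec.2 H)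

lemma mul_mulVec (g h : GL ι F) (x : ι → F) :
    ((g * h : GL ι F) : Matrix ι ι F) *ᵥ x = (g : Matrix ι ι F) *ᵥ ((h : Matrix ι ι F) *ᵥ x) := by
  rw [Units.val_mul, Matrix.mulVec_mulVec]

lemma vecMul_dotProduct_mulVec (φ : ι → F) (g : GL ι F) (a : ι → F) :
    (φ ᵥ* ((g⁻¹ : GL ι F) : Matrix ι ι F)) ⬝ᵥ ((g : Matrix ι ι F) *ᵥ a) = φ ⬝ᵥ a := by
  rw [← Matrix.dotProduct_mulVec, inv_mulVec_mulVec]

lemma tvec_conj (g : GL ι F) (a φ : ι → F) (h : φ ⬝ᵥ a = 0) :
    g * tvec a φ h * g⁻¹ = tvec ((g : Matrix ι ι F) *ᵥ a) (φ ᵥ* ((g⁻¹ : GL ι F) : Matrix ι ι F))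
      (by rw [vecMul_dotProduct_mulVec, h]) := by
  refine gl_ext_mulVec fun x => ?_
  rw [mul_mulVec, mul_mulVec, tvec_mulVec, tvec_mulVec, Matrix.mulVec_add, mulVec_inv_mulVec,
    Matrix.mulVec_smul, ← Matrix.dotProduct_mulVec]

/-- `M` contains the transvection with centre `a` and axis `φ`. -/
def HasTv (M : Subgroup (GL ι F)) (a φ : ι → F) : Prop :=
  ∃ h : φ ⬝ᵥ a = 0, tvec a φ h ∈ M

variable {M : Subgroup (GL ι F)}

lemma HasTv.dot {a φ : ι → F} (h : HasTv M a φ) : φ ⬝ᵥ a = 0 := h.1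

lemma HasTv.conj {a φ : ι → F} (h : HasTv M a φ) {g : GL ι F} (hg : g ∈ M) :
    HasTv M ((g : Matrix ι ι F) *ᵥ a) (φ ᵥ* ((g⁻¹ : GL ι F) : Matrix ι ι F)) :=
  ⟨_, tvec_conj g a φ h.1 ▸ M.mul_mem (M.mul_mem hg h.2) (M.inv_mem hg)⟩

lemma hasTv_zero_left (M : Subgroup (GL ι F)) (φ : ι → F) : HasTv M 0 φ := by
  refine ⟨by simp, ?_⟩
  have : tvec (0 : ι → F) φ (by simp) = 1 := gl_ext_mulVec fun x => by simp [tvec_mulVec]
  rw [this]; exact M.one_mem

lemma hasTv_zero_right (M : Subgroup (GL ι F)) (a : ι → F) : HasTv M a 0 := by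
  refine ⟨by simp, ?_⟩
  have : tvec a (0 : ι → F) (by simp) = 1 := gl_ext_mulVec fun x => by simp [tvec_mulVec]
  rw [this]; exact M.one_mem

lemma HasTv.add_axis {a φ ψ : ι → F} (h : HasTv M a φ) (h' : HasTv M a ψ) : HasTv M a (φ + ψ) := by
  have hd : (φ + ψ) ⬝ᵥ a = 0 := by rw [add_dotProduct, h.1, h'.1, add_zero]
  refine ⟨hd, ?_⟩
  have : tvec a (φ + ψ) hd = tvec a φ h.1 * tvec a ψ h'.1 := by
    refine gl_ext_mulVec fun x => ?_
    simp only [mul_mulVec, tvec_mulVec, add_dotProduct, dotProduct_add, dotProduct_smul, h.1,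
      smul_eq_mul, mul_zero, add_zero, add_smul]
    abel
  rw [this]; exact M.mul_mem h.2 h'.2

lemma HasTv.add_center {a b φ : ι → F} (h : HasTv M a φ) (h' : HasTv M b φ) : HasTv M (a + b) φ := by
  have hd : φ ⬝ᵥ (a + b) = 0 := by rw [dotProduct_add, h.1, h'.1, add_zero]
  refine ⟨hd, ?_⟩
  have : tvec (a + b) φ hd = tvec a φ h.1 * tvec b φ h'.1 := by
    refine gl_ext_mulVec fun x => ?_
    simp only [mul_mulVec, tvec_mulVec, dotProduct_add, dotProduct_smul, h'.1,
      smul_eq_mul, mul_zero, add_zero, smul_add]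
    abel
  rw [this]; exact M.mul_mem h.2 h'.2

lemma hasTv_smul_iff (c : F) (hc : c ≠ 0) {a φ : ι → F} : HasTv M (c • a) φ ↔ HasTv M a (c • φ) := by
  have key : ∀ h1 h2, tvec (c • a) φ h1 = tvec a (c • φ) h2 := fun h1 h2 => gl_ext_mulVec fun x => by
    simp [tvec_mulVec, smul_smul, mul_comm]
  constructor
  · rintro ⟨h, hm⟩
    have h2 : (c • φ) ⬝ᵥ a = 0 := by rw [smul_dotProduct, ← dotProduct_smul, h]
    exact ⟨h2, key h h2 ▸ hm⟩
  · rintro ⟨h, hm⟩
    have h2 : φ ⬝ᵥ (c • a) = 0 := by rw [dotProduct_smul, ← smul_dotProduct, h]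
    exact ⟨h2, (key h2 h).symm ▸ hm⟩

lemma HasTv.neg_axis {a φ : ι → F} (h : HasTv M a φ) : HasTv M a (-φ) := by
  have hd : (-φ) ⬝ᵥ a = 0 := by rw [neg_dotProduct, h.1, neg_zero]
  refine ⟨hd, ?_⟩
  have : tvec a (-φ) hd = (tvec a φ h.1)⁻¹ := Units.ext (by
    rw [tvec_val, vecMulVec_neg]
    exact (sub_eq_add_neg _ _).symm)
  rw [this]; exact M.inv_mem h.2

lemma HasTv.neg_center {a φ : ι → F} (h : HasTv M a φ) : HasTv M (-a) φ := by
  rw [← neg_one_smul F a, hasTv_smul_iff (-1) (by simp), neg_one_smul]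
  exact h.neg_axis

lemma HasTv.sub_axis {a φ ψ : ι → F} (h : HasTv M a φ) (h' : HasTv M a ψ) : HasTv M a (φ - ψ) :=
  sub_eq_add_neg φ ψ ▸ h.add_axis h'.neg_axis

lemma HasTv.sub_center {a b φ : ι → F} (h : HasTv M a φ) (h' : HasTv M b φ) : HasTv M (a - b) φ :=
  sub_eq_add_neg a b ▸ h.add_center h'.neg_center

/-- Commutator of two transvections with one incidence. -/
lemma HasTv.comm {a φ b ψ : ι → F} (h : HasTv M a φ) (h' : HasTv M b ψ) (hψa : ψ ⬝ᵥ a = 0) :
    HasTv M a ((φ ⬝ᵥ b) • ψ) := by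
  have hd : ((φ ⬝ᵥ b) • ψ) ⬝ᵥ a = 0 := by rw [smul_dotProduct, hψa, smul_zero]
  refine ⟨hd, ?_⟩
  have : tvec a ((φ ⬝ᵥ b) • ψ) hd =
      tvec a φ h.1 * tvec b ψ h'.1 * (tvec a φ h.1)⁻¹ * (tvec b ψ h'.1)⁻¹ := by
    rw [eq_mul_inv_iff_mul_eq, eq_mul_inv_iff_mul_eq]
    refine gl_ext_mulVec fun x => ?_
    simp only [mul_mulVec, tvec_mulVec, dotProduct_add, dotProduct_smul, smul_dotProduct, h.1, h'.1,
      hψa, smul_eq_mul, mul_zero, add_zero, smul_add, add_smul, smul_smul]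
    module
  rw [this]
  exact M.mul_mem (M.mul_mem (M.mul_mem h.2 h'.2) (M.inv_mem h.2)) (M.inv_mem h'.2)

/-- All transvections with centre `a` lie in `M`. -/
def FullAt (M : Subgroup (GL ι F)) (a : ι → F) : Prop :=
  ∀ φ : ι → F, φ ⬝ᵥ a = 0 → HasTv M a φ

lemma fullAt_smul {a : ι → F} (h : FullAt M a) (c : F) : FullAt M (c • a) := by
  intro φ hφ
  rcases eq_or_ne c 0 with rfl | hc
  · rw [zero_smul]; exact hasTv_zero_left M φ
  · rw [hasTv_smul_iff c hc]
    exact h _ (by rw [smul_dotProduct, ← dotProduct_smul, hφ])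

lemma fullAt_mulVec {a : ι → F} (h : FullAt M a) {g : GL ι F} (hg : g ∈ M) :
    FullAt M ((g : Matrix ι ι F) *ᵥ a) := by
  intro φ hφ
  have h1 := (h (φ ᵥ* (g : Matrix ι ι F)) (by rw [← Matrix.dotProduct_mulVec, hφ])).conj hg
  rwa [Matrix.vecMul_vecMul, ← Units.val_mul, mul_inv_cancel, Units.val_one, Matrix.vecMul_one] at h1

lemma fullAt_add {a b : ι → F} (ha : FullAt M a) (hb : FullAt M b) : FullAt M (b + a) := by
  by_cases hmem : b ∈ F ∙ a
  · obtain ⟨c, rfl⟩ := Submodule.mem_span_singleton.1 hmem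
    simpa [add_smul] using fullAt_smul ha (c + 1)
  · obtain ⟨φ, hφ, hφb⟩ := exists_covector _ hmem
    obtain ⟨h, hm⟩ := ha φ (hφ a (Submodule.mem_span_singleton_self a))
    have := fullAt_mulVec hb hm
    rwa [tvec_mulVec, hφb, one_smul] at this

/-- The vectors at which `M` is full, as a subspace. -/
def fullSubmodule (M : Subgroup (GL ι F)) : Submodule F (ι → F) where
  carrier := {a | FullAt M a}
  add_mem' ha hb := fullAt_add hb ha
  zero_mem' φ _ := hasTv_zero_left M φ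
  smul_mem' c _ ha := fullAt_smul ha c

lemma mem_fullSubmodule {a : ι → F} : a ∈ fullSubmodule M ↔ FullAt M a := Iff.rfl

lemma transvection_eq_tvec {i j : ι} (hij : i ≠ j) (c : F) :
    Matrix.transvection i j c = 1 + vecMulVec (c • (Pi.single i 1 : ι → F)) (Pi.single j 1) := by
  ext k l
  simp only [Matrix.transvection, Matrix.add_apply, Matrix.single_apply, vecMulVec_apply,
    Pi.smul_apply, Pi.single_apply, smul_eq_mul]
  split_ifs <;> grind

/-- `M` contains SL once it contains all elementary transvections. -/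
theorem specialLinear_le_of_elementary
    (h : ∀ (i j : ι), i ≠ j → ∀ c : F, HasTv M (c • (Pi.single i 1 : ι → F)) (Pi.single j 1)) :
    specialLinear ι F ≤ M := by
  intro g hg
  rcases subsingleton_or_nontrivial ι with hsub | hnt
  · have : g = 1 := by
      refine Units.ext ?_
      ext i j
      obtain rfl := Subsingleton.elim i j
      have := mem_specialLinear.1 hg
      rw [Matrix.det_eq_elem_of_subsingleton _ i] at this
      simp [this]
    rw [this]; exact M.one_mem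
  have key : ∀ A : Matrix.SpecialLinearGroup ι F, Matrix.SpecialLinearGroup.toGL A ∈ M := by
    refine CfsgLib.Linear.transvection_induction
      (fun A => Matrix.SpecialLinearGroup.toGL A ∈ M) ?_ ?_
    · intro i j hij c
      obtain ⟨hd, hm⟩ := h i j hij c
      have : Matrix.SpecialLinearGroup.toGL (Matrix.SpecialLinearGroup.transvection hij c) = tvec _ _ hd :=
        Units.ext (by rw [tvec_val, ← transvection_eq_tvec hij]; rfl)
      rw [this]; exact hm
    · intro A B hA hB; rw [map_mul]; exact M.mul_mem hA hB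
  have := key ⟨(g : Matrix ι ι F), mem_specialLinear.1 hg⟩
  rwa [show Matrix.SpecialLinearGroup.toGL (⟨(g : Matrix ι ι F), mem_specialLinear.1 hg⟩ :
    Matrix.SpecialLinearGroup ι F) = g from Units.ext rfl] at this

/-- `M` contains SL once the full centres span. -/
theorem specialLinear_le_of_fullSubmodule (h : fullSubmodule M = ⊤) : specialLinear ι F ≤ M :=
  specialLinear_le_of_elementary fun i j hij c =>
    (mem_fullSubmodule.1 (h ▸ Submodule.mem_top) : FullAt M (c • (Pi.single i 1 : ι → F))) _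
      (by simp [hij.symm])

lemma fullSubmodule_invariant {a : ι → F} (ha : a ∈ fullSubmodule M) {g : GL ι F} (hg : g ∈ M) :
    (g : Matrix ι ι F) *ᵥ a ∈ fullSubmodule M :=
  fullAt_mulVec ha hg

/-- The pattern of all maximality proofs: it is enough to show that a proper overgroup contains SL. -/
lemma isMaximalIn_of_key {I X : Subgroup (GL ι F)} (hne : ¬ I ≤ X)
    (key : ∀ M : Subgroup (GL ι F), X ⊓ I ≤ M → M ≤ I → ¬ M ≤ X → I ≤ M) :
    IsMaximalIn I (X ⊓ I) := by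
  refine ⟨lt_of_le_not_ge inf_le_right fun h => hne (h.trans inf_le_left), fun M hM hMI => ?_⟩
  by_cases hX : M ≤ X
  · exact Or.inl (le_antisymm (le_inf hX hMI) hM)
  · exact Or.inr (le_antisymm hMI (key M hM hMI hX))

end CfsgLib.Geo
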