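/-
Overgroups of the symplectic similarity group in SL contain every transvection.
-/
import Cfsg.Agent.Geo.Transvection

set_option autoImplicit false

namespace CfsgLib.Geo

open Matrix Cfsg Cfsg.Geo

variable {ι : Type} [Fintype ι] [DecidableEq ι] {F : Type*} [Field F]

/-- The covector `x ↦ f x u` of a form that is linear in its first argument. -/
def axisOf (f : (ι → F) → (ι → F) → F) (u : ι → F) : ι → F := fun i => f (Pi.single i 1) u

/-- A form is linear in its first argument. -/
structure LinLeft (f : (ι → F) → (ι → F) → F) : Prop where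
  add_left : ∀ x y v, f (x + y) v = f x v + f y v
  smul_left : ∀ (c : F) (x v : ι → F), f (c • x) v = c * f x v

variable {f : (ι → F) → (ι → F) → F}

/-- `x ↦ f x u` as a linear map. -/
def LinLeft.toLin (hf : LinLeft f) (u : ι → F) : (ι → F) →ₗ[F] F where
  toFun x := f x u
  map_add' x y := hf.add_left x y u
  map_smul' c x := hf.smul_left c x u

lemma LinLeft.dot (hf : LinLeft f) (u x : ι → F) : axisOf f u ⬝ᵥ x = f x u := by
  change _ = hf.toLin u x
  conv_rhs => rw [pi_eq_sum_univ' x, map_sum]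
  refine Finset.sum_congr rfl fun i _ => ?_
  rw [map_smul, smul_eq_mul, mul_comm]
  rfl

lemma LinLeft.zero_left (hf : LinLeft f) (u : ι → F) : f 0 u = 0 := (hf.toLin u).map_zero
lemma LinLeft.sub_left (hf : LinLeft f) (x y u : ι → F) : f (x - y) u = f x u - f y u :=
  (hf.toLin u).map_sub x y

lemma exists_notMem_of_ne_top {S : Submodule F (ι → F)} (h : S ≠ ⊤) : ∃ v, v ∉ S := by
  by_contra hcon
  push Not at hcon
  exact h (Submodule.eq_top_iff'.2 hcon)

/-- A family of covectors of size below the dimension has a common non-zero zero. -/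
lemma exists_ne_zero_dot_eq_zero {k : ℕ} (φs : Fin k → (ι → F)) (h : k < Fintype.card ι) :
    ∃ v : ι → F, v ≠ 0 ∧ ∀ j, φs j ⬝ᵥ v = 0 := by
  have hlt : Module.finrank F (Fin k → F) < Module.finrank F (ι → F) := by simpa using h
  have hne := LinearMap.ker_ne_bot_of_finrank_lt (f := Matrix.toLin' (Matrix.of φs)) hlt
  obtain ⟨v, hv, hv0⟩ := (Submodule.ne_bot_iff _).1 hne
  rw [LinearMap.mem_ker, Matrix.toLin'_apply] at hv
  exact ⟨v, hv0, fun j => congrFun hv j⟩

/-- Some vector outside two given hyperplanes' zero sets. -/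
lemma exists_dot_ne_zero {φ : ι → F} (h : φ ≠ 0) : ∃ x, φ ⬝ᵥ x ≠ 0 := by
  obtain ⟨i, hi⟩ := Function.ne_iff.1 h
  exact ⟨Pi.single i 1, by simpa using hi⟩

namespace SympOver

variable (hf : IsSymplecticForm f)
include hf

lemma linLeft : LinLeft f := ⟨hf.bilinear.add_left, hf.bilinear.smul_left⟩

lemma axisOf_add (u v : ι → F) : axisOf f (u + v) = axisOf f u + axisOf f v :=
  funext fun _ => hf.bilinear.add_right _ u v

lemma axisOf_smul (c : F) (u : ι → F) : axisOf f (c • u) = c • axisOf f u :=
  funext fun _ => hf.bilinear.smul_right c _ u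

lemma eq_zero_of_axis {v : ι → F} (h : axisOf f v = 0) : v = 0 := by
  by_contra hv
  obtain ⟨x, hx⟩ := (hf.nondegenerate v hv).1
  exact hx (by rw [← (linLeft hf).dot v x, h, zero_dotProduct])

lemma exists_axis (φ : ι → F) : ∃ u, axisOf f u = φ := by
  let L : (ι → F) →ₗ[F] (ι → F) :=
    { toFun := axisOf f, map_add' := axisOf_add hf, map_smul' := axisOf_smul hf }
  have hinj : Function.Injective L :=
    (injective_iff_map_eq_zero L).2 fun v hv => eq_zero_of_axis hf hv
  exact (LinearMap.injective_iff_surjective.1 hinj) φ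

lemma axis_injective {u v : ι → F} (h : axisOf f u = axisOf f v) : u = v := by
  refine sub_eq_zero.1 (eq_zero_of_axis hf ?_)
  rw [sub_eq_add_neg, ← neg_one_smul F v, axisOf_add hf, axisOf_smul hf, h]
  simp

/-- The symplectic transvection `x ↦ x + c f(x,v) v`. -/
lemma axis_dot_self (v : ι → F) (c : F) : (c • axisOf f v) ⬝ᵥ v = 0 := by
  rw [smul_dotProduct, (linLeft hf).dot, hf.alternating, smul_zero]

lemma sympTv_mem (v : ι → F) (c : F) :
    tvec v (c • axisOf f v) (axis_dot_self hf v c) ∈ similarityGroup f ⊓ specialLinear ι F := by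
  refine ⟨⟨1, fun x y => ?_⟩, tvec_mem_specialLinear _ _ _⟩
  simp only [tvec_mulVec, smul_dotProduct, (linLeft hf).dot, smul_eq_mul, hf.bilinear.add_left,
    hf.bilinear.add_right, hf.bilinear.smul_left, hf.bilinear.smul_right, hf.alternating,
    Units.val_one, one_mul]
  rw [hf.skew v y]
  ring

/-- `g` maps `f`-axes to multiples of `f`-axes everywhere: then it is a similitude. -/
lemma mem_similarity {g : GL ι F} (h : ∀ v : ι → F, ∃ lam : F,
      axisOf f v ᵥ* ((g⁻¹ : GL ι F) : Matrix ι ι F) = lam • axisOf f ((g : Matrix ι ι F) *ᵥ v)) :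
    g ∈ similarityGroup f := by
  let A : Matrix ι ι F := ↑g
  have hlam : ∀ v : ι → F, ∃ μ : F, ∀ x, f (A *ᵥ x) (A *ᵥ v) = μ * f x v := by
    intro v
    obtain ⟨lam, hv⟩ := h v
    have key : ∀ x, f x v = lam * f (A *ᵥ x) (A *ᵥ v) := fun x => by
      rw [← (linLeft hf).dot v x, ← vecMul_dotProduct_mulVec (axisOf f v) g x, hv, smul_dotProduct,
        (linLeft hf).dot, smul_eq_mul]
    rcases eq_or_ne lam 0 with rfl | hl
    · have hv0 : v = 0 := by
        by_contra hv0
        obtain ⟨x, hx⟩ := (hf.nondegenerate v hv0).1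
        exact hx (by rw [key, zero_mul])
      subst hv0
      exact ⟨0, fun x => by
        rw [Matrix.mulVec_zero, zero_mul, ← zero_smul F (0 : ι → F), hf.bilinear.smul_right, zero_mul]⟩
    · exact ⟨lam⁻¹, fun x => by rw [key, inv_mul_cancel_left₀ hl]⟩
  choose μ hμ using hlam
  have hμ0 : ∀ v, v ≠ 0 → μ v ≠ 0 := by
    intro v hv hz
    have hgv : A *ᵥ v ≠ 0 := fun e => hv (by
      rw [← inv_mulVec_mulVec g v, show (g : Matrix ι ι F) *ᵥ v = 0 from e, Matrix.mulVec_zero])
    obtain ⟨y, hy⟩ := (hf.nondegenerate _ hgv).1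
    apply hy
    have := hμ v (((g⁻¹ : GL ι F) : Matrix ι ι F) *ᵥ y)
    rwa [show A *ᵥ (((g⁻¹ : GL ι F) : Matrix ι ι F) *ᵥ y) = y from mulVec_inv_mulVec g y, hz,
      zero_mul] at this
  -- the multiplier is symmetric in non-orthogonal pairs
  have hpair : ∀ v w, f v w ≠ 0 → μ v = μ w := by
    intro v w hvw
    have h1 := hμ w v
    rw [hf.skew, hμ v w, hf.skew v w, mul_neg, neg_inj] at h1
    exact mul_right_cancel₀ (fun e => hvw (by rw [hf.skew, e, neg_zero])) h1
  have hconst : ∀ v w, v ≠ 0 → w ≠ 0 → μ v = μ w := by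
    intro v w hv hw
    by_cases hvw : f v w = 0
    · obtain ⟨a, ha⟩ := (hf.nondegenerate v hv).2
      obtain ⟨b, hb⟩ := (hf.nondegenerate w hw).2
      obtain ⟨y, hy1, hy2⟩ : ∃ y, f v y ≠ 0 ∧ f w y ≠ 0 := by
        by_cases ha2 : f w a = 0
        · by_cases hb2 : f v b = 0
          · exact ⟨a + b, by rw [hf.bilinear.add_right, hb2, add_zero]; exact ha,
              by rw [hf.bilinear.add_right, ha2, zero_add]; exact hb⟩
          · exact ⟨b, hb2, hb⟩
        · exact ⟨a, ha, ha2⟩
      exact (hpair v y hy1).trans (hpair w y hy2).symm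
    · exact hpair v w hvw
  rcases subsingleton_or_nontrivial (ι → F) with hs | hn
  · have : g = 1 := gl_ext_mulVec fun x => Subsingleton.elim _ _
    rw [this]; exact (similarityGroup f).one_mem
  obtain ⟨v₀, hv₀⟩ := exists_ne (0 : ι → F)
  refine ⟨Units.mk0 (μ v₀) (hμ0 v₀ hv₀), fun u v => ?_⟩
  rcases eq_or_ne v 0 with rfl | hv
  · rw [Matrix.mulVec_zero, ← zero_smul F (0 : ι → F), hf.bilinear.smul_right, hf.bilinear.smul_right]
    simp
  · rw [Units.val_mk0, ← hconst v v₀ hv hv₀]
    exact hμ v u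

/-- An overgroup of `GSp ∩ SL` with one non-symplectic transvection is full at its centre. -/
lemma fullAt_of_axis {M : Subgroup (GL ι F)} (hM : similarityGroup f ⊓ specialLinear ι F ≤ M)
    {a u : ι → F} (hu : u ∉ F ∙ a) (h : HasTv M a (axisOf f u)) : FullAt M a := by
  have L := linLeft hf
  have hfau : f a u = 0 := by rw [← L.dot]; exact h.1
  have hgen : ∀ w, f w a = 0 → f w u ≠ 0 → HasTv M a (axisOf f w) := by
    intro w hwa hwu
    have hwu' : f u w ≠ 0 := fun e => hwu (by rw [hf.skew, e, neg_zero])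
    have haw : f a w = 0 := by rw [hf.skew, hwa, neg_zero]
    set c := (f u w)⁻¹
    set T := tvec w (c • axisOf f w) (axis_dot_self hf w c) with hT
    have hTa : (T : Matrix ι ι F) *ᵥ a = a := by
      rw [hT, tvec_mulVec, smul_dotProduct, L.dot, haw]; simp
    have hTu : (T : Matrix ι ι F) *ᵥ u = u + w := by
      rw [hT, tvec_mulVec, smul_dotProduct, L.dot, smul_eq_mul, inv_mul_cancel₀ hwu', one_smul]
    have haxis : axisOf f u ᵥ* ((T⁻¹ : GL ι F) : Matrix ι ι F) = axisOf f (u + w) := by
      funext i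
      have h1 : ∀ x, (axisOf f u ᵥ* ((T⁻¹ : GL ι F) : Matrix ι ι F)) ⬝ᵥ x = f x (u + w) := by
        intro x
        obtain ⟨e, he⟩ := (sympTv_mem hf w c).1
        have hx := he ((T⁻¹ : GL ι F) *ᵥ x) u
        have he1 : (e : F) = 1 := by
          have hne := hwu'
          have h2 := he u w
          simp only [tvec_mulVec, smul_dotProduct, L.dot, hf.bilinear.add_left, hf.bilinear.add_right,
            hf.bilinear.smul_left, hf.bilinear.smul_right, hf.alternating, smul_eq_mul, mul_zero, zero_mul,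
            add_zero] at h2
          exact (mul_right_cancel₀ hne ((one_mul _).trans h2)).symm
        rw [he1, one_mul, ← hT, mulVec_inv_mulVec, hTu] at hx
        rw [← Matrix.dotProduct_mulVec, L.dot, ← hx]
      simpa [axisOf] using h1 (Pi.single i 1)
    have h2 := h.conj (g := T) (hM (sympTv_mem hf w c))
    rw [hTa, haxis, axisOf_add hf] at h2
    simpa using h2.sub_axis h
  obtain ⟨w₀, hw₀a, hw₀u⟩ : ∃ w₀, f w₀ a = 0 ∧ f w₀ u ≠ 0 := by
    by_contra hcon
    push Not at hcon
    apply hu
    rcases eq_or_ne a 0 with rfl | ha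
    · have : u = 0 := eq_zero_of_axis hf (funext fun i => hcon (Pi.single i 1) (by
        rw [← zero_smul F (0 : ι → F), hf.bilinear.smul_right, zero_mul]))
      simp [this]
    obtain ⟨b, hb⟩ := (hf.nondegenerate a ha).1
    refine Submodule.mem_span_singleton.2 ⟨f b u / f b a, (axis_injective hf (funext fun i => ?_)).symm⟩
    have := hcon (Pi.single i 1 - (f (Pi.single i 1) a / f b a) • b)
      (by rw [L.sub_left, L.smul_left, div_mul_cancel₀ _ hb, sub_self])
    rw [L.sub_left, L.smul_left, sub_eq_zero] at this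
    rw [axisOf_smul hf]
    simp only [axisOf, Pi.smul_apply, smul_eq_mul]
    rw [this]
    field_simp
  intro φ hφ
  obtain ⟨w, rfl⟩ := exists_axis hf φ
  have hwa : f w a = 0 := by rw [hf.skew, ← L.dot, hφ, neg_zero]
  by_cases hwu : f w u = 0
  · have := (hgen (w + w₀) (by rw [L.add_left, hwa, hw₀a, add_zero])
      (by rw [L.add_left, hwu, zero_add]; exact hw₀u)).sub_axis (hgen w₀ hw₀a hw₀u)
    simpa [axisOf_add hf] using this
  · exact hgen w hwa hwu

theorem key (h3 : 3 ≤ Fintype.card ι) {M : Subgroup (GL ι F)}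
    (hM : similarityGroup f ⊓ specialLinear ι F ≤ M) (hne : ¬ M ≤ similarityGroup f) :
    specialLinear ι F ≤ M := by
  have L := linLeft hf
  obtain ⟨g, hg, hgX⟩ := SetLike.not_le_iff_exists.1 hne
  obtain ⟨v, hv⟩ : ∃ v : ι → F, ∀ lam : F,
      axisOf f v ᵥ* ((g⁻¹ : GL ι F) : Matrix ι ι F) ≠ lam • axisOf f ((g : Matrix ι ι F) *ᵥ v) := by
    by_contra hcon
    push Not at hcon
    exact hgX (mem_similarity hf hcon)
  have hv1 : HasTv M v (axisOf f v) := by
    have := hM (sympTv_mem hf v 1)
    simp only [one_smul] at this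
    exact ⟨_, this⟩
  have h1 := hv1.conj hg
  obtain ⟨u, hu⟩ := exists_axis hf (axisOf f v ᵥ* ((g⁻¹ : GL ι F) : Matrix ι ι F))
  set a := (g : Matrix ι ι F) *ᵥ v with ha
  have hua : u ∉ F ∙ a := by
    intro hmem
    obtain ⟨c, rfl⟩ := Submodule.mem_span_singleton.1 hmem
    exact hv c (by rw [← hu, axisOf_smul hf])
  have hfull : a ∈ fullSubmodule M := fullAt_of_axis hf hM hua (hu ▸ h1)
  have ha0 : a ≠ 0 := by
    intro e
    have hv0 : v = 0 := by
      rw [← inv_mulVec_mulVec g v, ← ha, e, Matrix.mulVec_zero]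
    refine hv 0 ?_
    have : axisOf f (0 : ι → F) = 0 := funext fun i => by
      simpa [axisOf] using hf.bilinear.smul_right 0 (Pi.single i 1) 0
    simp [hv0, this]
  refine specialLinear_le_of_fullSubmodule ?_
  have hout : ∀ w, f a w ≠ 0 → w ∈ fullSubmodule M := by
    intro w hw
    have h2 := fullSubmodule_invariant hfull (hM (sympTv_mem hf w 1))
    rw [tvec_mulVec, one_smul, L.dot] at h2
    have := Submodule.sub_mem _ h2 hfull
    rw [add_sub_cancel_left] at this
    exact ((fullSubmodule M).smul_mem_iff hw).1 this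
  obtain ⟨y, hy⟩ := (hf.nondegenerate a ha0).2
  refine Submodule.eq_top_iff'.2 fun z => ?_
  by_cases hz : f a z = 0
  · have := Submodule.sub_mem _ (hout (z + y) (by rw [hf.bilinear.add_right, hz, zero_add]; exact hy)) (hout y hy)
    simpa using this
  · exact hout z hz

theorem proper (h3 : 3 ≤ Fintype.card ι) : ¬ specialLinear ι F ≤ similarityGroup f := by
  classical
  intro hle
  have L := linLeft hf
  obtain ⟨i⟩ : Nonempty ι := Fintype.card_pos_iff.1 (by omega)
  set a : ι → F := Pi.single i 1 with ha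
  have ha0 : a ≠ 0 := by simp [ha]
  obtain ⟨v, hv0, hv⟩ := exists_ne_zero_dot_eq_zero ![axisOf f a, Pi.single i (1 : F)] (by omega)
  have h0 := hv 0
  have h1 := hv 1
  simp only [Matrix.cons_val_zero, L.dot] at h0
  simp only [Matrix.cons_val_one, Matrix.cons_val_zero, single_dotProduct, one_mul] at h1
  -- `v` is orthogonal to `a` and not in the span of `a`
  obtain ⟨b, hb⟩ := (hf.nondegenerate a ha0).1
  have hφ : axisOf f v ⬝ᵥ a = 0 := by rw [L.dot, hf.skew, h0, neg_zero]
  obtain ⟨c, hc⟩ := hle (tvec_mem_specialLinear a (axisOf f v) hφ)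
  have hav : f a v = 0 := by rw [← L.dot]; exact hφ
  have key : ∀ x y, (c : F) * f x y = f x y + f y v * f x a + f x v * f a y := by
    intro x y
    rw [← hc]
    simp only [tvec_mulVec, L.dot, hf.bilinear.add_left, hf.bilinear.add_right, hf.bilinear.smul_left,
      hf.bilinear.smul_right, hf.alternating]
    ring
  have hc1 : (c : F) = 1 := by
    have := key b a
    rw [hav, hf.alternating, zero_mul, mul_zero, add_zero, add_zero] at this
    exact mul_right_cancel₀ hb (this.trans (one_mul _).symm)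
  have hfba : f a b ≠ 0 := fun e => hb (by rw [hf.skew, e, neg_zero])
  have hprop : axisOf f v = (f b v / f b a) • axisOf f a := funext fun j => by
    have := key (Pi.single j 1) b
    rw [hc1, one_mul] at this
    simp only [axisOf, Pi.smul_apply, smul_eq_mul]
    rw [div_mul_eq_mul_div, eq_div_iff hb]
    linear_combination this + f (Pi.single j 1) v * hf.skew b a
  have hva : v = (f b v / f b a) • a := by
    rw [← axisOf_smul hf] at hprop
    exact axis_injective hf hprop
  rw [hva, ha] at h1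
  simp at h1
  rcases h1 with h1 | h1
  · exact hv0 (by rw [hva, h1]; simp)
  · exact hb h1

end SympOver

end CfsgLib.Geo
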