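/-
Hermitian forms over finite fields given as functions: isotropic and anisotropic vectors.
-/
import Cfsg.Agent.Geo.SymplecticOvergroup

set_option autoImplicit false

namespace CfsgLib.Geo.Unit

open Matrix Cfsg Cfsg.Geo CfsgLib.Geo

/-! ### An involutory automorphism of a finite field -/

section field

variable {F : Type*} [Field F] {σ : F ≃+* F} (hσ : σ ≠ RingEquiv.refl F) (hinv : ∀ a : F, σ (σ a) = a)

include hσ hinv

lemma exists_trace_one : ∃ c : F, c + σ c = 1 := by
  obtain ⟨t, ht⟩ : ∃ t, t + σ t ≠ 0 := by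
    by_contra h
    push Not at h
    refine hσ (RingEquiv.ext fun x => ?_)
    have h2 := h x
    have h1 := h 1
    rw [map_one] at h1
    simp only [RingEquiv.refl_apply]
    linear_combination h2 - x * h1
  refine ⟨t / (t + σ t), ?_⟩
  rw [map_div₀, map_add, hinv, add_comm (σ t) t, ← add_div, div_self ht]

lemma exists_trace_eq {t : F} (ht : σ t = t) : ∃ c : F, c + σ c = t := by
  obtain ⟨c, hc⟩ := exists_trace_one hσ hinv
  exact ⟨t * c, by rw [map_mul, ht, ← mul_add, hc, mul_one]⟩

lemma exists_skew : ∃ c : F, c ≠ 0 ∧ σ c = -c := by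
  obtain ⟨x, hx⟩ : ∃ x, σ x ≠ x := by
    by_contra h
    push Not at h
    exact hσ (RingEquiv.ext h)
  exact ⟨x - σ x, sub_ne_zero.2 (Ne.symm hx), by rw [map_sub, hinv, neg_sub]⟩

lemma exists_norm_eq [Finite F] {t : F} (ht : σ t = t) : ∃ c : F, c * σ c = t := by
  rcases eq_or_ne t 0 with rfl | ht0
  · exact ⟨0, by simp⟩
  let s : Fˣ →* Fˣ := Units.map (σ : F →* F)
  have hs : ∀ u : Fˣ, ((s u : Fˣ) : F) = σ (u : F) := fun u => rfl
  let N : Fˣ →* Fˣ := MonoidHom.id Fˣ * s
  let J : Fˣ →* Fˣ := MonoidHom.id Fˣ / s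
  have hN : ∀ u : Fˣ, ((N u : Fˣ) : F) = u * σ (u : F) := fun u => rfl
  have hJ : ∀ u : Fˣ, J u = u / s u := fun u => rfl
  have h90 : N.ker ≤ J.range := by
    intro x hx
    have hx1 : (x : F) * σ (x : F) = 1 := by rw [← hN, MonoidHom.mem_ker.1 hx, Units.val_one]
    obtain ⟨y, hy⟩ : ∃ y, y + (x : F) * σ y ≠ 0 := by
      by_contra h
      push Not at h
      refine hσ (RingEquiv.ext fun a => ?_)
      have h1 := h 1
      rw [map_one, mul_one] at h1
      have h2 := h a
      simp only [RingEquiv.refl_apply]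
      linear_combination -h2 + σ a * h1
    refine ⟨Units.mk0 _ hy, ?_⟩
    rw [hJ, div_eq_iff_eq_mul]
    refine Units.ext ?_
    rw [Units.val_mul, hs]
    simp only [Units.val_mk0, map_add, map_mul, hinv]
    linear_combination -(y : F) * hx1
  have hJfix : ∀ u : Fˣ, u ∈ J.ker ↔ σ (u : F) = u := fun u => by
    rw [MonoidHom.mem_ker, hJ, div_eq_one, Units.ext_iff, hs, eq_comm]
  have hle : N.range ≤ J.ker := by
    rintro _ ⟨u, rfl⟩
    rw [hJfix, hN, map_mul, hinv, mul_comm]
  have e1 := Subgroup.card_mul_index N.ker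
  have e2 := Subgroup.card_mul_index J.ker
  rw [Subgroup.index_ker] at e1 e2
  have h3 : Nat.card N.ker ≤ Nat.card J.range := Subgroup.card_le_of_le h90
  have hcard : Nat.card J.ker ≤ Nat.card N.range := by
    have hpos : 0 < Nat.card J.range := Nat.card_pos
    refine Nat.le_of_mul_le_mul_right ?_ hpos
    rw [e2, ← e1, mul_comm (Nat.card N.ker)]
    exact Nat.mul_le_mul_left _ h3
  have heq : N.range = J.ker := Subgroup.eq_of_le_of_card_ge hle hcard
  obtain ⟨c, hc⟩ : Units.mk0 t ht0 ∈ N.range := heq ▸ (hJfix _).2 ht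
  exact ⟨c, by rw [← hN, hc, Units.val_mk0]⟩

end field

/-! ### Forms -/

variable {ι : Type} [Fintype ι] [DecidableEq ι] {F : Type*} [Field F]
  {σ : F ≃+* F} {f : (ι → F) → (ι → F) → F}

variable (hf : IsUnitaryForm σ f)
include hf

lemma linLeft : LinLeft f := ⟨hf.add_left, hf.smul_left⟩

lemma add_right (u x y : ι → F) : f u (x + y) = f u x + f u y := by
  rw [hf.herm, hf.add_left, map_add, ← hf.herm, ← hf.herm]

lemma smul_right (c : F) (u x : ι → F) : f u (c • x) = σ c * f u x := by
  rw [hf.herm, hf.smul_left, map_mul, ← hf.herm]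

lemma zero_right (u : ι → F) : f u 0 = 0 := by
  rw [hf.herm, (linLeft hf).zero_left, map_zero]

lemma sigma_self (u : ι → F) : σ (f u u) = f u u := (hf.herm u u).symm

lemma axisOf_add (u v : ι → F) : axisOf f (u + v) = axisOf f u + axisOf f v :=
  funext fun _ => add_right hf _ u v

lemma axisOf_smul (c : F) (u : ι → F) : axisOf f (c • u) = σ c • axisOf f u :=
  funext fun _ => smul_right hf c _ u

lemma axisOf_zero : axisOf f (0 : ι → F) = 0 := funext fun _ => zero_right hf _

lemma eq_zero_of_axis {v : ι → F} (h : axisOf f v = 0) : v = 0 := by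
  by_contra hv
  obtain ⟨x, hx⟩ := (hf.nondegenerate v hv).1
  exact hx (by rw [← (linLeft hf).dot v x, h, zero_dotProduct])

lemma axis_injective {u v : ι → F} (h : axisOf f u = axisOf f v) : u = v := by
  refine sub_eq_zero.1 (eq_zero_of_axis hf ?_)
  rw [sub_eq_add_neg, ← neg_one_smul F v, axisOf_add hf, axisOf_smul hf, h, map_neg, map_one,
    neg_one_smul, add_neg_cancel]

lemma exists_axis [Finite F] (φ : ι → F) : ∃ u, axisOf f u = φ :=
  Finite.surjective_of_injective (fun _ _ h => axis_injective hf h) φ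

lemma exists_f_eq [Finite F] {u v : ι → F} (h : u ∉ F ∙ v) : ∃ b, f v b = 0 ∧ f u b = 1 := by
  obtain ⟨φ, hφ, hφu⟩ := exists_covector _ h
  obtain ⟨b, rfl⟩ := exists_axis hf φ
  exact ⟨b, by rw [← (linLeft hf).dot]; exact hφ v (Submodule.mem_span_singleton_self v),
    by rw [← (linLeft hf).dot]; exact hφu⟩

/-- `v + c z` can be made isotropic when `z` is isotropic and not orthogonal to `v`. -/
lemma exists_isotropic_add {v z : ι → F} (hz : f z z = 0) (hzv : f z v ≠ 0) :
    ∃ c : F, f (v + c • z) (v + c • z) = 0 := by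
  obtain ⟨t, ht⟩ := exists_trace_eq hf.ne_refl hf.involutive (t := -f v v) (by rw [map_neg, sigma_self hf])
  refine ⟨t / f z v, ?_⟩
  simp only [hf.add_left, add_right hf, hf.smul_left, smul_right hf, hz]
  rw [hf.herm v z, ← map_mul, div_mul_cancel₀ _ hzv]
  linear_combination ht

/-- Two isotropic vectors admit an isotropic combination. -/
lemma exists_isotropic_combination {v w : ι → F} (hv : f v v = 0) (hw : f w w = 0) :
    ∃ d : F, d ≠ 0 ∧ f (v + d • w) (v + d • w) = 0 := by
  rcases eq_or_ne (f v w) 0 with h0 | h0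
  · refine ⟨1, one_ne_zero, ?_⟩
    simp [hf.add_left, add_right hf, hv, hw, h0, hf.herm w v]
  · obtain ⟨c, hc0, hc⟩ := exists_skew hf.ne_refl hf.involutive
    refine ⟨σ (c / f v w), by simp [hc0, h0], ?_⟩
    simp only [hf.add_left, add_right hf, hf.smul_left, smul_right hf, hv, hw, hf.involutive]
    rw [div_mul_cancel₀ _ h0, hf.herm w v, ← map_mul, div_mul_cancel₀ _ h0, hc]
    ring

lemma eq_zero_of_totally_isotropic {T : Submodule F (ι → F)} (h : ∀ t ∈ T, f t t = 0) :
    ∀ u ∈ T, ∀ v ∈ T, f u v = 0 := by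
  intro u hu v hv
  by_contra h0
  obtain ⟨c, hc⟩ := exists_trace_one hf.ne_refl hf.involutive
  have h2 := h (u + σ (c / f u v) • v) (T.add_mem hu (T.smul_mem _ hv))
  simp only [hf.add_left, add_right hf, hf.smul_left, smul_right hf, h u hu, h v hv, hf.involutive] at h2
  rw [div_mul_cancel₀ _ h0, hf.herm v u, ← map_mul, div_mul_cancel₀ _ h0] at h2
  exact one_ne_zero (by linear_combination h2 - hc : (1 : F) = 0)

/-- Orthogonal subspaces have total dimension at most the dimension of the space. -/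
lemma finrank_add_le_of_perp [Finite F] {T S : Submodule F (ι → F)} (hzero : ∀ t ∈ T, ∀ s ∈ S, f t s = 0) :
    Module.finrank F T + Module.finrank F S ≤ Fintype.card ι := by
  haveI := Fintype.ofFinite F
  let R : (ι → F) →ₗ[F] (T →ₗ[F] F) :=
    { toFun := fun φ =>
        { toFun := fun t => φ ⬝ᵥ (t : ι → F)
          map_add' := fun s t => dotProduct_add φ _ _
          map_smul' := fun c t => dotProduct_smul c φ _ }
      map_add' := fun φ ψ => LinearMap.ext fun t => add_dotProduct φ ψ _
      map_smul' := fun c φ => LinearMap.ext fun t => smul_dotProduct c φ _ }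
  have hsurj : LinearMap.range R = ⊤ := by
    refine LinearMap.range_eq_top.2 fun g => ?_
    obtain ⟨g', hg'⟩ := LinearMap.exists_extend g
    refine ⟨fun i => g' (Pi.single i 1), LinearMap.ext fun t => ?_⟩
    have : g t = g' (t : ι → F) := by rw [← hg']; rfl
    rw [this]
    conv_rhs => rw [pi_eq_sum_univ' (t : ι → F), map_sum]
    change ∑ i, g' (Pi.single i 1) * (t : ι → F) i = _
    exact Finset.sum_congr rfl fun i _ => by rw [map_smul, smul_eq_mul, mul_comm]
  have hrank : Module.finrank F T + Module.finrank F (LinearMap.ker R) = Fintype.card ι := by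
    have := R.finrank_range_add_finrank_ker
    rwa [hsurj, finrank_top, Subspace.dual_finrank_eq, Module.finrank_fintype_fun_eq_card] at this
  let A : S → LinearMap.ker R := fun t => ⟨axisOf f (t : ι → F), LinearMap.mem_ker.2
    (LinearMap.ext fun s => ((linLeft hf).dot (t : ι → F) (s : ι → F)).trans (hzero s s.2 t t.2))⟩
  have hA : Function.Injective A := fun s t h => Subtype.ext (axis_injective hf (congrArg Subtype.val h))
  haveI := Fintype.ofFinite S
  haveI := Fintype.ofFinite (LinearMap.ker R)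
  have h2 := Fintype.card_le_of_injective A hA
  rw [Module.card_eq_pow_finrank (K := F) (V := S),
    Module.card_eq_pow_finrank (K := F) (V := LinearMap.ker R),
    pow_le_pow_iff_right₀ Fintype.one_lt_card] at h2
  omega

/-- A subspace of more than half dimension contains an anisotropic vector. -/
lemma exists_anisotropic [Finite F] {T : Submodule F (ι → F)}
    (hT : Fintype.card ι < 2 * Module.finrank F T) : ∃ t ∈ T, f t t ≠ 0 := by
  by_contra hcon
  push Not at hcon
  have := finrank_add_le_of_perp hf (eq_zero_of_totally_isotropic hf hcon)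
  omega

/-- An anisotropic vector orthogonal to a few given vectors. -/
lemma exists_anisotropic_perp [Finite F] {k : ℕ} (us : Fin k → (ι → F)) (h : 2 * k < Fintype.card ι) :
    ∃ x, f x x ≠ 0 ∧ ∀ j, f x (us j) = 0 := by
  let R : (ι → F) →ₗ[F] (Fin k → F) := LinearMap.pi fun j => (linLeft hf).toLin (us j)
  have h1 := R.finrank_range_add_finrank_ker
  have h2 : Module.finrank F (LinearMap.range R) ≤ k := by
    simpa using Submodule.finrank_le (LinearMap.range R)
  rw [Module.finrank_fintype_fun_eq_card] at h1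
  obtain ⟨x, hx, hx0⟩ := exists_anisotropic hf (T := LinearMap.ker R) (by omega)
  exact ⟨x, hx0, fun j => congrFun (LinearMap.mem_ker.1 hx) j⟩

/-- An anisotropic vector orthogonal to a hyperbolic pair and one more vector. -/
lemma exists_anisotropic_perp_pair [Finite F] {a b : ι → F} (ha : f a a = 0) (hab : f a b = 1) (w : ι → F)
    (h : 5 ≤ Fintype.card ι) : ∃ x, f x x ≠ 0 ∧ f x a = 0 ∧ f x b = 0 ∧ f x w = 0 := by
  let R : (ι → F) →ₗ[F] (Fin 3 → F) := LinearMap.pi fun j => (linLeft hf).toLin (![a, b, w] j)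
  have h1 := R.finrank_range_add_finrank_ker
  have h2 : Module.finrank F (LinearMap.range R) ≤ 3 := by
    simpa using Submodule.finrank_le (LinearMap.range R)
  rw [Module.finrank_fintype_fun_eq_card] at h1
  have hnot : a ∉ LinearMap.ker R := fun hm => by
    have h4 : f a b = 0 := congrFun (LinearMap.mem_ker.1 hm) 1
    rw [hab] at h4; exact one_ne_zero h4
  have hlt : LinearMap.ker R < LinearMap.ker R ⊔ (F ∙ a) := lt_of_le_of_ne le_sup_left fun e => hnot (by
    rw [e]; exact Submodule.mem_sup_right (Submodule.mem_span_singleton_self a))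
  have h3 := Submodule.finrank_lt_finrank_of_lt hlt
  obtain ⟨t, ht, ht0⟩ := exists_anisotropic hf (T := LinearMap.ker R ⊔ (F ∙ a)) (by omega)
  obtain ⟨x, hx, y, hy, rfl⟩ := Submodule.mem_sup.1 ht
  obtain ⟨c, rfl⟩ := Submodule.mem_span_singleton.1 hy
  have hxa : f x a = 0 := congrFun (LinearMap.mem_ker.1 hx) 0
  have hax : f a x = 0 := by rw [hf.herm, hxa, map_zero]
  refine ⟨x, fun e => ht0 ?_, hxa, congrFun (LinearMap.mem_ker.1 hx) 1, congrFun (LinearMap.mem_ker.1 hx) 2⟩
  simp [hf.add_left, add_right hf, hf.smul_left, smul_right hf, e, hxa, hax, ha]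

/-- An isotropic vector orthogonal to a few given vectors, outside the radical of their complement. -/
lemma exists_isotropic_perp [Finite F] {k : ℕ} (us : Fin k → (ι → F)) (h : 2 * (k + 1) ≤ Fintype.card ι) :
    ∃ z x, f z z = 0 ∧ f z x ≠ 0 ∧ (∀ j, f z (us j) = 0) ∧ ∀ j, f x (us j) = 0 := by
  obtain ⟨x, hx0, hx⟩ := exists_anisotropic_perp hf us (by omega)
  obtain ⟨y, hy0, hy⟩ : ∃ y, f y y ≠ 0 ∧ ∀ j, f y ((Fin.cons x us : Fin (k + 1) → (ι → F)) j) = 0 := by
    by_contra hcon
    push Not at hcon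
    let R : (ι → F) →ₗ[F] (Fin (k + 1) → F) :=
      LinearMap.pi fun j => (linLeft hf).toLin ((Fin.cons x us : Fin (k + 1) → (ι → F)) j)
    have h1 := R.finrank_range_add_finrank_ker
    have h2 : Module.finrank F (LinearMap.range R) ≤ k + 1 := by
      simpa using Submodule.finrank_le (LinearMap.range R)
    rw [Module.finrank_fintype_fun_eq_card] at h1
    have hiso : ∀ t ∈ LinearMap.ker R, f t t = 0 := fun t ht => by
      by_contra h0
      obtain ⟨j, hj⟩ := hcon t h0
      exact hj (congrFun (LinearMap.mem_ker.1 ht) j)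
    have hz := eq_zero_of_totally_isotropic hf hiso
    have htx : ∀ t ∈ LinearMap.ker R, f t x = 0 := fun t ht => by simpa [R, LinLeft.toLin] using congrFun (LinearMap.mem_ker.1 ht) 0
    have hlt : LinearMap.ker R < LinearMap.ker R ⊔ (F ∙ x) := lt_of_le_of_ne le_sup_left fun e => hx0 (hiso x (by
      rw [e]; exact Submodule.mem_sup_right (Submodule.mem_span_singleton_self x)))
    have h3 := Submodule.finrank_lt_finrank_of_lt hlt
    have h4 := finrank_add_le_of_perp hf (T := LinearMap.ker R) (S := LinearMap.ker R ⊔ (F ∙ x))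
      (fun t ht s hs => by
        obtain ⟨s₁, hs₁, s₂, hs₂, rfl⟩ := Submodule.mem_sup.1 hs
        obtain ⟨c, rfl⟩ := Submodule.mem_span_singleton.1 hs₂
        rw [add_right hf, smul_right hf, hz t ht s₁ hs₁, htx t ht, mul_zero, add_zero])
    omega
  have hyx : f y x = 0 := by simpa using hy 0
  have hy' : ∀ j, f y (us j) = 0 := fun j => by simpa using hy j.succ
  obtain ⟨c, hc⟩ := exists_norm_eq hf.ne_refl hf.involutive (t := -f x x / f y y)
    (by rw [map_div₀, map_neg, sigma_self hf, sigma_self hf])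
  refine ⟨x + c • y, x, ?_, ?_, fun j => ?_, hx⟩
  · simp only [hf.add_left, add_right hf, hf.smul_left, smul_right hf, hyx, hf.herm x y, map_zero]
    field_simp at hc
    linear_combination hc
  · simpa [hf.add_left, hf.smul_left, hyx] using hx0
  · simp [hf.add_left, hf.smul_left, hx j, hy' j]

/-- An isotropic vector orthogonal to an isotropic `a`, to `b` with `f a b ≠ 0` and to one more vector. -/
lemma exists_isotropic_perp_pair [Finite F] {a b : ι → F} (ha : f a a = 0) (hab : f a b ≠ 0) (v : ι → F)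
    (h : 6 ≤ Fintype.card ι) :
    ∃ z x, f z z = 0 ∧ f z x ≠ 0 ∧ (f z a = 0 ∧ f z b = 0 ∧ f z v = 0) ∧ f x a = 0 ∧ f x b = 0 ∧ f x v = 0 := by
  obtain ⟨l, hl⟩ : ∃ l, σ l = (f a b)⁻¹ := σ.surjective _
  have hσl : σ l ≠ 0 := by rw [hl]; exact inv_ne_zero hab
  obtain ⟨x, hx0, hxa, hxb, hxv⟩ := exists_anisotropic_perp_pair hf ha (b := l • b)
    (by rw [smul_right hf, hl, inv_mul_cancel₀ hab]) v (by omega)
  replace hxb : f x b = 0 := by rw [smul_right hf] at hxb; exact (mul_eq_zero.1 hxb).resolve_left hσl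
  obtain ⟨y, hy0, hya, hyb, hyv, hyx⟩ : ∃ y, f y y ≠ 0 ∧ f y a = 0 ∧ f y b = 0 ∧ f y v = 0 ∧ f y x = 0 := by
    by_contra hcon
    push Not at hcon
    let R : (ι → F) →ₗ[F] (Fin 4 → F) := LinearMap.pi fun j => (linLeft hf).toLin (![a, b, v, x] j)
    have h1 := R.finrank_range_add_finrank_ker
    have h2 : Module.finrank F (LinearMap.range R) ≤ 4 := by
      simpa using Submodule.finrank_le (LinearMap.range R)
    rw [Module.finrank_fintype_fun_eq_card] at h1
    have htj : ∀ t ∈ LinearMap.ker R, ∀ j, f t (![a, b, v, x] j) = 0 := fun t ht j =>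
      congrFun (LinearMap.mem_ker.1 ht) j
    have hiso : ∀ t ∈ LinearMap.ker R ⊔ (F ∙ a), f t t = 0 := by
      intro t ht
      obtain ⟨s, hs, s', hs', rfl⟩ := Submodule.mem_sup.1 ht
      obtain ⟨c, rfl⟩ := Submodule.mem_span_singleton.1 hs'
      have hsa : f s a = 0 := htj s hs 0
      have hss : f s s = 0 := by
        by_contra h0
        exact hcon s h0 hsa (htj s hs 1) (htj s hs 2) (htj s hs 3)
      simp [hf.add_left, add_right hf, hf.smul_left, smul_right hf, hss, hsa, hf.herm a s, ha]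
    have hax : f a x = 0 := by rw [hf.herm, hxa, map_zero]
    have htx : ∀ t ∈ LinearMap.ker R ⊔ (F ∙ a), f t x = 0 := by
      intro t ht
      obtain ⟨s, hs, s', hs', rfl⟩ := Submodule.mem_sup.1 ht
      obtain ⟨c, rfl⟩ := Submodule.mem_span_singleton.1 hs'
      rw [hf.add_left, hf.smul_left, hax, mul_zero, add_zero]
      exact htj s hs 3
    have hlt : LinearMap.ker R < LinearMap.ker R ⊔ (F ∙ a) := lt_of_le_of_ne le_sup_left fun e => hab (htj a (by
      rw [e]; exact Submodule.mem_sup_right (Submodule.mem_span_singleton_self a)) 1)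
    have hlt2 : LinearMap.ker R ⊔ (F ∙ a) < LinearMap.ker R ⊔ (F ∙ a) ⊔ (F ∙ x) :=
      lt_of_le_of_ne le_sup_left fun e => hx0 (hiso x (by
        rw [e]; exact Submodule.mem_sup_right (Submodule.mem_span_singleton_self x)))
    have h3 := Submodule.finrank_lt_finrank_of_lt hlt
    have h3' := Submodule.finrank_lt_finrank_of_lt hlt2
    have h4 := finrank_add_le_of_perp hf (T := LinearMap.ker R ⊔ (F ∙ a))
      (S := LinearMap.ker R ⊔ (F ∙ a) ⊔ (F ∙ x)) (fun t ht s hs => by
        obtain ⟨s₁, hs₁, s₂, hs₂, rfl⟩ := Submodule.mem_sup.1 hs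
        obtain ⟨c, rfl⟩ := Submodule.mem_span_singleton.1 hs₂
        rw [add_right hf, smul_right hf, eq_zero_of_totally_isotropic hf hiso t ht s₁ hs₁, htx t ht, mul_zero,
          add_zero])
    omega
  obtain ⟨c, hc⟩ := exists_norm_eq hf.ne_refl hf.involutive (t := -f x x / f y y)
    (by rw [map_div₀, map_neg, sigma_self hf, sigma_self hf])
  refine ⟨x + c • y, x, ?_, ?_, ⟨?_, ?_, ?_⟩, hxa, hxb, hxv⟩
  · simp only [hf.add_left, add_right hf, hf.smul_left, smul_right hf, hyx, hf.herm x y, map_zero]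
    field_simp at hc
    linear_combination hc
  · simpa [hf.add_left, hf.smul_left, hyx] using hx0
  all_goals simp [hf.add_left, hf.smul_left, hxa, hxb, hxv, hya, hyb, hyv]

/-- The isotropic vectors of `S` span `S`. -/
lemma mem_of_isotropic {S T : Submodule F (ι → F)} {z x : ι → F} (hzS : z ∈ S) (hxS : x ∈ S)
    (hz : f z z = 0) (hzx : f z x ≠ 0) (hT : ∀ v ∈ S, f v v = 0 → v ∈ T) : S ≤ T := by
  have hzT : z ∈ T := hT z hzS hz
  have hgood : ∀ v ∈ S, f z v ≠ 0 → v ∈ T := by
    intro v hv hzv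
    obtain ⟨c, hc⟩ := exists_isotropic_add hf hz hzv
    exact (T.add_mem_iff_left (T.smul_mem c hzT)).1 (hT _ (S.add_mem hv (S.smul_mem c hzS)) hc)
  intro v hv
  by_cases h0 : f z v = 0
  · have := hgood (v + x) (S.add_mem hv hxS) (by rw [add_right hf, h0, zero_add]; exact hzx)
    exact (T.add_mem_iff_left (hgood x hxS hzx)).1 this
  · exact hgood v hv h0

end CfsgLib.Geo.Unit
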