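/-
Transvections inside a subgroup of the symplectic group: the centres all of whose transvections are present.
-/
import Cfsg.Agent.Geo.SymplecticOvergroup
import Cfsg.Agent.Classical.SymplecticBasic
import Cfsg.Prelude.Def_GeometricClasses

set_option autoImplicit false

namespace CfsgLib.Geo.SpTv

open Matrix Cfsg Cfsg.Geo

variable {m : ℕ} {F : Type*} [Field F]

local notation "E" => Fin m ⊕ Fin m → F
local notation "fm" => CfsgLib.Symp.form (l := Fin m) (R := F)

/-- The inclusion of the symplectic group into the general linear group. -/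
noncomputable def toGLHom : Matrix.symplecticGroup (Fin m) F →* GL (Fin m ⊕ Fin m) F :=
  (Matrix.symplecticGroup (Fin m) F).subtype.toHomUnits

lemma toGLHom_mulVec (g : Matrix.symplecticGroup (Fin m) F) (x : E) :
    (toGLHom g : Matrix (Fin m ⊕ Fin m) (Fin m ⊕ Fin m) F) *ᵥ x = g • x := rfl

lemma mem_spGL {g : GL (Fin m ⊕ Fin m) F} :
    g ∈ spGL m F ↔ ∀ u v : E, fm ((g : Matrix _ _ F) *ᵥ u) ((g : Matrix _ _ F) *ᵥ v) = fm u v :=
  Iff.rfl

lemma form_mulVec {g : GL (Fin m ⊕ Fin m) F} (hg : g ∈ spGL m F) (u v : E) :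
    fm ((g : Matrix _ _ F) *ᵥ u) ((g : Matrix _ _ F) *ᵥ v) = fm u v := mem_spGL.1 hg u v

lemma toGLHom_mem (g : Matrix.symplecticGroup (Fin m) F) : toGLHom g ∈ spGL m F :=
  mem_spGL.2 fun u v => CfsgLib.Symp.form_smul_smul g u v

/-- The symplectic transvection `x ↦ x + c f(x, v) v`. -/
noncomputable def stv (v : E) (c : F) : GL (Fin m ⊕ Fin m) F := toGLHom (CfsgLib.Symp.tv v c)

lemma stv_mulVec (v : E) (c : F) (x : E) :
    (stv v c : Matrix _ _ F) *ᵥ x = x + (c * fm x v) • v :=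
  CfsgLib.Symp.tv_smul v c x

lemma stv_mem (v : E) (c : F) : stv v c ∈ spGL m F := toGLHom_mem _

lemma stv_add (v : E) (c d : F) : stv v c * stv v d = stv v (c + d) := by
  rw [stv, stv, stv, ← map_mul, CfsgLib.Symp.tv_add]

lemma stv_zero_left (c : F) : stv (0 : E) c = 1 :=
  gl_ext_mulVec fun x => by simp [stv_mulVec, CfsgLib.Symp.form_zero_right]

lemma stv_smul (v : E) (a c : F) : stv (a • v) c = stv v (a ^ 2 * c) := by
  rw [stv, stv, CfsgLib.Symp.tv_smul_vec]

lemma stv_conj {g : GL (Fin m ⊕ Fin m) F} (hg : g ∈ spGL m F) (v : E) (c : F) :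
    g * stv v c * g⁻¹ = stv ((g : Matrix _ _ F) *ᵥ v) c := by
  refine gl_ext_mulVec fun x => ?_
  simp only [mul_mulVec, stv_mulVec, Matrix.mulVec_add, Matrix.mulVec_smul, mulVec_inv_mulVec]
  conv_rhs => rw [← mulVec_inv_mulVec g x, form_mulVec hg]
  rw [mulVec_inv_mulVec]

variable {M : Subgroup (GL (Fin m ⊕ Fin m) F)}

/-- All transvections with centre `v` lie in `M`. -/
def Full (M : Subgroup (GL (Fin m ⊕ Fin m) F)) (v : E) : Prop := ∀ c, stv v c ∈ M

lemma full_zero : Full M (0 : E) := fun c => by rw [stv_zero_left]; exact M.one_mem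

lemma full_smul {v : E} (h : Full M v) (a : F) : Full M (a • v) := fun c => by
  rw [stv_smul]; exact h _

lemma full_conj (hMI : M ≤ spGL m F) {v : E} (h : Full M v) {g : GL (Fin m ⊕ Fin m) F} (hg : g ∈ M) :
    Full M ((g : Matrix _ _ F) *ᵥ v) := fun c => by
  rw [← stv_conj (hMI hg)]
  exact M.mul_mem (M.mul_mem hg (h c)) (M.inv_mem hg)

/-- The line through `v` in the direction of a non-orthogonal centre is full. -/
lemma full_add_smul (hMI : M ≤ spGL m F) {u v : E} (hu : Full M u) (hv : Full M v)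
    (h : fm v u ≠ 0) (a : F) : Full M (v + a • u) := by
  have h1 := full_conj hMI hv (hu (a / fm v u))
  rwa [stv_mulVec, div_mul_cancel₀ a h] at h1

lemma full_add (hMI : M ≤ spGL m F) {u v : E} (hu : Full M u) (hv : Full M v) (h : fm v u ≠ 0) :
    Full M (v + u) := by
  simpa using full_add_smul hMI hu hv h 1

/-- `M` is the whole symplectic group once it has every transvection. -/
theorem spGL_le_of_full (h : ∀ v : E, Full M v) : spGL m F ≤ M := by
  intro g hg
  let g' : Matrix.symplecticGroup (Fin m) F := ⟨(g : Matrix _ _ F), CfsgLib.Symp.mem_iff_form.2 (mem_spGL.1 hg)⟩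
  have hg' : g' ∈ CfsgLib.Symp.tvGroup (⊤ : Submodule F (Fin m ⊕ Fin m → F)) := by
    rw [CfsgLib.Symp.tvGroup_eq_top]; trivial
  have hle : CfsgLib.Symp.tvGroup (⊤ : Submodule F (Fin m ⊕ Fin m → F)) ≤ M.comap toGLHom := by
    refine (Subgroup.closure_le _).2 ?_
    rintro _ ⟨w, -, c, rfl⟩
    exact h w c
  have := hle hg'
  rwa [Subgroup.mem_comap, show toGLHom g' = g from Units.ext rfl] at this

lemma map_tvGroup_le {W : Submodule F (Fin m ⊕ Fin m → F)} (h : ∀ w ∈ W, Full M w)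
    {g : Matrix.symplecticGroup (Fin m) F} (hg : g ∈ CfsgLib.Symp.tvGroup W) : toGLHom g ∈ M := by
  have hle : CfsgLib.Symp.tvGroup W ≤ M.comap toGLHom := by
    refine (Subgroup.closure_le _).2 ?_
    rintro _ ⟨w, hw, c, rfl⟩
    exact h w hw c
  exact hle hg

/-- Inside a subspace of full centres, vectors with partners are moved to one another by elements fixing the
orthogonal complement of the subspace. -/
lemma exists_move {W : Submodule F (Fin m ⊕ Fin m → F)} (h : ∀ w ∈ W, Full M w) {u v : E}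
    (hu : u ∈ W) (hv : v ∈ W) (hu' : ∃ w ∈ W, fm u w ≠ 0) (hv' : ∃ w ∈ W, fm v w ≠ 0) :
    ∃ g ∈ M, (g : Matrix _ _ F) *ᵥ u = v ∧
      ∀ x, (∀ w ∈ W, fm x w = 0) → (g : Matrix _ _ F) *ᵥ x = x := by
  obtain ⟨g, hg, e⟩ := CfsgLib.Symp.exists_tvGroup_smul hu hv hu' hv'
  exact ⟨toGLHom g, map_tvGroup_le h hg, e, fun x hx => CfsgLib.Symp.tvGroup_fix hg hx⟩

/-! ### Orthogonal subspaces -/

/-- The orthogonal of a subspace. -/
def perp (W : Submodule F (Fin m ⊕ Fin m → F)) : Submodule F (Fin m ⊕ Fin m → F) where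
  carrier := {x | ∀ w ∈ W, fm w x = 0}
  zero_mem' w _ := CfsgLib.Symp.form_zero_right w
  add_mem' {a b} ha hb w hw := by rw [CfsgLib.Symp.form_add_right, ha w hw, hb w hw, add_zero]
  smul_mem' c a ha w hw := by rw [CfsgLib.Symp.form_smul_right, ha w hw, mul_zero]

lemma mem_perp {W : Submodule F (Fin m ⊕ Fin m → F)} {x : E} : x ∈ perp W ↔ ∀ w ∈ W, fm w x = 0 :=
  Iff.rfl

lemma form_perp {W : Submodule F (Fin m ⊕ Fin m → F)} {x : E} (hx : x ∈ perp W) {w : E} (hw : w ∈ W) :
    fm x w = 0 := by rw [CfsgLib.Symp.form_swap, hx w hw, neg_zero]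

lemma exists_form_of_notMem (S : Submodule F (Fin m ⊕ Fin m → F)) {u : E} (hu : u ∉ S) :
    ∃ y : E, y ∈ perp S ∧ fm u y = 1 := by
  obtain ⟨φ, hφ, hφu⟩ := exists_covector S hu
  refine ⟨-(Matrix.J (Fin m) F *ᵥ φ), ?_⟩
  have key : ∀ x : E, fm x (-(Matrix.J (Fin m) F *ᵥ φ)) = φ ⬝ᵥ x := fun x => by
    rw [CfsgLib.Symp.form, Matrix.mulVec_neg, Matrix.mulVec_mulVec, Matrix.J_squared, Matrix.neg_mulVec,
      Matrix.one_mulVec, neg_neg, dotProduct_comm]
  exact ⟨fun s hs => by rw [key, hφ s hs], by rw [key, hφu]⟩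

lemma mem_of_perp {W : Submodule F (Fin m ⊕ Fin m → F)} {y : E} (h : ∀ x ∈ perp W, fm y x = 0) : y ∈ W := by
  by_contra hy
  obtain ⟨x, hx, hyx⟩ := exists_form_of_notMem W hy
  rw [h x hx] at hyx
  exact zero_ne_one hyx

lemma stv_mem_stabilizer {W : Submodule F (Fin m ⊕ Fin m → F)} {v : E} (c : F)
    (h : v ∈ W ∨ v ∈ perp W) : stv v c ∈ subspaceStabilizer W := by
  rw [mem_subspaceStabilizer]
  intro x hx
  rw [stv_mulVec]
  rcases h with h | h
  · exact W.add_mem hx (W.smul_mem _ h)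
  · rwa [h x hx, mul_zero, zero_smul, add_zero]

lemma notMem_stabilizer {W : Submodule F (Fin m ⊕ Fin m → F)} {v : E} (hv : v ∉ W) (hv' : v ∉ perp W) :
    stv v 1 ∉ subspaceStabilizer W := by
  intro hs
  obtain ⟨w, hw, hwv⟩ : ∃ w ∈ W, fm w v ≠ 0 := by
    simpa [mem_perp] using hv'
  have h1 := mem_subspaceStabilizer.1 hs w hw
  rw [stv_mulVec, one_mul] at h1
  exact hv ((W.smul_mem_iff hwv).1 (by simpa using W.sub_mem h1 hw))

/-- A subspace contained in the union of two subspaces lies in one of them. -/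
lemma le_or_le_of_forall {S A B : Submodule F (Fin m ⊕ Fin m → F)} (h : ∀ x ∈ S, x ∈ A ∨ x ∈ B) :
    S ≤ A ∨ S ≤ B := by
  by_contra hcon
  rw [not_or, SetLike.not_le_iff_exists, SetLike.not_le_iff_exists] at hcon
  obtain ⟨⟨a, haS, haA⟩, b, hbS, hbB⟩ := hcon
  have haB := (h a haS).resolve_left haA
  have hbA := (h b hbS).resolve_right hbB
  rcases h (a + b) (S.add_mem haS hbS) with h1 | h1
  · exact haA (by simpa using A.sub_mem h1 hbA)
  · exact hbB (by simpa using B.sub_mem h1 haB)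

section nondeg

variable {W : Submodule F (Fin m ⊕ Fin m → F)} (hW : IsNondegenerateOn (Cfsg.sympForm m F) W)
include hW

lemma nondeg_partner {w : E} (hw : w ∈ W) (h0 : w ≠ 0) : ∃ x ∈ W, fm w x ≠ 0 := (hW w hw h0).2

lemma eq_zero_of_mem_perp {x : E} (hx : x ∈ W) (hx' : x ∈ perp W) : x = 0 := by
  by_contra h0
  obtain ⟨y, hy, hxy⟩ := nondeg_partner hW hx h0
  exact hxy (form_perp hx' hy)

lemma exists_split (x : E) : ∃ a ∈ W, x - a ∈ perp W := by
  let L : W →ₗ[F] Module.Dual F W :=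
    { toFun := fun a =>
        { toFun := fun w => fm (w : E) (a : E)
          map_add' := fun _ _ => CfsgLib.Symp.form_add_left _ _ _
          map_smul' := fun _ _ => CfsgLib.Symp.form_smul_left _ _ _ }
      map_add' := fun a b => LinearMap.ext fun w => CfsgLib.Symp.form_add_right (w : E) (a : E) (b : E)
      map_smul' := fun c a => LinearMap.ext fun w => CfsgLib.Symp.form_smul_right c (w : E) (a : E) }
  have hinj : Function.Injective L := (injective_iff_map_eq_zero L).2 fun a ha => Subtype.ext <|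
    eq_zero_of_mem_perp hW a.2 fun w hw => DFunLike.congr_fun ha ⟨w, hw⟩
  have hsurj : Function.Surjective L :=
    (LinearMap.injective_iff_surjective_of_finrank_eq_finrank Subspace.dual_finrank_eq.symm).1 hinj
  let fx : Module.Dual F W :=
    { toFun := fun w => fm (w : E) x
      map_add' := fun _ _ => CfsgLib.Symp.form_add_left _ _ _
      map_smul' := fun _ _ => CfsgLib.Symp.form_smul_left _ _ _ }
  obtain ⟨a, ha⟩ := hsurj fx
  refine ⟨a, a.2, fun w hw => ?_⟩
  have h1 := DFunLike.congr_fun ha ⟨w, hw⟩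
  rw [CfsgLib.Symp.form_sub_right, sub_eq_zero]
  exact h1.symm

lemma perp_partner {b : E} (hb : b ∈ perp W) (h0 : b ≠ 0) : ∃ x ∈ perp W, fm b x ≠ 0 := by
  obtain ⟨x, hx⟩ := CfsgLib.Symp.exists_form_ne_zero h0
  obtain ⟨a, ha, hxa⟩ := exists_split hW x
  exact ⟨x - a, hxa, by rw [CfsgLib.Symp.form_sub_right, form_perp hb ha, sub_zero]; exact hx⟩

lemma finrank_perp : Module.finrank F (perp W) + Module.finrank F W = 2 * m := by
  have hd : W ⊓ perp W = ⊥ := eq_bot_iff.2 fun x hx => eq_zero_of_mem_perp hW hx.1 hx.2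
  have htop : W ⊔ perp W = ⊤ := Submodule.eq_top_iff'.2 fun x => by
    obtain ⟨a, ha, hxa⟩ := exists_split hW x
    exact Submodule.mem_sup.2 ⟨a, ha, x - a, hxa, by abel⟩
  have := Submodule.finrank_sup_add_finrank_inf_eq W (perp W)
  rw [hd, htop, finrank_bot, finrank_top, Module.finrank_fintype_fun_eq_card, Fintype.card_sum,
    Fintype.card_fin] at this
  omega

end nondeg

end CfsgLib.Geo.SpTv
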