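import Cfsg.Agent.Quad.SimpleOmega
import Cfsg.Agent.Quad.Matrices
import Cfsg.Prelude.Def_GeometricClasses

/-!
Overgroups in the commutator subgroup of an orthogonal group: full Siegel root groups, the
two-point criterion, subspace stabilisers and the bridge to matrices.
-/

set_option autoImplicit false
set_option linter.unusedSectionVars false

namespace CfsgLib.Geo.OS

open QuadraticMap CfsgLib.Forms CfsgLib.Quad

variable {F V : Type*} [Field F] [AddCommGroup V] [Module F V] {Q : QuadraticForm F V}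

/-- The isometries mapping `W` onto itself. -/
def stabO (Q : QuadraticForm F V) (W : Submodule F V) : Subgroup (oGroup Q) where
  carrier := {g | ∀ x, g.1 x ∈ W ↔ x ∈ W}
  one_mem' := fun _ => Iff.rfl
  mul_mem' := fun {g h} hg hh x => (hg (h.1 x)).trans (hh x)
  inv_mem' := fun {g} hg x => by
    have := hg (g.1.symm x)
    rw [LinearEquiv.apply_symm_apply] at this
    exact this.symm

theorem mem_stabO {W : Submodule F V} {g : oGroup Q} :
    g ∈ stabO Q W ↔ ∀ x, g.1 x ∈ W ↔ x ∈ W := Iff.rfl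

theorem mem_stabO_of_le [FiniteDimensional F V] {W : Submodule F V} {g : oGroup Q}
    (h : ∀ x ∈ W, g.1 x ∈ W) : g ∈ stabO Q W := by
  have heq : W.map g.1.toLinearMap = W :=
    Submodule.eq_of_le_of_finrank_le (by rintro _ ⟨x, hx, rfl⟩; exact h x hx)
      (LinearEquiv.finrank_map_eq g.1 W).ge
  refine fun x => ⟨fun hx => ?_, h x⟩
  rw [← heq] at hx
  obtain ⟨y, hy, hyx⟩ := hx
  exact g.1.injective hyx ▸ hy

theorem stabO_perp [FiniteDimensional F V] {W : Submodule F V} {g : oGroup Q}
    (h : g ∈ stabO Q W) : g ∈ stabO Q (perpS Q W) := by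
  refine mem_stabO_of_le fun x hx w hw => ?_
  obtain ⟨v, rfl⟩ := g.1.surjective w
  rw [polar_oGroup]
  exact hx v ((h v).1 hw)

theorem siegel_fix {e a x : V} (he : Q e = 0) (hea : polar Q e a = 0) (hxe : polar Q x e = 0)
    (hxa : polar Q x a = 0) : (siegel Q e a).1 x = x := by
  rw [siegel_apply he hea, hxe, hxa]; simp

theorem siegel_zero_left (a : V) : siegel Q 0 a = 1 := Subtype.ext (LinearEquiv.ext fun x => by
  rw [siegel_apply (by simp) (polar_zero_left Q a)]; simp)

/-- All Siegel transformations centred at `e` lie in `M`. -/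
def Full (M : Subgroup (oGroup Q)) (e : V) : Prop := ∀ a, polar Q e a = 0 → siegel Q e a ∈ M

theorem siegel_conj_mem {M : Subgroup (oGroup Q)} {g : oGroup Q} (hg : g ∈ M) {e a : V}
    (he : Q e = 0) (hea : polar Q e a = 0) (h : siegel Q e a ∈ M) :
    siegel Q (g.1 e) (g.1 a) ∈ M := by
  rw [← siegel_conj g he hea]; exact mul_mem (mul_mem hg h) (inv_mem hg)

theorem Full.conj {M : Subgroup (oGroup Q)} {g : oGroup Q} (hg : g ∈ M) {e : V} (he : Q e = 0)
    (h : Full M e) : Full M (g.1 e) := fun a ha => by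
  obtain ⟨b, rfl⟩ := g.1.surjective a
  rw [polar_oGroup] at ha
  exact siegel_conj_mem hg he ha (h b ha)

theorem Full.of_smul {M : Subgroup (oGroup Q)} {e : V} (he : Q e = 0) {c : F} (hc : c ≠ 0)
    (h : Full M (c • e)) : Full M e := fun a ha => by
  have := h (c⁻¹ • a) (by rw [polar_smul_left, polar_smul_right, ha, smul_zero, smul_zero])
  rwa [siegel_smul he (by rw [polar_smul_right, ha, smul_zero]) c, smul_smul,
    mul_inv_cancel₀ hc, one_smul] at this

/-- An explicit Siegel transformation moving `f` to `h`. -/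
theorem siegel_move {e f h : V} (he : Q e = 0) (hf : Q f = 0) (hh : Q h = 0)
    (hef : polar Q e f = 1) (heh : polar Q e h = 1) :
    polar Q e (h - f) = 0 ∧ (siegel Q e (h - f)).1 f = h := by
  have hea : polar Q e (h - f) = 0 := by rw [polar_sub_right, hef, heh, sub_self]
  have hsum : polar Q f (h - f) + Q (h - f) = 0 := by
    have := quad_add Q f (h - f)
    rw [add_sub_cancel, hf, hh] at this
    linear_combination -this
  refine ⟨hea, ?_⟩
  rw [siegel_apply he hea, polar_comm (⇑Q) f e, hef, mul_one, hsum]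
  module

theorem Full.move {M : Subgroup (oGroup Q)} {e f h : V} (he : Q e = 0) (hf : Q f = 0)
    (hh : Q h = 0) (hef : polar Q e f ≠ 0) (heh : polar Q e h ≠ 0) (hFe : Full M e)
    (hFf : Full M f) : Full M h := by
  set f1 := (polar Q e f)⁻¹ • f
  set h1 := (polar Q e h)⁻¹ • h
  have hQf1 : Q f1 = 0 := by rw [quad_smul, hf, mul_zero]
  have hQh1 : Q h1 = 0 := by rw [quad_smul, hh, mul_zero]
  obtain ⟨ha, hmove⟩ := siegel_move he hQf1 hQh1
    (by rw [polar_smul_right, smul_eq_mul, inv_mul_cancel₀ hef])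
    (by rw [polar_smul_right, smul_eq_mul, inv_mul_cancel₀ heh])
  have hF1 : Full M f1 := by
    refine Full.of_smul hQf1 hef ?_
    rwa [smul_smul, mul_inv_cancel₀ hef, one_smul]
  have h2 := Full.conj (hFe _ ha) hQf1 hF1
  rw [hmove] at h2
  exact Full.of_smul hh (inv_ne_zero heh) h2

variable [FiniteDimensional F V] [Finite F] (hQ : (polarBilin Q).Nondegenerate)
  (hn : 5 ≤ Module.finrank F V)

include hQ

/-- A singular vector of `K` outside a subspace `S`. -/
theorem exists_singular_outside (K S : Submodule F V)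
    (h : Module.finrank F S + 3 ≤ Module.finrank F K) : ∃ z ∈ K, Q z = 0 ∧ z ∉ S := by
  obtain ⟨C, hC⟩ := Submodule.exists_isCompl S
  have h1 := Submodule.finrank_sup_add_finrank_inf_eq K C
  have h2 := Submodule.finrank_add_eq_of_isCompl hC
  have h3 := Submodule.finrank_le (K ⊔ C)
  obtain ⟨z, hz, hz0, hQz⟩ := exists_singular_of_three (Q := Q) (K ⊓ C)
    (by change 3 ≤ Module.finrank F ↥(K ⊓ C); omega)
  exact ⟨z, hz.1, hQz, fun hS => hz0 (Submodule.disjoint_def.1 hC.disjoint z hS hz.2)⟩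

include hn

/-- A subgroup containing two full root groups with non-orthogonal centres contains `Ω`. -/
theorem commutator_le_of_two {M : Subgroup (oGroup Q)} {e f : V} (he : Q e = 0) (hf : Q f = 0)
    (hef : polar Q e f ≠ 0) (hFe : Full M e) (hFf : Full M f) :
    commutator (oGroup Q) ≤ M := by
  rw [← siegelGroup_eq_commutator hQ hn]
  refine (Subgroup.closure_le _).mpr ?_
  rintro _ ⟨h, a, hh, hha, rfl⟩
  rcases eq_or_ne h 0 with rfl | hh0
  · rw [SetLike.mem_coe, siegel_zero_left]; exact one_mem _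
  have he0 : e ≠ 0 := fun e0 => hef (by rw [e0, polar_zero_left])
  obtain ⟨x, hx, hex, hhx⟩ := exists_common_nonorth hQ hn he0 hh0 he hh
  have hFx : Full M x := Full.move he hf hx hef hex hFe hFf
  exact Full.move hx he hh (by rwa [polar_comm]) (by rwa [polar_comm]) hFx hFe a hha

omit hQ hn in
/-- Maximality of a stabiliser from properness and the key property. -/
theorem isMaximalIn_of {W : Submodule F V} (hproper : ¬ commutator (oGroup Q) ≤ stabO Q W)
    (hkey : ∀ M : Subgroup (oGroup Q), stabO Q W ⊓ commutator (oGroup Q) ≤ M →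
      M ≤ commutator (oGroup Q) → ¬ M ≤ stabO Q W → commutator (oGroup Q) ≤ M) :
    Cfsg.Geo.IsMaximalIn (commutator (oGroup Q)) (stabO Q W ⊓ commutator (oGroup Q)) := by
  refine ⟨lt_of_le_of_ne inf_le_right fun e => hproper (e.ge.trans inf_le_left), fun M hM hMK => ?_⟩
  by_cases h : M ≤ stabO Q W
  · exact Or.inl (le_antisymm (le_inf h hMK) hM)
  · exact Or.inr (le_antisymm hMK (hkey M hM hMK h))

section bridge

variable {ι : Type} [Fintype ι] [DecidableEq ι]

omit hQ hn in
/-- Transport of a maximality statement to the matrix groups. -/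
theorem isMaximalIn_omegaGL (Q : QuadraticForm F (ι → F)) (W : Submodule F (ι → F))
    (h : Cfsg.Geo.IsMaximalIn (commutator (oGroup Q)) (stabO Q W ⊓ commutator (oGroup Q))) :
    Cfsg.Geo.IsMaximalIn (Cfsg.Geo.omegaGL ⇑Q)
      (Cfsg.Geo.subspaceStabilizer W ⊓ Cfsg.Geo.omegaGL ⇑Q) := by
  set ψ : oGroup Q →* GL ι F :=
    (Cfsg.isometryGroup F ⇑Q).subtype.comp (isoGroupEquiv Q).symm.toMonoidHom with hψ
  have hψinj : Function.Injective ψ :=
    Subtype.val_injective.comp (isoGroupEquiv Q).symm.injective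
  have hK : (commutator (oGroup Q)).map ψ = Cfsg.Geo.omegaGL ⇑Q := by
    rw [hψ, ← Subgroup.map_map, commutator_def, Subgroup.map_commutator,
      Subgroup.map_top_of_surjective _ (isoGroupEquiv Q).symm.surjective]
    rfl
  have hH : (stabO Q W ⊓ commutator (oGroup Q)).map ψ =
      Cfsg.Geo.subspaceStabilizer W ⊓ Cfsg.Geo.omegaGL ⇑Q := by
    have hiff : ∀ g : oGroup Q, g ∈ stabO Q W ↔ ψ g ∈ Cfsg.Geo.subspaceStabilizer W := by
      intro g
      obtain ⟨y, rfl⟩ := (isoGroupEquiv Q).surjective g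
      rw [hψ, MonoidHom.comp_apply, MulEquiv.coe_toMonoidHom, MulEquiv.symm_apply_apply]
      exact forall_congr' fun x => iff_comm
    rw [← hK]
    ext y
    constructor
    · rintro ⟨g, ⟨hg1, hg2⟩, rfl⟩
      exact ⟨(hiff g).1 hg1, g, hg2, rfl⟩
    · rintro ⟨hy, g, hg, rfl⟩
      exact ⟨g, ⟨(hiff g).2 hy, hg⟩, rfl⟩
  rw [← hH, ← hK]
  refine ⟨(Subgroup.map_lt_map_iff_of_injective hψinj).2 h.1, fun M hM hMK => ?_⟩
  have hM' : M = (M.comap ψ).map ψ := by
    rw [Subgroup.map_comap_eq, inf_eq_right.2 (hMK.trans (Subgroup.map_le_range ψ _))]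
  rw [hM'] at hM hMK ⊢
  rcases h.2 _ ((Subgroup.map_le_map_iff_of_injective hψinj).1 hM)
    ((Subgroup.map_le_map_iff_of_injective hψinj).1 hMK) with h' | h'
  · exact Or.inl (by rw [h'])
  · exact Or.inr (by rw [h'])

omit hQ hn in
/-- A form given as a function, bundled. -/
theorem exists_quadraticForm {f : (ι → F) → F} (hf : Cfsg.Geo.IsNondegenerateQuadraticForm f) :
    ∃ Q : QuadraticForm F (ι → F), ⇑Q = f ∧ (polarBilin Q).Nondegenerate := by
  obtain ⟨h1, h3, h2, h4⟩ := hf.polar_bilinear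
  refine ⟨QuadraticMap.ofPolar f (fun a x => by rw [hf.smul, smul_eq_mul, pow_two])
    (fun x x' y => h1 x x' y) (fun a x y => by rw [h3, smul_eq_mul]), rfl, ?_⟩
  refine ⟨fun v hv => ?_, fun v hv => ?_⟩
  · by_contra hv0
    obtain ⟨-, x, hx⟩ := hf.nondegenerate v hv0
    exact hx (hv x)
  · by_contra hv0
    obtain ⟨⟨x, hx⟩, -⟩ := hf.nondegenerate v hv0
    exact hx (hv x)

end bridge

end CfsgLib.Geo.OS
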