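import Cfsg.Agent.Geo.OrthNondeg
import Mathlib.LinearAlgebra.QuadraticForm.Basic

/-!
A non-degenerate even-dimensional subspace isometric to its orthogonal space forces plus type, and
the translation from the predicates of the statements.
-/

set_option autoImplicit false
set_option linter.unusedSectionVars false

namespace CfsgLib.Geo.OS

open QuadraticMap CfsgLib.Forms CfsgLib.Quad

variable {F V : Type*} [Field F] [AddCommGroup V] [Module F V] [FiniteDimensional F V] [Finite F]
  {Q : QuadraticForm F V}

omit [FiniteDimensional F V] [Finite F] in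
theorem quad_sum_orth {α : Type*} (s : Finset α) (v : α → V) (c : α → F)
    (h : ∀ i j, i ≠ j → polar Q (v i) (v j) = 0) :
    Q (∑ i ∈ s, c i • v i) = ∑ i ∈ s, c i * c i * Q (v i) := by
  classical
  induction s using Finset.induction with
  | empty => simp
  | insert a s ha ih =>
    rw [Finset.sum_insert ha, Finset.sum_insert ha, quad_add, quad_smul, ih,
      ← polarBilin_apply_apply, map_sum, add_eq_left]
    refine Finset.sum_eq_zero fun j hj => ?_
    rw [polarBilin_apply_apply, polar_smul_left, polar_smul_right,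
      h a j (fun e => ha (e ▸ hj)), smul_zero, smul_zero]

/-- Over a finite field of odd order an even-dimensional form is similar to its negative. -/
theorem exists_neg_similitude {U : Submodule F V} (hU : ND Q U)
    (h2 : (2 : F) ≠ 0) {j : ℕ} (hj : Module.finrank F U = j + j) :
    ∃ τ : U →ₗ[F] V, ∀ x : U, τ x ∈ U ∧ Q (τ x) = -Q x := by
  classical
  haveI := invertibleOfNonzero h2
  set B : LinearMap.BilinForm F U := polarBilin (Q.comp U.subtype) with hB
  have hBapply : ∀ x y : U, B x y = polar Q (x : V) (y : V) := fun x y => by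
    simp [hB, polar]
  obtain ⟨v, hv⟩ := LinearMap.BilinForm.exists_orthogonal_basis (B := B)
    ⟨fun x y => by rw [hBapply, hBapply, polar_comm]; rfl⟩
  let b : Module.Basis (Fin j ⊕ Fin j) F U :=
    v.reindex ((finCongr hj).trans finSumFinEquiv.symm)
  have horth : ∀ i k, i ≠ k → polar Q (b i : V) (b k : V) = 0 := fun i k hik => by
    rw [← hBapply]
    simp only [b, Module.Basis.reindex_apply]
    exact hv fun e => hik (((finCongr hj).trans finSumFinEquiv.symm).symm.injective e)
  have hd : ∀ i, Q (b i : V) ≠ 0 := by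
    intro i h0
    have hb0 : (b i : V) ≠ 0 := fun e => b.ne_zero i (Subtype.ext e)
    obtain ⟨y, hy, hne⟩ := ND.partner hU (b i).2 hb0
    refine hne ?_
    have hys : ((∑ k, b.repr ⟨y, hy⟩ k • b k : U) : V) = y := by rw [b.sum_repr]
    rw [← hys, Submodule.coe_sum, ← polarBilin_apply_apply, map_sum]
    refine Finset.sum_eq_zero fun k _ => ?_
    rw [Submodule.coe_smul, polarBilin_apply_apply, polar_smul_right]
    rcases eq_or_ne i k with rfl | hik
    · rw [polar_self, h0, smul_zero, smul_zero]
    · rw [horth i k hik, smul_zero]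
  have hst : ∀ i : Fin j, ∃ s t : F, Q (b (.inl i) : V) * s ^ 2 + Q (b (.inr i) : V) * t ^ 2 =
      -Q (b (.inl i) : V) := fun i => exists_binary h2 (hd _) (hd _) _
  choose s t hst using hst
  let f : Fin j ⊕ Fin j → V := fun i => match i with
    | .inl i => s i • (b (.inl i) : V) + t i • (b (.inr i) : V)
    | .inr i => (-(Q (b (.inr i) : V) / Q (b (.inl i) : V) * t i)) • (b (.inl i) : V)
        + s i • (b (.inr i) : V)
  have hfU : ∀ i, f i ∈ U := by
    rintro (i | i) <;> exact U.add_mem (U.smul_mem _ (b _).2) (U.smul_mem _ (b _).2)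
  have hfQ : ∀ i, Q (f i) = -Q (b i : V) := by
    rintro (i | i)
    · change Q (s i • (b (.inl i) : V) + t i • (b (.inr i) : V)) = _
      rw [quad_add, quad_smul, quad_smul, polar_smul_left, polar_smul_right,
        horth _ _ Sum.inl_ne_inr, smul_zero, smul_zero, add_zero]
      linear_combination hst i
    · change Q (_ • (b (.inl i) : V) + s i • (b (.inr i) : V)) = _
      rw [quad_add, quad_smul, quad_smul, polar_smul_left, polar_smul_right,
        horth _ _ Sum.inl_ne_inr, smul_zero, smul_zero, add_zero]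
      have h := hst i
      have h1 := hd (.inl i)
      field_simp
      linear_combination Q (b (.inr i) : V) * h
  have hforth : ∀ i k, i ≠ k → polar Q (f i) (f k) = 0 := by
    have hsame : ∀ i, polar Q (f (.inl i)) (f (.inr i)) = 0 := by
      intro i
      simp only [f, polar_add_left, polar_add_right, polar_smul_left, polar_smul_right, polar_self,
        horth _ _ Sum.inl_ne_inr, horth _ _ Sum.inr_ne_inl, nsmul_eq_mul, smul_eq_mul]
      have h1 := hd (.inl i)
      push_cast
      field_simp
      ring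
    intro i k hik
    rcases i with i | i <;> rcases k with k | k
    · have hne : i ≠ k := fun e => hik (by rw [e])
      simp [f, polar_add_left, polar_add_right, polar_smul_left, polar_smul_right, horth, hne]
    · rcases eq_or_ne i k with rfl | hne
      · exact hsame i
      · simp [f, polar_add_left, polar_add_right, polar_smul_left, polar_smul_right, horth, hne]
    · rcases eq_or_ne i k with rfl | hne
      · rw [polar_comm]; exact hsame i
      · simp [f, polar_add_left, polar_add_right, polar_smul_left, polar_smul_right, horth, hne]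
    · have hne : i ≠ k := fun e => hik (by rw [e])
      simp [f, polar_add_left, polar_add_right, polar_smul_left, polar_smul_right, horth, hne]
  refine ⟨b.constr F f, fun x => ⟨?_, ?_⟩⟩
  · rw [Module.Basis.constr_apply_fintype]
    exact U.sum_mem fun i _ => U.smul_mem _ (hfU i)
  · have hxs : ((∑ i, b.repr x i • b i : U) : V) = x := by rw [b.sum_repr]
    conv_rhs => rw [← hxs]
    rw [Module.Basis.constr_apply_fintype, quad_sum_orth _ _ _ hforth, Submodule.coe_sum]
    simp only [Submodule.coe_smul]
    rw [quad_sum_orth _ _ _ horth, ← Finset.sum_neg_distrib]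
    refine Finset.sum_congr rfl fun i _ => ?_
    rw [hfQ]
    simp

/-- If an isometry takes `U` into its orthogonal space, there is a totally singular subspace of
the dimension of `U` (even). -/
theorem exists_ts_of_swap {U : Submodule F V} (hU : ND Q U) {j : ℕ}
    (hj : Module.finrank F U = j + j) (g : oGroup Q) (hg : ∀ x ∈ U, g.1 x ∈ perpS Q U) :
    ∃ T : Submodule F V, (∀ x ∈ T, Q x = 0) ∧ Module.finrank F T = Module.finrank F U := by
  obtain ⟨τ, hτ⟩ : ∃ τ : U →ₗ[F] V, ∀ x : U, τ x ∈ U ∧ Q (τ x) = -Q x := by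
    by_cases h2 : (2 : F) = 0
    · refine ⟨U.subtype, fun x => ⟨x.2, ?_⟩⟩
      have : Q (x : V) + Q (x : V) = 0 := by rw [← two_mul, h2, zero_mul]
      exact eq_neg_of_add_eq_zero_left this
    · exact exists_neg_similitude hU h2 hj
  set L : U →ₗ[F] V := τ + g.1.toLinearMap.comp U.subtype
  have hLinj : Function.Injective L := by
    rw [← LinearMap.ker_eq_bot, LinearMap.ker_eq_bot']
    intro x hx
    change τ x + g.1 (x : V) = 0 at hx
    have hm : g.1 (x : V) ∈ U := by
      rw [eq_neg_of_add_eq_zero_right hx]; exact U.neg_mem (hτ x).1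
    have := ND.eq_zero hU hm (hg x x.2)
    exact Subtype.ext (g.1.map_eq_zero_iff.1 this)
  refine ⟨LinearMap.range L, ?_, LinearMap.finrank_range_of_inj hLinj⟩
  rintro _ ⟨x, rfl⟩
  change Q (τ x + g.1 (x : V)) = 0
  rw [quad_add, (hτ x).2, g.2, hg x x.2 _ (hτ x).1, neg_add_cancel, add_zero]

section translate

variable {ι : Type} [Fintype ι] [DecidableEq ι] {Q : QuadraticForm F (ι → F)}
  (hQ : (polarBilin Q).Nondegenerate)

omit [DecidableEq ι] in
theorem nd_of_isNondegenerateOn {W : Submodule F (ι → F)}
    (hW : Cfsg.Geo.IsNondegenerateOn (QuadraticMap.polar ⇑Q) W) : ND Q W := by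
  refine (Submodule.eq_bot_iff _).2 fun x hx => ?_
  by_contra hx0
  obtain ⟨-, y, hy, hne⟩ := hW x hx.1 hx0
  exact hne (by rw [polar_comm]; exact hx.2 y hy)

include hQ

/-- Maximality for a non-degenerate subspace in dimension at least ten. -/
theorem nondeg_subspace_maximal_of_eleven (hn : 10 ≤ Fintype.card ι) {W : Submodule F (ι → F)}
    (hW0 : W ≠ ⊥) (hW1 : W ≠ ⊤) (hW : ND Q W)
    (hq : ∀ S : Submodule F (ι → F), S = W ∨ S = perpS Q W → Module.finrank F S = 2 →
      (∀ x ∈ S, Q x = 0 → x = 0) ∨ 4 ≤ Nat.card F)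
    (hhalf : 2 * Module.finrank F W = Fintype.card ι →
      ∀ g : oGroup Q, ¬ ∀ x ∈ W, g.1 x ∈ perpS Q W) :
    Cfsg.Geo.IsMaximalIn (Cfsg.Geo.omegaGL ⇑Q)
      (Cfsg.Geo.subspaceStabilizer W ⊓ Cfsg.Geo.omegaGL ⇑Q) := by
  refine isMaximalIn_omegaGL Q W ?_
  have hd : Module.finrank F (ι → F) = Fintype.card ι := Module.finrank_fintype_fun_eq_card F
  have hsum := finrank_perpS hQ W
  by_cases hbig : Module.finrank F (perpS Q W) ≤ Module.finrank F W
  · refine nondeg_maximal hQ (by omega) hW (by omega) ?_ (hq _ (Or.inr rfl)) hbig ?_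
    · intro h
      have := perpS_perpS hQ W
      rw [h] at this
      exact hW1 (this ▸ eq_top_iff.2 fun x _ y hy => by
        rw [(Submodule.mem_bot F).1 hy]; exact polar_zero_left Q x)
    · intro g hg
      by_cases he : 2 * Module.finrank F W = Fintype.card ι
      · exact hhalf he g hg
      have h1 : W.map g.1.toLinearMap ≤ perpS Q W := by
        rintro _ ⟨x, hx, rfl⟩; exact hg x hx
      have := Submodule.finrank_mono h1
      rw [LinearEquiv.finrank_map_eq] at this
      omega
  · rw [← stabO_perp_eq hQ]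
    refine nondeg_maximal hQ (by omega) (ND.perp hQ hW) (by omega) ?_ ?_ ?_ ?_
    · rwa [perpS_perpS hQ]
    · rw [perpS_perpS hQ]; exact hq _ (Or.inl rfl)
    · rw [perpS_perpS hQ]; omega
    · intro g hg
      rw [perpS_perpS hQ] at hg
      have h1 : (perpS Q W).map g.1.toLinearMap ≤ W := by
        rintro _ ⟨x, hx, rfl⟩; exact hg x hx
      have := Submodule.finrank_mono h1
      rw [LinearEquiv.finrank_map_eq] at this
      omega

/-- Maximality for an arbitrary non-degenerate subspace, dimension at least thirteen. -/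
theorem nondeg_subspace_maximal (hn : 13 ≤ Fintype.card ι) {W : Submodule F (ι → F)}
    (hW0 : W ≠ ⊥) (hW1 : W ≠ ⊤) (hW : ND Q W)
    (hq : ∀ S : Submodule F (ι → F), S = W ∨ S = perpS Q W → Module.finrank F S = 2 →
      (∀ x ∈ S, Q x = 0 → x = 0) ∨ 4 ≤ Nat.card F)
    (hhalf : 2 * Module.finrank F W = Fintype.card ι →
      ∀ g : oGroup Q, ¬ ∀ x ∈ W, g.1 x ∈ perpS Q W) :
    Cfsg.Geo.IsMaximalIn (Cfsg.Geo.omegaGL ⇑Q)
      (Cfsg.Geo.subspaceStabilizer W ⊓ Cfsg.Geo.omegaGL ⇑Q) :=
  nondeg_subspace_maximal_of_eleven hQ (by omega) hW0 hW1 hW hq hhalf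

omit hQ [DecidableEq ι] in
/-- A plane with a non-zero singular vector is of plus type. -/
theorem plusType_of_singular {S : Submodule F (ι → F)} (hS : Module.finrank F S = 2) {z : ι → F}
    (hz : z ∈ S) (h0 : z ≠ 0) (hQz : Q z = 0) : Cfsg.Geo.IsPlusTypeOn ⇑Q S := by
  refine ⟨Submodule.span F {z}, (Submodule.span_singleton_le_iff_mem _ _).2 hz, fun w hw => ?_, ?_⟩
  · obtain ⟨t, rfl⟩ := Submodule.mem_span_singleton.1 hw
    rw [quad_smul, hQz, mul_zero]
  · rw [finrank_span_singleton h0, hS]

end translate

end CfsgLib.Geo.OS
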