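import Cfsg.Agent.Geo.OrthLagrangian
import Cfsg.Agent.Geo.OrthPlus

/-!
Stabilisers in `Ω` which are not maximal: almost maximal singular subspaces, plus planes over tiny
fields, singular decompositions in odd dimension halves.
-/

set_option autoImplicit false
set_option linter.unusedSectionVars false

namespace CfsgLib.Geo.OS

open QuadraticMap CfsgLib.Forms CfsgLib.Quad

variable {F : Type*} [Field F] [Finite F] {ι : Type} [Fintype ι] [DecidableEq ι]
  {Q : QuadraticForm F (ι → F)}

/-- The matrix of an isometry, as a homomorphism. -/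
noncomputable def toGL (Q : QuadraticForm F (ι → F)) : oGroup Q →* GL ι F :=
  (Cfsg.isometryGroup F ⇑Q).subtype.comp (isoGroupEquiv Q).symm.toMonoidHom

theorem toGL_injective : Function.Injective (toGL Q) :=
  Subtype.val_injective.comp (isoGroupEquiv Q).symm.injective

theorem toGL_mulVec (g : oGroup Q) (x : ι → F) :
    Matrix.mulVec (toGL Q g : Matrix ι ι F) x = g.1 x := by
  obtain ⟨y, rfl⟩ := (isoGroupEquiv Q).surjective g
  rw [toGL, MonoidHom.comp_apply, MulEquiv.coe_toMonoidHom, MulEquiv.symm_apply_apply]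
  rfl

theorem map_omega : (commutator (oGroup Q)).map (toGL Q) = Cfsg.Geo.omegaGL ⇑Q := by
  rw [toGL, ← Subgroup.map_map, commutator_def, Subgroup.map_commutator,
    Subgroup.map_top_of_surjective _ (isoGroupEquiv Q).symm.surjective]
  rfl

/-- Producing an intermediate matrix group from one among isometries. -/
theorem exists_between {S : Subgroup (GL ι F)} {L : Subgroup (oGroup Q)}
    (hle : ∀ g ∈ commutator (oGroup Q), toGL Q g ∈ S → g ∈ L)
    (hne : ∃ g ∈ commutator (oGroup Q), g ∈ L ∧ toGL Q g ∉ S)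
    (hlt : ∃ g ∈ commutator (oGroup Q), g ∉ L) :
    ∃ K : Subgroup (GL ι F), S ⊓ Cfsg.Geo.omegaGL ⇑Q < K ∧ K < Cfsg.Geo.omegaGL ⇑Q := by
  refine ⟨(L ⊓ commutator (oGroup Q)).map (toGL Q), SetLike.lt_iff_le_and_exists.2 ⟨?_, ?_⟩,
    SetLike.lt_iff_le_and_exists.2 ⟨?_, ?_⟩⟩
  · rintro y ⟨hy, hy'⟩
    rw [← map_omega] at hy'
    obtain ⟨g, hg, rfl⟩ := hy'
    exact ⟨g, ⟨hle g hg hy, hg⟩, rfl⟩
  · obtain ⟨g, hg, hgL, hgS⟩ := hne
    exact ⟨toGL Q g, ⟨g, ⟨hgL, hg⟩, rfl⟩, fun h => hgS h.1⟩
  · rw [← map_omega]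
    exact Subgroup.map_mono inf_le_right
  · obtain ⟨g, hg, hgL⟩ := hlt
    refine ⟨toGL Q g, by rw [← map_omega]; exact ⟨g, hg, rfl⟩, ?_⟩
    rintro ⟨h, hh, he⟩
    exact hgL (toGL_injective he ▸ hh.1)

variable (hQ : (polarBilin Q).Nondegenerate) (hn : 7 ≤ Module.finrank F (ι → F))

include hQ hn

theorem exists_not_stab_lag {T : Submodule F (ι → F)} (hT : IsLag Q T) :
    ∃ g ∈ commutator (oGroup Q), g ∉ stabO Q T := by
  have h0 : T ≠ ⊥ := fun h => by
    have := hT.2
    rw [h, finrank_bot] at this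
    omega
  exact SetLike.not_le_iff_exists.1 (ts_proper hQ hn hT.1 h0)

/-- An almost maximal totally singular subspace. -/
theorem almost_lag_nonmax {W T : Submodule F (ι → F)} (hWT : W ≤ T) (hT : IsLag Q T)
    (hW : Module.finrank F W + 1 = Module.finrank F T) :
    ∃ K : Subgroup (GL ι F),
      Cfsg.Geo.subspaceStabilizer W ⊓ Cfsg.Geo.omegaGL ⇑Q < K ∧ K < Cfsg.Geo.omegaGL ⇑Q := by
  refine exists_between (L := stabO Q T) ?_ ?_ (exists_not_stab_lag hQ hn hT)
  · intro g hg hgW
    have hWg : W ≤ T ⊓ T.map g.1.toLinearMap := fun x hx => by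
      refine ⟨hWT hx, g.1.symm x, hWT ?_, g.1.apply_symm_apply x⟩
      refine (hgW (g.1.symm x)).2 ?_
      change Matrix.mulVec (toGL Q g : Matrix ι ι F) (g.1.symm x) ∈ W
      rwa [toGL_mulVec, LinearEquiv.apply_symm_apply]
    have h1 := Submodule.finrank_mono hWg
    have h2 := Submodule.finrank_mono (inf_le_left : T ⊓ T.map g.1.toLinearMap ≤ T)
    obtain ⟨r, hr⟩ := lag_parity hQ (by omega) hT hg
    have heq : T ⊓ T.map g.1.toLinearMap = T :=
      Submodule.eq_of_le_of_finrank_le inf_le_left (by omega)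
    have heq2 : T = T.map g.1.toLinearMap :=
      Submodule.eq_of_le_of_finrank_le (inf_eq_left.1 heq) (LinearEquiv.finrank_map_eq g.1 T).le
    exact mem_stabO_of_le fun x hx => by rw [heq2]; exact ⟨x, hx, rfl⟩
  · obtain ⟨e, he, heW⟩ : ∃ e ∈ T, e ∉ W := by
      by_contra hc
      push Not at hc
      have := Submodule.finrank_mono (show T ≤ W from hc)
      omega
    obtain ⟨w, hw, hw0⟩ : ∃ w ∈ W, w ≠ 0 := by
      by_contra hc
      push Not at hc
      have : W = ⊥ := (Submodule.eq_bot_iff _).2 hc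
      rw [this, finrank_bot] at hW
      have := hT.2
      omega
    obtain ⟨a, ha, hwa⟩ : ∃ a ∈ perpS Q (Submodule.span F {e}), polar Q w a ≠ 0 := by
      by_contra hc
      push Not at hc
      have hwe : w ∈ Submodule.span F {e} := by
        rw [← perpS_perpS hQ (Submodule.span F {e})]
        intro h hh; rw [polar_comm]; exact hc h hh
      obtain ⟨t, rfl⟩ := Submodule.mem_span_singleton.1 hwe
      have ht : t ≠ 0 := fun h => hw0 (by rw [h, zero_smul])
      refine heW ?_
      have := W.smul_mem t⁻¹ hw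
      rwa [smul_smul, inv_mul_cancel₀ ht, one_smul] at this
    have hQe := hT.1 e he
    have hea : polar Q e a = 0 := ha e (Submodule.mem_span_singleton_self e)
    refine ⟨siegel Q e a, siegel_mem_commutator hQ (by omega) hQe hea, mem_stabO_of_le fun x hx => ?_,
      fun h => ?_⟩
    · rw [siegel_apply hQe hea, polar_eq_zero_of_singular hT.1 hx he, zero_smul, add_zero]
      exact T.sub_mem hx (T.smul_mem _ he)
    · have h2 := (h w).1 hw
      change Matrix.mulVec (toGL Q (siegel Q e a) : Matrix ι ι F) w ∈ W at h2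
      rw [toGL_mulVec, siegel_apply hQe hea, polar_eq_zero_of_singular hT.1 (hWT hw) he, zero_smul,
        add_zero, mul_zero, add_zero] at h2
      have h3 := W.sub_mem hw h2
      rw [sub_sub_cancel] at h3
      refine heW ?_
      have := W.smul_mem (polar Q w a)⁻¹ h3
      rwa [smul_smul, inv_mul_cancel₀ hwa, one_smul] at this

/-- A plus plane over a field with at most three elements. -/
theorem plane_nonmax (hq : ∀ a : F, a ≠ 0 → a = 1 ∨ a = -1) {W : Submodule F (ι → F)}
    (hW2 : Module.finrank F W = 2) (hW : ND Q W) (hWp : ∃ z ∈ W, z ≠ 0 ∧ Q z = 0) :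
    ∃ K : Subgroup (GL ι F),
      Cfsg.Geo.subspaceStabilizer W ⊓ Cfsg.Geo.omegaGL ⇑Q < K ∧ K < Cfsg.Geo.omegaGL ⇑Q := by
  obtain ⟨x, hx, hx0, hQx⟩ := hWp
  obtain ⟨y', hy', hQy', hxy'⟩ := ND.singular_partner hW hx hx0 hQx
  set y := (polar Q x y')⁻¹ • y'
  have hy : y ∈ W := W.smul_mem _ hy'
  have hQy : Q y = 0 := by rw [quad_smul, hQy', mul_zero]
  have hxy : polar Q x y = 1 := by rw [polar_smul_right, smul_eq_mul, inv_mul_cancel₀ hxy']
  have hxx : polar Q x x = 0 := by rw [polar_self, hQx, smul_zero]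
  have hyy : polar Q y y = 0 := by rw [polar_self, hQy, smul_zero]
  have hgenW : ∀ w ∈ W, w = polar Q w y • x + polar Q w x • y := by
    intro w hw
    refine sub_eq_zero.1 (ND.eq_zero hW (W.sub_mem hw (W.add_mem (W.smul_mem _ hx) (W.smul_mem _ hy))) ?_)
    intro h hh
    have hspan : Submodule.span F {x} ⊔ Submodule.span F {y} = W := by
      refine Submodule.eq_of_le_of_finrank_le (sup_le ((Submodule.span_singleton_le_iff_mem _ _).2 hx)
        ((Submodule.span_singleton_le_iff_mem _ _).2 hy)) ?_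
      have hlt : Submodule.span F {x} < Submodule.span F {x} ⊔ Submodule.span F {y} :=
        left_lt_sup.2 fun h => by
          obtain ⟨t, ht⟩ := Submodule.mem_span_singleton.1 (h (Submodule.mem_span_singleton_self y))
          rw [← ht, polar_smul_right, hxx, smul_zero] at hxy
          exact zero_ne_one hxy
      have := Submodule.finrank_lt_finrank_of_lt hlt
      have : Module.finrank F (Submodule.span F {x}) = 1 := finrank_span_singleton hx0
      omega
    rw [← hspan] at hh
    obtain ⟨a, ha, b, hb, rfl⟩ := Submodule.mem_sup.1 hh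
    obtain ⟨s, rfl⟩ := Submodule.mem_span_singleton.1 ha
    obtain ⟨t, rfl⟩ := Submodule.mem_span_singleton.1 hb
    simp only [polar_add_left, polar_smul_left, polar_sub_right, polar_add_right, polar_smul_right,
      hxx, hyy, hxy, polar_comm (⇑Q) y x, polar_comm (⇑Q) w x, polar_comm (⇑Q) w y, smul_eq_mul]
    ring
  set v := x + y with hv_def
  have hv : v ∈ W := W.add_mem hx hy
  have hQv : Q v = 1 := by rw [hv_def, quad_add, hQx, hQy, hxy, zero_add, zero_add]
  have hv0 : v ≠ 0 := fun h => by rw [h, QuadraticMap.map_zero] at hQv; exact zero_ne_one hQv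
  have hvspan : ∀ w ∈ W, Q w = 1 → w ∈ Submodule.span F {v} := by
    intro w hw hQw
    set a := polar Q w y
    set b := polar Q w x
    have he := hgenW w hw
    have hab : a * b = 1 := by
      have hc : Q (a • x + b • y) = 1 := by rw [← hQw]; exact congrArg Q he.symm
      rw [quad_add, quad_smul, quad_smul, hQx, hQy, polar_smul_left, polar_smul_right, hxy] at hc
      simpa using hc
    have heq : a = b := by
      rcases hq a (left_ne_zero_of_mul_eq_one hab) with h | h <;>
        rcases hq b (right_ne_zero_of_mul_eq_one hab) with h' | h'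
      · rw [h, h']
      · rw [h, h', one_mul] at hab; rw [h, h']; exact hab.symm
      · rw [h, h', mul_one] at hab; rw [h, h']; exact hab
      · rw [h, h']
    refine Submodule.mem_span_singleton.2 ⟨a, ?_⟩
    rw [hv_def, smul_add]
    conv_lhs => arg 2; rw [heq]
    exact he.symm
  have hWperp : 3 ≤ Module.finrank F (perpS Q W) := by
    have := finrank_perpS hQ W
    omega
  obtain ⟨e, he, he0, hQe⟩ := exists_singular_of_three (Q := Q) (perpS Q W) hWperp
  refine exists_between (L := stabO Q (Submodule.span F {v})) ?_ ?_ ?_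
  · intro g _ hgW
    have hgv : g.1 v ∈ W := by
      have := (hgW v).1 hv
      change Matrix.mulVec (toGL Q g : Matrix ι ι F) v ∈ W at this
      rwa [toGL_mulVec] at this
    refine mem_stabO_of_le fun z hz => ?_
    obtain ⟨t, rfl⟩ := Submodule.mem_span_singleton.1 hz
    rw [map_smul]
    exact Submodule.smul_mem _ t (hvspan _ hgv (by rw [g.2, hQv]))
  · have hev : polar Q v e = 0 := he v hv
    have hea : polar Q e (x - y) = 0 := by rw [polar_comm]; exact he _ (W.sub_mem hx hy)
    have hva : polar Q v (x - y) = 0 := by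
      rw [hv_def, polar_add_left, polar_sub_right, polar_sub_right, hxx, hyy, hxy,
        polar_comm (⇑Q) y x, hxy]
      ring
    refine ⟨siegel Q e (x - y), siegel_mem_commutator hQ (by omega) hQe hea,
      mem_stabO_of_le fun z hz => ?_, fun h => ?_⟩
    · obtain ⟨t, rfl⟩ := Submodule.mem_span_singleton.1 hz
      rw [map_smul, siegel_fix hQe hea hev hva]
      exact hz
    · have h2 := (h x).1 hx
      change Matrix.mulVec (toGL Q (siegel Q e (x - y)) : Matrix ι ι F) x ∈ W at h2
      rw [toGL_mulVec, siegel_apply hQe hea, he x hx, zero_smul, add_zero, mul_zero, add_zero,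
        polar_sub_right, hxx, hxy, zero_sub, neg_smul, one_smul, sub_neg_eq_add] at h2
      have h3 := W.sub_mem h2 hx
      rw [add_sub_cancel_left] at h3
      exact he0 (ND.eq_zero hW h3 he)
  · have hxe : polar Q x e = 0 := he x hx
    refine ⟨siegel Q x e, siegel_mem_commutator hQ (by omega) hQx hxe, fun h => ?_⟩
    obtain ⟨t, ht⟩ := Submodule.mem_span_singleton.1 ((h v).2 (Submodule.mem_span_singleton_self v))
    rw [siegel_apply hQx hxe, he v hv, hQe, zero_mul, add_zero, zero_smul, sub_zero,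
      show polar Q v x = 1 by rw [hv_def, polar_add_left, hxx, zero_add, polar_comm, hxy],
      one_smul] at ht
    have hm : e ∈ W := by
      rw [show e = t • v - v by rw [ht]; abel]
      exact W.sub_mem (W.smul_mem _ hv) hv
    exact he0 (ND.eq_zero hW hm he)

/-- A decomposition into two maximal totally singular subspaces of odd dimension. -/
theorem lag_pair_nonmax {D : Fin 2 → Submodule F (ι → F)} (hD : ∀ i, IsLag Q (D i))
    (hdisj : D 0 ⊓ D 1 = ⊥) (hodd : Odd (Module.finrank F (D 0))) :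
    ∃ K : Subgroup (GL ι F),
      Cfsg.Geo.decompositionStabilizer D ⊓ Cfsg.Geo.omegaGL ⇑Q < K ∧
        K < Cfsg.Geo.omegaGL ⇑Q := by
  have hmap : ∀ (g : oGroup Q) (X : Submodule F (ι → F)),
      X.map (Matrix.toLin' (toGL Q g : Matrix ι ι F)) = X.map g.1.toLinearMap := by
    intro g X
    congr 1
    exact LinearMap.ext fun x => by rw [Matrix.toLin'_apply, toGL_mulVec]; rfl
  refine exists_between (L := stabO Q (D 0)) ?_ ?_ (exists_not_stab_lag hQ hn (hD 0))
  · rintro g hg ⟨σ, hσ⟩
    have h0 := hσ 0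
    rw [hmap] at h0
    obtain ⟨r, hr⟩ := lag_parity hQ (by omega) (hD 0) hg
    rw [h0] at hr
    rcases Fin.exists_fin_two.1 ⟨σ 0, rfl⟩ with h | h
    · rw [h] at h0
      exact mem_stabO_of_le fun x hx => by rw [← h0]; exact ⟨x, hx, rfl⟩
    · exfalso
      rw [h, hdisj, finrank_bot] at hr
      obtain ⟨s, hs⟩ := hodd
      omega
  · have h2 : 2 ≤ Module.finrank F (D 0) := by have := (hD 0).2; omega
    obtain ⟨e, he, he0⟩ : ∃ e ∈ D 0, e ≠ 0 := Submodule.exists_mem_ne_zero_of_ne_bot
      fun h => by rw [h, finrank_bot] at h2; omega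
    obtain ⟨a, ha, hae⟩ : ∃ a ∈ D 0, a ∉ Submodule.span F {e} := by
      by_contra hc
      push Not at hc
      have := Submodule.finrank_mono (show D 0 ≤ Submodule.span F {e} from hc)
      have : Module.finrank F (Submodule.span F {e}) = 1 := finrank_span_singleton he0
      omega
    have hQe := (hD 0).1 e he
    have hea := polar_eq_zero_of_singular (hD 0).1 he ha
    refine ⟨siegel Q e a, siegel_mem_commutator hQ (by omega) hQe hea, mem_stabO_of_le fun x hx => ?_, ?_⟩
    · rw [siegel_fix hQe hea (polar_eq_zero_of_singular (hD 0).1 hx he)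
        (polar_eq_zero_of_singular (hD 0).1 hx ha)]
      exact hx
    rintro ⟨σ, hσ⟩
    obtain ⟨y, hy, hye⟩ : ∃ y ∈ D 1, polar Q y e ≠ 0 := by
      by_contra hc
      push Not at hc
      have : e ∈ D 1 := by
        rw [← IsLag.perp_eq hQ (hD 1)]
        exact fun h hh => hc h hh
      exact he0 ((Submodule.mem_bot F).1 (hdisj ▸ ⟨he, this⟩))
    have hfix : (D 0).map (siegel Q e a).1.toLinearMap ≤ D 0 := by
      rintro _ ⟨x, hx, rfl⟩
      exact ((siegel_fix hQe hea (polar_eq_zero_of_singular (hD 0).1 hx he)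
        (polar_eq_zero_of_singular (hD 0).1 hx ha)).symm ▸ hx : (siegel Q e a).1 x ∈ D 0)
    have h1 := hσ 1
    rw [hmap] at h1
    rcases Fin.exists_fin_two.1 ⟨σ 1, rfl⟩ with h | h
    · have h0 := hσ 0
      rw [hmap] at h0
      rcases Fin.exists_fin_two.1 ⟨σ 0, rfl⟩ with h' | h'
      · exact absurd (σ.injective (h.trans h'.symm)) (by decide)
      · rw [h'] at h0
        refine he0 ((Submodule.mem_bot F).1 (hdisj ▸ ⟨he, ?_⟩))
        rw [← h0]
        exact ⟨e, he, siegel_fix hQe hea (polar_eq_zero_of_singular (hD 0).1 he he) hea⟩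
    · rw [h] at h1
      have hm : (siegel Q e a).1 y ∈ D 1 := h1 ▸ ⟨y, hy, rfl⟩
      rw [siegel_apply hQe hea, (hD 0).1 a ha, zero_mul, add_zero] at hm
      have h3 := (D 1).sub_mem hm hy
      rw [add_sub_assoc, add_sub_cancel_left] at h3
      have h4 : polar Q y e • a - polar Q y a • e = 0 :=
        (Submodule.mem_bot F).1 (hdisj ▸ ⟨(D 0).sub_mem ((D 0).smul_mem _ ha)
          ((D 0).smul_mem _ he), h3⟩)
      refine hae (Submodule.mem_span_singleton.2 ⟨(polar Q y e)⁻¹ * polar Q y a, ?_⟩)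
      rw [← smul_smul, ← sub_eq_zero.1 h4, smul_smul, inv_mul_cancel₀ hye, one_smul]

omit hn in
/-- A maximal totally singular subspace over an almost maximal one in plus type. -/
theorem exists_lag_above {W T₀ : Submodule F (ι → F)} (hW : ∀ w ∈ W, Q w = 0) (hT₀ : IsLag Q T₀)
    (hdim : Module.finrank F W ≤ Module.finrank F T₀) : ∃ T, W ≤ T ∧ IsLag Q T := by
  set P := T₀ ⊓ perpS Q W
  refine ⟨W ⊔ P, le_sup_left, ?_, ?_⟩
  · have hSW : W ⊔ P = Submodule.span F ((W : Set (ι → F)) ∪ P) := by
      rw [Submodule.span_union, Submodule.span_eq, Submodule.span_eq]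
    rw [hSW]
    refine quad_span_zero ?_ ?_
    · rintro x (hx | hx)
      exacts [hW x hx, hT₀.1 x hx.1]
    · rintro x (hx | hx) y (hy | hy)
      · exact polar_eq_zero_of_singular hW hx hy
      · exact hy.2 x hx
      · rw [polar_comm]; exact hx.2 y hy
      · exact polar_eq_zero_of_singular hT₀.1 hx.1 hy.1
  · have a1 := Submodule.finrank_sup_add_finrank_inf_eq W P
    have a2 := finrank_perpS hQ (T₀ ⊔ W)
    have a3 := Submodule.finrank_sup_add_finrank_inf_eq T₀ W
    have hPeq : perpS Q (T₀ ⊔ W) = P := by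
      refine le_antisymm (fun x hx => ?_) ?_
      · refine Submodule.mem_inf.2 ⟨?_, fun h hh => hx h (Submodule.mem_sup_right hh)⟩
        rw [← IsLag.perp_eq hQ hT₀]; exact fun h hh => hx h (Submodule.mem_sup_left hh)
      · rintro x ⟨hx0, hxW⟩ h hh
        obtain ⟨a, ha, b, hb, rfl⟩ := Submodule.mem_sup.1 hh
        rw [polar_add_left, polar_eq_zero_of_singular hT₀.1 ha hx0, hxW b hb, add_zero]
    rw [hPeq] at a2
    have hWP : W ⊓ P = T₀ ⊓ W := by
      refine le_antisymm (fun x hx => ⟨hx.2.1, hx.1⟩) fun x hx => ⟨hx.2, hx.1, fun h hh =>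
        polar_eq_zero_of_singular hW hh hx.2⟩
    rw [hWP] at a1
    have a4 := hT₀.2
    have a5 : Module.finrank F ↥(T₀ ⊓ W) ≤ Module.finrank F T₀ :=
      Submodule.finrank_mono inf_le_left
    omega

end CfsgLib.Geo.OS
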