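import Cfsg.Agent.Geo.OrthCharTwoNonMax

/-!
The structure of small plus-type spaces over the fields with two and four elements.
-/

set_option autoImplicit false
set_option linter.unusedSectionVars false
set_option linter.style.haveILetI false

namespace CfsgLib.Geo.OS

open QuadraticMap CfsgLib.Forms CfsgLib.Quad

variable {F V : Type*} [Field F] [Finite F] [AddCommGroup V] [Module F V] [FiniteDimensional F V]
  {Q : QuadraticForm F V}

/-- A plane with a singular vector has a hyperbolic pair. -/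
theorem exists_hyp_pair {X : Submodule F V} (hX : ND Q X) (hd : Module.finrank F X = 2)
    (hpl : ∃ z ∈ X, z ≠ 0 ∧ Q z = 0) :
    ∃ e ∈ X, ∃ f ∈ X, e ≠ 0 ∧ Q e = 0 ∧ Q f = 0 ∧ polar Q e f = 1 ∧
      ∀ v ∈ X, ∃ x y : F, v = x • e + y • f := by
  obtain ⟨e, he, he0, hQe⟩ := hpl
  obtain ⟨f', hf', hQf', hef'⟩ := ND.singular_partner hX he he0 hQe
  set f := (polar Q e f')⁻¹ • f'
  have hf : f ∈ X := X.smul_mem _ hf'
  have hQf : Q f = 0 := by rw [quad_smul, hQf', mul_zero]
  have hef : polar Q e f = 1 := by rw [polar_smul_right, smul_eq_mul, inv_mul_cancel₀ hef']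
  have hind : LinearIndependent F ![e, f] := by
    rw [LinearIndependent.pair_iff]
    intro s t hst
    have h1 : t = 0 := by
      simpa [polar_add_right, polar_smul_right, polar_self, hQe, hef] using congrArg (polar Q e) hst
    refine ⟨?_, h1⟩
    rw [h1, zero_smul, add_zero] at hst
    exact (smul_eq_zero.1 hst).resolve_right he0
  have hspan : Submodule.span F (Set.range ![e, f]) = X := Submodule.eq_of_le_of_finrank_le
    (Submodule.span_le.2 (by rintro _ ⟨i, rfl⟩; fin_cases i <;> assumption))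
    (by rw [finrank_span_eq_card hind, hd, Fintype.card_fin])
  refine ⟨e, he, f, hf, he0, hQe, hQf, hef, fun v hv => ?_⟩
  rw [← hspan, Submodule.mem_span_range_iff_exists_fun] at hv
  obtain ⟨c, rfl⟩ := hv
  exact ⟨c 0, c 1, by simp⟩

/-- The vectors of value one in a plus plane over `F₂` or `F₄`. -/
theorem plane_small (hq : Nat.card F = 2 ∨ Nat.card F = 4) {X : Submodule F V} (hX : ND Q X)
    (hd : Module.finrank F X = 2) (hpl : ∃ z ∈ X, z ≠ 0 ∧ Q z = 0) :
    (∃ u ∈ X, ∃ e ∈ X, e ≠ 0 ∧ Q e = 0 ∧ Q u = 1 ∧ polar Q u e ≠ 0) ∧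
      ∀ x ∈ X, ∀ y ∈ X, Q x = 1 → Q y = 1 →
        polar Q x y = 0 ∨ (Nat.card F = 4 ∧ polar Q x y = 1) := by
  obtain ⟨e, he, f, hf, he0, hQe, hQf, hef, hgen⟩ := exists_hyp_pair hX hd hpl
  haveI := Fintype.ofFinite F
  have h2 : (2 : F) = 0 := by
    have := FiniteField.cast_card_eq_zero F
    rw [← Nat.card_eq_fintype_card] at this
    rcases hq with h | h <;> rw [h] at this
    · exact_mod_cast this
    · have h4 : (2 : F) * 2 = 0 := by norm_num; exact_mod_cast this
      exact (mul_self_eq_zero).1 h4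
  refine ⟨⟨e + f, X.add_mem he hf, e, he, he0, hQe, by rw [quad_add, hQe, hQf, hef]; simp, ?_⟩, ?_⟩
  · rw [polar_add_left, polar_self, hQe, polar_comm (⇑Q) f e, hef]; simp
  · intro x hx y hy hQx hQy
    obtain ⟨a, b, rfl⟩ := hgen x hx
    obtain ⟨c, d, rfl⟩ := hgen y hy
    have hQ2 : ∀ x y : F, Q (x • e + y • f) = x * y := fun x y => by
      rw [quad_add, quad_smul, quad_smul, hQe, hQf, polar_smul_left, polar_smul_right, hef]; simp
    rw [hQ2] at hQx hQy
    have hp : polar Q (a • e + b • f) (c • e + d • f) = a * d + b * c := by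
      simp only [polar_add_left, polar_add_right, polar_smul_left, polar_smul_right, polar_self,
        hQe, hQf, hef, polar_comm (⇑Q) f e, smul_eq_mul, smul_zero, mul_zero, mul_one, zero_add,
        add_zero]
      ring
    rw [hp]
    set z := a * d
    have hz : z * (b * c) = 1 := by linear_combination c * d * hQx + hQy
    have hz0 : z ≠ 0 := left_ne_zero_of_mul_eq_one hz
    have h4 := FiniteField.pow_card_sub_one_eq_one z hz0
    rw [← Nat.card_eq_fintype_card] at h4
    rcases hq with h | h <;> rw [h] at h4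
    · left
      have hz1 : z = 1 := by simpa using h4
      rw [hz1, one_mul] at hz
      rw [hz1, hz]; linear_combination h2
    · have hb : b * c = z ^ 2 := by
        have h5 : z ^ 3 = 1 := h4
        linear_combination z ^ 2 * hz - b * c * h5
      rw [hb]
      rcases eq_or_ne z 1 with hz1 | hz1
      · left; rw [hz1]; linear_combination h2
      · right
        refine ⟨h, ?_⟩
        have h5 : (z - 1) * (z ^ 2 + z + 1) = 0 := by
          have h5 : z ^ 3 = 1 := h4
          linear_combination h5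
        have h6 := (mul_eq_zero.1 h5).resolve_left (sub_ne_zero.2 hz1)
        linear_combination h6 - h2

/-- The six non-singular vectors of a four-dimensional plus space over `F₂`. -/
theorem four_two_basis (hF : ∀ a : F, a = 0 ∨ a = 1) (hQ : (polarBilin Q).Nondegenerate)
    {X : Submodule F V} (hX : ND Q X) (hd : Module.finrank F X = 4)
    (hpl : ∃ U : Submodule F V, U ≤ X ∧ (∀ z ∈ U, Q z = 0) ∧ Module.finrank F U = 2) :
    ∃ u v u₂ v₂ : V, u ∈ X ∧ v ∈ X ∧ u₂ ∈ X ∧ v₂ ∈ X ∧ Q u = 1 ∧ Q v = 1 ∧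
      Q u₂ = 1 ∧ Q v₂ = 1 ∧ polar Q u v = 1 ∧ polar Q u₂ v₂ = 1 ∧ polar Q u u₂ = 0 ∧
      polar Q u v₂ = 0 ∧ polar Q v u₂ = 0 ∧ polar Q v v₂ = 0 ∧
      ∀ x ∈ X, Q x = 1 → x ∈ ({u, v, u + v, u₂, v₂, u₂ + v₂} : Set V) := by
  have h2 : (2 : F) = 0 :=
    (hF 2).resolve_right fun h => one_ne_zero (α := F) (by linear_combination h)
  haveI : CharP F 2 := CharTwo.of_one_ne_zero_of_two_eq_zero one_ne_zero h2
  obtain ⟨U, hUX, hU, hUd⟩ := hpl
  obtain ⟨e1, he1, he10⟩ := Submodule.exists_mem_ne_zero_of_ne_bot (p := U) fun h => by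
    rw [h, finrank_bot] at hUd; omega
  obtain ⟨f1', hf1', qf1', p11'⟩ := ND.singular_partner hX (hUX he1) he10 (hU e1 he1)
  have p11 : polar Q e1 f1' = 1 := (hF _).resolve_left p11'
  obtain ⟨e2', he2', he2s⟩ : ∃ e ∈ U, e ∉ Submodule.span F {e1} := by
    by_contra hc
    push Not at hc
    have h1 := Submodule.finrank_mono (show U ≤ Submodule.span F {e1} from hc)
    have : Module.finrank F (Submodule.span F {e1}) = 1 := finrank_span_singleton he10
    omega
  set e2 := e2' - polar Q e2' f1' • e1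
  have he2 : e2 ∈ U := U.sub_mem he2' (U.smul_mem _ he1)
  have p2f : polar Q e2 f1' = 0 := by
    rw [polar_sub_left, polar_smul_left, p11, smul_eq_mul, mul_one, sub_self]
  have he20 : e2 ≠ 0 := fun h =>
    he2s (Submodule.mem_span_singleton.2 ⟨_, (sub_eq_zero.1 h).symm⟩)
  obtain ⟨w, hw, hw2⟩ := ND.partner hX (hUX he2) he20
  have hUp : ∀ {a b : V}, a ∈ U → b ∈ U → polar Q a b = 0 :=
    fun ha hb => polar_eq_zero_of_singular hU ha hb
  set w' := w - polar Q w f1' • e1 - polar Q w e1 • f1'
  have q1 := hU e1 he1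
  have q2 := hU e2 he2
  have pe1f : polar Q e1 w' = 0 := by
    simp only [w', polar_sub_right, polar_smul_right, polar_self, q1, p11, polar_comm (⇑Q) e1 w,
      smul_zero, sub_zero, smul_eq_mul, mul_one, mul_zero, sub_self]
  have pf1w : polar Q f1' w' = 0 := by
    simp only [w', polar_sub_right, polar_smul_right, polar_self, qf1', polar_comm (⇑Q) f1' e1, p11,
      polar_comm (⇑Q) f1' w, smul_zero, sub_zero, smul_eq_mul, mul_one, mul_zero, sub_self]
  have pe2w : polar Q e2 w' = 1 := by
    refine (hF _).resolve_left ?_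
    simp only [w', polar_sub_right, polar_smul_right, hUp he2 he1, p2f, smul_zero, sub_zero]
    exact hw2
  set f2 := w' - Q w' • e2
  have qf2 : Q f2 = 0 := by
    simp only [f2, sub_eq_add_neg, ← neg_smul, quad_add, quad_smul, q2, polar_smul_right,
      polar_comm (⇑Q) w' e2, pe2w, smul_eq_mul]
    ring
  have hX' : ∀ {a b c d : F}, a • e1 + b • f1' + c • e2 + d • f2 ∈ X :=
    X.add_mem (X.add_mem (X.add_mem (X.smul_mem _ (hUX he1)) (X.smul_mem _ hf1'))
      (X.smul_mem _ (hUX he2))) (X.smul_mem _ (X.sub_mem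
        (X.sub_mem (X.sub_mem hw (X.smul_mem _ (hUX he1))) (X.smul_mem _ hf1'))
        (X.smul_mem _ (hUX he2))))
  have p12 : polar Q e1 e2 = 0 := hUp he1 he2
  have pe1f2 : polar Q e1 f2 = 0 := by
    simp only [f2, polar_sub_right, polar_smul_right, pe1f, p12, smul_zero, sub_zero]
  have pf1f2 : polar Q f1' f2 = 0 := by
    simp only [f2, polar_sub_right, polar_smul_right, pf1w, polar_comm (⇑Q) f1' e2, p2f, smul_zero,
      sub_zero]
  have pe2f2 : polar Q e2 f2 = 1 := by
    simp only [f2, polar_sub_right, polar_smul_right, pe2w, polar_self, q2, smul_zero, sub_zero]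
  have hP : ∀ a b c d a' b' c' d' : F,
      polar Q (a • e1 + b • f1' + c • e2 + d • f2) (a' • e1 + b' • f1' + c' • e2 + d' • f2) =
        a * b' + b * a' + c * d' + d * c' := fun a b c d a' b' c' d' => by
    simp only [polar_add_left, polar_add_right, polar_smul_left, polar_smul_right, polar_self, q1,
      q2, qf1', qf2, p11, p12, pe1f2, pf1f2, pe2f2, polar_comm (⇑Q) f1' e1, polar_comm (⇑Q) e2 e1,
      p2f, polar_comm (⇑Q) f1' e2, polar_comm (⇑Q) f2 e1, polar_comm (⇑Q) f2 f1',
      polar_comm (⇑Q) f2 e2, smul_eq_mul, smul_zero, mul_zero, mul_one, zero_add, add_zero]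
    ring
  have hQs : ∀ a b c d : F, Q (a • e1 + b • f1' + c • e2 + d • f2) = a * b + c * d := by
    intro a b c d
    simp only [quad_add, quad_smul, polar_add_left, polar_smul_left, polar_smul_right, q1, q2, qf1',
      qf2, p11, p12, pe1f2, pf1f2, pe2f2, polar_comm (⇑Q) f1' e2, p2f, smul_eq_mul, smul_zero,
      mul_zero, mul_one, zero_add, add_zero]
    ring
  clear_value f2
  clear_value w'
  clear_value e2
  refine ⟨(1 : F) • e1 + (1 : F) • f1' + (0 : F) • e2 + (0 : F) • f2,
    (1 : F) • e1 + (0 : F) • f1' + (1 : F) • e2 + (1 : F) • f2,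
    (0 : F) • e1 + (0 : F) • f1' + (1 : F) • e2 + (1 : F) • f2,
    (1 : F) • e1 + (1 : F) • f1' + (1 : F) • e2 + (0 : F) • f2,
    hX', hX', hX', hX', by rw [hQs]; simp, by rw [hQs]; simp, by rw [hQs]; simp, by rw [hQs]; simp,
    by rw [hP]; simp, by rw [hP]; simp, by rw [hP]; simp, ?_, ?_, ?_, fun x hx hQx => ?_⟩
  · rw [hP]; simp [CharTwo.add_self_eq_zero]
  · rw [hP]; simp [CharTwo.add_self_eq_zero]
  · rw [hP]; simp [CharTwo.add_self_eq_zero]
  have hspan : X ≤ Submodule.span F (Set.range ![e1, f1', e2, f2]) := by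
    refine (Submodule.eq_of_le_of_finrank_le (Submodule.span_le.2 ?_) ?_).ge
    · rintro _ ⟨i, rfl⟩
      fin_cases i
      · simpa using hX' (a := 1) (b := 0) (c := 0) (d := 0)
      · simpa using hX' (a := 0) (b := 1) (c := 0) (d := 0)
      · simpa using hX' (a := 0) (b := 0) (c := 1) (d := 0)
      · simpa using hX' (a := 0) (b := 0) (c := 0) (d := 1)
    · rw [finrank_span_eq_card ?_, hd, Fintype.card_fin]
      refine Fintype.linearIndependent_iff.2 fun g hg => ?_
      simp only [Fin.sum_univ_four, Matrix.cons_val] at hg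
      have k1 := congrArg (polar Q e1) hg
      have k2 := congrArg (polar Q f1') hg
      have k3 := congrArg (polar Q e2) hg
      have k4 := congrArg (polar Q f2) hg
      simp [polar_add_right, polar_smul_right, polar_self, q1, q2, qf1', qf2, p11, p12, pe1f2,
        pf1f2, pe2f2, polar_comm (⇑Q) f1' e1, polar_comm (⇑Q) e2 e1, p2f, polar_comm (⇑Q) f1' e2,
        polar_comm (⇑Q) f2 e1, polar_comm (⇑Q) f2 f1', polar_comm (⇑Q) f2 e2] at k1 k2 k3 k4
      intro i
      fin_cases i <;> assumption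
  have hx' := hspan hx
  rw [Submodule.mem_span_range_iff_exists_fun] at hx'
  obtain ⟨g, rfl⟩ := hx'
  simp only [Fin.sum_univ_four, Matrix.cons_val] at hQx ⊢
  rw [hQs] at hQx
  have hv2 : ∀ z : V, z + z = 0 := fun z => by rw [← two_smul F z, h2, zero_smul]
  rcases hF (g 0) with h0 | h0 <;> rcases hF (g 1) with h1 | h1 <;> rcases hF (g 2) with h3 | h3 <;>
    rcases hF (g 3) with h4 | h4 <;> rw [h0, h1, h3, h4] at hQx ⊢ <;>
    simp only [zero_mul, mul_zero, mul_one, one_mul, add_zero, zero_add, CharTwo.add_self_eq_zero,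
      zero_ne_one, one_ne_zero] at hQx ⊢ <;>
    simp only [Set.mem_insert_iff, Set.mem_singleton_iff, zero_smul, one_smul, zero_add, add_zero]
  all_goals
    first
      | (left; trivial)
      | (right; left; trivial)
      | (right; right; right; left; trivial)
      | (right; right; right; right; left; trivial)
      | (right; right; left
         rw [show e1 + f1' + (e1 + e2 + f2) = (e1 + e1) + (f1' + e2 + f2) by abel, hv2, zero_add]
         done)
      | (right; right; right; right; right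
         rw [show e2 + f2 + (e1 + f1' + e2) = (e2 + e2) + (e1 + f1' + f2) by abel, hv2, zero_add]
         done)

end CfsgLib.Geo.OS
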