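import Cfsg.Agent.Geo.OrthFrameCases
import Cfsg.Agent.Geo.OrthCharTwoCases

/-!
The non-maximal orthogonal decomposition stabilisers, in the statements' terms.
-/

set_option autoImplicit false
set_option linter.unusedSectionVars false

namespace CfsgLib.Geo.OS

open QuadraticMap CfsgLib.Forms CfsgLib.Quad

variable {F : Type*} [Field F] [Finite F] {ι : Type} [Fintype ι] [DecidableEq ι]
  {Q : QuadraticForm F (ι → F)} (hQ : (polarBilin Q).Nondegenerate)
  (hn : 9 ≤ Module.finrank F (ι → F))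

theorem mem_of_orthogonalMDecomposition {t k : ℕ} {D : Fin t → Submodule F (ι → F)}
    (hD : Cfsg.Geo.IsOrthogonalMDecomposition ⇑Q k D) : Mem Q D ∧ ∀ i, ND Q (D i) :=
  ⟨⟨fun i j hij => disjoint_iff.1 (hD.decomp.decomp.indep.pairwiseDisjoint hij),
    hD.decomp.orthogonal, hD.isometric⟩,
    fun i => nd_of_isNondegenerateOn (hD.decomp.nondegenerate i)⟩

include hQ hn

/-- Odd characteristic: members of dimension three over `F₃`, of dimension two over `F₃`, or plus
planes over `F₅`. -/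
theorem odd_decomp_nonmax {t k : ℕ} (ht : 3 ≤ t) {D : Fin t → Submodule F (ι → F)}
    (hD : Cfsg.Geo.IsOrthogonalMDecomposition ⇑Q k D)
    (hcase : (Nat.card F = 3 ∧ (k = 2 ∨ k = 3)) ∨
      (Nat.card F = 5 ∧ k = 2 ∧ ∀ i, Cfsg.Geo.IsPlusTypeOn ⇑Q (D i))) :
    ∃ K : Subgroup (GL ι F), Cfsg.Geo.decompositionStabilizer D ⊓ Cfsg.Geo.omegaGL ⇑Q < K ∧
      K < Cfsg.Geo.omegaGL ⇑Q := by
  obtain ⟨hM, hnd⟩ := mem_of_orthogonalMDecomposition hD
  have hdim := hD.decomp.decomp.finrank_eq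
  set i₀ : Fin t := ⟨0, by omega⟩
  obtain ⟨h2, hfr⟩ : (2 : F) ≠ 0 ∧ HasFrame Q (D i₀) := by
    rcases hcase with ⟨hq, rfl | rfl⟩ | ⟨hq, rfl, hpl⟩
    · exact ⟨(field_three hq).1, hasFrame_plane_three hq (hnd i₀) (hdim i₀)⟩
    · exact ⟨(field_three hq).1, hasFrame_three hq (hnd i₀) (hdim i₀)⟩
    · haveI := Fintype.ofFinite F
      refine ⟨fun h => ?_, hasFrame_plane_five hq (hnd i₀) (hdim i₀) ?_⟩
      · have h5 := FiniteField.cast_card_eq_zero F
        rw [← Nat.card_eq_fintype_card, hq] at h5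
        refine one_ne_zero (α := F) ?_
        have h5' : (5 : F) = 0 := by exact_mod_cast h5
        linear_combination h5' - 2 * h
      · obtain ⟨U, hUW, hU, hUd⟩ := hpl i₀
        obtain ⟨z, hz, hz0⟩ := Submodule.exists_mem_ne_zero_of_ne_bot (p := U) fun h => by
          rw [h, finrank_bot, hdim] at hUd; omega
        exact ⟨z, hUW hz, hz0, hU z hz⟩
  obtain ⟨c, hc, a, ha, b, hb, hQa, hQb, hab, hall⟩ := hfr
  exact frame_nonmax hQ (by omega) h2 ht hM hc ha hb hQa hQb hab hall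

/-- Characteristic two: plus planes over `F₂` and `F₄`, plus four-spaces over `F₂`. -/
theorem even_decomp_nonmax {t k : ℕ} {D : Fin t → Submodule F (ι → F)}
    (hD : Cfsg.Geo.IsOrthogonalMDecomposition ⇑Q k D)
    (hpl : ∀ i, Cfsg.Geo.IsPlusTypeOn ⇑Q (D i))
    (hcase : (4 ≤ t ∧ k = 2 ∧ (Nat.card F = 2 ∨ Nat.card F = 4)) ∨ (k = 4 ∧ Nat.card F = 2)) :
    ∃ K : Subgroup (GL ι F), Cfsg.Geo.decompositionStabilizer D ⊓ Cfsg.Geo.omegaGL ⇑Q < K ∧
      K < Cfsg.Geo.omegaGL ⇑Q := by
  haveI := Fintype.ofFinite F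
  obtain ⟨hM, hnd⟩ := mem_of_orthogonalMDecomposition hD
  have hdim := hD.decomp.decomp.finrank_eq
  rcases hcase with ⟨ht, rfl, hq⟩ | ⟨rfl, hq⟩
  · have hsing : ∀ i, ∃ z ∈ D i, z ≠ 0 ∧ Q z = 0 := fun i => by
      obtain ⟨U, hUW, hU, hUd⟩ := hpl i
      obtain ⟨z, hz, hz0⟩ := Submodule.exists_mem_ne_zero_of_ne_bot (p := U) fun h => by
        rw [h, finrank_bot, hdim] at hUd; omega
      exact ⟨z, hUW hz, hz0, hU z hz⟩
    have h2 : (2 : F) = 0 := by
      have := FiniteField.cast_card_eq_zero F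
      rw [← Nat.card_eq_fintype_card] at this
      rcases hq with h | h <;> rw [h] at this
      · exact_mod_cast this
      · have h4 : (2 : F) * 2 = 0 := by norm_num; exact_mod_cast this
        exact (mul_self_eq_zero).1 h4
    haveI : CharP F 2 := CharTwo.of_one_ne_zero_of_two_eq_zero one_ne_zero h2
    have hplane := fun i => plane_small hq (hnd i) (hdim i) (hsing i)
    refine planes_nonmax hQ hn h2 ht hM hnd hdim (fun i => (hplane i).1)
      (fun a => a = 0 ∨ (Nat.card F = 4 ∧ a = 1)) (Or.inl rfl) ?_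
      (fun a ha => ha.imp id And.right) ?_ (fun i x hx y hy h h' => (hplane i).2 x hx y hy h h')
    · rintro a b (rfl | ⟨h, rfl⟩) (rfl | ⟨h', rfl⟩)
      · exact Or.inl (add_zero _)
      · exact Or.inr ⟨h', zero_add _⟩
      · exact Or.inr ⟨h, add_zero _⟩
      · exact Or.inl (CharTwo.add_self_eq_zero _)
    · by_contra hc
      push Not at hc
      rcases hq with h | h
      · rcases hc 1 with h1 | ⟨h1, -⟩
        · exact one_ne_zero h1
        · omega
      · have hle : Nat.card F ≤ 2 := by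
          classical
          rw [Nat.card_eq_fintype_card, ← Finset.card_univ]
          refine le_trans (Finset.card_le_card (t := {0, 1}) fun x _ => ?_) Finset.card_le_two
          rcases hc x with rfl | ⟨-, rfl⟩ <;> simp
        omega
  · have hF : ∀ a : F, a = 0 ∨ a = 1 := fun a => by
      rcases eq_or_ne a 0 with h | h
      · exact Or.inl h
      · right
        have h1 := FiniteField.pow_card_sub_one_eq_one a h
        rw [← Nat.card_eq_fintype_card, hq] at h1
        simpa using h1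
    refine four_two_nonmax hQ hn hF hD.decomp.decomp.two_le hM fun i => ?_
    obtain ⟨U, hUW, hU, hUd⟩ := hpl i
    exact four_two_basis hF hQ (hnd i) (hdim i) ⟨U, hUW, hU, by rw [hdim] at hUd; omega⟩

end CfsgLib.Geo.OS
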