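/-
In odd characteristic the stabiliser of a pair of complementary totally singular halves is maximal in Sp.
-/
import Cfsg.Agent.Geo.SympTv

set_option autoImplicit false

namespace CfsgLib.Geo

open Matrix Cfsg Cfsg.Geo

section decomposition

variable {ι : Type} [Fintype ι] [DecidableEq ι] {F : Type*} [Field F]

/-- Mapping the members of a decomposition into one another is enough. -/
lemma mem_decompositionStabilizer_of {t k : ℕ} {D : Fin t → Submodule F (ι → F)} (hD : IsMDecomposition k D)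
    {g : GL ι F} (σ : Equiv.Perm (Fin t)) (h : ∀ i, ∀ v ∈ D i, (g : Matrix ι ι F) *ᵥ v ∈ D (σ i)) :
    g ∈ decompositionStabilizer D := by
  refine ⟨σ, fun i => ?_⟩
  have heq : Matrix.toLin' (g : Matrix ι ι F) = (glEquiv g).toLinearMap :=
    LinearMap.ext fun v => by simp
  rw [heq]
  refine Submodule.eq_of_le_of_finrank_le ?_ ?_
  · rintro _ ⟨v, hv, rfl⟩
    simpa using h i v hv
  · rw [LinearEquiv.finrank_map_eq, hD.finrank_eq, hD.finrank_eq]

/-- An element of a decomposition stabiliser maps members into members. -/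
lemma exists_perm_of_mem {t : ℕ} {D : Fin t → Submodule F (ι → F)} {g : GL ι F}
    (hg : g ∈ decompositionStabilizer D) :
    ∃ σ : Equiv.Perm (Fin t), ∀ i, ∀ v ∈ D i, (g : Matrix ι ι F) *ᵥ v ∈ D (σ i) := by
  obtain ⟨σ, hσ⟩ := hg
  refine ⟨σ, fun i v hv => ?_⟩
  rw [← hσ i]
  exact ⟨v, hv, Matrix.toLin'_apply _ _⟩

end decomposition

namespace SpTv

open CfsgLib.Symp

variable {m : ℕ} {F : Type*} [Field F] {M : Subgroup (GL (Fin m ⊕ Fin m) F)}

local notation "E" => Fin m ⊕ Fin m → F

/-- The map `x ↦ x + f(x,a) b + f(x,b) a` for orthogonal `a`, `b`. -/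
noncomputable def stv2 (a b : Fin m ⊕ Fin m → F) : GL (Fin m ⊕ Fin m) F :=
  stv (a + b) 1 * stv a (-1) * stv b (-1)

lemma stv2_mem (a b : E) : stv2 a b ∈ spGL m F :=
  (spGL m F).mul_mem ((spGL m F).mul_mem (stv_mem _ _) (stv_mem _ _)) (stv_mem _ _)

lemma stv2_mulVec {a b : E} (hab : form a b = 0) (x : E) :
    (stv2 a b : Matrix _ _ F) *ᵥ x = x + form x a • b + form x b • a := by
  have hba : form b a = 0 := by rw [form_swap, hab, neg_zero]
  simp only [stv2, mul_mulVec, stv_mulVec, form_add_right, form_add_left, form_smul_left, form_self,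
    hab, hba, mul_zero, add_zero, one_mul]
  module

lemma stv2_comm {a b : E} (hab : form a b = 0) : stv2 a b = stv2 b a := by
  have hba : form b a = 0 := by rw [form_swap, hab, neg_zero]
  refine gl_ext_mulVec fun x => ?_
  rw [stv2_mulVec hab, stv2_mulVec hba]
  abel

lemma stv2_conj {g : GL (Fin m ⊕ Fin m) F} (hg : g ∈ spGL m F) (a b : E) :
    g * stv2 a b * g⁻¹ = stv2 ((g : Matrix _ _ F) *ᵥ a) ((g : Matrix _ _ F) *ᵥ b) := by
  rw [stv2, stv2, ← Matrix.mulVec_add, ← stv_conj hg, ← stv_conj hg, ← stv_conj hg]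
  group

variable {W U : Submodule F (Fin m ⊕ Fin m → F)}

/-- Data of two complementary totally singular halves. -/
structure LagPair (W U : Submodule F (Fin m ⊕ Fin m → F)) : Prop where
  singW : ∀ x ∈ W, ∀ y ∈ W, form x y = 0
  singU : ∀ x ∈ U, ∀ y ∈ U, form x y = 0
  split : ∀ x, ∃ w ∈ W, ∃ u ∈ U, x = w + u
  disj : ∀ x ∈ W, x ∈ U → x = 0
  dimW : Module.finrank F W = m
  dimU : Module.finrank F U = m

lemma LagPair.symm (h : LagPair W U) : LagPair U W where
  singW := h.singU
  singU := h.singW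
  split x := by obtain ⟨w, hw, u, hu, e⟩ := h.split x; exact ⟨u, hu, w, hw, by rw [e, add_comm]⟩
  disj x hx hx' := h.disj x hx' hx
  dimW := h.dimU
  dimU := h.dimW

lemma LagPair.mem_of_perp (h : LagPair W U) {x : E} (hx : x ∈ perp W) : x ∈ W := by
  obtain ⟨w, hw, u, hu, rfl⟩ := h.split x
  suffices u = 0 by rw [this, add_zero]; exact hw
  refine eq_zero_of_form_eq_zero fun y => ?_
  obtain ⟨w', hw', u', hu', rfl⟩ := h.split y
  rw [form_add_left, h.singU u' hu' u hu, add_zero]
  have := hx w' hw'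
  rwa [form_add_right, h.singW w' hw' w hw, zero_add] at this

/-- Duality between the halves. -/
lemma LagPair.exists_dual (h : LagPair W U) (S : Submodule F E) (hS : S ≤ U) {y : E} (hy : y ∈ U)
    (hyS : y ∉ S) : ∃ p ∈ W, (∀ s ∈ S, form s p = 0) ∧ form y p = 1 := by
  obtain ⟨p, hp, hyp⟩ := exists_form_of_notMem (S ⊔ W) (u := y) (fun hc => by
    obtain ⟨s, hs, w, hw, e⟩ := Submodule.mem_sup.1 hc
    have hwU : w ∈ U := by
      have := U.sub_mem hy (hS hs)
      rwa [← e, add_sub_cancel_left] at this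
    exact hyS (by rw [← e, h.disj w hw hwU, add_zero]; exact hs))
  exact ⟨p, h.mem_of_perp fun w hw => hp w (Submodule.mem_sup_right hw),
    fun s hs => hp s (Submodule.mem_sup_left hs), hyp⟩

/-- A mixed root element produces a full centre. -/
lemma LagPair.exists_full (h : LagPair W U) (hm : 3 ≤ m) (hMI : M ≤ spGL m F)
    (hX : ∀ x ∈ W, ∀ y ∈ U, form x y = 0 → stv2 x y ∈ M)
    (hX2 : (2 : F) ≠ 0) {a' b' w0 u0 wb ub : E} (hw0 : w0 ∈ W) (hu0 : u0 ∈ U) (hwb : wb ∈ W) (hub : ub ∈ U)
    (ea : a' = w0 + u0) (eb : b' = wb + ub) (hu00 : u0 ≠ 0) (hab : form a' b' = 0) (ht : stv2 a' b' ∈ M)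
    (hindep : ub ∉ F ∙ u0) : ∃ y ∈ U, y ≠ 0 ∧ Full M y := by
  obtain ⟨x, hxW, hxu, hxb⟩ := h.exists_dual (F ∙ u0) ((Submodule.span_singleton_le_iff_mem _ _).2 hu0)
    hub hindep
  have hxa : form a' x = 0 := by
    rw [ea, form_add_left, h.singW w0 hw0 x hxW, hxu u0 (Submodule.mem_span_singleton_self u0), add_zero]
  have hbx : form b' x = 1 := by rw [eb, form_add_left, h.singW wb hwb x hxW, hxb, zero_add]
  have hform : ∀ y ∈ U, form a' y = form w0 y := fun y hy => by
    rw [ea, form_add_left, h.singU u0 hu0 y hy, add_zero]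
  obtain ⟨y, hyU, hy0, hxy, hay⟩ : ∃ y ∈ U, y ≠ 0 ∧ form x y = 0 ∧ form a' y = 0 := by
    let L : U →ₗ[F] F × F :=
      { toFun := fun y => (form x (y : E), form a' (y : E))
        map_add' := fun y z => Prod.ext (form_add_right x (y : E) (z : E)) (form_add_right a' (y : E) (z : E))
        map_smul' := fun c y => Prod.ext (form_smul_right c x (y : E)) (form_smul_right c a' (y : E)) }
    obtain ⟨y, hy, hy0⟩ : ∃ y ∈ LinearMap.ker L, y ≠ 0 := (Submodule.ne_bot_iff _).1 fun e => by
      have h1 := L.finrank_range_add_finrank_ker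
      have h2 := Submodule.finrank_le (LinearMap.range L)
      rw [Module.finrank_prod, Module.finrank_self] at h2
      rw [e, finrank_bot, h.dimU] at h1
      omega
    exact ⟨y, y.2, fun e => hy0 (Subtype.ext e), congrArg Prod.fst (LinearMap.mem_ker.1 hy),
      congrArg Prod.snd (LinearMap.mem_ker.1 hy)⟩
  -- the conjugate moved by `δ`
  set d := form b' y with hd
  have hconj : ∀ μ : F, stv2 a' (b' + μ • (y + d • x)) ∈ M := by
    intro μ
    have hxy' : form x (μ • y) = 0 := by rw [form_smul_right, hxy, mul_zero]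
    have hgM := hX x hxW (μ • y) (U.smul_mem μ hyU) hxy'
    have h1 := M.mul_mem (M.mul_mem hgM ht) (M.inv_mem hgM)
    rw [stv2_conj (stv2_mem _ _), stv2_mulVec hxy', stv2_mulVec hxy', hxa, hbx, form_smul_right, hay,
      form_smul_right, ← hd] at h1
    simp only [mul_zero, zero_smul, add_zero, one_smul] at h1
    rwa [show b' + μ • (y + d • x) = b' + μ • y + (μ * d) • x by module]
  -- a pure centre from a full mixed one
  obtain ⟨y2, hy2U, hy2u, hay2⟩ : ∃ y2 ∈ U, y2 ∉ F ∙ u0 ∧ form a' y2 = 0 := by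
    by_contra hcon
    push Not at hcon
    let L : U →ₗ[F] F :=
      { toFun := fun y => form a' (y : E)
        map_add' := fun y z => form_add_right a' (y : E) (z : E)
        map_smul' := fun c y => form_smul_right c a' (y : E) }
    have hker : (LinearMap.ker L).map U.subtype ≤ F ∙ u0 := by
      rintro _ ⟨z, hz, rfl⟩
      by_contra hne
      exact hcon z z.2 hne (LinearMap.mem_ker.1 hz)
    have h1 := L.finrank_range_add_finrank_ker
    have h2 := Submodule.finrank_le (LinearMap.range L)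
    have h3 := Submodule.finrank_mono hker
    rw [Submodule.finrank_map_subtype_eq, finrank_span_singleton hu00] at h3
    rw [Module.finrank_self] at h2
    rw [h.dimU] at h1
    omega
  have hy20 : y2 ≠ 0 := fun e => hy2u (e ▸ Submodule.zero_mem _)
  have hu0y2 : u0 ∉ F ∙ y2 := fun hc => by
    obtain ⟨r, hr⟩ := Submodule.mem_span_singleton.1 hc
    have hr0 : r ≠ 0 := by rintro rfl; exact hu00 (by rw [← hr, zero_smul])
    exact hy2u ((Submodule.smul_mem_iff _ hr0).1 (by rw [hr]; exact Submodule.mem_span_singleton_self u0))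
  by_cases hd0 : d = 0
  swap
  · -- the mixed centre is full
    have hba : form b' a' = 0 := by rw [form_swap, hab, neg_zero]
    have hfullA : Full M a' := by
      intro c
      set μ := -c / (4 * d)
      set b'' := b' + μ • (y + d • x)
      have hab'' : form a' b'' = 0 := by
        simp only [b'', form_add_right, form_smul_right, hab, hxa, hay, mul_zero, add_zero]
      have hb''a : form b'' a' = 0 := by rw [form_swap, hab'', neg_zero]
      have hbb : form b' b'' = μ * (2 * d) := by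
        simp only [b'', form_add_right, form_smul_right, form_self, hbx, ← hd]
        ring
      have hb''b : form b'' b' = -(μ * (2 * d)) := by rw [form_swap, hbb]
      have h1 := M.mul_mem (M.mul_mem ht (hconj μ)) (M.inv_mem (M.mul_mem (hconj μ) ht))
      suffices stv2 a' b' * stv2 a' b'' * (stv2 a' b'' * stv2 a' b')⁻¹ = stv a' c by rwa [this] at h1
      rw [mul_inv_eq_iff_eq_mul]
      refine gl_ext_mulVec fun z => ?_
      have h4 : (4 : F) ≠ 0 := by
        rw [show (4 : F) = 2 * 2 by norm_num]; exact mul_ne_zero hX2 hX2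
      have hc : c = -(μ * (2 * d)) * 2 := by
        simp only [μ]; field_simp; ring
      simp only [mul_mulVec, stv2_mulVec hab, stv2_mulVec hab'', stv_mulVec, form_add_left, form_smul_left,
        form_self, hab, hba, hab'', hb''a, hbb, hb''b, mul_zero, add_zero]
      rw [hc]
      module
    obtain ⟨p, hpW, hpS, hpu⟩ := h.exists_dual (F ∙ y2) ((Submodule.span_singleton_le_iff_mem _ _).2 hy2U) hu0 hu0y2
    have hap : form a' p = 1 := by rw [ea, form_add_left, h.singW w0 hw0 p hpW, hpu, zero_add]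
    have hmove : ∀ s : F, Full M (a' + s • y2) := by
      intro s
      have hps : form p (s • y2) = 0 := by
        rw [form_smul_right, form_swap, hpS y2 (Submodule.mem_span_singleton_self y2), neg_zero, mul_zero]
      have h1 := full_conj hMI hfullA (hX p hpW (s • y2) (U.smul_mem s hy2U) hps)
      rwa [stv2_mulVec hps, hap, form_smul_right, hay2, one_smul, mul_zero, zero_smul, add_zero] at h1
    refine ⟨y2, hy2U, hy20, fun c => ?_⟩
    have h1 := M.mul_mem (M.mul_mem (hmove 1 (c / 2)) (hmove (-1) (c / 2))) (hfullA (-c))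
    suffices stv (a' + (1 : F) • y2) (c / 2) * stv (a' + (-1 : F) • y2) (c / 2) * stv a' (-c) = stv y2 c by
      rwa [this] at h1
    refine gl_ext_mulVec fun z => ?_
    have hy2a : form y2 a' = 0 := by rw [form_swap, hay2, neg_zero]
    simp only [mul_mulVec, stv_mulVec, form_add_left, form_add_right, form_smul_left, form_smul_right,
      form_self, hay2, hy2a, mul_zero, add_zero]
    match_scalars <;> field_simp <;> ring
  -- a mixed root element with a pure second centre
  have hpure : ∀ μ : F, stv2 a' (μ • y) ∈ M := by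
    intro μ
    have h1 := M.mul_mem (hconj μ) (M.inv_mem ht)
    suffices stv2 a' (b' + μ • (y + d • x)) * (stv2 a' b')⁻¹ = stv2 a' (μ • y) by rwa [this] at h1
    rw [mul_inv_eq_iff_eq_mul]
    refine gl_ext_mulVec fun z => ?_
    have hya : form a' (μ • y) = 0 := by rw [form_smul_right, hay, mul_zero]
    rw [hd0, zero_smul, add_zero, mul_mulVec, stv2_mulVec hab, stv2_mulVec hya,
      stv2_mulVec (show form a' (b' + μ • y) = 0 by rw [form_add_right, hab, hya, add_zero])]
    simp only [form_add_left, form_smul_left, form_add_right, form_smul_right, form_self, hya, hay,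
      form_swap b' a', hab, ← hd, hd0, neg_zero, mul_zero, add_zero]
    module
  by_cases hyu : y ∈ F ∙ u0
  · -- already a pure transvection
    obtain ⟨r, hr⟩ := Submodule.mem_span_singleton.1 hyu
    have hr0 : r ≠ 0 := by rintro rfl; exact hy0 (by rw [← hr, zero_smul])
    have hw0u : form w0 u0 = 0 := by
      have h1 := hay
      rw [hform y hyU, ← hr, form_smul_right] at h1
      exact (mul_eq_zero.1 h1).resolve_left hr0
    refine ⟨u0, hu0, hu00, fun c => ?_⟩
    have hwu : form w0 ((c / 2) • u0) = 0 := by rw [form_smul_right, hw0u, mul_zero]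
    have hau : form a' ((c / 2) • u0) = 0 := by rw [hform _ (U.smul_mem _ hu0), hwu]
    have h1 := M.mul_mem (M.inv_mem (hX w0 hw0 _ (U.smul_mem (c / 2) hu0) hwu))
      (by simpa [← hr, smul_smul, hr0] using hpure (c / 2 / r) : stv2 a' ((c / 2) • u0) ∈ M)
    suffices (stv2 w0 ((c / 2) • u0))⁻¹ * stv2 a' ((c / 2) • u0) = stv u0 c by rwa [this] at h1
    rw [inv_mul_eq_iff_eq_mul]
    refine gl_ext_mulVec fun z => ?_
    rw [stv2_mulVec hau, mul_mulVec, stv_mulVec, stv2_mulVec hwu, ea]
    simp only [form_add_left, form_add_right, form_smul_left, form_smul_right, form_self, hw0u,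
      form_swap u0 w0, neg_zero, mul_zero, add_zero]
    match_scalars <;> field_simp <;> ring
  refine ⟨y, hyU, hy0, fun c => ?_⟩
  have hay1 : stv2 a' y ∈ M := by simpa using hpure 1
  have hu0y : u0 ∉ F ∙ y := fun hc => by
    obtain ⟨r, hr⟩ := Submodule.mem_span_singleton.1 hc
    have hr0 : r ≠ 0 := by rintro rfl; exact hu00 (by rw [← hr, zero_smul])
    exact hyu ((Submodule.smul_mem_iff _ hr0).1 (by rw [hr]; exact Submodule.mem_span_singleton_self u0))
  obtain ⟨p, hpW, hpS, hpu⟩ := h.exists_dual (F ∙ y) ((Submodule.span_singleton_le_iff_mem _ _).2 hyU) hu0 hu0y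
  have hpy : form ((c / 2) • p) y = 0 := by
    rw [form_smul_left, form_swap, hpS y (Submodule.mem_span_singleton_self y), neg_zero, mul_zero]
  have hpM := hX ((c / 2) • p) (W.smul_mem _ hpW) y hyU hpy
  have h1 := M.mul_mem (M.inv_mem hay1) (M.mul_mem (M.mul_mem hpM hay1) (M.inv_mem hpM))
  suffices (stv2 a' y)⁻¹ * (stv2 ((c / 2) • p) y * stv2 a' y * (stv2 ((c / 2) • p) y)⁻¹) = stv y c by
    rwa [this] at h1
  rw [inv_mul_eq_iff_eq_mul, stv2_conj (stv2_mem _ _)]
  have hap : form a' ((c / 2) • p) = c / 2 := by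
    rw [form_smul_right, ea, form_add_left, h.singW w0 hw0 p hpW, hpu, zero_add, mul_one]
  have hyp : form y ((c / 2) • p) = 0 := by rw [form_swap, hpy, neg_zero]
  rw [stv2_mulVec hpy, stv2_mulVec hpy, hap, hay, hyp, form_self]
  simp only [zero_smul, add_zero]
  refine gl_ext_mulVec fun z => ?_
  rw [stv2_mulVec (show form (a' + (c / 2) • y) y = 0 by
    rw [form_add_left, form_smul_left, form_self, hay, mul_zero, add_zero]), mul_mulVec, stv_mulVec,
    stv2_mulVec hay]
  simp only [form_add_left, form_smul_left, form_add_right, form_smul_right, form_self, form_swap y a',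
    hay, neg_zero, mul_zero, add_zero]
  match_scalars <;> field_simp <;> ring

/-- A half containing one full centre consists of full centres. -/
lemma LagPair.full_half (h : LagPair W U) (hMI : M ≤ spGL m F)
    (hX : ∀ x ∈ W, ∀ y ∈ U, form x y = 0 → stv2 x y ∈ M) {y : E} (hy : y ∈ U) (hy0 : y ≠ 0)
    (hyF : Full M y) : ∀ u ∈ U, Full M u := by
  intro u hu
  by_cases hmem : u ∈ F ∙ y
  · obtain ⟨c, rfl⟩ := Submodule.mem_span_singleton.1 hmem
    exact full_smul hyF c
  have hr : y ∉ F ∙ (u - y) := by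
    intro hc
    obtain ⟨c, hc⟩ := Submodule.mem_span_singleton.1 hc
    rcases eq_or_ne c 0 with rfl | hc0
    · exact hy0 (by rw [← hc, zero_smul])
    · refine hmem ((Submodule.smul_mem_iff _ hc0).1 (Submodule.mem_span_singleton.2 ⟨1 + c, ?_⟩))
      rw [smul_sub, sub_eq_iff_eq_add] at hc
      rw [add_smul, one_smul, hc]
  obtain ⟨p, hp, hpS, hpy⟩ := h.exists_dual (F ∙ (u - y))
    ((Submodule.span_singleton_le_iff_mem _ _).2 (U.sub_mem hu hy)) hy hr
  have hpr : form p (u - y) = 0 := by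
    rw [form_swap, hpS _ (Submodule.mem_span_singleton_self _), neg_zero]
  have h1 := full_conj hMI hyF (hX p hp (u - y) (U.sub_mem hu hy) hpr)
  rw [stv2_mulVec hpr, hpy, h.singU y hy _ (U.sub_mem hu hy), one_smul, zero_smul, add_zero,
    add_sub_cancel] at h1
  exact h1

/-- An isometry exchanging the two halves. -/
lemma LagPair.exists_swap (h : LagPair W U) :
    ∃ s ∈ spGL m F, (∀ w ∈ W, (s : Matrix _ _ F) *ᵥ w ∈ U) ∧ ∀ u ∈ U, (s : Matrix _ _ F) *ᵥ u ∈ W := by
  classical
  let L : U →ₗ[F] Module.Dual F W :=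
    { toFun := fun u =>
        { toFun := fun w => form (w : E) (u : E)
          map_add' := fun _ _ => form_add_left _ _ _
          map_smul' := fun _ _ => form_smul_left _ _ _ }
      map_add' := fun a b => LinearMap.ext fun w => form_add_right (w : E) (a : E) (b : E)
      map_smul' := fun c a => LinearMap.ext fun w => form_smul_right c (w : E) (a : E) }
  have hinj : Function.Injective L := (injective_iff_map_eq_zero L).2 fun a ha => Subtype.ext <|
    h.disj _ (h.mem_of_perp fun w hw => DFunLike.congr_fun ha ⟨w, hw⟩) a.2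
  have hdim : Module.finrank F U = Module.finrank F (Module.Dual F W) := by
    rw [Subspace.dual_finrank_eq, h.dimU, h.dimW]
  let b := Module.finBasis F W
  let θ : W ≃ₗ[F] U := b.toDualEquiv.trans
    (LinearEquiv.ofBijective L ⟨hinj,
      (LinearMap.injective_iff_surjective_of_finrank_eq_finrank hdim).1 hinj⟩).symm
  have hθ : ∀ w w' : W, form (w' : E) (θ w : E) = b.toDual w w' := by
    intro w w'
    have h1 := (LinearEquiv.ofBijective L ⟨hinj,
      (LinearMap.injective_iff_surjective_of_finrank_eq_finrank hdim).1 hinj⟩).apply_symm_apply (b.toDualEquiv w)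
    exact DFunLike.congr_fun h1 w'
  have hsym : ∀ w w' : W, b.toDual w w' = b.toDual w' w := by
    have : b.toDual = b.toDual.flip := b.ext fun i => b.ext fun j => by
      simp [Module.Basis.toDual_apply, eq_comm]
    intro w w'
    conv_lhs => rw [this]
    rfl
  have hc : IsCompl W U := by
    constructor
    · exact Submodule.disjoint_def.2 h.disj
    · exact codisjoint_iff.2 (Submodule.eq_top_iff'.2 fun x => by
        obtain ⟨w, hw, u, hu, rfl⟩ := h.split x
        exact Submodule.add_mem_sup hw hu)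
  let S : (E) →ₗ[F] (E) :=
    LinearMap.ofIsCompl hc (U.subtype ∘ₗ θ.toLinearMap) (-(W.subtype ∘ₗ θ.symm.toLinearMap))
  have hSW : ∀ w : W, S w = (θ w : E) := fun w => LinearMap.ofIsCompl_left_apply hc w
  have hSU : ∀ u : U, S u = -(θ.symm u : E) := fun u => by
    rw [LinearMap.ofIsCompl_right_apply hc u]; rfl
  have hpres : ∀ x y, form (S x) (S y) = form x y := by
    intro x y
    obtain ⟨w, hw, u, hu, rfl⟩ := h.split x
    obtain ⟨w', hw', u', hu', rfl⟩ := h.split y
    have e1 := hSW ⟨w, hw⟩; have e2 := hSU ⟨u, hu⟩; have e3 := hSW ⟨w', hw'⟩; have e4 := hSU ⟨u', hu'⟩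
    have key : ∀ (p : W) (r : U), form ((θ.symm r : W) : E) (θ p : E) = form (p : E) (r : E) := by
      intro p r
      rw [hθ, hsym, ← hθ, θ.apply_symm_apply]
    simp only [map_add, e1, e2, e3, e4, form_add_left, form_add_right]
    have n1 : ∀ a b : E, form (-a) b = -form a b := fun a b => by
      rw [← neg_one_smul F a, form_smul_left, neg_one_mul]
    have n2 : ∀ a b : E, form a (-b) = -form a b := fun a b => by
      rw [← neg_one_smul F b, form_smul_right, neg_one_mul]
    rw [n1, n1, n2, n2, h.singU _ (θ _).2 _ (θ _).2, h.singW _ (θ.symm _).2 _ (θ.symm _).2, key,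
      form_swap (θ ⟨w, hw⟩ : E), key, h.singW w hw w' hw', h.singU u hu u' hu', form_swap u w']
    ring
  have hmat : LinearMap.toMatrix' S ∈ Matrix.symplecticGroup (Fin m) F := by
    rw [mem_iff_form]
    intro x y
    rw [LinearMap.toMatrix'_mulVec, LinearMap.toMatrix'_mulVec]
    exact hpres x y
  refine ⟨toGLHom ⟨_, hmat⟩, toGLHom_mem _, fun w hw => ?_, fun u hu => ?_⟩
  · change LinearMap.toMatrix' S *ᵥ w ∈ U
    rw [LinearMap.toMatrix'_mulVec, hSW ⟨w, hw⟩]
    exact (θ _).2
  · change LinearMap.toMatrix' S *ᵥ u ∈ W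
    rw [LinearMap.toMatrix'_mulVec, hSU ⟨u, hu⟩]
    exact W.neg_mem (θ.symm _).2

theorem lagPair_key (D : Fin 2 → Submodule F E) (hD : IsMDecomposition m D)
    (h : LagPair (D 0) (D 1)) (hm : 3 ≤ m) (hF : (2 : F) ≠ 0) (hM : decompositionStabilizer D ⊓ spGL m F ≤ M)
    (hMI : M ≤ spGL m F) (hMX : ¬ M ≤ decompositionStabilizer D) : spGL m F ≤ M := by
  obtain ⟨g, hgM, hgX⟩ := SetLike.not_le_iff_exists.1 hMX
  have hX : ∀ x ∈ D 0, ∀ y ∈ D 1, form x y = 0 → stv2 x y ∈ M := by
    intro x hx y hy hxy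
    refine hM ⟨mem_decompositionStabilizer_of hD 1 fun i v hv => ?_, stv2_mem x y⟩
    rw [stv2_mulVec hxy, Equiv.Perm.one_apply]
    match i with
    | 0 => rw [h.singW v hv x hx, zero_smul, add_zero]; exact (D 0).add_mem hv ((D 0).smul_mem _ hx)
    | 1 => rw [h.singU v hv y hy, zero_smul, add_zero]; exact (D 1).add_mem hv ((D 1).smul_mem _ hy)
  have hX' : ∀ x ∈ D 1, ∀ y ∈ D 0, form x y = 0 → stv2 x y ∈ M := fun x hx y hy hxy => by
    rw [stv2_comm hxy]
    exact hX y hy x hx (by rw [form_swap, hxy, neg_zero])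
  -- a mixed image
  obtain ⟨W, U, hWU, hXW, a, ha, hga0, hga1⟩ : ∃ W U : Submodule F E, LagPair W U ∧
      (∀ x ∈ W, ∀ y ∈ U, form x y = 0 → stv2 x y ∈ M) ∧ ∃ a ∈ W,
      (g : Matrix _ _ F) *ᵥ a ∉ D 0 ∧ (g : Matrix _ _ F) *ᵥ a ∉ D 1 := by
    by_contra hcon
    push Not at hcon
    have himg : ∀ i, ∃ j, ∀ v ∈ D i, (g : Matrix _ _ F) *ᵥ v ∈ D j := by
      intro i
      have h1 : ∀ x ∈ (D i).map (glEquiv g).toLinearMap, x ∈ D 0 ∨ x ∈ D 1 := by
        rintro _ ⟨v, hv, rfl⟩
        rw [LinearEquiv.coe_coe, glEquiv_apply]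
        by_cases hv0 : (g : Matrix _ _ F) *ᵥ v ∈ D 0
        · exact Or.inl hv0
        · match i with
          | 0 => exact Or.inr (hcon _ _ h hX v hv hv0)
          | 1 => exact Or.inr (hcon _ _ h.symm hX' v hv hv0)
      rcases le_or_le_of_forall h1 with h2 | h2
      · exact ⟨0, fun v hv => by simpa using h2 ⟨v, hv, rfl⟩⟩
      · exact ⟨1, fun v hv => by simpa using h2 ⟨v, hv, rfl⟩⟩
    choose σ hσ using himg
    have hinj : σ 0 ≠ σ 1 := by
      intro e
      have htop : ∀ x, (g : Matrix (Fin m ⊕ Fin m) (Fin m ⊕ Fin m) F) *ᵥ x ∈ D (σ 0) := fun x => by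
        obtain ⟨w, hw, u, hu, rfl⟩ := h.split x
        rw [Matrix.mulVec_add]
        exact (D _).add_mem (hσ 0 w hw) (e ▸ hσ 1 u hu)
      have : D (σ 0) = ⊤ := Submodule.eq_top_iff'.2 fun x => by
        simpa [mulVec_inv_mulVec] using htop (((g⁻¹ : GL _ F) : Matrix _ _ F) *ᵥ x)
      have h2 := hD.finrank_eq (σ 0)
      rw [this, finrank_top, Module.finrank_fintype_fun_eq_card, Fintype.card_sum, Fintype.card_fin] at h2
      omega
    have hsurj : Function.Injective σ := by
      intro i j hij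
      fin_cases i <;> fin_cases j <;> first | rfl | exact absurd hij hinj | exact absurd hij.symm hinj
    exact hgX (mem_decompositionStabilizer_of hD (Equiv.ofBijective σ (Finite.injective_iff_bijective.1 hsurj)) hσ)
  obtain ⟨w0, hw0, u0, hu0, ea⟩ := h.split ((g : Matrix (Fin m ⊕ Fin m) (Fin m ⊕ Fin m) F) *ᵥ a)
  have hu00 : u0 ≠ 0 := fun e => hga0 (by rw [ea, e, add_zero]; exact hw0)
  have hw00 : w0 ≠ 0 := fun e => hga1 (by rw [ea, e, zero_add]; exact hu0)
  obtain ⟨b, hb, hab, wb, hwb, ub, hub, eb, hne⟩ : ∃ b ∈ U, form a b = 0 ∧ ∃ wb ∈ D 0, ∃ ub ∈ D 1,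
      (g : Matrix (Fin m ⊕ Fin m) (Fin m ⊕ Fin m) F) *ᵥ b = wb + ub ∧ (ub ∉ F ∙ u0 ∨ wb ∉ F ∙ w0) := by
    by_contra hcon
    push Not at hcon
    let S : Submodule F E := U ⊓ perp (F ∙ a)
    have hle : S.map (glEquiv g).toLinearMap ≤ (F ∙ w0) ⊔ (F ∙ u0) := by
      rintro _ ⟨b, hb, rfl⟩
      rw [LinearEquiv.coe_coe, glEquiv_apply]
      obtain ⟨wb, hwb, ub, hub, eb⟩ := h.split ((g : Matrix (Fin m ⊕ Fin m) (Fin m ⊕ Fin m) F) *ᵥ b)
      have := hcon b hb.1 (hb.2 a (Submodule.mem_span_singleton_self a)) wb hwb ub hub eb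
      rw [eb]
      exact Submodule.add_mem_sup this.2 this.1
    have hlt : S.map (glEquiv g).toLinearMap < (F ∙ w0) ⊔ (F ∙ u0) := by
      refine lt_of_le_of_ne hle fun e => ?_
      have hga : (g : Matrix (Fin m ⊕ Fin m) (Fin m ⊕ Fin m) F) *ᵥ a ∈ S.map (glEquiv g).toLinearMap := by
        rw [e, ea]
        exact Submodule.add_mem_sup (Submodule.mem_span_singleton_self w0) (Submodule.mem_span_singleton_self u0)
      obtain ⟨s', hs', e'⟩ := hga
      rw [LinearEquiv.coe_coe, glEquiv_apply] at e'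
      have hsa : s' = a := by rw [← inv_mulVec_mulVec g s', e', inv_mulVec_mulVec]
      have ha0 := hWU.disj a ha (hsa ▸ hs'.1)
      refine hga0 ?_
      rw [ha0, Matrix.mulVec_zero]
      exact Submodule.zero_mem _
    have h1 := Submodule.finrank_lt_finrank_of_lt hlt
    rw [LinearEquiv.finrank_map_eq] at h1
    have h4 := Submodule.finrank_add_le_finrank_add_finrank (F ∙ w0) (F ∙ u0)
    have h5 : Module.finrank F (F ∙ u0) ≤ 1 := (finrank_span_le_card {u0}).trans (by simp)
    have h6 : Module.finrank F (F ∙ w0) ≤ 1 := (finrank_span_le_card {w0}).trans (by simp)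
    let L : U →ₗ[F] F :=
      { toFun := fun y => form a (y : E)
        map_add' := fun y z => form_add_right a (y : E) (z : E)
        map_smul' := fun c y => form_smul_right c a (y : E) }
    have hker : (LinearMap.ker L).map U.subtype ≤ S := by
      rintro _ ⟨y, hy, rfl⟩
      refine ⟨y.2, fun z hz => ?_⟩
      obtain ⟨c, rfl⟩ := Submodule.mem_span_singleton.1 hz
      rw [form_smul_left, show form a ((U.subtype) y) = 0 from LinearMap.mem_ker.1 hy, mul_zero]
    have h7 := L.finrank_range_add_finrank_ker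
    have h8 := Submodule.finrank_le (LinearMap.range L)
    have h9 := Submodule.finrank_mono hker
    rw [Submodule.finrank_map_subtype_eq] at h9
    rw [Module.finrank_self] at h8
    rw [hWU.dimU] at h7
    omega
  have ht : stv2 ((g : Matrix (Fin m ⊕ Fin m) (Fin m ⊕ Fin m) F) *ᵥ a) ((g : Matrix (Fin m ⊕ Fin m) (Fin m ⊕ Fin m) F) *ᵥ b) ∈ M := by
    rw [← stv2_conj (hMI hgM)]
    exact M.mul_mem (M.mul_mem hgM (hXW a ha b hb hab)) (M.inv_mem hgM)
  have hab' : form ((g : Matrix (Fin m ⊕ Fin m) (Fin m ⊕ Fin m) F) *ᵥ a) ((g : Matrix (Fin m ⊕ Fin m) (Fin m ⊕ Fin m) F) *ᵥ b) = 0 := by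
    rw [form_mulVec (hMI hgM), hab]
  obtain ⟨s, hs, hs0, hs1⟩ := h.exists_swap
  have hsM : s ∈ M := hM ⟨mem_decompositionStabilizer_of hD (Equiv.swap 0 1) fun i v hv => by
    match i with
    | 0 => rw [Equiv.swap_apply_left]; exact hs0 v hv
    | 1 => rw [Equiv.swap_apply_right]; exact hs1 v hv, hs⟩
  have hfullU : ∀ u ∈ D 1, Full M u := by
    rcases hne with hne | hne
    · obtain ⟨y, hy, hy0, hyF⟩ := h.exists_full hm hMI hX hF hw0 hu0 hwb hub ea eb hu00 hab' ht hne
      exact h.full_half hMI hX hy hy0 hyF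
    · obtain ⟨y, hy, hy0, hyF⟩ := h.symm.exists_full hm hMI hX' hF hu0 hw0 hub hwb (by rw [ea, add_comm])
        (by rw [eb, add_comm]) hw00 hab' ht hne
      refine h.full_half hMI hX (hs0 y hy) (fun e => hy0 ?_) (full_conj hMI hyF hsM)
      rw [← inv_mulVec_mulVec s y, e, Matrix.mulVec_zero]
  have hfullW : ∀ w ∈ D 0, Full M w := by
    obtain ⟨w, hw, hw'⟩ : ∃ w ∈ D 1, w ≠ 0 := ⟨u0, hu0, hu00⟩
    exact h.symm.full_half hMI hX' (hs1 w hw) (fun e => hw' (by
      rw [← inv_mulVec_mulVec s w, e, Matrix.mulVec_zero])) (full_conj hMI (hfullU w hw) hsM)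
  refine spGL_le_of_full fun z => ?_
  obtain ⟨w, hw, u, hu, rfl⟩ := h.split z
  rcases eq_or_ne w 0 with rfl | hw'
  · rw [zero_add]; exact hfullU u hu
  by_cases hwu : form w u = 0
  · obtain ⟨u1, hu1, -, hwu1⟩ := h.symm.exists_dual ⊥ bot_le hw (by simpa using hw')
    have h1 : Full M (w + u1) := full_add hMI (hfullU u1 hu1) (hfullW w hw) (by rw [hwu1]; exact one_ne_zero)
    have h2 : Full M (w + u1 + (u - u1)) := full_add hMI (hfullU _ ((D 1).sub_mem hu hu1)) h1 (by
      rw [form_add_left, form_sub_right, hwu, hwu1, h.singU u1 hu1 _ ((D 1).sub_mem hu hu1)]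
      simp)
    rwa [show w + u1 + (u - u1) = w + u by abel] at h2
  · exact full_add hMI (hfullU u hu) (hfullW w hw) hwu

theorem lagPair_proper (D : Fin 2 → Submodule F E) (h : LagPair (D 0) (D 1)) (hm : 1 ≤ m) :
    ¬ spGL m F ≤ decompositionStabilizer D := by
  intro hle
  obtain ⟨u, hu, hu0⟩ : ∃ u ∈ D 1, u ≠ 0 := (Submodule.ne_bot_iff _).1 fun e => by
    have := h.dimU; rw [e, finrank_bot] at this; omega
  obtain ⟨x, hx, -, hux⟩ := h.exists_dual ⊥ bot_le hu (by simpa using hu0)
  obtain ⟨σ, hσ⟩ := exists_perm_of_mem (hle (stv_mem u 1))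
  have h1 := hσ 0 x hx
  rw [stv_mulVec, one_mul, form_swap, hux] at h1
  match hσ0 : σ 0 with
  | 0 =>
    rw [hσ0] at h1
    have := (D 0).sub_mem h1 hx
    rw [add_sub_cancel_left, Submodule.smul_mem_iff _ (by simp)] at this
    exact hu0 (h.disj u this hu)
  | 1 =>
    rw [hσ0] at h1
    have := (D 1).sub_mem h1 ((D 1).smul_mem (-1 : F) hu)
    rw [add_sub_cancel_right] at this
    have hx0 := h.disj x hx this
    rw [hx0, form_zero_right] at hux
    exact zero_ne_one hux

end SpTv

end CfsgLib.Geo
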