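/-
Stabilisers of totally singular and of non-degenerate subspaces are maximal in the symplectic group.
-/
import Cfsg.Agent.Geo.SympTv

set_option autoImplicit false

namespace CfsgLib.Geo.SpTv

open Matrix Cfsg Cfsg.Geo CfsgLib.Symp

variable {m : ℕ} {F : Type*} [Field F] {W : Submodule F (Fin m ⊕ Fin m → F)}
  {M : Subgroup (GL (Fin m ⊕ Fin m) F)}

local notation "E" => Fin m ⊕ Fin m → F

lemma full_of_stab (hM : subspaceStabilizer W ⊓ spGL m F ≤ M) {v : E} (hv : v ∈ W ∨ v ∈ perp W) : Full M v :=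
  fun c => hM ⟨stv_mem_stabilizer c hv, stv_mem v c⟩

/-! ### Non-degenerate subspaces -/

theorem nondeg_key (hW : IsNondegenerateOn (Cfsg.sympForm m F) W) (hdim : Module.finrank F W < m)
    (hM : subspaceStabilizer W ⊓ spGL m F ≤ M) (hMI : M ≤ spGL m F) (hMX : ¬ M ≤ subspaceStabilizer W) :
    spGL m F ≤ M := by
  obtain ⟨g, hgM, hgW⟩ := SetLike.not_le_iff_exists.1 hMX
  obtain ⟨v, hvF, hvW, hvP⟩ : ∃ v, Full M v ∧ v ∉ W ∧ v ∉ perp W := by
    by_contra hcon
    push Not at hcon
    have hin : ∀ v, (v ∈ W ∨ v ∈ perp W) → (g : Matrix _ _ F) *ᵥ v ∈ W ∨ (g : Matrix _ _ F) *ᵥ v ∈ perp W := by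
      intro v hv
      by_cases h : (g : Matrix _ _ F) *ᵥ v ∈ W
      · exact Or.inl h
      · exact Or.inr (hcon _ (full_conj hMI (full_of_stab hM hv) hgM) h)
    have himg : ∀ S : Submodule F E, (S ≤ W ∨ S ≤ perp W) →
        S.map (glEquiv g).toLinearMap ≤ W ∨ S.map (glEquiv g).toLinearMap ≤ perp W := by
      intro S hS
      refine le_or_le_of_forall ?_
      rintro _ ⟨x, hx, rfl⟩
      rw [LinearEquiv.coe_coe, glEquiv_apply]
      exact hin x (hS.elim (fun h => Or.inl (h hx)) fun h => Or.inr (h hx))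
    have hd1 := finrank_perp hW
    rcases himg W (Or.inl le_rfl) with hW1 | hW1
    · exact hgW (mem_subspaceStabilizer.2 fun w hw => by
        simpa using hW1 ⟨w, hw, rfl⟩)
    rcases himg (perp W) (Or.inr le_rfl) with hP1 | hP1
    · have := Submodule.finrank_mono hP1
      rw [LinearEquiv.finrank_map_eq] at this
      omega
    have hP2 := Submodule.eq_of_le_of_finrank_le hP1 (le_of_eq (LinearEquiv.finrank_map_eq (glEquiv g) _).symm)
    apply hgW
    refine mem_subspaceStabilizer.2 fun w hw => ?_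
    have h1 : (g : Matrix _ _ F) *ᵥ w ∈ perp W := by simpa using hW1 ⟨w, hw, rfl⟩
    rw [← hP2] at h1
    obtain ⟨y, hy, hyw⟩ := h1
    rw [LinearEquiv.coe_coe] at hyw
    have : y = w := (glEquiv g).injective (by rw [hyw, glEquiv_apply])
    rw [← this] at hw
    rw [← this, eq_zero_of_mem_perp hW hw hy, Matrix.mulVec_zero]
    exact W.zero_mem
  refine spGL_le_of_full fun y => ?_
  obtain ⟨a, ha, hva⟩ := exists_split hW v
  obtain ⟨c, hc, hyc⟩ := exists_split hW y
  rcases eq_or_ne c 0 with rfl | hc0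
  · exact full_of_stab hM (Or.inr (by simpa using hyc))
  rcases eq_or_ne (y - c) 0 with he | hd0
  · exact full_of_stab hM (Or.inl (by rw [sub_eq_zero.1 he]; exact hc))
  have ha0 : a ≠ 0 := fun e => hvP (by simpa [e] using hva)
  have hb0 : v - a ≠ 0 := fun e => hvW (by rw [sub_eq_zero.1 e]; exact ha)
  obtain ⟨g1, hg1, e1, f1⟩ := exists_move (M := M) (W := W) (fun w hw => full_of_stab hM (Or.inl hw)) ha hc
    (nondeg_partner hW ha ha0) (nondeg_partner hW hc hc0)
  obtain ⟨g2, hg2, e2, f2⟩ := exists_move (W := perp W) (fun w hw => full_of_stab hM (Or.inr hw)) hva hyc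
    (perp_partner hW hva hb0) (perp_partner hW hyc hd0)
  have h1 := full_conj hMI (full_conj hMI hvF hg1) hg2
  have e3 : (g2 : Matrix (Fin m ⊕ Fin m) (Fin m ⊕ Fin m) F) *ᵥ ((g1 : Matrix (Fin m ⊕ Fin m) (Fin m ⊕ Fin m) F) *ᵥ v) = y := by
    conv_lhs => rw [show v = a + (v - a) by abel]
    rw [Matrix.mulVec_add, e1, f1 _ (fun w hw => form_perp hva hw), Matrix.mulVec_add, e2,
      f2 c (fun w hw => hw c hc)]
    abel
  rwa [e3] at h1

theorem nondeg_proper (hW : IsNondegenerateOn (Cfsg.sympForm m F) W) (hW0 : W ≠ ⊥)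
    (hdim : Module.finrank F W < m) : ¬ spGL m F ≤ subspaceStabilizer W := by
  obtain ⟨a, ha, ha0⟩ := W.ne_bot_iff.1 hW0
  have hne : perp W ≠ ⊥ := fun h => by
    have := finrank_perp hW
    rw [h, finrank_bot] at this
    omega
  obtain ⟨b, hb, hb0⟩ := (Submodule.ne_bot_iff _).1 hne
  refine fun h => notMem_stabilizer (v := a + b) ?_ ?_ (h (stv_mem _ _))
  · exact fun h' => hb0 (eq_zero_of_mem_perp hW (by simpa using W.sub_mem h' ha) hb)
  · exact fun h' => ha0 (eq_zero_of_mem_perp hW ha (by simpa using (perp W).sub_mem h' hb))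

theorem nondeg_maximal (hW : IsNondegenerateOn (Cfsg.sympForm m F) W) (hW0 : W ≠ ⊥)
    (hdim : Module.finrank F W < m) : IsMaximalIn (spGL m F) (subspaceStabilizer W ⊓ spGL m F) :=
  isMaximalIn_of_key (nondeg_proper hW hW0 hdim) fun _ h1 h2 h3 => nondeg_key hW hdim h1 h2 h3

/-! ### Totally singular subspaces -/

/-- The product of three transvections mixing two orthogonal vectors. -/
lemma triple_mulVec {a b : E} (hab : form a b = 0) (x : E) :
    ((stv (a + b) 1 * stv a (-1) * stv b (-1) : GL (Fin m ⊕ Fin m) F) : Matrix _ _ F) *ᵥ x =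
      x + form x a • b + form x b • a := by
  have hba : form b a = 0 := by rw [form_swap, hab, neg_zero]
  simp only [mul_mulVec, stv_mulVec, form_add_right, form_add_left, form_smul_left, form_self,
    hab, hba, mul_zero, add_zero, one_mul]
  module

theorem singular_key (hW : IsTotallySingularFor (Cfsg.sympForm m F) W)
    (hM : subspaceStabilizer W ⊓ spGL m F ≤ M) (hMI : M ≤ spGL m F) (hMX : ¬ M ≤ subspaceStabilizer W) :
    spGL m F ≤ M := by
  obtain ⟨g, hgM, hgW⟩ := SetLike.not_le_iff_exists.1 hMX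
  have hWP : ∀ w ∈ W, w ∈ perp W := fun w hw x hx => hW x hx w hw
  have hfull : ∀ v ∈ perp W, Full M v := fun v hv => full_of_stab hM (Or.inr hv)
  obtain ⟨z, hzF, hzP⟩ : ∃ z, Full M z ∧ z ∉ perp W := by
    by_contra hcon
    push Not at hcon
    have hst : g ∈ subspaceStabilizer (perp W) := mem_subspaceStabilizer.2 fun x hx =>
      hcon _ (full_conj hMI (hfull x hx) hgM)
    apply hgW
    refine mem_subspaceStabilizer.2 fun w hw => mem_of_perp fun x hx => ?_
    rw [← mulVec_inv_mulVec g x, form_mulVec (hMI hgM)]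
    exact (mem_subspaceStabilizer.1 (Subgroup.inv_mem _ hst) x hx) w hw
  -- the whole coset of the orthogonal of `W`
  have hcoset : ∀ z, Full M z → z ∉ perp W → ∀ u ∈ perp W, Full M (z + u) := by
    intro z hz hzP u hu
    by_cases hzu : form z u = 0
    · obtain ⟨w, hw, hwz⟩ : ∃ w ∈ W, form w z ≠ 0 := by simpa [mem_perp] using hzP
      have h1 : Full M (z + w) := full_add hMI (hfull w (hWP w hw)) hz (by rwa [form_swap, neg_ne_zero])
      have h2 : Full M (z + w + (u - w)) := full_add hMI (hfull _ ((perp W).sub_mem hu (hWP w hw))) h1 (by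
        rw [form_add_left, form_sub_right, form_sub_right, hzu, hu w hw, form_self, zero_sub, sub_zero,
          add_zero, neg_ne_zero, form_swap, neg_ne_zero]
        exact hwz)
      rwa [show z + w + (u - w) = z + u by abel] at h2
    · exact full_add hMI (hfull u hu) hz hzu
  refine spGL_le_of_full fun y => ?_
  by_cases hyP : y ∈ perp W
  · exact hfull y hyP
  by_cases hex : ∃ a ∈ W, form a z = 1 ∧ form a y = 1
  · obtain ⟨a, ha, haz, hay⟩ := hex
    set b := z - y with hb
    have hab : form a b = 0 := by rw [hb, form_sub_right, haz, hay, sub_self]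
    have hE : stv (a + b) 1 * stv a (-1) * stv b (-1) ∈ subspaceStabilizer W ⊓ spGL m F := by
      refine ⟨mem_subspaceStabilizer.2 fun w hw => ?_, ?_⟩
      · rw [triple_mulVec hab, show form w a = 0 from hW w hw a ha, zero_smul, add_zero]
        exact W.add_mem hw (W.smul_mem _ ha)
      · exact (spGL m F).mul_mem ((spGL m F).mul_mem (stv_mem _ _) (stv_mem _ _)) (stv_mem _ _)
    have h1 := full_conj hMI hzF (hM hE)
    have hza : form z a = -1 := by rw [form_swap, haz]
    have e : ((stv (a + b) 1 * stv a (-1) * stv b (-1) : GL (Fin m ⊕ Fin m) F) : Matrix _ _ F) *ᵥ z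
        = y + form z b • a := by
      rw [triple_mulVec hab, hza, hb]
      module
    rw [e] at h1
    have h2 := hcoset _ h1 (fun hc => ?_) _ ((perp W).neg_mem ((perp W).smul_mem (form z b) (hWP a ha)))
    · rwa [add_neg_cancel_right] at h2
    · have := hc a ha
      rw [form_add_right, form_smul_right, form_self, mul_zero, add_zero, hay] at this
      exact one_ne_zero this
  · obtain ⟨w, hw, hwz⟩ : ∃ w ∈ W, form w z = 1 := by
      obtain ⟨w, hw, hwz⟩ : ∃ w ∈ W, form w z ≠ 0 := by simpa [mem_perp] using hzP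
      exact ⟨(form w z)⁻¹ • w, W.smul_mem _ hw, by rw [form_smul_left, inv_mul_cancel₀ hwz]⟩
    have hyz : y - form w y • z ∈ perp W := by
      intro v hv
      by_contra hne
      rw [form_sub_right, form_smul_right] at hne
      have hv0 : v - form v z • w ∈ W := W.sub_mem hv (W.smul_mem _ hw)
      have hz0 : form (v - form v z • w) z = 0 := by rw [form_sub_left, form_smul_left, hwz, mul_one, sub_self]
      have hy0 : form (v - form v z • w) y ≠ 0 := by
        rw [form_sub_left, form_smul_left, mul_comm]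
        exact hne
      apply hex
      refine ⟨w + ((1 - form w y) / form (v - form v z • w) y) • (v - form v z • w),
        W.add_mem hw (W.smul_mem _ hv0), ?_, ?_⟩
      · rw [form_add_left, form_smul_left, hz0, hwz, mul_zero, add_zero]
      · rw [form_add_left, form_smul_left, div_mul_cancel₀ _ hy0, add_sub_cancel]
    have hl : form w y ≠ 0 := fun h0 => hyP (by simpa [h0] using hyz)
    have h2 := hcoset _ (full_smul hzF (form w y)) (fun hc => hzP (((perp W).smul_mem_iff hl).1 hc)) _ hyz
    rwa [add_sub_cancel] at h2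

theorem singular_proper (hW : IsTotallySingularFor (Cfsg.sympForm m F) W) (hW0 : W ≠ ⊥) :
    ¬ spGL m F ≤ subspaceStabilizer W := by
  obtain ⟨a, ha, ha0⟩ := W.ne_bot_iff.1 hW0
  obtain ⟨b, hb⟩ := exists_form_ne_zero ha0
  have hb' : b ∉ perp W := fun h => hb (h a ha)
  exact fun h => notMem_stabilizer (fun h' => hb' fun x hx => hW x hx b h') hb' (h (stv_mem _ _))

theorem singular_maximal (hW : IsTotallySingularFor (Cfsg.sympForm m F) W) (hW0 : W ≠ ⊥) :
    IsMaximalIn (spGL m F) (subspaceStabilizer W ⊓ spGL m F) :=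
  isMaximalIn_of_key (singular_proper hW hW0) fun _ h1 h2 h3 => singular_key hW h1 h2 h3

end CfsgLib.Geo.SpTv
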