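/-
Overgroups of a subfield group in SL contain every transvection (subfield of prime index).
-/
import Cfsg.Agent.Geo.SymplecticOvergroup
import Cfsg.Agent.Coprime.Generation

set_option autoImplicit false

namespace CfsgLib.Geo

open Matrix Cfsg Cfsg.Geo

variable {ι : Type} [Fintype ι] [DecidableEq ι] {F : Type*} [Field F]

/-- Maximality is transported by conjugation. -/
lemma isMaximalIn_conj {G : Type*} [Group G] {I X : Subgroup G} (g : G)
    (hI : I.map (MulAut.conj g).toMonoidHom = I) (h : IsMaximalIn I (X ⊓ I)) :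
    IsMaximalIn I (X.map (MulAut.conj g).toMonoidHom ⊓ I) := by
  let Φ := (MulAut.conj g).mapSubgroup
  have hΦ : ∀ K, Φ K = K.map (MulAut.conj g).toMonoidHom := fun K => rfl
  have hΦI : Φ I = I := by rw [hΦ, hI]
  have hX : Φ (X ⊓ I) = X.map (MulAut.conj g).toMonoidHom ⊓ I := by rw [map_inf, hΦI, hΦ]
  rw [← hX]
  refine ⟨(Φ.lt_iff_lt.2 h.1).trans_eq hΦI, fun M h1 h2 => ?_⟩
  have e : Φ (Φ.symm M) = M := Φ.apply_symm_apply M
  rcases h.2 (Φ.symm M) (by rw [← Φ.le_iff_le, e]; exact h1) (by rw [← Φ.le_iff_le, e, hΦI]; exact h2) with h3 | h3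
  · exact Or.inl (by rw [← e, h3])
  · exact Or.inr (by rw [← e, h3, hΦI])

lemma specialLinear_map_conj (g : GL ι F) :
    (specialLinear ι F).map (MulAut.conj g).toMonoidHom = specialLinear ι F := by
  ext x
  simp only [Subgroup.mem_map, MulEquiv.coe_toMonoidHom, MulAut.conj_apply]
  constructor
  · rintro ⟨y, hy, rfl⟩
    exact (inferInstance : (Matrix.GeneralLinearGroup.det (n := ι) (R := F)).ker.Normal).conj_mem y hy g
  · intro hx
    exact ⟨g⁻¹ * x * g⁻¹⁻¹,
      (inferInstance : (Matrix.GeneralLinearGroup.det (n := ι) (R := F)).ker.Normal).conj_mem x hx g⁻¹,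
      by group⟩

/-- A finite group with a self-normalising noncyclic abelian `p`-subgroup containing the centraliser of
each of its non-trivial elements is that subgroup. -/
theorem eq_top_of_selfNormalizing {G : Type*} [Group G] [Finite G] {p : ℕ} [Fact p.Prime] (U : Subgroup G)
    (hp : IsPGroup p U) (hab : ∀ x ∈ U, ∀ y ∈ U, x * y = y * x)
    (hnorm : Subgroup.normalizer (U : Set G) ≤ U) (hcyc : ¬ IsCyclic U)
    (hcent : ∀ x ∈ U, x ≠ 1 → ∀ y, x * y = y * x → y ∈ U) : U = ⊤ := by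
  obtain ⟨P, hP⟩ := hp.exists_le_sylow
  have hUP : (P : Subgroup G) = U := by
    by_contra hne
    have hlt : U.subgroupOf (P : Subgroup G) < ⊤ := by
      refine lt_top_iff_ne_top.2 fun h => hne ?_
      exact le_antisymm (Subgroup.subgroupOf_eq_top.1 h) hP
    haveI : Group.IsNilpotent (P : Subgroup G) := P.2.isNilpotent
    have h1 := Group.normalizerCondition_of_isNilpotent (G := (P : Subgroup G)) _ hlt
    obtain ⟨x, hx, hxn⟩ := SetLike.exists_of_lt h1
    refine hxn (Subgroup.mem_subgroupOf.2 (hnorm (Subgroup.mem_normalizer_iff.2 fun y => ?_)))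
    rw [Subgroup.mem_normalizer_iff] at hx
    constructor
    · intro hy
      simpa [Subgroup.mem_subgroupOf] using (hx ⟨y, hP hy⟩).1 (Subgroup.mem_subgroupOf.2 hy)
    · intro hy
      have hyP : y ∈ (P : Subgroup G) := by
        have := (P : Subgroup G).mul_mem ((P : Subgroup G).mul_mem ((P : Subgroup G).inv_mem x.2) (hP hy)) x.2
        simpa [mul_assoc] using this
      exact Subgroup.mem_subgroupOf.1 ((hx ⟨y, hyP⟩).2 (Subgroup.mem_subgroupOf.2 (by simpa using hy)))
  have hPC : Subgroup.normalizer (P : Set G) ≤ Subgroup.centralizer (P : Set G) := by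
    intro y hy
    rw [Subgroup.mem_centralizer_iff]
    have hy' : y ∈ U := hnorm (by rw [← hUP]; exact hy)
    exact fun z hz => hab z (hUP ▸ hz) y hy'
  set N := (MonoidHom.transferSylow P hPC).ker
  have hcomp : Subgroup.IsComplement' N U := hUP ▸ MonoidHom.ker_transferSylow_isComplement' P hPC
  have hpN : ¬ p ∣ Nat.card N := MonoidHom.not_dvd_card_ker_transferSylow P hPC
  letI : CommGroup U := { (inferInstance : Group U) with mul_comm := fun a b => Subtype.ext (hab a a.2 b b.2) }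
  letI : MulDistribMulAction U N := MulDistribMulAction.compHom N
    ((MulAut.conjNormal (H := N)).comp U.subtype)
  have hact : ∀ (u : U) (x : N), ((u • x : N) : G) = (u : G) * x * (u : G)⁻¹ := fun u x => rfl
  have hcop : (Nat.card U).Coprime (Nat.card N) := by
    obtain ⟨k, hk⟩ := hp.exists_card_eq
    rw [hk]
    exact Nat.Coprime.pow_left _ ((Fact.out : p.Prime).coprime_iff_not_dvd.2 hpN)
  have htop := CfsgLib.Coprime.closure_fixed_eq_top (A := U) (G := N) hcyc hcop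
  have hN : N = ⊥ := by
    rw [eq_bot_iff]
    intro x hx
    have hmem : (⟨x, hx⟩ : N) ∈ (⊥ : Subgroup N) := by
      refine (Subgroup.closure_le _).2 ?_ (htop ▸ Subgroup.mem_top (⟨x, hx⟩ : N))
      rintro y ⟨u, hu, huy⟩
      have h1 : (u : G) * y = y * u := by
        have := congrArg Subtype.val huy
        rw [hact] at this
        exact mul_inv_eq_iff_eq_mul.1 this
      exact Subgroup.mem_bot.2 (Subtype.ext
        (Subgroup.disjoint_def.1 hcomp.disjoint y.2 (hcent u u.2 (fun h => hu (Subtype.ext h)) y h1)))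
    exact Subgroup.mem_bot.2 (congrArg Subtype.val (Subgroup.mem_bot.1 hmem))
  rw [hN, Subgroup.isComplement'_bot_left] at hcomp
  exact hcomp

/-! ### Subfield groups -/

/-- The group generated by the rational matrices and the scalars. -/
def ratScalar (ι : Type) [Fintype ι] [DecidableEq ι] (F₀ : Subfield F) : Subgroup (GL ι F) :=
  (Matrix.GeneralLinearGroup.map (F₀.subtype : F₀ →+* F)).range ⊔ scalars ι F

variable {F₀ : Subfield F}

lemma mem_range_map {g : GL ι F} (h : ∀ k l, (g : Matrix ι ι F) k l ∈ F₀) :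
    g ∈ (Matrix.GeneralLinearGroup.map (n := ι) (F₀.subtype : F₀ →+* F)).range := by
  let R : Matrix ι ι F₀ := Matrix.of fun k l => ⟨(g : Matrix ι ι F) k l, h k l⟩
  have hR : R.map (F₀.subtype : F₀ →+* F) = (g : Matrix ι ι F) := rfl
  have hdet : R.det ≠ 0 := by
    intro h0
    have h1 : (g : Matrix ι ι F).det = 0 := by
      rw [← hR]
      change (R.map ⇑(F₀.subtype)).det = 0
      rw [← RingHom.mapMatrix_apply, ← RingHom.map_det, h0, map_zero]
    exact (Matrix.GeneralLinearGroup.det g).ne_zero h1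
  exact ⟨Matrix.GeneralLinearGroup.mkOfDetNeZero R hdet, Units.ext hR⟩

lemma mem_ratScalar_of_scaled {g : GL ι F} {d : F} (hd : d ≠ 0)
    (h : ∀ k l, d * (g : Matrix ι ι F) k l ∈ F₀) : g ∈ ratScalar ι F₀ := by
  let c : GL ι F := Units.map (Matrix.scalar ι : F →+* Matrix ι ι F).toMonoidHom (Units.mk0 d hd)
  have hc : c ∈ scalars ι F := ⟨_, rfl⟩
  have h1 : c * g ∈ (Matrix.GeneralLinearGroup.map (n := ι) (F₀.subtype : F₀ →+* F)).range := by
    refine mem_range_map fun k l => ?_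
    have : ((c * g : GL ι F) : Matrix ι ι F) k l = d * (g : Matrix ι ι F) k l := by
      rw [Units.val_mul]
      simp [c, Matrix.diagonal_mul]
    rw [this]; exact h k l
  have : g = c⁻¹ * (c * g) := by group
  rw [this]
  exact Subgroup.mul_mem _ (Subgroup.inv_mem _ (Subgroup.mem_sup_right hc)) (Subgroup.mem_sup_left h1)

lemma exists_scaled_of_mem {g : GL ι F} (h : g ∈ ratScalar ι F₀) :
    ∃ d : F, d ≠ 0 ∧ ∀ k l, d * (g : Matrix ι ι F) k l ∈ F₀ := by
  obtain ⟨r, hr, c, hc, rfl⟩ := Subgroup.mem_sup_of_normal_right.1 h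
  obtain ⟨R, rfl⟩ := hr
  obtain ⟨u, rfl⟩ := hc
  refine ⟨(u : F)⁻¹, inv_ne_zero u.ne_zero, fun k l => ?_⟩
  rw [Units.val_mul]
  simp only [Units.coe_map, RingHom.toMonoidHom_eq_coe, MonoidHom.coe_coe, Matrix.scalar_apply,
    Matrix.mul_diagonal]
  rw [mul_comm _ (u : F), inv_mul_cancel_left₀ u.ne_zero]
  exact (((R : GL ι F₀) : Matrix ι ι F₀) k l).2

/-- The transvection with centre `a` and axis `φ` has rational matrix. -/
def RatTv (F₀ : Subfield F) (a φ : ι → F) : Prop := ∀ k l, a k * φ l ∈ F₀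

/-- All coordinates lie in the subfield. -/
def RatVec (F₀ : Subfield F) (v : ι → F) : Prop := ∀ k, v k ∈ F₀

omit [Fintype ι] in
lemma ratVec_single (i : ι) {c : F} (hc : c ∈ F₀) : RatVec F₀ (Pi.single i c : ι → F) := by
  intro k
  rcases eq_or_ne k i with rfl | h
  · simpa using hc
  · simp [Pi.single_eq_of_ne h]

omit [Fintype ι] [DecidableEq ι] in
lemma RatVec.ratTv {a φ : ι → F} (ha : RatVec F₀ a) (hφ : RatVec F₀ φ) : RatTv F₀ a φ :=
  fun k l => F₀.mul_mem (ha k) (hφ l)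

lemma tvec_mem_rat {a φ : ι → F} (h : φ ⬝ᵥ a = 0) (hr : RatTv F₀ a φ) :
    tvec a φ h ∈ ratScalar ι F₀ ⊓ specialLinear ι F := by
  refine ⟨Subgroup.mem_sup_left (mem_range_map fun k l => ?_), tvec_mem_specialLinear _ _ _⟩
  rw [tvec_val, Matrix.add_apply, Matrix.vecMulVec_apply]
  refine F₀.add_mem ?_ (hr k l)
  rw [Matrix.one_apply]
  split
  · exact F₀.one_mem
  · exact F₀.zero_mem

namespace SubfieldOver

variable {M : Subgroup (GL ι F)} (hM : ratScalar ι F₀ ⊓ specialLinear ι F ≤ M)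
include hM

lemma hasTv_rat {a φ : ι → F} (h : φ ⬝ᵥ a = 0) (hr : RatTv F₀ a φ) : HasTv M a φ :=
  ⟨h, hM (tvec_mem_rat h hr)⟩

lemma hasTv_single {i j : ι} (hij : i ≠ j) {c : F} (hc : c ∈ F₀) :
    HasTv M (c • (Pi.single i 1 : ι → F)) (Pi.single j 1) := by
  refine hasTv_rat hM (by simp [hij.symm]) (RatVec.ratTv (fun k => ?_) (ratVec_single j F₀.one_mem))
  exact F₀.mul_mem hc (ratVec_single i F₀.one_mem k)

variable (h4 : 4 ≤ Fintype.card ι)
include h4

lemma move_row {i j k : ι} (hki : k ≠ i) (hkj : k ≠ j) {c : F}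
    (h : HasTv M (c • (Pi.single i 1 : ι → F)) (Pi.single j 1)) :
    HasTv M (c • (Pi.single k 1 : ι → F)) (Pi.single j 1) := by
  have h1 := hasTv_single hM hki F₀.one_mem
  rw [one_smul] at h1
  have h2 := h1.comm h (by simp [hkj.symm])
  have h3 : (Pi.single i 1 : ι → F) ⬝ᵥ (c • (Pi.single i 1 : ι → F)) = c := by simp
  rw [h3] at h2
  rcases eq_or_ne c 0 with rfl | hc
  · rw [zero_smul]; exact hasTv_zero_left M _
  · exact (hasTv_smul_iff c hc).2 h2

lemma move_col {i j k : ι} (hki : k ≠ i) (hkj : k ≠ j) {c : F}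
    (h : HasTv M (c • (Pi.single i 1 : ι → F)) (Pi.single j 1)) :
    HasTv M (c • (Pi.single i 1 : ι → F)) (Pi.single k 1) := by
  have h1 := hasTv_single hM hkj.symm F₀.one_mem
  rw [one_smul] at h1
  have h2 := h.comm h1 (by simp [hki])
  simpa using h2

lemma move {i j p q : ι} (hij : i ≠ j) (hpq : p ≠ q) {c : F}
    (h : HasTv M (c • (Pi.single i 1 : ι → F)) (Pi.single j 1)) :
    HasTv M (c • (Pi.single p 1 : ι → F)) (Pi.single q 1) := by
  have hstep : ∀ {i' : ι}, i' ≠ q → HasTv M (c • (Pi.single i' 1 : ι → F)) (Pi.single q 1) →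
      HasTv M (c • (Pi.single p 1 : ι → F)) (Pi.single q 1) := fun {i'} hne h' => by
    rcases eq_or_ne p i' with rfl | hp
    · exact h'
    · exact move_row hM h4 hp hpq h'
  rcases eq_or_ne q i with rfl | hqi
  · obtain ⟨k, -, hk⟩ := Finset.exists_mem_notMem_of_card_lt_card (s := {q, j}) (t := Finset.univ)
      (by rw [Finset.card_univ]; exact lt_of_le_of_lt Finset.card_le_two (by omega))
    simp only [Finset.mem_insert, Finset.mem_singleton, not_or] at hk
    exact hstep hk.1 (move_col hM h4 (Ne.symm hk.1) hij (move_row hM h4 hk.1 hk.2 h))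
  · rcases eq_or_ne q j with rfl | hqj
    · exact hstep hij h
    · exact hstep (Ne.symm hqi) (move_col hM h4 hqi hqj h)

/-- A single irrational elementary transvection gives all of SL. -/
theorem specialLinear_le_of_win [Fintype F] {r : ℕ} (hr : r.Prime) (hcard : Fintype.card F = Nat.card F₀ ^ r)
    {i j : ι} (hij : i ≠ j) {c : F} (hc : c ∉ F₀)
    (h : HasTv M (c • (Pi.single i 1 : ι → F)) (Pi.single j 1)) : specialLinear ι F ≤ M := by
  classical
  let E : Set F := {x | ∀ p q : ι, p ≠ q → HasTv M (x • (Pi.single p 1 : ι → F)) (Pi.single q 1)}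
  have hF₀ : ∀ x ∈ F₀, x ∈ E := fun x hx p q hpq => hasTv_single hM hpq hx
  let A : Subalgebra F₀ F :=
    { carrier := E
      zero_mem' := hF₀ 0 F₀.zero_mem
      one_mem' := hF₀ 1 F₀.one_mem
      add_mem' := fun {x y} hx hy p q hpq => by rw [add_smul]; exact (hx p q hpq).add_center (hy p q hpq)
      mul_mem' := fun {x y} hx hy p q hpq => by
        obtain ⟨k, -, hk⟩ := Finset.exists_mem_notMem_of_card_lt_card (s := {p, q}) (t := Finset.univ)
          (by rw [Finset.card_univ]; exact lt_of_le_of_lt Finset.card_le_two (by omega))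
        simp only [Finset.mem_insert, Finset.mem_singleton, not_or] at hk
        have h2 := (hx p k (Ne.symm hk.1)).comm (hy k q hk.2) (by simp [hpq.symm])
        have h3 : (Pi.single k 1 : ι → F) ⬝ᵥ (y • (Pi.single k 1 : ι → F)) = y := by simp
        rw [h3] at h2
        rcases eq_or_ne y 0 with rfl | hy0
        · rw [mul_zero, zero_smul]; exact hasTv_zero_left M _
        · have := (hasTv_smul_iff y hy0).2 h2
          rwa [smul_smul, mul_comm] at this
      algebraMap_mem' := fun a => hF₀ a a.2 }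
  have hrank : Module.finrank F₀ F = r := by
    haveI := Fintype.ofFinite F₀
    have h1 := Module.card_eq_pow_finrank (K := F₀) (V := F)
    rw [Fintype.card_eq_nat_card, Nat.card_eq_fintype_card, hcard, Fintype.card_eq_nat_card] at *
    exact (Nat.pow_right_injective (Finite.one_lt_card (α := F₀)) h1).symm
  haveI := Subalgebra.isSimpleOrder_of_finrank_prime F₀ F (hrank ▸ hr)
  have hA : A = ⊤ := by
    refine (eq_bot_or_eq_top A).resolve_left fun hbot => hc ?_
    have : c ∈ A := fun p q hpq => move hM h4 hij hpq h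
    rw [hbot, Algebra.mem_bot] at this
    obtain ⟨a, rfl⟩ := this
    exact a.2
  exact specialLinear_le_of_elementary fun p q hpq x => (hA ▸ Algebra.mem_top : x ∈ A) p q hpq

omit hM in
lemma exists_index_notMem (s : Finset ι) (hs : s.card ≤ 3) : ∃ k, k ∉ s := by
  obtain ⟨k, -, hk⟩ := Finset.exists_mem_notMem_of_card_lt_card (s := s) (t := Finset.univ)
    (by rw [Finset.card_univ]; omega)
  exact ⟨k, hk⟩

omit hM in
/-- A rational vector supported on two coordinates, killed by a given rational covector and outside a given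
coordinate. -/
lemma exists_small_kernel {ψ : ι → F} (hψ : RatVec F₀ ψ) (k : ι) :
    ∃ e : ι → F, RatVec F₀ e ∧ ψ ⬝ᵥ e = 0 ∧ e k = 0 ∧ ∃ m p, e m ≠ 0 ∧ ∀ l, l ≠ m → l ≠ p → e l = 0 := by
  obtain ⟨p, hp⟩ := exists_index_notMem h4 {k} (by simp)
  obtain ⟨q, hq⟩ := exists_index_notMem h4 {k, p} (Finset.card_le_two.trans (by omega))
  simp only [Finset.mem_singleton, Finset.mem_insert, not_or] at hp hq
  by_cases hψp : ψ p = 0
  · exact ⟨Pi.single p 1, ratVec_single p F₀.one_mem, by simp [hψp], by simp [Ne.symm hp], p, p,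
      by simp, fun l hl _ => by simp [hl]⟩
  · refine ⟨Pi.single q (ψ p) - Pi.single p (ψ q), fun l => F₀.sub_mem (ratVec_single q (hψ p) l) (ratVec_single p (hψ q) l),
      by rw [dotProduct_sub, dotProduct_single, dotProduct_single]; ring, by simp [Ne.symm hp, Ne.symm hq.1], q, p,
      by simp [hq.2, hψp], fun l hl hl' => by simp [hl, hl']⟩

/-- No irrational elementary transvection. -/
def NoWin (M : Subgroup (GL ι F)) (F₀ : Subfield F) : Prop :=
  ∀ i j : ι, i ≠ j → ∀ c : F, HasTv M (c • (Pi.single i 1 : ι → F)) (Pi.single j 1) → c ∈ F₀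

variable (hnw : NoWin M F₀)
include hnw

/-- Rational centre and axis with an irrational factor cannot occur. -/
lemma no_scaled {e ψ : ι → F} (he : RatVec F₀ e) (hψ : RatVec F₀ ψ) (hψ0 : ψ ≠ 0) {c : F}
    {m p₀ : ι} (hm : e m ≠ 0) (hsupp : ∀ l, l ≠ m → l ≠ p₀ → e l = 0)
    (h : HasTv M (c • e) ψ) : c ∈ F₀ := by
  rcases eq_or_ne c 0 with rfl | hc
  · exact F₀.zero_mem
  obtain ⟨p, hp⟩ : ∃ p, ψ p ≠ 0 := Function.ne_iff.1 hψ0
  obtain ⟨j, hj⟩ := exists_index_notMem h4 {m, p₀, p} Finset.card_le_three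
  simp only [Finset.mem_insert, Finset.mem_singleton, not_or] at hj
  have hej : e j = 0 := hsupp j hj.1 hj.2.1
  have h1 := hasTv_single hM (Ne.symm hj.2.2) F₀.one_mem
  rw [one_smul] at h1
  have h2 := h.comm h1 (by simp [hej])
  have hψp : ψ ⬝ᵥ (Pi.single p 1 : ι → F) = ψ p := by simp
  rw [hψp, ← hasTv_smul_iff _ hp, smul_smul] at h2
  obtain ⟨l, hl⟩ := exists_index_notMem h4 {j, m} (Finset.card_le_two.trans (by omega))
  simp only [Finset.mem_insert, Finset.mem_singleton, not_or] at hl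
  have h3 := hasTv_single hM hl.2 F₀.one_mem
  rw [one_smul] at h3
  have h4' := h3.comm h2 (by simp [Ne.symm hl.1])
  have hv : (Pi.single m 1 : ι → F) ⬝ᵥ ((ψ p * c) • e) = ψ p * c * e m := by simp
  rw [hv, ← hasTv_smul_iff _ (mul_ne_zero (mul_ne_zero hp hc) hm)] at h4'
  have h5 := hnw l j hl.1 _ h4'
  have h6 : c = (ψ p)⁻¹ * (ψ p * c * e m) * (e m)⁻¹ := by field_simp
  rw [h6]
  exact F₀.mul_mem (F₀.mul_mem (F₀.inv_mem (hψ p)) h5) (F₀.inv_mem (he m))

lemma rat_of_axis {a ψ : ι → F} (hψ : RatVec F₀ ψ) (hψ0 : ψ ≠ 0) (h : HasTv M a ψ) : RatVec F₀ a := by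
  intro k
  obtain ⟨e, he, hψe, hek, m, p, hm, hsupp⟩ := exists_small_kernel h4 hψ k
  have hd : (Pi.single k 1 : ι → F) ⬝ᵥ e = 0 := by simp [hek]
  obtain ⟨hd', ht⟩ := hasTv_rat hM hd (he.ratTv (ratVec_single k F₀.one_mem))
  have h1 := h.conj ht
  have hψinv : ψ ᵥ* (((tvec e (Pi.single k 1) hd')⁻¹ : GL ι F) : Matrix ι ι F) = ψ := by
    change ψ ᵥ* (1 - vecMulVec e (Pi.single k 1)) = ψ
    rw [Matrix.vecMul_sub, Matrix.vecMul_one, Matrix.vecMul_vecMulVec, hψe, zero_smul, sub_zero]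
  rw [tvec_mulVec, hψinv] at h1
  have h2 := h1.sub_center h
  rw [add_sub_cancel_left] at h2
  exact no_scaled hM h4 hnw he hψ hψ0 hm hsupp (by simpa using h2)

lemma rat_of_centre {a φ : ι → F} (ha : RatVec F₀ a) (ha0 : a ≠ 0) (h : HasTv M a φ) : RatVec F₀ φ := by
  intro k
  obtain ⟨ψ, hψ, haψ, hψk, m, p, hm, hsupp⟩ := exists_small_kernel h4 ha k
  rw [dotProduct_comm] at haψ
  have hd : ψ ⬝ᵥ (Pi.single k 1 : ι → F) = 0 := by simp [hψk]
  obtain ⟨hd', ht⟩ := hasTv_rat hM hd ((ratVec_single k F₀.one_mem).ratTv hψ)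
  have h1 := h.conj ht
  have hinv : φ ᵥ* (((tvec (Pi.single k 1) ψ hd')⁻¹ : GL ι F) : Matrix ι ι F) = φ - φ k • ψ := by
    change φ ᵥ* (1 - vecMulVec (Pi.single k 1) ψ) = _
    rw [Matrix.vecMul_sub, Matrix.vecMul_one, Matrix.vecMul_vecMulVec, dotProduct_single, mul_one]
  rw [tvec_mulVec, haψ, zero_smul, add_zero, hinv] at h1
  have h2 := h.sub_axis h1
  rw [sub_sub_cancel] at h2
  obtain ⟨q, hq⟩ : ∃ q, a q ≠ 0 := Function.ne_iff.1 ha0
  obtain ⟨l, hl⟩ := exists_index_notMem h4 {m, p, q} Finset.card_le_three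
  simp only [Finset.mem_insert, Finset.mem_singleton, not_or] at hl
  have hψl : ψ l = 0 := hsupp l hl.1 hl.2.1
  have h3 := hasTv_single hM hl.2.2 F₀.one_mem
  rw [one_smul] at h3
  have h4' := h3.comm h2 (by simp [hψl])
  have hv : (Pi.single q 1 : ι → F) ⬝ᵥ a = a q := by simp
  rw [hv, smul_smul] at h4'
  rcases eq_or_ne (φ k) 0 with hφk | hφk
  · rw [hφk]; exact F₀.zero_mem
  rw [← hasTv_smul_iff _ (mul_ne_zero hq hφk)] at h4'
  have hψ0 : ψ ≠ 0 := fun e => hm (by rw [e]; rfl)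
  have h5 := no_scaled hM h4 hnw (ratVec_single l F₀.one_mem) hψ hψ0 (m := l) (p₀ := l) (by simp)
    (fun x hx _ => by simp [hx]) h4'
  rw [show φ k = (a q)⁻¹ * (a q * φ k) from (inv_mul_cancel_left₀ hq _).symm]
  exact F₀.mul_mem (F₀.inv_mem (ha q)) h5

lemma ratTv_of_centre_mul {a φ e : ι → F} (he : RatVec F₀ e) (he0 : e ≠ 0) {c : F} (hc : c ≠ 0)
    (hae : a = c • e) (h : HasTv M a φ) : RatTv F₀ a φ := by
  subst hae
  rw [hasTv_smul_iff c hc] at h
  intro k l
  have h1 := rat_of_centre hM h4 hnw he he0 h l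
  simp only [Pi.smul_apply, smul_eq_mul] at h1 ⊢
  rw [show c * e k * φ l = e k * (c * φ l) by ring]
  exact F₀.mul_mem (he k) h1

lemma ratTv_of_rat_ker {a φ ψ : ι → F} (hψ : RatVec F₀ ψ) (hψ0 : ψ ≠ 0) (hψa : ψ ⬝ᵥ a = 0)
    (h : HasTv M a φ) : RatTv F₀ a φ := by
  obtain ⟨p, hp⟩ : ∃ p, ψ p ≠ 0 := Function.ne_iff.1 hψ0
  by_cases hall : ∃ e, RatVec F₀ e ∧ ψ ⬝ᵥ e = 0 ∧ φ ⬝ᵥ e ≠ 0
  · obtain ⟨e, he, hψe, hφe⟩ := hall
    rcases eq_or_ne a 0 with rfl | ha0
    · intro k l; simp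
    have h1 := h.comm (hasTv_rat hM hψe (he.ratTv hψ)) hψa
    rw [← hasTv_smul_iff _ hφe] at h1
    have h2 := rat_of_axis hM h4 hnw hψ hψ0 h1
    exact ratTv_of_centre_mul hM h4 hnw h2 (smul_ne_zero hφe ha0) (inv_ne_zero hφe)
      (by rw [smul_smul, inv_mul_cancel₀ hφe, one_smul]) h
  · push Not at hall
    have hq : ∀ q, φ q = φ p / ψ p * ψ q := fun q => by
      have := hall (Pi.single q (ψ p) - Pi.single p (ψ q))
        (fun l => F₀.sub_mem (ratVec_single q (hψ p) l) (ratVec_single p (hψ q) l))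
        (by rw [dotProduct_sub, dotProduct_single, dotProduct_single]; ring)
      rw [dotProduct_sub, dotProduct_single, dotProduct_single, sub_eq_zero] at this
      field_simp
      linear_combination this
    have hφ : φ = (φ p / ψ p) • ψ := funext fun q => by simpa using hq q
    intro k l
    rcases eq_or_ne (φ p / ψ p) 0 with hμ | hμ
    · simp [hq l, hμ]
    rw [hφ, ← hasTv_smul_iff _ hμ] at h
    have h2 := rat_of_axis hM h4 hnw hψ hψ0 h k
    simp only [Pi.smul_apply, smul_eq_mul] at h2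
    rw [hq l, show a k * (φ p / ψ p * ψ l) = φ p / ψ p * a k * ψ l by ring]
    exact F₀.mul_mem h2 (hψ l)

lemma ratTv_of_rat_zero {a φ e : ι → F} (he : RatVec F₀ e) (he0 : e ≠ 0) (hφe : φ ⬝ᵥ e = 0)
    (h : HasTv M a φ) : RatTv F₀ a φ := by
  obtain ⟨p, hp⟩ : ∃ p, e p ≠ 0 := Function.ne_iff.1 he0
  by_cases hall : ∃ ψ, RatVec F₀ ψ ∧ ψ ⬝ᵥ e = 0 ∧ ψ ⬝ᵥ a ≠ 0
  · obtain ⟨ψ, hψ, hψe, hψa⟩ := hall
    intro k l
    rcases eq_or_ne φ 0 with rfl | hφ0
    · simp
    have h1 := (hasTv_rat hM hψe (he.ratTv hψ)).comm h hφe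
    have h2 := rat_of_centre hM h4 hnw he he0 h1
    have h3 := rat_of_axis hM h4 hnw (a := (ψ ⬝ᵥ a)⁻¹ • a) h2 (smul_ne_zero hψa hφ0)
      (by rw [hasTv_smul_iff _ (inv_ne_zero hψa), smul_smul, inv_mul_cancel₀ hψa, one_smul]; exact h)
    have e1 := F₀.mul_mem (h3 k) (h2 l)
    simp only [Pi.smul_apply, smul_eq_mul] at e1
    rwa [show (ψ ⬝ᵥ a)⁻¹ * a k * (ψ ⬝ᵥ a * φ l) = a k * φ l by field_simp] at e1
  · push Not at hall
    have hq : ∀ q, a q = a p / e p * e q := fun q => by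
      have := hall (Pi.single q (e p) - Pi.single p (e q))
        (fun l => F₀.sub_mem (ratVec_single q (he p) l) (ratVec_single p (he q) l))
        (by rw [sub_dotProduct, single_dotProduct, single_dotProduct]; ring)
      rw [sub_dotProduct, single_dotProduct, single_dotProduct, sub_eq_zero] at this
      field_simp
      linear_combination this
    intro k l
    rcases eq_or_ne (a p / e p) 0 with hμ | hμ
    · simp [hq k, hμ]
    exact ratTv_of_centre_mul hM h4 hnw he he0 hμ (funext fun q => by simpa using hq q) h k l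

lemma mem_rat_of_fix {x : GL ι F} (hx : x ∈ M) {i : ι} {α : F}
    (hxi : (x : Matrix ι ι F) *ᵥ (Pi.single i 1 : ι → F) = α • Pi.single i 1) : x ∈ ratScalar ι F₀ := by
  have himg : ∀ p q : ι, p ≠ q → HasTv M ((x : Matrix ι ι F) *ᵥ (Pi.single p 1 : ι → F))
      ((Pi.single q 1 : ι → F) ᵥ* ((x⁻¹ : GL ι F) : Matrix ι ι F)) := fun p q hpq => by
    have h1 := hasTv_single hM hpq F₀.one_mem
    rw [one_smul] at h1
    exact h1.conj hx
  have hα : α ≠ 0 := by
    rintro rfl
    rw [zero_smul] at hxi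
    have := congrArg (fun v => ((x⁻¹ : GL ι F) : Matrix ι ι F) *ᵥ v) hxi
    rw [inv_mulVec_mulVec, Matrix.mulVec_zero] at this
    simp at this
  have hrat : ∀ p q : ι, p ≠ q → RatTv F₀ ((x : Matrix ι ι F) *ᵥ (Pi.single p 1 : ι → F))
      ((Pi.single q 1 : ι → F) ᵥ* ((x⁻¹ : GL ι F) : Matrix ι ι F)) := by
    intro p q hpq
    rcases eq_or_ne p i with rfl | hpi
    · exact ratTv_of_centre_mul hM h4 hnw (ratVec_single p F₀.one_mem) (by simp) hα hxi (himg p q hpq)
    obtain ⟨q', hq'⟩ := exists_index_notMem h4 {i, p} (Finset.card_le_two.trans (by omega))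
    simp only [Finset.mem_insert, Finset.mem_singleton, not_or] at hq'
    have hrow : RatVec F₀ (α • ((Pi.single q' 1 : ι → F) ᵥ* ((x⁻¹ : GL ι F) : Matrix ι ι F))) := by
      intro l
      have h1 := ratTv_of_centre_mul hM h4 hnw (ratVec_single i F₀.one_mem) (by simp) hα hxi
        (himg i q' (Ne.symm hq'.1)) i l
      rw [hxi] at h1
      simpa using h1
    refine ratTv_of_rat_ker hM h4 hnw hrow ?_ ?_ (himg p q hpq)
    · intro e
      rcases smul_eq_zero.1 e with e | e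
      · exact hα e
      · have := congrArg (fun v => v ⬝ᵥ ((x : Matrix ι ι F) *ᵥ (Pi.single q' 1 : ι → F))) e
        simp only [vecMul_dotProduct_mulVec, zero_dotProduct] at this
        simp at this
    · rw [smul_dotProduct, vecMul_dotProduct_mulVec]
      simp [Ne.symm hq'.2, hq'.2]
  have hxy : ∀ k p q l, (x : Matrix ι ι F) k p * ((x⁻¹ : GL ι F) : Matrix ι ι F) q l ∈ F₀ ∨ p = q := by
    intro k p q l
    by_cases hpq : p = q
    · exact Or.inr hpq
    · left; simpa [RatTv] using hrat p q hpq k l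
  have hall : ∀ k p q l, (x : Matrix ι ι F) k p * ((x⁻¹ : GL ι F) : Matrix ι ι F) q l ∈ F₀ := by
    intro k p q l
    rcases hxy k p q l with h | rfl
    · exact h
    obtain ⟨j, hj⟩ := exists_index_notMem h4 {p} (by simp)
    simp only [Finset.mem_singleton] at hj
    have hone : ∑ m, ((x⁻¹ : GL ι F) : Matrix ι ι F) j m * (x : Matrix ι ι F) m j = 1 := by
      rw [← Matrix.mul_apply, ← Units.val_mul, inv_mul_cancel, Units.val_one, Matrix.one_apply_eq]
    rw [← mul_one ((x : Matrix ι ι F) k p), ← hone, Finset.mul_sum, Finset.sum_mul]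
    refine F₀.sum_mem fun m _ => ?_
    have h1 := (hxy k p j m).resolve_right (Ne.symm hj)
    have h2 := (hxy m j p l).resolve_right hj
    convert F₀.mul_mem h1 h2 using 1
    ring
  obtain ⟨q, l, hd⟩ : ∃ q l, ((x⁻¹ : GL ι F) : Matrix ι ι F) q l ≠ 0 := by
    by_contra hcon
    push Not at hcon
    have h0 : ((x⁻¹ : GL ι F) : Matrix ι ι F) = 0 := Matrix.ext hcon
    have h1 := inv_mulVec_mulVec x (Pi.single i 1)
    rw [h0, Matrix.zero_mulVec] at h1
    simpa using congrFun h1 i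
  exact mem_ratScalar_of_scaled hd fun k p => by rw [mul_comm]; exact hall k p q l

omit hM h4 hnw in
/-- Three numbers in a plane over the subfield satisfy a rational relation. -/
lemma exists_rat_relation (s : F) (b u v : Fin 3 → F) (hu : ∀ m, u m ∈ F₀) (hv : ∀ m, v m ∈ F₀)
    (hb : ∀ m, b m = u m + s * v m) :
    ∃ w : Fin 3 → F, (∀ m, w m ∈ F₀) ∧ w ≠ 0 ∧ w ⬝ᵥ b = 0 := by
  obtain ⟨w, hw0, hw⟩ := exists_ne_zero_dot_eq_zero (ι := Fin 3) (F := F₀)
    ![fun m => (⟨u m, hu m⟩ : F₀), fun m => ⟨v m, hv m⟩] (by simp)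
  refine ⟨fun m => (w m : F), fun m => (w m).2, fun e => hw0 (funext fun m => Subtype.ext (congrFun e m)), ?_⟩
  have e1 := congrArg Subtype.val (hw 0)
  have e2 := congrArg Subtype.val (hw 1)
  simp only [Matrix.cons_val_zero, Matrix.cons_val_one, dotProduct, AddSubmonoidClass.coe_finsetSum,
    Subfield.coe_mul, ZeroMemClass.coe_zero] at e1 e2
  simp only [dotProduct, hb, mul_add, Finset.sum_add_distrib]
  have e3 : ∑ m, (w m : F) * (s * v m) = s * ∑ m, v m * (w m : F) := by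
    rw [Finset.mul_sum]; exact Finset.sum_congr rfl fun m _ => by ring
  rw [e3, e2, mul_zero, add_zero]
  exact (Finset.sum_congr rfl fun m _ => mul_comm _ _).trans e1

/-- An element of `M` moving everything into the plane spanned by the axis and a rational vector and fixing
both is trivial. -/
lemma eq_one_of_fix_plane {a φ : ι → F} (h : HasTv M a φ) {i : ι}
    (hfull : ∀ ψ, RatVec F₀ ψ → ψ ⬝ᵥ a = 0 → ψ = 0) (hφe : φ ⬝ᵥ (Pi.single i 1 : ι → F) ≠ 0)
    (ha : ∀ k, a k ≠ 0) (hae : a ∉ F ∙ (Pi.single i 1 : ι → F)) {g : GL ι F} (hgM : g ∈ M)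
    (hpresg : ∀ z, ∃ α β : F, (g : Matrix ι ι F) *ᵥ z - z = α • (Pi.single i 1 : ι → F) + β • a)
    (hge : (g : Matrix ι ι F) *ᵥ (Pi.single i 1 : ι → F) = Pi.single i 1)
    (hga : (g : Matrix ι ι F) *ᵥ a = a) : g = 1 := by
  set e : ι → F := Pi.single i 1 with hedef
  have herat : RatVec F₀ e := ratVec_single i F₀.one_mem
  have he0 : e ≠ 0 := by simp [hedef]
  have hfix : ∀ z, ((g⁻¹ : GL ι F) : Matrix ι ι F) *ᵥ ((g : Matrix ι ι F) *ᵥ z) = z := inv_mulVec_mulVec g
  set φ' := φ ᵥ* ((g⁻¹ : GL ι F) : Matrix ι ι F) - φ with hφ'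
  have h1 : HasTv M a φ' := by
    have := h.conj hgM
    rw [hga] at this
    exact this.sub_axis h
  have hgie : ((g⁻¹ : GL ι F) : Matrix ι ι F) *ᵥ e = e := by
    conv_lhs => rw [← hge]
    rw [hfix]
  have hφ'e : φ' ⬝ᵥ e = 0 := by
    rw [hφ', sub_dotProduct, ← Matrix.dotProduct_mulVec, hgie, sub_self]
  have hφ'0 : φ' = 0 := by
    funext l
    by_contra hl
    have hl' : φ' l ≠ 0 := hl
    have hrat := ratTv_of_rat_zero hM h4 hnw herat he0 hφ'e h1
    obtain ⟨k₁, hk₁⟩ := exists_index_notMem h4 {i} (by simp)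
    simp only [Finset.mem_singleton] at hk₁
    have := hfull (Pi.single k₁ (a i * φ' l) - Pi.single i (a k₁ * φ' l))
      (fun m => F₀.sub_mem (ratVec_single k₁ (hrat i l) m) (ratVec_single i (hrat k₁ l) m))
      (by rw [sub_dotProduct, single_dotProduct, single_dotProduct]; ring)
    have h2 := congrFun this k₁
    simp [hk₁, ha i] at h2
    exact hl' h2
  have hφg : ∀ z, φ ⬝ᵥ ((g : Matrix ι ι F) *ᵥ z) = φ ⬝ᵥ z := fun z => by
    have h2 := congrArg (fun ξ => ξ ⬝ᵥ ((g : Matrix ι ι F) *ᵥ z)) hφ'0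
    simp only [hφ', sub_dotProduct, zero_dotProduct, vecMul_dotProduct_mulVec, sub_eq_zero] at h2
    exact h2.symm
  have hline : ∀ z, ∃ β : F, (g : Matrix ι ι F) *ᵥ z - z = β • a := by
    intro z
    obtain ⟨α, β, hαβ⟩ := hpresg z
    refine ⟨β, ?_⟩
    have h2 := congrArg (fun v => φ ⬝ᵥ v) hαβ
    simp only [dotProduct_sub, dotProduct_add, dotProduct_smul, hφg, h.1, smul_eq_mul, mul_zero,
      add_zero, sub_self] at h2
    rw [hαβ, (mul_eq_zero.1 h2.symm).resolve_right hφe]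
    simp
  choose β hβ using hline
  let χ : ι → F := fun l => β (Pi.single l 1)
  have hdot : ∀ z, (g : Matrix ι ι F) *ᵥ z = z + (χ ⬝ᵥ z) • a := by
    intro z
    have hsum : ((g : Matrix ι ι F) *ᵥ z) - z =
        ∑ l, z l • ((g : Matrix ι ι F) *ᵥ Pi.single l 1 - Pi.single l 1) := by
      simp only [smul_sub, Finset.sum_sub_distrib, ← Matrix.mulVec_smul, ← Matrix.mulVec_sum]
      rw [← pi_eq_sum_univ' z]
    have h2 : (∑ l, z l • ((g : Matrix ι ι F) *ᵥ Pi.single l 1 - Pi.single l 1)) = (χ ⬝ᵥ z) • a := by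
      simp only [hβ, smul_smul, dotProduct, χ, Finset.sum_smul, mul_comm]
    rw [← h2, ← hsum]
    abel
  have hχa : χ ⬝ᵥ a = 0 := by
    have h2 := hdot a
    rw [hga] at h2
    exact (smul_eq_zero.1 (left_eq_add.1 h2)).resolve_right fun h0 => hae (h0 ▸ Submodule.zero_mem _)
  have hχe : χ ⬝ᵥ e = 0 := by
    have h2 := hdot e
    rw [hge] at h2
    exact (smul_eq_zero.1 (left_eq_add.1 h2)).resolve_right fun h0 => hae (h0 ▸ Submodule.zero_mem _)
  have hgeq : g = tvec a χ hχa := gl_ext_mulVec fun z => by rw [hdot, tvec_mulVec]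
  have hrat := ratTv_of_rat_zero hM h4 hnw herat he0 hχe (a := a) ⟨hχa, hgeq ▸ hgM⟩
  refine gl_ext_mulVec fun z => ?_
  rw [hdot, Units.val_one, Matrix.one_mulVec]
  suffices χ = 0 by simp [this]
  funext l
  by_contra hl
  obtain ⟨k₁, hk₁⟩ := exists_index_notMem h4 {i} (by simp)
  simp only [Finset.mem_singleton] at hk₁
  have := hfull (Pi.single k₁ (a i * χ l) - Pi.single i (a k₁ * χ l))
    (fun m => F₀.sub_mem (ratVec_single k₁ (hrat i l) m) (ratVec_single i (hrat k₁ l) m))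
    (by rw [sub_dotProduct, single_dotProduct, single_dotProduct]; ring)
  have h2 := congrFun this k₁
  simp [hk₁, ha i] at h2
  exact hl h2

omit h4 hnw hM in
lemma vec3_injective {k₁ k₂ k₃ : ι} (h12 : k₂ ≠ k₁) (h13 : k₃ ≠ k₁) (h23 : k₃ ≠ k₂) {m m' : Fin 3}
    (e : ![k₁, k₂, k₃] m = ![k₁, k₂, k₃] m') : m = m' := by
  revert e
  fin_cases m <;> fin_cases m' <;>
    simp [h12, h13, h23, h12.symm, h13.symm, h23.symm]

/-- An element of `M` moving everything into the plane spanned by the axis and a rational vector and fixing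
the rational line fixes the rational vector and shears the axis. -/
lemma fix_of_fix_line [Finite F] (hMS : M ≤ specialLinear ι F) {a : ι → F} {i : ι}
    (hfull : ∀ ψ, RatVec F₀ ψ → ψ ⬝ᵥ a = 0 → ψ = 0)
    {g : GL ι F} (hgM : g ∈ M)
    (hpresg : ∀ z, ∃ α β : F, (g : Matrix ι ι F) *ᵥ z - z = α • (Pi.single i 1 : ι → F) + β • a)
    {α : F} (hgα : (g : Matrix ι ι F) *ᵥ (Pi.single i 1 : ι → F) = α • (Pi.single i 1 : ι → F)) :
    (g : Matrix ι ι F) *ᵥ (Pi.single i 1 : ι → F) = Pi.single i 1 ∧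
      ∃ m : F, (g : Matrix ι ι F) *ᵥ a = a + m • (Pi.single i 1 : ι → F) := by
  set e : ι → F := Pi.single i 1 with hedef
  obtain ⟨d, hd, hdg⟩ := exists_scaled_of_mem (mem_rat_of_fix hM h4 hnw hgM hgα)
  have hcol : ∀ l, ∃ α' : F, (g : Matrix ι ι F) *ᵥ Pi.single l 1 - Pi.single l 1 = α' • e := by
    intro l
    obtain ⟨α', β, hαβ⟩ := hpresg (Pi.single l 1)
    refine ⟨α', ?_⟩
    suffices β = 0 by rw [hαβ, this, zero_smul, add_zero]
    by_contra hβ
    obtain ⟨k₁, hk₁⟩ := exists_index_notMem h4 {i} (by simp)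
    obtain ⟨k₂, hk₂⟩ := exists_index_notMem h4 {i, k₁} (Finset.card_le_two.trans (by omega))
    obtain ⟨k₃, hk₃⟩ := exists_index_notMem h4 {i, k₁, k₂} Finset.card_le_three
    simp only [Finset.mem_insert, Finset.mem_singleton, not_or] at hk₁ hk₂ hk₃
    let ks : Fin 3 → ι := ![k₁, k₂, k₃]
    have hks : ∀ m, ks m ≠ i := fun m => by fin_cases m; exacts [hk₁, hk₂.1, hk₃.1]
    have hval : ∀ m, β * a (ks m) =
        -((Pi.single l 1 : ι → F) (ks m)) + d⁻¹ * (d * (g : Matrix ι ι F) (ks m) l) := fun m => by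
      have h2 := congrFun hαβ (ks m)
      simp only [Pi.sub_apply, Pi.add_apply, Pi.smul_apply, Matrix.mulVec_single_one, Matrix.col_apply,
        hedef, Pi.single_eq_of_ne (hks m), smul_eq_mul, mul_zero, zero_add] at h2
      rw [inv_mul_cancel_left₀ hd]
      linear_combination -h2
    obtain ⟨w, hw, hw0, hwb⟩ := exists_rat_relation (F₀ := F₀) d⁻¹ (fun m => β * a (ks m))
      (fun m => -((Pi.single l 1 : ι → F) (ks m))) (fun m => d * (g : Matrix ι ι F) (ks m) l)
      (fun m => F₀.neg_mem (ratVec_single l F₀.one_mem _)) (fun m => hdg _ _) hval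
    have hdotw : (∑ m, Pi.single (ks m) (w m) : ι → F) ⬝ᵥ a = 0 := by
      rw [sum_dotProduct]
      simp only [single_dotProduct]
      have : β * ∑ m, w m * a (ks m) = 0 := by
        rw [Finset.mul_sum, ← hwb]
        exact Finset.sum_congr rfl fun m _ => by ring
      exact (mul_eq_zero.1 this).resolve_left hβ
    have hz := hfull _ (fun k => by
      rw [Finset.sum_apply]
      exact F₀.sum_mem fun m _ => ratVec_single _ (hw m) k) hdotw
    refine hw0 (funext fun m => ?_)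
    have h3 := congrFun hz (ks m)
    rw [Finset.sum_apply, Finset.sum_eq_single m] at h3
    · simpa using h3
    · intro m' _ hm'
      refine Pi.single_eq_of_ne (fun e' => hm' ?_) _
      exact (vec3_injective hk₂.2 hk₃.2.1 hk₃.2.2 e').symm
    · simp
  choose γ hγ using hcol
  let χ : ι → F := fun l => γ l
  have hdot : ∀ z, (g : Matrix ι ι F) *ᵥ z = z + (χ ⬝ᵥ z) • e := by
    intro z
    have hsum : ((g : Matrix ι ι F) *ᵥ z) - z =
        ∑ l, z l • ((g : Matrix ι ι F) *ᵥ Pi.single l 1 - Pi.single l 1) := by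
      simp only [smul_sub, Finset.sum_sub_distrib, ← Matrix.mulVec_smul, ← Matrix.mulVec_sum]
      rw [← pi_eq_sum_univ' z]
    have h2 : (∑ l, z l • ((g : Matrix ι ι F) *ᵥ Pi.single l 1 - Pi.single l 1)) = (χ ⬝ᵥ z) • e := by
      simp only [hγ, smul_smul, dotProduct, χ, Finset.sum_smul, mul_comm]
    rw [← h2, ← hsum]
    abel
  have hdet : χ ⬝ᵥ e = 0 := by
    have hg1 := mem_specialLinear.1 (hMS hgM)
    have hmat : (g : Matrix ι ι F) = 1 + vecMulVec e χ := Matrix.ext_iff_mulVec.2 fun z => by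
      rw [hdot, Matrix.add_mulVec, Matrix.one_mulVec, Matrix.vecMulVec_mulVec, op_smul_eq_smul]
    rw [hmat, det_one_add_vecMulVec] at hg1
    simpa using hg1
  exact ⟨by rw [hdot, hdet, zero_smul, add_zero], χ ⬝ᵥ a, hdot a⟩

/-- Every transvection of `M` is rational. -/
theorem ratTv_of_hasTv [Finite F] (hMS : M ≤ specialLinear ι F) {a φ : ι → F} (h : HasTv M a φ) :
    RatTv F₀ a φ := by
  by_contra hbad
  have hfull : ∀ ψ, RatVec F₀ ψ → ψ ⬝ᵥ a = 0 → ψ = 0 := fun ψ hψ hψa =>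
    by_contra fun hψ0 => hbad (ratTv_of_rat_ker hM h4 hnw hψ hψ0 hψa h)
  have hfullφ : ∀ e, RatVec F₀ e → φ ⬝ᵥ e = 0 → e = 0 := fun e he hφe =>
    by_contra fun he0 => hbad (ratTv_of_rat_zero hM h4 hnw he he0 hφe h)
  obtain ⟨i⟩ : Nonempty ι := Fintype.card_pos_iff.1 (by omega)
  set e : ι → F := Pi.single i 1 with hedef
  have herat : RatVec F₀ e := ratVec_single i F₀.one_mem
  have he0 : e ≠ 0 := by simp [hedef]
  have hφe : φ ⬝ᵥ e ≠ 0 := fun h0 => he0 (hfullφ e herat h0)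
  have ha : ∀ k, a k ≠ 0 := fun k h0 => by
    have := hfull (Pi.single k 1) (ratVec_single k F₀.one_mem) (by simp [h0])
    simp at this
  have hae : a ∉ F ∙ e := by
    intro hmem
    obtain ⟨c, hc⟩ := Submodule.mem_span_singleton.1 hmem
    obtain ⟨k, hk⟩ := exists_index_notMem h4 {i} (by simp)
    simp only [Finset.mem_singleton] at hk
    exact ha k (by rw [← hc]; simp [hedef, hk])
  let P : Submodule F (ι → F) := (F ∙ e) ⊔ (F ∙ a)
  have hPmem : ∀ z ∈ P, ∃ α β : F, z = α • e + β • a := by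
    intro z hz
    obtain ⟨y, hy, w, hw, rfl⟩ := Submodule.mem_sup.1 hz
    obtain ⟨α, rfl⟩ := Submodule.mem_span_singleton.1 hy
    obtain ⟨β, rfl⟩ := Submodule.mem_span_singleton.1 hw
    exact ⟨α, β, rfl⟩
  let gens : Set (GL ι F) := {g | ∃ ψ, ∃ hψe : ψ ⬝ᵥ e = 0, RatVec F₀ ψ ∧ g = tvec e ψ hψe} ∪ {tvec a φ h.1}
  let G : Subgroup (GL ι F) := Subgroup.closure gens
  have hGM : G ≤ M := by
    refine (Subgroup.closure_le _).2 ?_
    rintro g (⟨ψ, hψe, hψ, rfl⟩ | rfl)
    · exact hM (tvec_mem_rat hψe (herat.ratTv hψ))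
    · exact h.2
  have hpres : ∀ g ∈ G, ∀ z, (g : Matrix ι ι F) *ᵥ z - z ∈ P := by
    intro g hg
    induction hg using Subgroup.closure_induction with
    | mem g hg =>
      rcases hg with ⟨ψ, hψe, -, rfl⟩ | rfl
      · intro z
        rw [tvec_mulVec, add_sub_cancel_left]
        exact P.smul_mem _ (Submodule.mem_sup_left (Submodule.mem_span_singleton_self e))
      · intro z
        rw [tvec_mulVec, add_sub_cancel_left]
        exact P.smul_mem _ (Submodule.mem_sup_right (Submodule.mem_span_singleton_self a))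
    | one => intro z; simp
    | mul g g' _ _ hg hg' =>
      intro z
      rw [mul_mulVec]
      have := P.add_mem (hg ((g' : Matrix ι ι F) *ᵥ z)) (hg' z)
      rwa [sub_add_sub_cancel] at this
    | inv g _ hg =>
      intro z
      have := P.neg_mem (hg (((g⁻¹ : GL ι F) : Matrix ι ι F) *ᵥ z))
      rwa [neg_sub, mulVec_inv_mulVec] at this
  -- faithful on the plane
  have hfaith : ∀ g ∈ G, (g : Matrix ι ι F) *ᵥ e = e → (g : Matrix ι ι F) *ᵥ a = a → g = 1 :=
    fun g hg hge hga => eq_one_of_fix_plane hM h4 hnw h hfull hφe ha hae (hGM hg)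
      (fun z => hPmem _ (hpres g hg z)) hge hga
  -- the stabiliser of the line through `e`
  have hF1 : ∀ g ∈ G, ∀ α : F, (g : Matrix ι ι F) *ᵥ e = α • e →
      (g : Matrix ι ι F) *ᵥ e = e ∧ ∃ m : F, (g : Matrix ι ι F) *ᵥ a = a + m • e :=
    fun g hg α hgα => fix_of_fix_line hM h4 hnw hMS hfull (hGM hg) (fun z => hPmem _ (hpres g hg z)) hgα
  -- the fixer of `e` in `G`
  let U : Subgroup G :=
    { carrier := {g | ((g : GL ι F) : Matrix ι ι F) *ᵥ e = e}
      one_mem' := by simp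
      mul_mem' := fun {x y} hx hy => by
        simp only [Set.mem_ofPred_eq, Subgroup.coe_mul, mul_mulVec] at *
        rw [hy, hx]
      inv_mem' := fun {x} hx => by
        simp only [Set.mem_ofPred_eq, Subgroup.coe_inv] at *
        conv_lhs => rw [← hx]
        rw [inv_mulVec_mulVec] }
  have hU : ∀ g : G, g ∈ U ↔ ((g : GL ι F) : Matrix ι ι F) *ᵥ e = e := fun g => Iff.rfl
  have hUm : ∀ g : G, g ∈ U → ∃ m : F, ((g : GL ι F) : Matrix ι ι F) *ᵥ a = a + m • e := fun g hg =>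
    (hF1 g g.2 1 (by rw [one_smul]; exact hg)).2
  have hmemU : ∀ (g : G) (α : F), ((g : GL ι F) : Matrix ι ι F) *ᵥ e = α • e → g ∈ U :=
    fun g α hg => (hF1 g g.2 α hg).1
  have heq : ∀ x y : G, x ∈ U → y ∈ U →
      ((x : GL ι F) : Matrix ι ι F) *ᵥ a = ((y : GL ι F) : Matrix ι ι F) *ᵥ a → x = y := by
    intro x y hx hy hxy
    rw [hU] at hx hy
    have h1 : (((x⁻¹ * y : G) : GL ι F)) = 1 := by
      refine hfaith _ (x⁻¹ * y).2 ?_ ?_
      · rw [Subgroup.coe_mul, Subgroup.coe_inv, mul_mulVec, hy]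
        conv_lhs => rw [← hx]
        rw [inv_mulVec_mulVec]
      · rw [Subgroup.coe_mul, Subgroup.coe_inv, mul_mulVec, ← hxy, inv_mulVec_mulVec]
    exact inv_mul_eq_one.1 (Subtype.ext h1)
  let p := ringChar F
  haveI : Fact p.Prime := ⟨CharP.char_is_prime F p⟩
  have hexp : ∀ x ∈ U, x ^ p = 1 := by
    intro x hx
    obtain ⟨m, hm⟩ := hUm x hx
    have hiter : ∀ k : ℕ, (((x ^ k : G) : GL ι F) : Matrix ι ι F) *ᵥ a = a + ((k : F) * m) • e := by
      intro k
      induction k with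
      | zero => simp
      | succ k ih =>
        rw [pow_succ', Subgroup.coe_mul, mul_mulVec, ih, Matrix.mulVec_add, Matrix.mulVec_smul, hm,
          (hU x).1 hx]
        push_cast
        module
    refine heq _ 1 (U.pow_mem hx p) U.one_mem ?_
    rw [hiter, CharP.cast_eq_zero]
    simp
  have hab : ∀ x ∈ U, ∀ y ∈ U, x * y = y * x := by
    intro x hx y hy
    obtain ⟨m, hm⟩ := hUm x hx
    obtain ⟨m', hm'⟩ := hUm y hy
    refine heq _ _ (U.mul_mem hx hy) (U.mul_mem hy hx) ?_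
    simp only [Subgroup.coe_mul, mul_mulVec, hm, hm', Matrix.mulVec_add, Matrix.mulVec_smul,
      (hU x).1 hx, (hU y).1 hy]
    module
  have hQ : ∀ ψ, RatVec F₀ ψ → ∀ hψe : ψ ⬝ᵥ e = 0, tvec e ψ hψe ∈ G := fun ψ hψ hψe =>
    Subgroup.subset_closure (Or.inl ⟨ψ, hψe, hψ, rfl⟩)
  have hQU : ∀ ψ (hψ : RatVec F₀ ψ) (hψe : ψ ⬝ᵥ e = 0), (⟨_, hQ ψ hψ hψe⟩ : G) ∈ U := fun ψ hψ hψe => by
    rw [hU]; change (tvec e ψ hψe : Matrix ι ι F) *ᵥ e = e
    rw [tvec_mulVec, hψe, zero_smul, add_zero]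
  obtain ⟨k₁, hk₁⟩ := exists_index_notMem h4 {i} (by simp)
  obtain ⟨k₂, hk₂⟩ := exists_index_notMem h4 {i, k₁} (Finset.card_le_two.trans (by omega))
  simp only [Finset.mem_insert, Finset.mem_singleton, not_or] at hk₁ hk₂
  -- a vector of the plane fixed by `U` lies on the line through `e`
  have hfixP : ∀ x : G, x ∈ U → x ≠ 1 → ∀ z ∈ P,
      ((x : GL ι F) : Matrix ι ι F) *ᵥ z = z → ∃ α : F, z = α • e := by
    intro x hx hx1 z hz hxz
    obtain ⟨α, β, rfl⟩ := hPmem z hz
    obtain ⟨m, hm⟩ := hUm x hx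
    refine ⟨α, ?_⟩
    suffices β = 0 by simp [this]
    by_contra hβ
    apply hx1
    refine heq x 1 hx U.one_mem ?_
    rw [Matrix.mulVec_add, Matrix.mulVec_smul, Matrix.mulVec_smul, (hU x).1 hx, add_right_inj] at hxz
    rw [smul_right_injective _ hβ hxz]
    simp
  have hux : (⟨_, hQ (Pi.single k₁ 1) (ratVec_single k₁ F₀.one_mem) (by simp [hedef, hk₁])⟩ : G) ≠ 1 := by
    intro h1
    have h2 : (tvec e (Pi.single k₁ 1) (by simp [hedef, hk₁]) : GL ι F) = 1 := congrArg Subtype.val h1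
    have h3 := congrArg (fun g : GL ι F => (g : Matrix ι ι F) *ᵥ (Pi.single k₁ 1 : ι → F)) h2
    simp only [tvec_mulVec, Units.val_one, Matrix.one_mulVec, single_dotProduct, Pi.single_eq_same,
      mul_one, one_smul, add_eq_left] at h3
    exact he0 h3
  have hnorm : Subgroup.normalizer (U : Set G) ≤ U := by
    intro g hg
    set x : G := ⟨_, hQ (Pi.single k₁ 1) (ratVec_single k₁ F₀.one_mem) (by simp [hedef, hk₁])⟩
    have hxU : x ∈ U := hQU (Pi.single k₁ 1) (ratVec_single k₁ F₀.one_mem) _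
    have hxg : g⁻¹ * x * g ∈ U := by
      have := (Subgroup.mem_normalizer_iff.1 (Subgroup.inv_mem _ hg) x).1 hxU
      simpa using this
    have hz : ((g : GL ι F) : Matrix ι ι F) *ᵥ e ∈ P := by
      have := P.add_mem (hpres g g.2 e) (Submodule.mem_sup_left (Submodule.mem_span_singleton_self e))
      rwa [sub_add_cancel] at this
    have hfix : ((x : GL ι F) : Matrix ι ι F) *ᵥ (((g : GL ι F) : Matrix ι ι F) *ᵥ e) =
        ((g : GL ι F) : Matrix ι ι F) *ᵥ e := by
      have h2 := congrArg (fun v => ((g : GL ι F) : Matrix ι ι F) *ᵥ v) ((hU _).1 hxg)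
      simp only [Subgroup.coe_mul, Subgroup.coe_inv, mul_mulVec, mulVec_inv_mulVec] at h2
      exact h2
    obtain ⟨α, hα⟩ := hfixP x hxU hux _ hz hfix
    exact hmemU g α hα
  have hcent : ∀ x ∈ U, x ≠ 1 → ∀ y, x * y = y * x → y ∈ U := by
    intro x hx hx1 y hxy
    have hz : ((y : GL ι F) : Matrix ι ι F) *ᵥ e ∈ P := by
      have := P.add_mem (hpres y y.2 e) (Submodule.mem_sup_left (Submodule.mem_span_singleton_self e))
      rwa [sub_add_cancel] at this
    have hfix : ((x : GL ι F) : Matrix ι ι F) *ᵥ (((y : GL ι F) : Matrix ι ι F) *ᵥ e) =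
        ((y : GL ι F) : Matrix ι ι F) *ᵥ e := by
      rw [← mul_mulVec, ← Subgroup.coe_mul, hxy, Subgroup.coe_mul, mul_mulVec, (hU x).1 hx]
    obtain ⟨α, hα⟩ := hfixP x hx hx1 _ hz hfix
    exact hmemU y α hα
  have hcyc : ¬ IsCyclic U := by
    intro hc
    have hle : Nat.card U ≤ p := by
      rw [← IsCyclic.exponent_eq_card]
      exact Nat.le_of_dvd (CharP.char_is_prime F p).pos
        (Monoid.exponent_dvd_of_forall_pow_eq_one fun x => Subtype.ext (hexp x x.2))
    let ψ₂ : F₀ × F₀ → (ι → F) := fun c => Pi.single k₁ (c.1 : F) + Pi.single k₂ (c.2 : F)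
    have hψr : ∀ c, RatVec F₀ (ψ₂ c) := fun c k =>
      F₀.add_mem (ratVec_single k₁ c.1.2 k) (ratVec_single k₂ c.2.2 k)
    have hψe : ∀ c, ψ₂ c ⬝ᵥ e = 0 := fun c => by simp [ψ₂, hedef, hk₁, hk₂.1]
    have hinj : Function.Injective
        (fun c : F₀ × F₀ => (⟨⟨_, hQ _ (hψr c) (hψe c)⟩, hQU _ (hψr c) (hψe c)⟩ : U)) := by
      intro c c' hcc
      have h1 : tvec e (ψ₂ c) (hψe c) = tvec e (ψ₂ c') (hψe c') :=
        congrArg (fun u : U => ((u : G) : GL ι F)) hcc
      have h2 : ∀ l, ψ₂ c l = ψ₂ c' l := fun l => by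
        have := congrArg (fun g : GL ι F => (g : Matrix ι ι F) i l) h1
        simpa [tvec_val, Matrix.vecMulVec_apply, hedef] using this
      refine Prod.ext (Subtype.ext ?_) (Subtype.ext ?_)
      · simpa [ψ₂, Ne.symm hk₂.2] using h2 k₁
      · simpa [ψ₂, hk₂.2] using h2 k₂
    have hbig := Nat.card_le_card_of_injective _ hinj
    rw [Nat.card_prod] at hbig
    haveI : CharP F₀ p := (RingHom.charP_iff_charP (F₀.subtype : F₀ →+* F) p).2 (inferInstanceAs (CharP F (ringChar F)))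
    haveI := Fintype.ofFinite F₀
    obtain ⟨m, -, hm⟩ := FiniteField.card F₀ p
    have hp2 : p ≤ Nat.card F₀ := by rw [Nat.card_eq_fintype_card, hm]; exact Nat.le_self_pow m.pos.ne' p
    have hlt : p < Nat.card F₀ * Nat.card F₀ :=
      lt_of_le_of_lt hp2 (lt_mul_of_one_lt_left Nat.card_pos Finite.one_lt_card)
    omega
  have htop := eq_top_of_selfNormalizing U (p := p) (fun x => ⟨1, by
    rw [pow_one]; exact Subtype.ext (hexp x x.2)⟩) hab hnorm hcyc hcent
  have ht : (⟨tvec a φ h.1, Subgroup.subset_closure (Or.inr rfl)⟩ : G) ∈ U := by rw [htop]; trivial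
  have h1 : (tvec a φ h.1 : Matrix ι ι F) *ᵥ e = e := ht
  rw [tvec_mulVec, add_eq_left] at h1
  rcases smul_eq_zero.1 h1 with h2 | h2
  · exact hφe h2
  · exact ha i (by rw [h2]; rfl)

end SubfieldOver

theorem subfield_key [Fintype F] {M : Subgroup (GL ι F)} (hM : ratScalar ι F₀ ⊓ specialLinear ι F ≤ M)
    (hMS : M ≤ specialLinear ι F) (h4 : 4 ≤ Fintype.card ι) {r : ℕ} (hr : r.Prime)
    (hcard : Fintype.card F = Nat.card F₀ ^ r) (hne : ¬ M ≤ ratScalar ι F₀) : specialLinear ι F ≤ M := by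
  by_cases hnw : SubfieldOver.NoWin M F₀
  · exfalso
    obtain ⟨g, hg, hgX⟩ := SetLike.not_le_iff_exists.1 hne
    apply hgX
    have hrat : ∀ p q : ι, p ≠ q → ∀ k l,
        (g : Matrix ι ι F) k p * ((g⁻¹ : GL ι F) : Matrix ι ι F) q l ∈ F₀ := by
      intro p q hpq k l
      have h1 := SubfieldOver.hasTv_single hM hpq F₀.one_mem
      rw [one_smul] at h1
      simpa [RatTv] using SubfieldOver.ratTv_of_hasTv hM h4 hnw hMS (h1.conj hg) k l
    have hall : ∀ k p q l, (g : Matrix ι ι F) k p * ((g⁻¹ : GL ι F) : Matrix ι ι F) q l ∈ F₀ := by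
      intro k p q l
      by_cases hpq : p = q
      · subst hpq
        obtain ⟨j, hj⟩ := Fintype.exists_ne_of_one_lt_card (by omega) p
        have hone : ∑ m, ((g⁻¹ : GL ι F) : Matrix ι ι F) j m * (g : Matrix ι ι F) m j = 1 := by
          rw [← Matrix.mul_apply, ← Units.val_mul, inv_mul_cancel, Units.val_one, Matrix.one_apply_eq]
        rw [← mul_one ((g : Matrix ι ι F) k p), ← hone, Finset.mul_sum, Finset.sum_mul]
        refine F₀.sum_mem fun m _ => ?_
        convert F₀.mul_mem (hrat p j (Ne.symm hj) k m) (hrat j p hj m l) using 1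
        ring
      · exact hrat p q hpq k l
    obtain ⟨i⟩ : Nonempty ι := Fintype.card_pos_iff.1 (by omega)
    obtain ⟨l, hd⟩ : ∃ l, ((g⁻¹ : GL ι F) : Matrix ι ι F) i l ≠ 0 := by
      by_contra hcon
      push Not at hcon
      have h1 := congrFun (inv_mulVec_mulVec g (Pi.single i 1)) i
      simp [Matrix.mulVec, dotProduct, hcon] at h1
    exact mem_ratScalar_of_scaled hd fun k p => by rw [mul_comm]; exact hall k p i l
  · simp only [SubfieldOver.NoWin, not_forall] at hnw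
    obtain ⟨i, j, hij, c, h, hc⟩ := hnw
    exact SubfieldOver.specialLinear_le_of_win hM h4 hr hcard hij hc h

theorem subfield_proper {F₀ : Subfield F} (hne : F₀ ≠ ⊤) (h2 : 2 ≤ Fintype.card ι) :
    ¬ specialLinear ι F ≤ ratScalar ι F₀ := by
  intro hle
  obtain ⟨i, j, hij⟩ := Fintype.exists_pair_of_one_lt_card (show 1 < Fintype.card ι by omega)
  obtain ⟨c, hc⟩ : ∃ c, c ∉ F₀ := by
    by_contra hcon
    push Not at hcon
    exact hne (eq_top_iff.2 fun x _ => hcon x)
  have hd : (Pi.single j 1 : ι → F) ⬝ᵥ (c • Pi.single i 1) = 0 := by simp [hij.symm]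
  obtain ⟨d, hd0, hdg⟩ := exists_scaled_of_mem (hle (tvec_mem_specialLinear _ _ hd))
  have h1 := hdg i i
  have h2 := hdg i j
  simp [tvec_val, Matrix.vecMulVec_apply, hij, hij.symm] at h1 h2
  apply hc
  rw [show c = d⁻¹ * (d * c) from (inv_mul_cancel_left₀ hd0 c).symm]
  exact F₀.mul_mem (F₀.inv_mem h1) h2

end CfsgLib.Geo
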