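/-
The span over a subfield of the columns of an invertible matrix: rational vectors and rational points.
-/
import Cfsg.Agent.Geo.SubfieldOvergroup

set_option autoImplicit false

namespace CfsgLib.Geo

open Matrix Cfsg Cfsg.Geo

variable {ι : Type} [Fintype ι] [DecidableEq ι] {F : Type*} [Field F] {F₀ : Subfield F} {P : GL ι F}

/-- A vector in the span over `F₀` of the columns of `P`. -/
def InRS (F₀ : Subfield F) (P : GL ι F) (x : ι → F) : Prop :=
  RatVec F₀ (((P⁻¹ : GL ι F) : Matrix ι ι F) *ᵥ x)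

/-- A multiple of a rational vector. -/
def IsPt (F₀ : Subfield F) (P : GL ι F) (z : ι → F) : Prop :=
  ∃ (c : F) (r : ι → F), InRS F₀ P r ∧ z = c • r

lemma inRS_mulVec {u : ι → F} (hu : RatVec F₀ u) : InRS F₀ P ((P : Matrix ι ι F) *ᵥ u) := by
  rwa [InRS, inv_mulVec_mulVec]

lemma InRS.eq {x : ι → F} (hx : InRS F₀ P x) :
    ∃ u, RatVec F₀ u ∧ x = (P : Matrix ι ι F) *ᵥ u := ⟨_, hx, (mulVec_inv_mulVec P x).symm⟩

lemma inRS_zero : InRS F₀ P (0 : ι → F) := by
  intro k; rw [Matrix.mulVec_zero]; exact F₀.zero_mem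

lemma InRS.add {x y : ι → F} (hx : InRS F₀ P x) (hy : InRS F₀ P y) : InRS F₀ P (x + y) := fun k => by
  rw [Matrix.mulVec_add]; exact F₀.add_mem (hx k) (hy k)

lemma InRS.sub {x y : ι → F} (hx : InRS F₀ P x) (hy : InRS F₀ P y) : InRS F₀ P (x - y) := fun k => by
  rw [Matrix.mulVec_sub]; exact F₀.sub_mem (hx k) (hy k)

lemma InRS.smul {c : F} (hc : c ∈ F₀) {x : ι → F} (hx : InRS F₀ P x) : InRS F₀ P (c • x) := fun k => by
  rw [Matrix.mulVec_smul]; exact F₀.mul_mem hc (hx k)

lemma InRS.neg {x : ι → F} (hx : InRS F₀ P x) : InRS F₀ P (-x) := fun k => by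
  rw [Matrix.mulVec_neg]; exact F₀.neg_mem (hx k)

/-- A column of `P`. -/
lemma inRS_col (i : ι) : InRS F₀ P ((P : Matrix ι ι F) *ᵥ Pi.single i 1) :=
  inRS_mulVec (ratVec_single i F₀.one_mem)

lemma eq_sum_cols (x : ι → F) :
    x = ∑ i, (((P⁻¹ : GL ι F) : Matrix ι ι F) *ᵥ x) i • ((P : Matrix ι ι F) *ᵥ Pi.single i 1) := by
  conv_lhs => rw [← mulVec_inv_mulVec P x,
    pi_eq_sum_univ' (((P⁻¹ : GL ι F) : Matrix ι ι F) *ᵥ x), Matrix.mulVec_sum]
  simp only [Matrix.mulVec_smul]

/-- Every vector is spanned by rational vectors killed by every rational functional killing it. -/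
theorem mem_span_rs [Finite F] (y : ι → F) :
    y ∈ Submodule.span F {r | InRS F₀ P r ∧
      ∀ φ : (ι → F) →ₗ[F] F, (∀ x, InRS F₀ P x → φ x ∈ F₀) → φ y = 0 → φ r = 0} := by
  classical
  let b := Module.Free.chooseBasis F₀ F
  set c := ((P⁻¹ : GL ι F) : Matrix ι ι F) *ᵥ y with hc
  let r : Module.Free.ChooseBasisIndex F₀ F → ι → F := fun j =>
    (P : Matrix ι ι F) *ᵥ fun i => (b.repr (c i) j : F)
  have hr : ∀ j, InRS F₀ P (r j) := fun j => inRS_mulVec fun i => (b.repr (c i) j).2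
  have hy : y = ∑ j, b j • r j := by
    simp only [r, ← Matrix.mulVec_smul, ← Matrix.mulVec_sum]
    rw [← mulVec_inv_mulVec P y, ← hc]
    congr 1
    funext i
    conv_lhs => rw [← b.sum_repr (c i)]
    simp only [Finset.sum_apply, Pi.smul_apply, smul_eq_mul]
    exact Finset.sum_congr rfl fun j _ => by rw [Subfield.smul_def, smul_eq_mul, mul_comm]
  conv => arg 2; rw [hy]
  refine Submodule.sum_mem _ fun j _ => Submodule.smul_mem _ _ (Submodule.subset_span ⟨hr j, fun φ hφ h0 => ?_⟩)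
  let a : ι → F₀ := fun i => ⟨φ ((P : Matrix ι ι F) *ᵥ Pi.single i 1), hφ _ (inRS_col i)⟩
  have h1 : ∀ x : ι → F, φ ((P : Matrix ι ι F) *ᵥ x) = ∑ i, (a i : F) * x i := fun x => by
    conv_lhs => rw [pi_eq_sum_univ' x, Matrix.mulVec_sum, map_sum]
    exact Finset.sum_congr rfl fun i _ => by rw [Matrix.mulVec_smul, map_smul, smul_eq_mul, mul_comm]
  have h2 : ∑ i, a i • c i = (0 : F) := by
    have : φ ((P : Matrix ι ι F) *ᵥ c) = 0 := by rwa [hc, mulVec_inv_mulVec]
    rw [h1] at this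
    simpa [Subfield.smul_def] using this
  have h3 := congrArg (fun w => b.repr w j) h2
  simp only [map_sum, map_smul, Finsupp.coe_finset_sum, Finset.sum_apply, Finsupp.coe_smul, Pi.smul_apply,
    map_zero, Finsupp.coe_zero, Pi.zero_apply, smul_eq_mul] at h3
  simp only [r]
  rw [h1]
  simpa using congrArg Subtype.val h3

lemma mem_subfield_of_scaled_rs {g : GL ι F} {d : F} (hd : d ≠ 0)
    (h : ∀ x, InRS F₀ P x → InRS F₀ P (d • ((g : Matrix ι ι F) *ᵥ x))) : g ∈ subfieldSubgroup F₀ P := by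
  refine ⟨P⁻¹ * g * P, mem_ratScalar_of_scaled hd fun k l => ?_, by simp [MulAut.conj_apply, mul_assoc]⟩
  have h1 := h _ (inRS_col l) k
  rw [Matrix.mulVec_smul, Pi.smul_apply, smul_eq_mul] at h1
  rwa [← mul_mulVec, ← mul_mulVec, Matrix.mulVec_single_one, Matrix.col_apply] at h1

lemma exists_scaled_rs_of_mem {g : GL ι F} (hg : g ∈ subfieldSubgroup F₀ P) :
    ∃ d : F, d ≠ 0 ∧ ∀ x, InRS F₀ P x → InRS F₀ P (d • ((g : Matrix ι ι F) *ᵥ x)) := by
  obtain ⟨A, hA, rfl⟩ := hg
  obtain ⟨d, hd, hdA⟩ := exists_scaled_of_mem hA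
  refine ⟨d, hd, fun x hx => ?_⟩
  obtain ⟨u, hu, rfl⟩ := hx.eq
  change InRS F₀ P (d • (((P * A * P⁻¹ : GL ι F) : Matrix ι ι F) *ᵥ _))
  rw [mul_mulVec, mul_mulVec, inv_mulVec_mulVec, ← Matrix.mulVec_smul]
  refine inRS_mulVec fun k => ?_
  simp only [Pi.smul_apply, smul_eq_mul, Matrix.mulVec, dotProduct, Finset.mul_sum, ← mul_assoc]
  exact F₀.sum_mem fun l _ => F₀.mul_mem (hdA k l) (hu l)

/-- An element sending rational vectors to rational points lies in the subfield group. -/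
theorem mem_subfield_of_points [Nonempty ι] {g : GL ι F}
    (h : ∀ x, InRS F₀ P x → IsPt F₀ P ((g : Matrix ι ι F) *ᵥ x)) : g ∈ subfieldSubgroup F₀ P := by
  set A : GL ι F := P⁻¹ * g * P with hA
  have him : ∀ u : ι → F, RatVec F₀ u →
      ∃ (c : F) (R : ι → F), RatVec F₀ R ∧ (A : Matrix ι ι F) *ᵥ u = c • R := by
    intro u hu
    obtain ⟨c, r, hr, e⟩ := h _ (inRS_mulVec hu)
    exact ⟨c, _, hr, by rw [hA, mul_mulVec, mul_mulVec, e, Matrix.mulVec_smul]⟩
  choose lam R hR hAcol using fun i => him (Pi.single i 1) (ratVec_single i F₀.one_mem)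
  have hAinj : ∀ x : ι → F, (A : Matrix ι ι F) *ᵥ x = 0 → x = 0 := fun x hx => by
    rw [← inv_mulVec_mulVec A x, hx, Matrix.mulVec_zero]
  have hlam0 : ∀ i, lam i ≠ 0 := fun i h0 => by
    have h1 := congrFun (hAinj (Pi.single i 1) (by rw [hAcol, h0, zero_smul])) i
    simp at h1
  have hratio : ∀ i j, i ≠ j → lam j / lam i ∈ F₀ := by
    intro i j hij
    obtain ⟨mu, R', hR', hg'⟩ := him (Pi.single i 1 + Pi.single j 1) (fun k =>
      F₀.add_mem (ratVec_single i F₀.one_mem k) (ratVec_single j F₀.one_mem k))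
    have hsum : lam i • R i + lam j • R j = mu • R' := by rw [← hAcol, ← hAcol, ← Matrix.mulVec_add, hg']
    obtain ⟨k, hk⟩ : ∃ k, R i k ≠ 0 := by
      by_contra hall
      push Not at hall
      have h0 : R i = 0 := funext hall
      have := congrFun (hAinj (Pi.single i 1) (by rw [hAcol, h0, smul_zero])) i
      simp at this
    obtain ⟨l, hl⟩ : ∃ l, R i k * R j l - R i l * R j k ≠ 0 := by
      by_contra hall
      push Not at hall
      have h0 : (A : Matrix ι ι F) *ᵥ
          ((R i k / lam j) • Pi.single j 1 - (R j k / lam i) • Pi.single i 1) = 0 := by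
        rw [Matrix.mulVec_sub, Matrix.mulVec_smul, Matrix.mulVec_smul, hAcol, hAcol, smul_smul, smul_smul,
          div_mul_cancel₀ _ (hlam0 j), div_mul_cancel₀ _ (hlam0 i)]
        funext l
        simp only [Pi.sub_apply, Pi.smul_apply, smul_eq_mul, Pi.zero_apply]
        linear_combination hall l
      have := congrFun (hAinj _ h0) j
      simp [Ne.symm hij, hk, hlam0 j] at this
    have h1 := congrFun hsum k
    have h2 := congrFun hsum l
    simp only [Pi.add_apply, Pi.smul_apply, smul_eq_mul] at h1 h2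
    set d := R i k * R j l - R i l * R j k
    have hmu : mu ≠ 0 := by
      rintro rfl
      refine hlam0 i ((mul_eq_zero.1 (show lam i * d = 0 by
        simp only [d]; linear_combination R j l * h1 - R j k * h2)).resolve_right hl)
    have e1 : lam i * d = mu * (R' k * R j l - R' l * R j k) := by
      simp only [d]; linear_combination R j l * h1 - R j k * h2
    have e2 : lam j * d = mu * (R i k * R' l - R i l * R' k) := by
      simp only [d]; linear_combination R i k * h2 - R i l * h1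
    have : lam j / lam i = (R i k * R' l - R i l * R' k) / (R' k * R j l - R' l * R j k) := by
      rw [← mul_div_mul_right (lam j) (lam i) hl, e1, e2, mul_div_mul_left _ _ hmu]
    rw [this]
    exact F₀.div_mem (F₀.sub_mem (F₀.mul_mem (hR i k) (hR' l)) (F₀.mul_mem (hR i l) (hR' k)))
      (F₀.sub_mem (F₀.mul_mem (hR' k) (hR j l)) (F₀.mul_mem (hR' l) (hR j k)))
  obtain ⟨i₀⟩ := ‹Nonempty ι›
  refine ⟨A, mem_ratScalar_of_scaled (inv_ne_zero (hlam0 i₀)) fun k l => ?_,
    by simp [hA, MulAut.conj_apply, mul_assoc]⟩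
  have hkl : (A : Matrix ι ι F) k l = lam l * R l k := by
    have := congrFun (hAcol l) k
    rwa [Matrix.mulVec_single_one, Matrix.col_apply, Pi.smul_apply, smul_eq_mul] at this
  rw [hkl, ← mul_assoc, ← div_eq_inv_mul]
  refine F₀.mul_mem ?_ (hR l k)
  rcases eq_or_ne i₀ l with rfl | h'
  · rw [div_self (hlam0 _)]; exact F₀.one_mem
  · exact hratio i₀ l h'

end CfsgLib.Geo
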