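import Cfsg.Agent.FGSA.Extraspecial
import Cfsg.Agent.Solvable.ExtraspecialSplit
import Cfsg.Agent.Solvable.ExtraspecialIso
import Cfsg.Agent.Quad.Hyp
import Cfsg.Agent.Quad.Matrices
import Cfsg.Agent.Quad.Concrete
import Cfsg.Agent.QuadStd.Two
import Cfsg.Agent.ParityRank.Matrix
import Cfsg.Prelude.Def_KGroupFacts

/-!
The outer automorphism group of an extraspecial 2-group is the orthogonal group of the squaring form.
-/

set_option autoImplicit false
set_option linter.style.haveILetI false
set_option linter.unusedSectionVars false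

namespace CfsgLib.Geo.ExtraOut

open Subgroup QuadraticMap CfsgLib.Quad
open scoped commutatorElement

/-- An extraspecial 2-group presented over the vector space of its central quotient. -/
structure Data (E : Type*) [Group E] (V : Type*) [AddCommGroup V] [Module (ZMod 2) V] where
  /-- The central involution. -/
  z : E
  /-- The projection. -/
  proj : E → V
  extra : Cfsg.IsExtraspecial 2 E
  z_mem : z ∈ center E
  z_ne : z ≠ 1
  proj_mul : ∀ a b, proj (a * b) = proj a + proj b
  proj_surj : Function.Surjective proj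
  proj_eq_zero : ∀ a, proj a = 0 ↔ a ∈ center E

variable {E : Type*} [Group E] [Finite E] {V : Type*} [AddCommGroup V] [Module (ZMod 2) V]
  (D : Data E V)

open Classical in
/-- The bit of a central element. -/
noncomputable def bit (e : E) : ZMod 2 := if e = 1 then 0 else 1

theorem bit_one : bit (1 : E) = 0 := if_pos rfl

theorem two_cases : ∀ a : ZMod 2, a = 0 ∨ a = 1 := by decide

section withData

include D

theorem Data.center_cases {c : E} (hc : c ∈ center E) : c = 1 ∨ c = D.z := by
  classical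
  have h : Nat.card (center E) = 2 := D.extra.2
  by_contra hn
  push Not at hn
  haveI := Fintype.ofFinite (center E)
  have h3 : ({1, ⟨D.z, D.z_mem⟩, ⟨c, hc⟩} : Finset (center E)).card = 3 := by
    refine Finset.card_eq_three.2 ⟨_, _, _, ?_, ?_, ?_, rfl⟩ <;> intro e
    · exact D.z_ne (congrArg Subtype.val e).symm
    · exact hn.1 (congrArg Subtype.val e).symm
    · exact hn.2 (congrArg Subtype.val e).symm
  have h4 := Finset.card_le_univ ({1, ⟨D.z, D.z_mem⟩, ⟨c, hc⟩} : Finset (center E))
  rw [h3, ← Nat.card_eq_fintype_card, h] at h4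
  omega

theorem Data.z_mul_z : D.z * D.z = 1 := by
  rcases D.center_cases (mul_mem D.z_mem D.z_mem) with h | h
  · exact h
  · exact absurd (mul_eq_left.1 h) D.z_ne


theorem Data.bit_z : bit D.z = 1 := if_neg D.z_ne

theorem Data.bit_inj {c d : E} (hc : c ∈ center E) (hd : d ∈ center E) (h : bit c = bit d) : c = d := by
  rcases D.center_cases hc with rfl | rfl <;> rcases D.center_cases hd with rfl | rfl
  · rfl
  · rw [bit_one, D.bit_z] at h; exact absurd h (by decide)
  · rw [bit_one, D.bit_z] at h; exact absurd h (by decide)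
  · rfl

theorem Data.bit_mul {c d : E} (hc : c ∈ center E) (hd : d ∈ center E) :
    bit (c * d) = bit c + bit d := by
  rcases D.center_cases hc with rfl | rfl <;> rcases D.center_cases hd with rfl | rfl
  · rw [mul_one, bit_one, add_zero]
  · rw [one_mul, bit_one, zero_add]
  · rw [mul_one, bit_one, add_zero]
  · rw [D.z_mul_z, bit_one, D.bit_z]; rfl

theorem Data.proj_one : D.proj 1 = 0 := (D.proj_eq_zero 1).2 (one_mem _)

theorem Data.proj_inv (a : E) : D.proj a⁻¹ = -D.proj a := by
  refine eq_neg_of_add_eq_zero_left ?_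
  rw [← D.proj_mul, inv_mul_cancel, D.proj_one]

theorem Data.exists_of_proj_eq {a b : E} (h : D.proj a = D.proj b) : ∃ c ∈ center E, b = a * c := by
  refine ⟨a⁻¹ * b, (D.proj_eq_zero _).1 ?_, (mul_inv_cancel_left a b).symm⟩
  rw [D.proj_mul, D.proj_inv, h, neg_add_cancel]

theorem Data.sq_mem (a : E) : a ^ 2 ∈ center E :=
  CfsgLib.Extraspecial.pow_mem_center D.extra a

theorem Data.comm_mem (a b : E) : ⁅a, b⁆ ∈ center E := by
  haveI : Fact (Nat.Prime 2) := ⟨Nat.prime_two⟩
  exact CfsgLib.Extraspecial.commutator_mem_center D.extra a b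

/-- A section of the projection. -/
noncomputable def Data.sec (v : V) : E := (D.proj_surj v).choose

theorem Data.proj_sec (v : V) : D.proj (D.sec v) = v := (D.proj_surj v).choose_spec

/-- The squaring function. -/
noncomputable def Data.sqFun (v : V) : ZMod 2 := bit (D.sec v ^ 2)

theorem Data.sqFun_proj (a : E) : D.sqFun (D.proj a) = bit (a ^ 2) := by
  obtain ⟨c, hc, e⟩ := D.exists_of_proj_eq (D.proj_sec (D.proj a))
  have hcm : Commute (D.sec (D.proj a)) c := mem_center_iff.1 hc _
  have hc2 : c ^ 2 = 1 := by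
    rcases D.center_cases hc with h | h
    · rw [h, one_pow]
    · rw [h, pow_two, D.z_mul_z]
  rw [Data.sqFun]
  conv_rhs => rw [e, hcm.mul_pow, hc2, mul_one]

theorem Data.sqFun_mul (a b : E) :
    D.sqFun (D.proj a + D.proj b) = D.sqFun (D.proj a) + D.sqFun (D.proj b) + bit ⁅a, b⁆ := by
  rw [← D.proj_mul, D.sqFun_proj, D.sqFun_proj, D.sqFun_proj,
    CfsgLib.ExtraspecialIso.mul_sq D.extra (z := ⁅a, b⁆) rfl,
    D.bit_mul (D.comm_mem a b) (mul_mem (D.sq_mem a) (D.sq_mem b)), D.bit_mul (D.sq_mem a) (D.sq_mem b)]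
  ring

theorem Data.polar_proj (a b : E) : polar D.sqFun (D.proj a) (D.proj b) = bit ⁅a, b⁆ := by
  rw [polar, D.sqFun_mul]; ring

theorem Data.bit_comm_mul (a b c : E) : bit ⁅a * b, c⁆ = bit ⁅a, c⁆ + bit ⁅b, c⁆ := by
  have e : ⁅a * b, c⁆ = a * ⁅b, c⁆ * a⁻¹ * ⁅a, c⁆ := by simp only [commutatorElement_def]; group
  rw [e, mem_center_iff.1 (D.comm_mem b c) a, mul_inv_cancel_right,
    D.bit_mul (D.comm_mem b c) (D.comm_mem a c), add_comm]

/-- The squaring form. -/
noncomputable def Data.form : QuadraticForm (ZMod 2) V :=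
  QuadraticMap.ofPolar D.sqFun
    (fun a x => by
      have h0 : D.sqFun 0 = 0 := by rw [← D.proj_one, D.sqFun_proj, one_pow, bit_one]
      rcases two_cases a with rfl | rfl
      · rw [zero_smul, h0, mul_zero, zero_smul]
      · rw [one_smul, mul_one, one_smul])
    (fun x x' y => by
      obtain ⟨a, rfl⟩ := D.proj_surj x
      obtain ⟨b, rfl⟩ := D.proj_surj x'
      obtain ⟨c, rfl⟩ := D.proj_surj y
      rw [← D.proj_mul, D.polar_proj, D.polar_proj, D.polar_proj, D.bit_comm_mul])
    (fun a x y => by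
      obtain ⟨b, rfl⟩ := D.proj_surj x
      obtain ⟨c, rfl⟩ := D.proj_surj y
      rcases two_cases a with rfl | rfl
      · rw [zero_smul, zero_smul, ← D.proj_one, D.polar_proj, commutatorElement_one_left, bit_one]
      · rw [one_smul, one_smul])

theorem Data.form_proj (a : E) : D.form (D.proj a) = bit (a ^ 2) := D.sqFun_proj a

theorem Data.polar_form (a b : E) : polar D.form (D.proj a) (D.proj b) = bit ⁅a, b⁆ :=
  D.polar_proj a b

theorem Data.nondeg : (polarBilin D.form).Nondegenerate := by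
  have hl : (polarBilin D.form).SeparatingLeft := by
    intro x hx
    obtain ⟨a, rfl⟩ := D.proj_surj x
    refine (D.proj_eq_zero a).2 (mem_center_iff.2 fun b => ?_)
    have h := hx (D.proj b)
    rw [polarBilin_apply_apply, D.polar_form, ← bit_one (E := E)] at h
    exact (commutatorElement_eq_one_iff_mul_comm.1 (D.bit_inj (D.comm_mem a b) (one_mem _) h)).symm
  exact ⟨hl, fun x hx => hl x fun y => by rw [← hx y]; exact polar_comm _ _ _⟩

theorem Data.mem_center_aut (φ : MulAut E) {c : E} (hc : c ∈ center E) : φ c ∈ center E := by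
  refine mem_center_iff.2 fun g => ?_
  obtain ⟨h, rfl⟩ := φ.surjective g
  rw [← map_mul, ← map_mul, mem_center_iff.1 hc h]

theorem Data.bit_aut (φ : MulAut E) (c : E) : bit (φ c) = bit c := by
  classical
  by_cases h : c = 1
  · rw [h, map_one]
  · rw [bit, bit, if_neg h, if_neg fun e => h ((φ.map_eq_one_iff).1 e)]

theorem Data.proj_aut_congr (φ : MulAut E) {a b : E} (h : D.proj a = D.proj b) :
    D.proj (φ a) = D.proj (φ b) := by
  obtain ⟨c, hc, rfl⟩ := D.exists_of_proj_eq h
  rw [map_mul, D.proj_mul, (D.proj_eq_zero _).2 (D.mem_center_aut φ hc), add_zero]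

theorem Data.proj_aut_sec (φ : MulAut E) (a : E) : D.proj (φ (D.sec (D.proj a))) = D.proj (φ a) :=
  D.proj_aut_congr φ (D.proj_sec _)

/-- The linear map induced on the central quotient. -/
noncomputable def Data.linOf (φ : MulAut E) : V →ₗ[ZMod 2] V :=
  (AddMonoidHom.mk' (fun v => D.proj (φ (D.sec v))) fun u v => by
    obtain ⟨a, rfl⟩ := D.proj_surj u
    obtain ⟨b, rfl⟩ := D.proj_surj v
    rw [← D.proj_mul, D.proj_aut_sec, D.proj_aut_sec, D.proj_aut_sec, map_mul, D.proj_mul]).toZModLinearMap 2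

theorem Data.linOf_proj (φ : MulAut E) (a : E) : D.linOf φ (D.proj a) = D.proj (φ a) :=
  D.proj_aut_sec φ a

/-- The induced isometry. -/
noncomputable def Data.toO : MulAut E →* oGroup D.form where
  toFun φ := ⟨LinearEquiv.ofLinear (D.linOf φ) (D.linOf φ⁻¹)
    (LinearMap.ext fun v => by
      obtain ⟨a, rfl⟩ := D.proj_surj v
      simp only [LinearMap.comp_apply, D.linOf_proj, LinearMap.id_apply]
      exact congrArg D.proj (φ.apply_symm_apply a))
    (LinearMap.ext fun v => by
      obtain ⟨a, rfl⟩ := D.proj_surj v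
      simp only [LinearMap.comp_apply, D.linOf_proj, LinearMap.id_apply]
      exact congrArg D.proj (φ.symm_apply_apply a)), fun v => by
      obtain ⟨a, rfl⟩ := D.proj_surj v
      show D.form (D.linOf φ (D.proj a)) = _
      rw [D.linOf_proj, D.form_proj, D.form_proj, ← map_pow, D.bit_aut]⟩
  map_one' := Subtype.ext (LinearEquiv.ext fun v => by
    obtain ⟨a, rfl⟩ := D.proj_surj v
    exact D.linOf_proj 1 a)
  map_mul' φ ψ := Subtype.ext (LinearEquiv.ext fun v => by
    obtain ⟨a, rfl⟩ := D.proj_surj v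
    show D.linOf (φ * ψ) (D.proj a) = D.linOf φ (D.linOf ψ (D.proj a))
    rw [D.linOf_proj, D.linOf_proj, D.linOf_proj]
    rfl)

theorem Data.toO_apply (φ : MulAut E) (a : E) : (D.toO φ).1 (D.proj a) = D.proj (φ a) :=
  D.linOf_proj φ a

theorem Data.ker_toO : (D.toO).ker = Cfsg.Inn E := by
  haveI : Fact (Nat.Prime 2) := ⟨Nat.prime_two⟩
  ext φ
  rw [MonoidHom.mem_ker, MonoidHom.mem_range]
  constructor
  · intro h
    have hc : ∀ a, a⁻¹ * φ a ∈ center E := by
      intro a
      rw [← D.proj_eq_zero, D.proj_mul, D.proj_inv, ← D.toO_apply, h]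
      exact neg_add_cancel _
    let f : E →* center E :=
      { toFun := fun a => ⟨a⁻¹ * φ a, hc a⟩
        map_one' := Subtype.ext (by simp)
        map_mul' := fun a b => Subtype.ext (by
          show (a * b)⁻¹ * φ (a * b) = a⁻¹ * φ a * (b⁻¹ * φ b)
          rw [map_mul, mul_inv_rev]
          calc b⁻¹ * a⁻¹ * (φ a * φ b) = b⁻¹ * (a⁻¹ * φ a) * φ b := by group
            _ = a⁻¹ * φ a * b⁻¹ * φ b := by rw [mem_center_iff.1 (hc a) b⁻¹]
            _ = _ := by group) }
    obtain ⟨x, hx⟩ := CfsgLib.ExtraspecialSplit.exists_commHom_eq D.extra f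
    refine ⟨x, MulEquiv.ext fun a => ?_⟩
    have e : a⁻¹ * φ a = ⁅a, x⁆ := hx a
    have hk : ⁅a, x⁆ = a⁻¹ * ⁅a, x⁆ * a := by
      rw [mul_assoc, ← mem_center_iff.1 (D.comm_mem a x) a, inv_mul_cancel_left]
    have hinv : ⁅x, a⁆ = ⁅a, x⁆ := by
      rw [← commutatorElement_inv, inv_eq_iff_mul_eq_one]
      rcases D.center_cases (D.comm_mem a x) with h1 | h1 <;> rw [h1]
      · exact mul_one 1
      · exact D.z_mul_z
    rw [hk, mul_assoc, mul_right_inj, ← hinv, commutatorElement_def] at e
    rw [MulAut.conj_apply, e]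
    group
  · rintro ⟨x, rfl⟩
    refine Subtype.ext (LinearEquiv.ext fun v => ?_)
    obtain ⟨a, rfl⟩ := D.proj_surj v
    rw [D.toO_apply, MulAut.conj_apply, D.proj_mul, D.proj_mul, D.proj_inv, add_comm, neg_add_cancel_left]
    rfl

theorem Data.toO_surjective : Function.Surjective D.toO := by
  classical
  intro g
  let T : Subgroup (E × E) :=
    { carrier := {p | D.proj p.2 = g.1 (D.proj p.1)}
      one_mem' := by simp [D.proj_one]
      mul_mem' := fun {p r} hp hr => by
        show D.proj (p.2 * r.2) = g.1 (D.proj (p.1 * r.1))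
        rw [D.proj_mul, D.proj_mul, map_add, hp, hr]
      inv_mem' := fun {p} hp => by
        show D.proj p.2⁻¹ = g.1 (D.proj p.1⁻¹)
        rw [D.proj_inv, D.proj_inv, map_neg, hp] }
  let Δ : Subgroup T :=
    { carrier := {p | p.1.1 = p.1.2 ∧ p.1.1 ∈ center E}
      one_mem' := ⟨rfl, one_mem _⟩
      mul_mem' := fun {p r} hp hr => ⟨congrArg₂ (· * ·) hp.1 hr.1, mul_mem hp.2 hr.2⟩
      inv_mem' := fun {p} hp => ⟨congrArg (·⁻¹) hp.1, inv_mem hp.2⟩ }
  haveI hn : Δ.Normal := by
    refine ⟨fun p hp r => ?_⟩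
    have h2 : p.1.2 ∈ center E := hp.1 ▸ hp.2
    show r.1.1 * p.1.1 * r.1.1⁻¹ = r.1.2 * p.1.2 * r.1.2⁻¹ ∧ r.1.1 * p.1.1 * r.1.1⁻¹ ∈ center E
    rw [mem_center_iff.1 hp.2 r.1.1, mem_center_iff.1 h2 r.1.2, mul_inv_cancel_right, mul_inv_cancel_right]
    exact hp
  have hsq : ∀ p : T, p * p ∈ Δ := by
    intro p
    refine ⟨D.bit_inj ?_ ?_ ?_, ?_⟩
    · show p.1.1 * p.1.1 ∈ center E; rw [← pow_two]; exact D.sq_mem _
    · show p.1.2 * p.1.2 ∈ center E; rw [← pow_two]; exact D.sq_mem _
    · show bit (p.1.1 * p.1.1) = bit (p.1.2 * p.1.2)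
      rw [← pow_two, ← pow_two, ← D.form_proj, ← D.form_proj, show D.proj p.1.2 = _ from p.2, g.2]
    · show p.1.1 * p.1.1 ∈ center E; rw [← pow_two]; exact D.sq_mem _
  have hexp : ∀ u : T ⧸ Δ, u * u = 1 := fun u => by
    induction u using QuotientGroup.induction_on with
    | _ p => rw [← QuotientGroup.mk_mul]; exact (QuotientGroup.eq_one_iff _).2 (hsq p)
  letI : CommGroup (T ⧸ Δ) :=
    { (inferInstance : Group (T ⧸ Δ)) with
      mul_comm := fun u v => by
        have hi : ∀ w : T ⧸ Δ, w⁻¹ = w := fun w => inv_eq_of_mul_eq_one_right (hexp w)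
        rw [← hi (u * v), mul_inv_rev, hi, hi] }
  letI : Module (ZMod 2) (Additive (T ⧸ Δ)) := AddCommGroup.zmodModule fun x => by
    rw [two_nsmul]
    exact hexp x.toMul
  let zc : T := ⟨(D.z, 1), by
    show D.proj 1 = g.1 (D.proj D.z)
    rw [D.proj_one, (D.proj_eq_zero _).2 D.z_mem, map_zero]⟩
  have hzc : Additive.ofMul (zc : T ⧸ Δ) ≠ 0 := fun h =>
    D.z_ne ((QuotientGroup.eq_one_iff zc).1 (Additive.ofMul.injective h)).1
  obtain ⟨f, hf, -⟩ := Submodule.exists_dual_map_eq_bot_of_notMem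
    (p := (⊥ : Submodule (ZMod 2) (Additive (T ⧸ Δ)))) (by rw [Submodule.mem_bot]; exact hzc) inferInstance
  let χ : T → ZMod 2 := fun p => f (Additive.ofMul (p : T ⧸ Δ))
  have hχ : ∀ p r, χ (p * r) = χ p + χ r := fun p r => by
    simp only [χ, QuotientGroup.mk_mul, ofMul_mul, map_add]
  have hχz : χ zc = 1 := (two_cases _).resolve_left hf
  have hχd : ∀ p ∈ Δ, χ p = 0 := fun p hp => by
    simp only [χ, (QuotientGroup.eq_one_iff p).2 hp, ofMul_one, map_zero]
  have hex : ∀ a, ∃ b, ∃ h : (a, b) ∈ T, χ ⟨(a, b), h⟩ = 0 := by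
    intro a
    obtain ⟨b, hb⟩ := D.proj_surj (g.1 (D.proj a))
    rcases two_cases (χ ⟨(a, b), hb⟩) with h | h
    · exact ⟨b, hb, h⟩
    · have hmem : (a, b * D.z) ∈ T := by
        show D.proj (b * D.z) = g.1 (D.proj a)
        rw [D.proj_mul, (D.proj_eq_zero _).2 D.z_mem, add_zero, hb]
      refine ⟨b * D.z, hmem, ?_⟩
      let dz : T := ⟨(D.z, D.z), by
        show D.proj D.z = g.1 (D.proj D.z)
        rw [(D.proj_eq_zero _).2 D.z_mem, map_zero]⟩
      have e : (⟨(a, b * D.z), hmem⟩ : T) = ⟨(a, b), hb⟩ * (zc * dz) := Subtype.ext (by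
        refine Prod.ext ?_ ?_
        · show a = a * (D.z * D.z); rw [D.z_mul_z, mul_one]
        · show b * D.z = b * (1 * D.z); rw [one_mul])
      rw [e, hχ, hχ, h, hχz, hχd dz ⟨rfl, D.z_mem⟩]
      decide
  choose b hbT hbχ using hex
  have huniq : ∀ a b', ∀ h : (a, b') ∈ T, χ ⟨(a, b'), h⟩ = 0 → b' = b a := by
    intro a b' h h0
    obtain ⟨c, hc, rfl⟩ := D.exists_of_proj_eq (show D.proj (b a) = D.proj b' from (hbT a).trans h.symm)
    rcases D.center_cases hc with rfl | rfl
    · rw [mul_one]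
    · exfalso
      let dz : T := ⟨(D.z, D.z), by
        show D.proj D.z = g.1 (D.proj D.z)
        rw [(D.proj_eq_zero _).2 D.z_mem, map_zero]⟩
      have e : (⟨(a, b a * D.z), h⟩ : T) = ⟨(a, b a), hbT a⟩ * (zc * dz) := Subtype.ext (by
        refine Prod.ext ?_ ?_
        · show a = a * (D.z * D.z); rw [D.z_mul_z, mul_one]
        · show b a * D.z = b a * (1 * D.z); rw [one_mul])
      rw [e, hχ, hχ, hbχ, hχz, hχd dz ⟨rfl, D.z_mem⟩] at h0
      exact absurd h0 (by decide)
  have hmul : ∀ a a', b (a * a') = b a * b a' := fun a a' =>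
    (huniq (a * a') (b a * b a') (T.mul_mem (hbT a) (hbT a')) (by
      rw [show (⟨(a * a', b a * b a'), T.mul_mem (hbT a) (hbT a')⟩ : T) =
        ⟨(a, b a), hbT a⟩ * ⟨(a', b a'), hbT a'⟩ from rfl, hχ, hbχ, hbχ, add_zero])).symm
  let ψ : E →* E := MonoidHom.mk' b hmul
  have hinj : Function.Injective ψ := by
    rw [injective_iff_map_eq_one]
    intro a ha
    have h := hbT a
    have ha' : b a = 1 := ha
    rw [ha'] at h
    have hac : a ∈ center E := (D.proj_eq_zero a).1 (g.1.map_eq_zero_iff.1 (by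
      show g.1 (D.proj a) = 0
      rw [← D.proj_one]; exact h.symm))
    rcases D.center_cases hac with h1 | h1
    · exact h1
    · exfalso
      have h0 := hbχ a
      have e : (⟨(a, b a), hbT a⟩ : T) = zc := Subtype.ext (Prod.ext h1 ha')
      rw [e, hχz] at h0
      exact one_ne_zero h0
  refine ⟨MulEquiv.ofBijective ψ (Finite.injective_iff_bijective.1 hinj), Subtype.ext (LinearEquiv.ext fun v => ?_)⟩
  obtain ⟨a, rfl⟩ := D.proj_surj v
  rw [D.toO_apply]
  exact hbT a

/-- The outer automorphism group is the orthogonal group of the squaring form. -/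
noncomputable def Data.outEquiv : Cfsg.Out E ≃* oGroup D.form :=
  (QuotientGroup.quotientMulEquivOfEq D.ker_toO.symm).trans
    (QuotientGroup.quotientKerEquivOfSurjective _ D.toO_surjective)

end withData

theorem exists_data.{u} {E : Type u} [Group E] [Finite E] (hE : Cfsg.IsExtraspecial 2 E) :
    ∃ (V : Type u) (_ : AddCommGroup V) (_ : Module (ZMod 2) V), Nonempty (Data E V) := by
  haveI : Fact (Nat.Prime 2) := ⟨Nat.prime_two⟩
  letI : CommGroup (E ⧸ center E) :=
    { (inferInstance : Group (E ⧸ center E)) with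
      mul_comm := fun u v => by
        induction u using QuotientGroup.induction_on
        induction v using QuotientGroup.induction_on
        rename_i a b
        rw [← QuotientGroup.mk_mul, ← QuotientGroup.mk_mul, QuotientGroup.eq]
        have h := CfsgLib.Extraspecial.commutator_mem_center hE b⁻¹ a⁻¹
        rw [commutatorElement_def, inv_inv, inv_inv] at h
        simpa [mul_assoc] using h }
  letI : Module (ZMod 2) (Additive (E ⧸ center E)) := AddCommGroup.zmodModule fun x => by
    rw [two_nsmul]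
    obtain ⟨a, ha⟩ := QuotientGroup.mk_surjective x.toMul
    show x.toMul * x.toMul = 1
    rw [← ha, ← QuotientGroup.mk_mul, QuotientGroup.eq_one_iff, ← pow_two]
    exact CfsgLib.Extraspecial.pow_mem_center hE a
  obtain ⟨z, hz, hz1⟩ := CfsgLib.ExtraspecialIso.exists_gen hE
  exact ⟨Additive (E ⧸ center E), inferInstance, inferInstance,
    ⟨{ z := z, proj := fun a => Additive.ofMul (a : E ⧸ center E), extra := hE, z_mem := hz,
       z_ne := hz1, proj_mul := fun a b => rfl
       proj_surj := fun v => (QuotientGroup.mk_surjective v.toMul).imp fun a ha => congrArg Additive.ofMul ha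
       proj_eq_zero := fun a => QuotientGroup.eq_one_iff a }⟩⟩

section withData

include D

theorem Data.card_V {n : ℕ} (hcard : Nat.card E = 2 ^ (2 * n + 1)) :
    Finite V ∧ Nat.card V = 2 ^ (2 * n) := by
  haveI : Finite V := Finite.of_surjective _ D.proj_surj
  refine ⟨this, ?_⟩
  let e : V × center E ≃ E := Equiv.ofBijective (fun p => D.sec p.1 * p.2.1) ⟨fun p r h => by
      have h1 := congrArg D.proj h
      simp only [D.proj_mul, D.proj_sec, (D.proj_eq_zero _).2 p.2.2, (D.proj_eq_zero _).2 r.2.2, add_zero] at h1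
      simp only [h1, mul_right_inj] at h
      exact Prod.ext h1 (Subtype.ext h),
    fun a => by
      obtain ⟨c, hc, e⟩ := D.exists_of_proj_eq (D.proj_sec (D.proj a))
      exact ⟨(D.proj a, ⟨c, hc⟩), e.symm⟩⟩
  have h := Nat.card_congr e
  rw [Nat.card_prod, D.extra.2, hcard, pow_succ] at h
  exact mul_right_cancel₀ two_ne_zero h

theorem Data.type_iff {n : ℕ} (hn : 1 ≤ n) (hcard : Nat.card E = 2 ^ (2 * n + 1)) :
    ((∃ A : Subgroup E, Cfsg.IsElementaryAbelian 2 A ∧ Nat.card ↥A = 2 ^ (n + 1)) →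
      Nonempty (Cfsg.Out E ≃* Cfsg.isometryGroup (ZMod 2) (Cfsg.quadFormPlus n (ZMod 2)))) ∧
    ((¬ ∃ A : Subgroup E, Cfsg.IsElementaryAbelian 2 A ∧ Nat.card ↥A = 2 ^ (n + 1)) →
      Nonempty (Cfsg.Out E ≃* Cfsg.isometryGroup (ZMod 2) (Cfsg.quadFormMinus (n - 1) (ZMod 2) 1 1))) := by
  classical
  obtain ⟨hfin, hV⟩ := D.card_V hcard
  haveI := hfin
  haveI : FiniteDimensional (ZMod 2) V := Module.Finite.of_finite
  have hdim : Module.finrank (ZMod 2) V = 2 * n := by
    have h := Module.natCard_eq_pow_finrank (K := ZMod 2) (V := V)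
    rw [hV, Nat.card_zmod] at h
    exact (Nat.pow_right_injective le_rfl h).symm
  rcases CfsgLib.QuadStd.classify_even D.nondeg hdim with ⟨φ, hφ⟩ | ⟨ζ, φ, -, hζ, hφ⟩
  · have hA : ∃ A : Subgroup E, Cfsg.IsElementaryAbelian 2 A ∧ Nat.card ↥A = 2 ^ (n + 1) := by
      let W : Submodule (ZMod 2) V :=
        { carrier := {v | ∀ i, φ v (Sum.inr i) = 0}
          add_mem' := fun {u v} hu hv i => by simp [hu i, hv i]
          zero_mem' := fun i => by simp
          smul_mem' := fun c v hv i => by simp [hv i] }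
      have hW : ∀ v ∈ W, D.form v = 0 := fun v hv => by
        rw [hφ, plusQ_coe]
        exact Finset.sum_eq_zero fun i _ => by rw [hv i, mul_zero]
      let A : Subgroup E :=
        { carrier := {a | D.proj a ∈ W}
          one_mem' := by show D.proj 1 ∈ W; rw [D.proj_one]; exact zero_mem _
          mul_mem' := fun {a b} ha hb => by show D.proj (a * b) ∈ W; rw [D.proj_mul]; exact add_mem ha hb
          inv_mem' := fun {a} ha => by show D.proj a⁻¹ ∈ W; rw [D.proj_inv]; exact neg_mem ha }
      refine ⟨A, ⟨⟨⟨fun a b => Subtype.ext ?_⟩⟩, fun a ha => D.bit_inj (D.sq_mem a) (one_mem _) ?_⟩, ?_⟩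
      · refine commutatorElement_eq_one_iff_mul_comm.1 (D.bit_inj (D.comm_mem _ _) (one_mem _) ?_)
        rw [bit_one, ← D.polar_form, polar, hW _ (add_mem a.2 b.2), hW _ a.2, hW _ b.2]; ring
      · rw [bit_one, ← D.form_proj]; exact hW _ ha
      · let eA : A ≃ W × center E := Equiv.symm (Equiv.ofBijective (fun p : W × center E =>
          (⟨D.sec p.1.1 * p.2.1, show D.proj _ ∈ W by
            rw [D.proj_mul, D.proj_sec, (D.proj_eq_zero _).2 p.2.2, add_zero]; exact p.1.2⟩ : A))
          ⟨fun p r h => by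
            have h0 : D.sec p.1.1 * p.2.1 = D.sec r.1.1 * r.2.1 := congrArg Subtype.val h
            have h1 := congrArg D.proj h0
            simp only [D.proj_mul, D.proj_sec, (D.proj_eq_zero _).2 p.2.2, (D.proj_eq_zero _).2 r.2.2, add_zero] at h1
            rw [h1, mul_right_inj] at h0
            exact Prod.ext (Subtype.ext h1) (Subtype.ext h0),
          fun a => by
            obtain ⟨c, hc, e⟩ := D.exists_of_proj_eq (D.proj_sec (D.proj a.1))
            exact ⟨(⟨D.proj a.1, a.2⟩, ⟨c, hc⟩), Subtype.ext e.symm⟩⟩)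
        rw [Nat.card_congr eA, Nat.card_prod, D.extra.2]
        have : Nat.card W = 2 ^ n := by
          rw [Nat.card_congr (Equiv.ofBijective (fun v : W => fun i => φ v.1 (Sum.inl i)) ⟨fun u v h => by
              refine Subtype.ext (φ.injective (funext fun j => ?_))
              rcases j with j | j
              · exact congrFun h j
              · rw [u.2 j, v.2 j],
            fun x => ⟨⟨φ.symm (Sum.elim x 0), fun i => by simp⟩, by funext i; simp⟩⟩),
            Nat.card_fun, Nat.card_zmod, Nat.card_fin]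
        rw [this, pow_succ]
    refine ⟨fun _ => ⟨D.outEquiv.trans ((oGroupCongr φ fun v => (hφ v).symm).trans ?_)⟩, fun h => absurd hA h⟩
    rw [← plusQ_coe]
    exact (isoGroupEquiv (plusQ n)).symm
  · obtain rfl := CfsgLib.QuadStd.Two.zeta_one hζ
    refine ⟨fun ⟨A, hA, hAc⟩ => False.elim ?_, fun _ => ⟨D.outEquiv.trans ((oGroupCongr φ fun v => (hφ v).symm).trans ?_)⟩⟩
    · haveI := hA.1
      let S : AddSubgroup V :=
        { carrier := D.proj '' (A : Set E)
          zero_mem' := ⟨1, one_mem A, D.proj_one⟩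
          add_mem' := by
            rintro _ _ ⟨a, ha, rfl⟩ ⟨b, hb, rfl⟩
            exact ⟨a * b, mul_mem ha hb, D.proj_mul a b⟩
          neg_mem' := by
            rintro _ ⟨a, ha, rfl⟩
            exact ⟨a⁻¹, inv_mem ha, D.proj_inv a⟩ }
      let S' : Submodule (ZMod 2) V := AddSubgroup.toZModSubmodule 2 S
      have hS : ∀ v ∈ S', D.form v = 0 := by
        rintro _ ⟨a, ha, rfl⟩
        rw [D.form_proj, hA.2 a ha, bit_one]
      have hcardS : 2 ^ n ≤ Nat.card S' := by
        let f : A → S' × center E := fun a => (⟨D.proj a.1, a.1, a.2, rfl⟩,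
          ⟨(D.sec (D.proj a.1))⁻¹ * a.1, (D.proj_eq_zero _).1 (by
            rw [D.proj_mul, D.proj_inv, D.proj_sec, neg_add_cancel])⟩)
        have hf : Function.Injective f := fun a b h => by
          have h1 : D.proj a.1 = D.proj b.1 := congrArg (fun p => (p.1 : V)) h
          have h2 : (D.sec (D.proj a.1))⁻¹ * a.1 = (D.sec (D.proj b.1))⁻¹ * b.1 := congrArg (fun p => (p.2 : E)) h
          rw [h1, mul_right_inj] at h2
          exact Subtype.ext h2
        have := Nat.card_le_card_of_injective f hf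
        rw [hAc, Nat.card_prod, D.extra.2, pow_succ] at this
        omega
      have h3 := CfsgLib.ParityRank.minus_no_half CfsgLib.QuadStd.Two.one_aniso (m := n - 1)
        (S'.map φ.toLinearMap) (by
          rintro _ ⟨v, hv, rfl⟩
          rw [LinearEquiv.coe_coe, ← hφ]
          exact hS v hv)
      rw [LinearEquiv.finrank_map_eq] at h3
      rw [Module.natCard_eq_pow_finrank (K := ZMod 2), Nat.card_zmod,
        Nat.pow_le_pow_iff_right (by norm_num)] at hcardS
      omega
    · rw [← minusQ_coe]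
      exact (isoGroupEquiv (minusQ (n - 1) 1 1)).symm

end withData

end CfsgLib.Geo.ExtraOut
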