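import Cfsg.Agent.Unitary.ConjugacyGL
import Cfsg.Agent.Unitary.Special
import Cfsg.Agent.GLClass.Classes
import Mathlib

/-!
Semisimple elements of `GU n q`: existence for self-dual polynomials and determinants of centralisers.
-/

set_option autoImplicit false
set_option linter.style.haveILetI false
set_option linter.unusedSectionVars false

namespace CfsgLib.Geo.USemi

open Matrix Polynomial CfsgLib.Unitary

section generic

variable {K : Type*} [Field K] (σ : K →+* K) {ν μ : Type*} [Fintype ν] [DecidableEq ν] [Fintype μ] [DecidableEq μ]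

/-- The dual polynomial. -/
noncomputable def dual (f : K[X]) : K[X] := C (σ (f.coeff 0))⁻¹ * (f.map σ).reverse

theorem dual_mul (f g : K[X]) : dual σ (f * g) = dual σ f * dual σ g := by
  rw [dual, dual, dual, mul_coeff_zero, map_mul, mul_inv, C_mul, Polynomial.map_mul, reverse_mul_of_domain]
  ring

theorem natDegree_dual {f : K[X]} (h0 : f.coeff 0 ≠ 0) : (dual σ f).natDegree = f.natDegree := by
  rw [dual, natDegree_C_mul (inv_ne_zero ((map_ne_zero σ).2 h0)), reverse_natDegree,
    natTrailingDegree_eq_zero.2 (Or.inr (by rw [coeff_map]; exact (map_ne_zero σ).2 h0)), natDegree_map, Nat.sub_zero]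

theorem coeff_dual {f : K[X]} {k : ℕ} (hk : k ≤ f.natDegree) :
    (dual σ f).coeff k = (σ (f.coeff 0))⁻¹ * σ (f.coeff (f.natDegree - k)) := by
  rw [dual, coeff_C_mul, coeff_reverse, natDegree_map, revAt_le hk, coeff_map]

theorem coeff_zero_dual {f : K[X]} (hm : f.Monic) : (dual σ f).coeff 0 = (σ (f.coeff 0))⁻¹ := by
  rw [coeff_dual σ (Nat.zero_le _), Nat.sub_zero, hm.coeff_natDegree, map_one, mul_one]

theorem monic_dual {f : K[X]} (h0 : f.coeff 0 ≠ 0) : (dual σ f).Monic := by
  rw [Monic, leadingCoeff, natDegree_dual σ h0, coeff_dual σ le_rfl, Nat.sub_self,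
    inv_mul_cancel₀ ((map_ne_zero σ).2 h0)]

theorem dual_dual (hσ : ∀ a, σ (σ a) = a) {f : K[X]} (hm : f.Monic) (h0 : f.coeff 0 ≠ 0) :
    dual σ (dual σ f) = f := by
  have h0' : (dual σ f).coeff 0 ≠ 0 := by
    rw [coeff_zero_dual σ hm]; exact inv_ne_zero ((map_ne_zero σ).2 h0)
  ext k
  rcases le_or_gt k f.natDegree with hk | hk
  · rw [coeff_dual σ (by rwa [natDegree_dual σ h0]), natDegree_dual σ h0, coeff_zero_dual σ hm,
      coeff_dual σ (Nat.sub_le _ _), Nat.sub_sub_self hk, map_inv₀, inv_inv, hσ, map_mul, map_inv₀, hσ, hσ,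
      mul_inv_cancel_left₀ h0]
  · rw [coeff_eq_zero_of_natDegree_lt hk, coeff_eq_zero_of_natDegree_lt]
    rwa [natDegree_dual σ h0', natDegree_dual σ h0]

/-- The inverse adjoint. -/
def star' : GL ν K →* GL ν K where
  toFun g := ⟨adj σ (g⁻¹).val, adj σ g.val, by rw [← adj_mul, Units.mul_inv, adj_one],
    by rw [← adj_mul, Units.inv_mul, adj_one]⟩
  map_one' := Units.ext (by simp [adj_one])
  map_mul' g h := Units.ext (by
    show adj σ ((g * h)⁻¹).val = adj σ (g⁻¹).val * adj σ (h⁻¹).val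
    rw [_root_.mul_inv_rev, Units.val_mul, adj_mul])

theorem star'_val (g : GL ν K) : ((star' σ g : GL ν K) : Matrix ν ν K) = (adj σ (g : Matrix ν ν K))⁻¹ :=
  (Matrix.inv_eq_right_inv (show adj σ (g : Matrix ν ν K) * adj σ (g⁻¹).val = 1 by
    rw [← adj_mul, Units.inv_mul, adj_one])).symm

theorem star'_star' (hσ : ∀ a, σ (σ a) = a) (g : GL ν K) : star' σ (star' σ g) = g := by
  refine Units.ext ?_
  show adj σ (adj σ g.val) = g.val
  exact adj_adj hσ _

theorem star'_eq_self_iff (g : GL ν K) : star' σ g = g ↔ adj σ g.val * g.val = 1 := by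
  constructor
  · intro h
    have h1 : adj σ g.val * (star' σ g).val = 1 := (star' σ g).inv_mul
    rwa [h] at h1
  · intro h
    refine Units.ext ?_
    rw [star'_val, Matrix.inv_eq_right_inv h]

theorem det_star' (g : GL ν K) : (star' σ g).val.det = (σ g.val.det)⁻¹ := by
  rw [star'_val, Matrix.det_nonsing_inv, adj, Matrix.det_transpose, ← RingHom.mapMatrix_apply, ← RingHom.map_det,
    Ring.inverse_eq_inv']

theorem charpoly_star' (g : GL ν K) : (star' σ g).val.charpoly = dual σ g.val.charpoly := by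
  have hu : IsUnit (adj σ g.val) := IsUnit.of_mul_eq_one _ ((star' σ g).inv_mul)
  rw [star'_val, Matrix.charpoly_inv _ hu, ← Matrix.reverse_charpoly, adj, Matrix.charpoly_transpose,
    Matrix.charpoly_map, Matrix.det_transpose, ← RingHom.mapMatrix_apply, ← RingHom.map_det, dual,
    Ring.inverse_eq_inv', Matrix.det_eq_sign_charpoly_coeff g.val]
  congr 1
  rw [map_mul, map_pow, map_neg, map_one, mul_inv, C_mul, ← inv_pow, inv_neg, inv_one, C_pow, C_neg, C_1,
    ← mul_assoc, ← mul_pow, neg_one_mul, neg_neg, one_pow, one_mul]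

theorem commute_aeval {M N : Matrix ν ν K} (h : Commute M N) (r : K[X]) : Commute (aeval M r) N := by
  induction r using Polynomial.induction_on' with
  | add a b ha hb => rw [map_add]; exact ha.add_left hb
  | monomial k a => rw [aeval_monomial]; exact (show Commute (algebraMap K (Matrix ν ν K) a) N from Algebra.commutes a N).mul_left (h.pow_left k)

theorem adj_aeval (M : Matrix ν ν K) (r : K[X]) : adj σ (aeval M r) = aeval (adj σ M) (r.map σ) := by
  induction r using Polynomial.induction_on' with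
  | add a b ha hb => rw [map_add, adj_add, ha, hb, Polynomial.map_add, map_add]
  | monomial k a =>
    rw [aeval_monomial, map_monomial, aeval_monomial, Algebra.algebraMap_eq_smul_one,
      Algebra.algebraMap_eq_smul_one, smul_mul_assoc, one_mul, smul_mul_assoc, one_mul, adj_smul]
    congr 1
    induction k with
    | zero => simp [adj_one]
    | succ k ih => rw [pow_succ, adj_mul, ih, pow_succ']

theorem aeval_blocks (A : Matrix ν ν K) (B : Matrix μ μ K) (r : K[X]) :
    aeval (Matrix.fromBlocks A 0 0 B) r = Matrix.fromBlocks (aeval A r) 0 0 (aeval B r) := by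
  induction r using Polynomial.induction_on' with
  | add a b ha hb => simp only [map_add, ha, hb, Matrix.fromBlocks_add, add_zero]
  | monomial k a =>
    simp only [aeval_monomial, Matrix.fromBlocks_diagonal_pow, Algebra.algebraMap_eq_smul_one, smul_mul_assoc,
      one_mul, Matrix.fromBlocks_smul, smul_zero]

theorem det_aeval_conj (k g : GL ν K) (r : K[X]) :
    (aeval (k * g * k⁻¹).val r).det = (aeval g.val r).det := by
  have h : aeval (k * g * k⁻¹).val r = k.val * aeval g.val r * (k⁻¹).val := by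
    induction r using Polynomial.induction_on' with
    | add a b ha hb => rw [map_add, ha, hb, map_add, mul_add, add_mul]
    | monomial e a =>
      rw [aeval_monomial, aeval_monomial, ← Units.val_pow_eq_pow_val, conj_pow, Units.val_mul, Units.val_mul,
        Units.val_pow_eq_pow_val, Algebra.algebraMap_eq_smul_one]
      simp only [smul_mul_assoc, one_mul, mul_smul_comm]
  rw [h, Matrix.det_units_conj]

theorem orderOf_isConj {G : Type*} [Group G] {x y : G} (h : IsConj x y) : orderOf y = orderOf x := by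
  obtain ⟨k, hk⟩ := isConj_iff.1 h
  rw [← hk, ← MulAut.conj_apply, MulEquiv.orderOf_eq]

/-- Block diagonal pairs. -/
def emb {d m : ℕ} : GL (Fin d) K × GL (Fin m) K →* GL (Fin (d + m)) K :=
  (Units.map ((Matrix.reindexAlgEquiv K K finSumFinEquiv).toRingEquiv.toMonoidHom)).comp
    { toFun := fun x => ⟨Matrix.fromBlocks x.1.val 0 0 x.2.val, Matrix.fromBlocks (x.1⁻¹).val 0 0 (x.2⁻¹).val,
        by simp [Matrix.fromBlocks_multiply], by simp [Matrix.fromBlocks_multiply]⟩
      map_one' := Units.ext (by simp)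
      map_mul' := fun x y => Units.ext (by simp [Matrix.fromBlocks_multiply]) }

theorem emb_val {d m : ℕ} (x : GL (Fin d) K × GL (Fin m) K) :
    (emb x).val = Matrix.reindex finSumFinEquiv finSumFinEquiv (Matrix.fromBlocks x.1.val 0 0 x.2.val) := rfl

theorem star'_emb {d m : ℕ} (x : GL (Fin d) K × GL (Fin m) K) :
    star' σ (emb x) = emb (star' σ x.1, star' σ x.2) := by
  refine Units.ext ?_
  show adj σ ((emb x)⁻¹).val = (emb (star' σ x.1, star' σ x.2)).val
  rw [← map_inv, emb_val, emb_val]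
  show adj σ (Matrix.reindex _ _ (Matrix.fromBlocks (x.1⁻¹).val 0 0 (x.2⁻¹).val)) =
    Matrix.reindex _ _ (Matrix.fromBlocks (adj σ (x.1⁻¹).val) 0 0 (adj σ (x.2⁻¹).val))
  rw [adj, adj, adj, Matrix.reindex_apply, Matrix.reindex_apply, ← Matrix.submatrix_map,
    Matrix.transpose_submatrix, Matrix.fromBlocks_map, Matrix.fromBlocks_transpose, Matrix.map_zero _ (map_zero σ),
    Matrix.map_zero _ (map_zero σ), Matrix.transpose_zero, Matrix.transpose_zero]

theorem charpoly_emb {d m : ℕ} (x : GL (Fin d) K × GL (Fin m) K) :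
    (emb x).val.charpoly = x.1.val.charpoly * x.2.val.charpoly := by
  rw [emb_val, Matrix.charpoly_reindex, Matrix.charpoly_fromBlocks_zero₂₁]

theorem det_emb {d m : ℕ} (x : GL (Fin d) K × GL (Fin m) K) :
    (emb x).val.det = x.1.val.det * x.2.val.det := by
  rw [emb_val, Matrix.det_reindex_self, Matrix.det_fromBlocks_zero₂₁]

end generic

variable {K : Type*} [Field K] [Fintype K] (p : ℕ) [Fact p.Prime] [CharP K p]

theorem coprime_emb {d m : ℕ} {x : GL (Fin d) K × GL (Fin m) K} (h1 : (orderOf x.1).Coprime p)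
    (h2 : (orderOf x.2).Coprime p) : (orderOf (emb x)).Coprime p := by
  refine ((h1.mul_left h2).coprime_dvd_left ?_)
  refine (orderOf_map_dvd emb x).trans ?_
  rw [Prod.orderOf]
  exact Nat.lcm_dvd_mul _ _

/-- An element generating the field of an irreducible polynomial. -/
theorem exists_fieldGen {P : K[X]} (hP : P.Monic) (hirr : Irreducible P) (h0 : P.coeff 0 ≠ 0) :
    ∃ A : GL (Fin P.natDegree) K, A.val.charpoly = P ∧ (orderOf A).Coprime p ∧
      ∀ c : K, ∃ r : K[X], (aeval A.val r).det = c := by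
  classical
  haveI := Fact.mk hirr
  let pb := AdjoinRoot.powerBasis hP.ne_zero
  haveI : Module.Finite K (AdjoinRoot P) := pb.finite
  haveI : Finite (AdjoinRoot P) := Module.finite_of_finite K
  letI : Fintype (AdjoinRoot P) := Fintype.ofFinite _
  let L : AdjoinRoot P →ₐ[K] Matrix (Fin P.natDegree) (Fin P.natDegree) K := Algebra.leftMulMatrix pb.basis
  have hα : AdjoinRoot.root P ≠ 0 := fun h => by
    have h1 := AdjoinRoot.eval₂_root P
    rw [h, eval₂_at_zero] at h1
    exact h0 ((map_eq_zero _).1 h1)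
  have hchar : (L (AdjoinRoot.root P)).charpoly = P := by
    rw [show AdjoinRoot.root P = pb.gen from (AdjoinRoot.powerBasis_gen hP.ne_zero).symm]
    refine (charpoly_leftMulMatrix pb).trans ?_
    rw [AdjoinRoot.powerBasis_gen, AdjoinRoot.minpoly_root hP.ne_zero, hP.leadingCoeff, inv_one, map_one, mul_one]
  let A : GL (Fin P.natDegree) K := Units.map (L : AdjoinRoot P →* _) (Units.mk0 _ hα)
  refine ⟨A, hchar, ?_, fun c => ?_⟩
  · haveI : CharP (AdjoinRoot P) p := charP_of_injective_algebraMap (algebraMap K (AdjoinRoot P)).injective p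
    refine Nat.Coprime.coprime_dvd_left ((orderOf_map_dvd _ _).trans (orderOf_dvd_card (x := Units.mk0 _ hα))) ?_
    obtain ⟨k, -, hk⟩ := FiniteField.card (AdjoinRoot P) p
    rw [Fintype.card_units, hk]
    refine ((Fact.out : p.Prime).coprime_iff_not_dvd.2 fun hd => ?_).symm
    have h1 : p ∣ p ^ (k : ℕ) := dvd_pow_self p k.ne_zero
    have h2 : 1 ≤ p ^ (k : ℕ) := Nat.one_le_pow _ _ (Fact.out : p.Prime).pos
    have h3 := Nat.dvd_sub h1 hd
    rw [show p ^ (k : ℕ) - (p ^ (k : ℕ) - 1) = 1 by omega] at h3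
    exact (Fact.out : p.Prime).not_dvd_one h3
  · obtain ⟨x, hx⟩ := FiniteField.norm_surjective K (AdjoinRoot P) c
    obtain ⟨r, rfl⟩ := AdjoinRoot.mk_surjective x
    refine ⟨r, ?_⟩
    show (aeval (L (AdjoinRoot.root P)) r).det = c
    rw [aeval_algHom_apply, AdjoinRoot.aeval_eq, ← hx, Algebra.norm_eq_matrix_det pb.basis]
    rfl

variable {q n : ℕ} (hK : Nat.card K = q ^ 2)
include hK

local notation "σ'" => CfsgLib.Forms.frobQ hK

theorem mem_GU_iff_star {g : GL (Fin n) K} : g ∈ Cfsg.GU n K q ↔ star' σ' g = g := by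
  rw [mem_GU_iff_adj hK, star'_eq_self_iff]

theorem dual_charpoly_eq {g : GL (Fin n) K} (hg : g ∈ Cfsg.GU n K q) :
    dual σ' g.val.charpoly = g.val.charpoly := by
  rw [← charpoly_star', (mem_GU_iff_star hK).1 hg]

include p in
theorem exists_GU_charpoly {f : K[X]} (hm : f.Monic) (hd : f.natDegree = n) (h0 : f.coeff 0 ≠ 0)
    (hf : dual σ' f = f) :
    ∃ g : GL (Fin n) K, g ∈ Cfsg.GU n K q ∧ (orderOf g).Coprime p ∧ g.val.charpoly = f := by
  obtain ⟨C', hC, hCf⟩ := CfsgLib.GLClass.exists_regular_charpoly p (⟨f, hm, hd, h0⟩ : CfsgLib.GLClass.GoodPoly K n)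
  have hconj : IsConj C' (star' σ' C') :=
    CfsgLib.GLClass.isConj_of_charpoly_eq p hC (hC.coprime_dvd_left (orderOf_map_dvd _ _))
      (by rw [charpoly_star', hCf, hf])
  obtain ⟨B, hB⟩ := (exists_GU_conj_iff hK C').2 (by
    rw [← star'_val]; exact MonoidHom.map_isConj (Units.coeHom _) hconj)
  exact ⟨B, B.2, by rwa [orderOf_isConj hB],
    ((CfsgLib.GLClass.charpoly_eq_of_isConj hB).symm.trans hCf)⟩

include p in
/-- A self-dual factor with an element whose algebra has surjective determinant. -/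
theorem exists_factor {G : K[X]} (hG : G.Monic) (hd : 0 < G.natDegree) (h0 : G.coeff 0 ≠ 0) (hGd : dual σ' G = G) :
    ∃ (d : ℕ) (D : GL (Fin d) K), D.val.charpoly ∣ G ∧ (orderOf D).Coprime p ∧
      dual σ' D.val.charpoly = D.val.charpoly ∧ ∀ c : K, ∃ r : K[X], (aeval D.val r).det = c := by
  obtain ⟨P, hP, hirr, hPG⟩ := Polynomial.exists_monic_irreducible_factor G
    (not_isUnit_of_natDegree_pos G hd)
  have hP0 : P.coeff 0 ≠ 0 := CfsgLib.GLClass.coeff_zero_ne_of_dvd hPG h0
  obtain ⟨A, hA, hAo, hAd⟩ := exists_fieldGen p hP hirr hP0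
  by_cases hQ : dual σ' P = P
  · exact ⟨_, A, by rw [hA]; exact hPG, hAo, by rw [hA, hQ], hAd⟩
  have hQG : dual σ' P ∣ G := by
    obtain ⟨R, hR⟩ := hPG
    exact ⟨dual σ' R, by rw [← dual_mul, ← hR, hGd]⟩
  have hcop : IsCoprime P (dual σ' P) := hirr.coprime_iff_not_dvd.2 fun h =>
    hQ (Polynomial.eq_of_monic_of_dvd_of_natDegree_le hP (monic_dual _ hP0) h (natDegree_dual _ hP0).le)
  have hcp : (emb (A, star' σ' A)).val.charpoly = P * dual σ' P := by rw [charpoly_emb, charpoly_star', hA]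
  refine ⟨_, emb (A, star' σ' A), hcp ▸ hcop.mul_dvd hPG hQG,
    coprime_emb p hAo (hAo.coprime_dvd_left (orderOf_map_dvd _ _)), ?_, fun c => ?_⟩
  · rw [hcp, dual_mul, dual_dual _ (CfsgLib.Forms.frobQ_invol hK) hP hP0, mul_comm]
  · obtain ⟨r, hr⟩ := hAd c
    obtain ⟨a, b, hab⟩ := hcop
    refine ⟨r * (b * dual σ' P) + a * P, ?_⟩
    have h1 : aeval A.val P = 0 := by
      have := Matrix.aeval_self_charpoly A.val; rwa [hA] at this
    have h2 : aeval (star' σ' A).val (dual σ' P) = 0 := by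
      have := Matrix.aeval_self_charpoly (star' σ' A).val; rwa [charpoly_star', hA] at this
    have e1 : r * (b * dual σ' P) + a * P = r + (a - r * a) * P := by linear_combination r * hab
    have e2 : r * (b * dual σ' P) + a * P = 1 + (r * b - b) * dual σ' P := by linear_combination hab
    have k1 : aeval A.val (r * (b * dual σ' P) + a * P) = aeval A.val r := by
      rw [e1, map_add, map_mul, h1, mul_zero, add_zero]
    have k2 : aeval (star' σ' A).val (r * (b * dual σ' P) + a * P) = 1 := by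
      rw [e2, map_add, map_mul, h2, mul_zero, add_zero, map_one]
    rw [emb_val]
    show (aeval (Matrix.reindexAlgEquiv K K finSumFinEquiv _) _).det = c
    rw [aeval_algHom_apply, Matrix.reindexAlgEquiv_apply, Matrix.det_reindex_self, aeval_blocks,
      Matrix.det_fromBlocks_zero₂₁, k1, k2, Matrix.det_one, mul_one, hr]

include p in
set_option maxHeartbeats 1000000 in
/-- Determinants on the centraliser of a semisimple element of `GU`. -/
theorem exists_commute_det_GU (hn : 0 < n) {g : GL (Fin n) K} (hg : g ∈ Cfsg.GU n K q)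
    (hgo : (orderOf g).Coprime p) {c : K} (hc : c ≠ 0) :
    ∃ T : GL (Fin n) K, T ∈ Cfsg.GU n K q ∧ T * g = g * T ∧ T.val.det = c * (c ^ q)⁻¹ := by
  set G := g.val.charpoly with hGdef
  have hG : G.Monic := Matrix.charpoly_monic _
  have hGn : G.natDegree = n := by rw [hGdef, Matrix.charpoly_natDegree_eq_dim, Fintype.card_fin]
  have hG0 : G.coeff 0 ≠ 0 := CfsgLib.GLClass.coeff_zero_charpoly_gl g
  have hGd := dual_charpoly_eq hK hg
  obtain ⟨d, D, hDG, hDo, hDd, hDdet⟩ := exists_factor p hK hG (hGn ▸ hn) hG0 hGd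
  obtain ⟨g1, hg1, hg1o, hg1c⟩ := exists_GU_charpoly p hK (Matrix.charpoly_monic D.val)
    (by rw [Matrix.charpoly_natDegree_eq_dim, Fintype.card_fin]) (CfsgLib.GLClass.coeff_zero_charpoly_gl D) hDd
  obtain ⟨h, hh⟩ := hDG
  have hm : h.Monic := (Matrix.charpoly_monic D.val).of_mul_monic_left (hh ▸ hG)
  have hdn : n = d + h.natDegree := by
    rw [← hGn, hh, (Matrix.charpoly_monic D.val).natDegree_mul hm, Matrix.charpoly_natDegree_eq_dim, Fintype.card_fin]
  have hhd : dual σ' h = h := by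
    have h' : D.val.charpoly * dual σ' h = D.val.charpoly * h := by
      have e := hGd
      rw [← hGdef, hh, dual_mul, hDd] at e
      exact e
    exact mul_left_cancel₀ (Matrix.charpoly_monic D.val).ne_zero h'
  have hh0 : h.coeff 0 ≠ 0 := CfsgLib.GLClass.coeff_zero_ne_of_dvd (Dvd.intro_left _ hh.symm) hG0
  obtain ⟨g2, hg2, hg2o, hg2c⟩ := exists_GU_charpoly p hK hm rfl hh0 hhd
  obtain ⟨r, hr⟩ := hDdet c
  obtain ⟨k, hk⟩ := isConj_iff.1 (CfsgLib.GLClass.isConj_of_charpoly_eq p hg1o hDo hg1c)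
  have hdet : (aeval g1.val r).det = c := by rw [← det_aeval_conj k, hk, hr]
  let S : GL (Fin d) K := Matrix.GeneralLinearGroup.mkOfDetNeZero (aeval g1.val r) (hdet ▸ hc)
  have hS : S.val = aeval g1.val r := rfl
  have hSg : Commute S g1 := Units.ext (by
    rw [Units.val_mul, Units.val_mul, hS]; exact (commute_aeval (Commute.refl g1.val) r).eq)
  have hg1adj : adj σ' g1.val = (g1⁻¹).val := by
    have h1 := (mem_GU_iff_star hK).1 hg1
    calc adj σ' g1.val = ((star' σ' g1)⁻¹).val := rfl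
      _ = (g1⁻¹).val := by rw [h1]
  have hSS : Commute S (star' σ' S)⁻¹ := Units.ext (by
    show S.val * adj σ' S.val = adj σ' S.val * S.val
    rw [hS, adj_aeval, hg1adj]
    refine (commute_aeval ?_ r).eq
    exact (commute_aeval (show Commute (g1⁻¹).val g1.val by
      rw [Commute, SemiconjBy, Units.inv_mul, Units.mul_inv]) (r.map σ')).symm)
  have hSS' : Commute S (star' σ' S) := Commute.inv_right_iff.1 hSS
  let T1 := S * star' σ' S
  have hT1 : star' σ' T1 = T1 := by
    show star' σ' (S * star' σ' S) = S * star' σ' S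
    rw [map_mul, star'_star' _ (CfsgLib.Forms.frobQ_invol hK), hSS'.eq]
  have hT1g : Commute T1 g1 := by
    refine hSg.mul_left ?_
    have := hSg.map (star' σ')
    rwa [(mem_GU_iff_star hK).1 hg1] at this
  subst hdn
  have hmem : emb (g1, g2) ∈ Cfsg.GU (d + h.natDegree) K q := by
    rw [mem_GU_iff_star hK, star'_emb, (mem_GU_iff_star hK).1 hg1, (mem_GU_iff_star hK).1 hg2]
  have hconj : IsConj (⟨emb (g1, g2), hmem⟩ : Cfsg.GU (d + h.natDegree) K q) ⟨g, hg⟩ :=
    (isConj_iff_GL hK _ _).2 (CfsgLib.GLClass.isConj_of_charpoly_eq p (coprime_emb p hg1o hg2o) hgo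
      (by rw [charpoly_emb, hg1c, hg2c, ← hh]))
  obtain ⟨y, hy⟩ := isConj_iff.1 hconj
  have hy' : (y : GL _ K) * emb (g1, g2) * (y : GL _ K)⁻¹ = g := congrArg Subtype.val hy
  have hTm : emb (T1, 1) ∈ Cfsg.GU (d + h.natDegree) K q := by
    rw [mem_GU_iff_star hK, star'_emb, hT1, map_one]
  refine ⟨(y : GL _ K) * emb (T1, 1) * (y : GL _ K)⁻¹, mul_mem (mul_mem y.2 hTm) (inv_mem y.2), ?_, ?_⟩
  · rw [← hy']
    generalize (y : GL (Fin (d + h.natDegree)) K) = Y
    have e : emb (T1, (1 : GL (Fin h.natDegree) K)) * emb (g1, g2) = emb (g1, g2) * emb (T1, 1) := by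
      rw [← map_mul, ← map_mul, Prod.mk_mul_mk, Prod.mk_mul_mk, hT1g.eq, one_mul, mul_one]
    calc Y * emb (T1, 1) * Y⁻¹ * (Y * emb (g1, g2) * Y⁻¹) = Y * (emb (T1, 1) * emb (g1, g2)) * Y⁻¹ := by group
      _ = Y * emb (g1, g2) * Y⁻¹ * (Y * emb (T1, 1) * Y⁻¹) := by rw [e]; group
  · rw [Units.val_mul, Units.val_mul, Matrix.det_units_conj, det_emb]
    show (S.val * (star' σ' S).val).det * (1 : Matrix (Fin h.natDegree) (Fin h.natDegree) K).det = _
    rw [Matrix.det_one, mul_one, Matrix.det_mul, det_star', hS, hdet, CfsgLib.Forms.frobQ_apply]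

theorem exists_div_eq {u : Kˣ} (hu : u ^ (q + 1) = 1) : ∃ c : Kˣ, (c : K) * ((c : K) ^ q)⁻¹ = u := by
  have hq := CfsgLib.Forms.two_le_q hK
  have h : (powMonoidHom (q - 1) : Kˣ →* Kˣ).range = (powMonoidHom (q + 1) : Kˣ →* Kˣ).ker := by
    refine Subgroup.eq_of_le_of_card_ge ?_ ?_
    · rintro _ ⟨v, rfl⟩
      rw [MonoidHom.mem_ker, powMonoidHom_apply, powMonoidHom_apply, ← pow_mul, mul_comm,
        ← CfsgLib.Forms.card_units_eq hK, pow_card_eq_one']
    · rw [IsCyclic.card_powMonoidHom_ker, IsCyclic.card_powMonoidHom_range, CfsgLib.Forms.card_units_eq hK,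
        Nat.gcd_mul_right_left, Nat.gcd_mul_left_left, Nat.mul_div_cancel _ (by omega)]
  have hu' : u ∈ (powMonoidHom (q - 1) : Kˣ →* Kˣ).range := by rw [h]; exact hu
  obtain ⟨c, rfl⟩ := hu'
  refine ⟨c⁻¹, ?_⟩
  rw [powMonoidHom_apply, Units.val_inv_eq_inv_val, inv_pow, inv_inv, Units.val_pow_eq_pow_val,
    inv_mul_eq_iff_eq_mul₀ c.ne_zero, ← pow_succ', Nat.sub_add_cancel (by omega)]

include p in
theorem isConj_SU (g h : Cfsg.SU n K q) (hg : (orderOf g).Coprime p) (hh : (orderOf h).Coprime p)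
    (hc : g.1.1.charpoly = h.1.1.charpoly) : IsConj g h := by
  rcases Nat.eq_zero_or_pos n with rfl | hn
  · rw [Subsingleton.elim g h]
  let φ : Cfsg.SU n K q →* GL (Fin n) K := Matrix.SpecialLinearGroup.toGL.comp (Cfsg.SU n K q).subtype
  have hφ : Function.Injective φ := Matrix.SpecialLinearGroup.toGL_injective.comp Subtype.val_injective
  have hmem : ∀ s, φ s ∈ Cfsg.GU n K q := fun s => s.2
  have hord : ∀ s, orderOf (φ s) = orderOf s := fun s => orderOf_injective φ hφ s
  obtain ⟨x, hx⟩ := isConj_iff.1 ((isConj_iff_GL hK ⟨φ g, hmem g⟩ ⟨φ h, hmem h⟩).2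
    (CfsgLib.GLClass.isConj_of_charpoly_eq p (g := φ g) (h := φ h) (by rwa [hord]) (by rwa [hord]) hc))
  have hx' : (x : GL (Fin n) K) * φ g * (x : GL (Fin n) K)⁻¹ = φ h := congrArg Subtype.val hx
  obtain ⟨c, hc'⟩ := exists_div_eq hK (inv_mem (CfsgLib.Unitary.det_GU hK x.2) :
    (Matrix.GeneralLinearGroup.det (x : GL (Fin n) K))⁻¹ ∈ (powMonoidHom (q + 1) : Kˣ →* Kˣ).ker)
  obtain ⟨T, hT, hTg, hTd⟩ := exists_commute_det_GU p hK hn (hmem g) (by rwa [hord]) c.ne_zero
  have hdet : ((x : GL (Fin n) K) * T).val.det = 1 := by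
    rw [Units.val_mul, Matrix.det_mul, hTd, hc', ← Matrix.GeneralLinearGroup.val_det_apply,
      Units.mul_inv]
  let y : Cfsg.SU n K q := ⟨⟨_, hdet⟩, mul_mem x.2 hT⟩
  have hy : φ y = (x : GL (Fin n) K) * T := Units.ext rfl
  refine isConj_iff.2 ⟨y, hφ ?_⟩
  rw [map_mul, map_mul, map_inv, hy]
  calc (x : GL (Fin n) K) * T * φ g * ((x : GL (Fin n) K) * T)⁻¹
      = (x : GL (Fin n) K) * (T * φ g * T⁻¹) * (x : GL (Fin n) K)⁻¹ := by group
    _ = φ h := by rw [hTg, mul_inv_cancel_right, hx']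

/-- Fixed vectors of a semilinear involution. -/
theorem card_fixed {m : ℕ} (ε : K) (hε : σ' ε = ε) (hεε : ε * ε = 1) :
    Nat.card {v : Fin m → K // ∀ i, ε * σ' (v i.rev) = v i} = q ^ m := by
  obtain ⟨lam, hlam⟩ : ∃ l, σ' l ≠ l := by
    by_contra h; push Not at h; exact CfsgLib.Forms.frobQ_ne_id hK (RingHom.ext h)
  set S := {v : Fin m → K // ∀ i, ε * σ' (v i.rev) = v i}
  let J : (Fin m → K) → Fin m → K := fun v i => ε * σ' (v i.rev)
  have hJJ : ∀ v i, ε * σ' (J v i.rev) = v i := fun v i => by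
    show ε * σ' (ε * σ' (v i.rev.rev)) = v i
    rw [Fin.rev_rev, map_mul, hε, CfsgLib.Forms.frobQ_invol, ← mul_assoc, hεε, one_mul]
  let f : S × S → (Fin m → K) := fun x i => x.1.1 i + lam * x.2.1 i
  have hd : lam - σ' lam ≠ 0 := sub_ne_zero.2 hlam.symm
  have hJf : ∀ (x : S × S) i, J (f x) i = x.1.1 i + σ' lam * x.2.1 i := fun x i => by
    show ε * σ' (x.1.1 i.rev + lam * x.2.1 i.rev) = _
    conv_rhs => rw [← x.1.2 i, ← x.2.2 i]
    rw [map_add, map_mul]; ring
  have hf : Function.Bijective f := by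
    constructor
    · intro x y h
      have h2 : ∀ i, x.2.1 i = y.2.1 i := fun i => by
        have a := congrFun h i
        have b := congrFun (congrArg J h) i
        rw [hJf, hJf] at b
        refine mul_left_cancel₀ hd ?_
        linear_combination a - b
      refine Prod.ext (Subtype.ext (funext fun i => ?_)) (Subtype.ext (funext h2))
      have a := congrFun h i
      simp only [f, h2 i] at a
      exact add_right_cancel a
    · intro v
      let y : Fin m → K := fun i => (v i - J v i) / (lam - σ' lam)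
      have hy : ∀ i, ε * σ' (y i.rev) = y i := fun i => by
        show ε * σ' ((v i.rev - J v i.rev) / (lam - σ' lam)) = (v i - J v i) / (lam - σ' lam)
        rw [map_div₀, map_sub, map_sub, CfsgLib.Forms.frobQ_invol, ← mul_div_assoc, mul_sub, hJJ,
          ← neg_sub lam, div_neg, ← neg_div, neg_sub]
      refine ⟨(⟨fun i => v i - lam * y i, fun i => ?_⟩, ⟨y, hy⟩), funext fun i => sub_add_cancel _ _⟩
      rw [map_sub, map_mul, mul_sub, mul_left_comm ε, hy]
      show J v i - σ' lam * y i = v i - lam * y i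
      have : (lam - σ' lam) * y i = v i - J v i := mul_div_cancel₀ _ hd
      linear_combination this
  have h := Nat.card_eq_of_bijective f hf
  rw [Nat.card_prod, Nat.card_fun, hK, Nat.card_fin, ← pow_two, ← pow_mul, mul_comm, pow_mul] at h
  exact Nat.pow_left_injective two_ne_zero h

theorem card_dual_polys {m : ℕ} :
    Nat.card {f : K[X] // f.Monic ∧ f.natDegree = m + 1 ∧ f.coeff 0 = (-1) ^ (m + 1) ∧ dual σ' f = f} = q ^ m := by
  classical
  set ε : K := (-1) ^ (m + 1) with hεd
  have hε : σ' ε = ε := by rw [hεd, map_pow, map_neg, map_one]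
  have hεε : ε * ε = 1 := by rw [hεd, ← mul_pow, neg_one_mul, neg_neg, one_pow]
  have hεi : (σ' ε)⁻¹ = ε := by rw [hε]; exact inv_eq_of_mul_eq_one_right hεε
  rw [← card_fixed hK ε hε hεε]
  refine Nat.card_eq_of_bijective (fun f => ⟨fun i => f.1.coeff (i.val + 1), fun i => ?_⟩) ⟨fun f g h => ?_, fun v => ?_⟩
  · have h := congrArg (fun P : K[X] => P.coeff (i.val + 1)) f.2.2.2.2
    rw [coeff_dual σ' (by rw [f.2.2.1]; omega), f.2.2.1, f.2.2.2.1, hεi] at h
    simp only [Fin.val_rev]
    rwa [show m - (i.val + 1) + 1 = m + 1 - (i.val + 1) by omega]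
  · refine Subtype.ext (Polynomial.ext fun k => ?_)
    rcases Nat.eq_zero_or_pos k with rfl | hk
    · rw [f.2.2.2.1, g.2.2.2.1]
    rcases lt_trichotomy k (m + 1) with hk' | rfl | hk'
    · have := congrFun (congrArg Subtype.val h) ⟨k - 1, by omega⟩
      simpa [show k - 1 + 1 = k by omega] using this
    · have a := f.2.1.coeff_natDegree
      have b := g.2.1.coeff_natDegree
      rw [f.2.2.1] at a; rw [g.2.2.1] at b
      rw [a, b]
    · rw [coeff_eq_zero_of_natDegree_lt (by rw [f.2.2.1]; omega),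
        coeff_eq_zero_of_natDegree_lt (by rw [g.2.2.1]; omega)]
  · let w : ℕ → K := fun k => if k = 0 then ε else if h : k - 1 < m then v.1 ⟨k - 1, h⟩ else 1
    let f : K[X] := ∑ k ∈ Finset.range (m + 2), C (w k) * X ^ k
    have hc : ∀ k, f.coeff k = if k < m + 2 then w k else 0 := fun k => by
      simp [f, coeff_C_mul, coeff_X_pow]
    have hw0 : w 0 = ε := if_pos rfl
    have hwn : w (m + 1) = 1 := by simp [w]
    have hdeg : f.natDegree = m + 1 :=
      natDegree_eq_of_le_of_coeff_ne_zero (natDegree_le_iff_coeff_eq_zero.2 fun k hk => by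
        rw [hc, if_neg (by omega)]) (by rw [hc, if_pos (by omega), hwn]; exact one_ne_zero)
    have hmon : f.Monic := by rw [Monic, leadingCoeff, hdeg, hc, if_pos (by omega), hwn]
    have hf0 : f.coeff 0 = ε := by rw [hc, if_pos (by omega), hw0]
    have hwi : ∀ i : Fin m, w (i.val + 1) = v.1 i := fun i => by simp [w]
    refine ⟨⟨f, hmon, hdeg, hf0, ?_⟩, Subtype.ext (funext fun i => by
      show f.coeff (i.val + 1) = _; rw [hc, if_pos (by omega), hwi])⟩
    refine Polynomial.ext fun k => ?_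
    rcases le_or_gt k (m + 1) with hk | hk
    · rw [coeff_dual σ' (hdeg.symm ▸ hk), hf0, hdeg, hεi, hc, hc, if_pos (by omega), if_pos (by omega)]
      rcases Nat.eq_zero_or_pos k with rfl | hk0
      · rw [Nat.sub_zero, hwn, map_one, mul_one, hw0]
      rcases eq_or_lt_of_le hk with rfl | hk1
      · rw [Nat.sub_self, hw0, hwn, hε, hεε]
      let i : Fin m := ⟨k - 1, by omega⟩
      have := v.2 i
      rw [← hwi, ← hwi, Fin.val_rev] at this
      simpa [i, show k - 1 + 1 = k by omega, show m - k + 1 = m + 1 - k by omega] using this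
    · rw [coeff_eq_zero_of_natDegree_lt (by rw [natDegree_dual σ' (by rw [hf0]; exact left_ne_zero_of_mul_eq_one hεε), hdeg]; omega),
        hc, if_neg (by omega)]

end CfsgLib.Geo.USemi
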