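/-
Transvections inside a subgroup of the special unitary group: isotropic centres with all transvections present.
-/
import Cfsg.Agent.Geo.UnitaryBasic
import Cfsg.Agent.Geo.Transvection
import Cfsg.Agent.Unitary.Generated

set_option autoImplicit false

namespace CfsgLib.Geo.UTv

open Matrix Cfsg Cfsg.Geo CfsgLib.Geo

variable {n q : ℕ} {F : Type*} [Field F]

/-- The special unitary group inside the general linear group. -/
abbrev suGL (n : ℕ) (F : Type*) [Field F] (q : ℕ) : Subgroup (GL (Fin n) F) :=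
  Cfsg.GU n F q ⊓ specialLinear (Fin n) F

/-- The Frobenius involution of `F` as an automorphism. -/
noncomputable def frobEquiv [Finite F] (hF : Nat.card F = q ^ 2) : F ≃+* F :=
  RingEquiv.ofBijective (CfsgLib.Forms.frobQ hF)
    ⟨(CfsgLib.Forms.frobQ hF).injective,
      Finite.surjective_of_injective (CfsgLib.Forms.frobQ hF).injective⟩

variable [Finite F] (hF : Nat.card F = q ^ 2)
include hF

lemma frobEquiv_apply (a : F) : frobEquiv hF a = a ^ q := CfsgLib.Forms.frobQ_apply hF a

lemma isUnitaryForm : IsUnitaryForm (frobEquiv hF) (Cfsg.hermForm n F q) where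
  ne_refl h := CfsgLib.Forms.frobQ_ne_id hF (RingHom.ext fun a => by
    rw [CfsgLib.Forms.frobQ_apply, ← frobEquiv_apply hF, h]; rfl)
  involutive a := by
    change CfsgLib.Forms.frobQ hF (CfsgLib.Forms.frobQ hF a) = a
    exact (CfsgLib.Unitary.uForm hF n).σσ a
  add_left x y v := CfsgLib.Unitary.herm_add_left n x y v
  smul_left c x v := CfsgLib.Unitary.herm_smul_left n c x v
  herm v w := by rw [frobEquiv_apply, CfsgLib.Unitary.herm_swap hF w v]
  nondegenerate v hv := by
    have h0 := CfsgLib.Unitary.uForm_nondeg hF n v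
    refine ⟨by_contra fun hc => ?_, by_contra fun hc => ?_⟩
    · push Not at hc; exact hv (h0 hc)
    · push Not at hc
      refine hv (h0 fun u => ?_)
      exact (CfsgLib.Unitary.uForm hF n).eq_zero_comm.1 (hc u)

omit hF [Finite F] in
lemma mem_GU {g : GL (Fin n) F} : g ∈ Cfsg.GU n F q ↔ ∀ u v : Fin n → F,
    Cfsg.hermForm n F q ((g : Matrix (Fin n) (Fin n) F) *ᵥ u) ((g : Matrix (Fin n) (Fin n) F) *ᵥ v) =
      Cfsg.hermForm n F q u v := Iff.rfl

omit hF [Finite F] in
lemma herm_mulVec {g : GL (Fin n) F} (hg : g ∈ suGL n F q) (u v : Fin n → F) :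
    Cfsg.hermForm n F q ((g : Matrix (Fin n) (Fin n) F) *ᵥ u) ((g : Matrix (Fin n) (Fin n) F) *ᵥ v) =
      Cfsg.hermForm n F q u v := mem_GU.1 hg.1 u v

omit hF in
lemma axisOf_dot {v x : Fin n → F} :
    axisOf (Cfsg.hermForm n F q) v ⬝ᵥ x = Cfsg.hermForm n F q x v :=
  LinLeft.dot ⟨CfsgLib.Unitary.herm_add_left n, CfsgLib.Unitary.herm_smul_left n⟩ v x

omit hF [Finite F] in
/-- The covector of the unitary transvection with centre `v` and parameter `c`. -/
abbrev uax (q : ℕ) (v : Fin n → F) (c : F) : Fin n → F := c • axisOf (Cfsg.hermForm n F q) v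

omit hF in
lemma uax_dot_self {v : Fin n → F} (hv : Cfsg.hermForm n F q v v = 0) (c : F) :
    uax q v c ⬝ᵥ v = 0 := by rw [smul_dotProduct, axisOf_dot, hv, smul_zero]

lemma utv_mem {v : Fin n → F} (hv : Cfsg.hermForm n F q v v = 0) {c : F} (hc : c + c ^ q = 0) :
    tvec v (uax q v c) (uax_dot_self hv c) ∈ suGL n F q := by
  refine ⟨fun u w => ?_, tvec_mem_specialLinear _ _ _⟩
  have hu := isUnitaryForm hF (n := n)
  simp only [Units.coeHom_apply, tvec_mulVec, smul_dotProduct, axisOf_dot, smul_eq_mul, hu.add_left,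
    Unit.add_right hu, hu.smul_left, Unit.smul_right hu, hv, frobEquiv_apply]
  rw [mul_pow, ← frobEquiv_apply hF (Cfsg.hermForm n F q w v), ← hu.herm v w]
  linear_combination (Cfsg.hermForm n F q u v * Cfsg.hermForm n F q v w) * hc

lemma utv_mulVec {v : Fin n → F} (hv : Cfsg.hermForm n F q v v = 0) (c : F) (x : Fin n → F) :
    (tvec v (uax q v c) (uax_dot_self hv c) : Matrix (Fin n) (Fin n) F) *ᵥ x =
      x + (c * Cfsg.hermForm n F q x v) • v := by
  rw [tvec_mulVec, smul_dotProduct, axisOf_dot, smul_eq_mul]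

variable {M : Subgroup (GL (Fin n) F)}

omit hF [Finite F] in
/-- An isotropic vector all of whose unitary transvections lie in `M`. -/
def Full (q : ℕ) (M : Subgroup (GL (Fin n) F)) (v : Fin n → F) : Prop :=
  Cfsg.hermForm n F q v v = 0 ∧ ∀ c : F, c + c ^ q = 0 → HasTv M v (uax q v c)

lemma full_of_mem {v : Fin n → F} (hv : Cfsg.hermForm n F q v v = 0)
    (h : ∀ c (_ : c + c ^ q = 0), tvec v (uax q v c) (uax_dot_self hv c) ∈ M) : Full q M v :=
  ⟨hv, fun c hc => ⟨_, h c hc⟩⟩

lemma full_smul {v : Fin n → F} (h : Full q M v) (a : F) : Full q M (a • v) := by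
  have hu := isUnitaryForm hF (n := n)
  refine ⟨by rw [hu.smul_left, Unit.smul_right hu, h.1, mul_zero, mul_zero], fun c hc => ?_⟩
  rcases eq_or_ne a 0 with rfl | ha
  · rw [zero_smul]; exact hasTv_zero_left M _
  rw [hasTv_smul_iff a ha]
  have hk : a * a ^ q * c + (a * a ^ q * c) ^ q = 0 := by
    have h1 : (a ^ q) ^ q = a := by rw [← frobEquiv_apply hF, ← frobEquiv_apply hF, hu.involutive]
    rw [mul_pow, mul_pow, h1]
    linear_combination (a * a ^ q) * hc
  have e : a • uax q (a • v) c = uax q v (a * a ^ q * c) := by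
    rw [uax, uax, Unit.axisOf_smul hu, frobEquiv_apply, smul_smul, smul_smul]
    congr 1
    ring
  rw [e]
  exact h.2 _ hk

lemma full_conj (hMI : M ≤ suGL n F q) {v : Fin n → F} (h : Full q M v) {g : GL (Fin n) F} (hg : g ∈ M) :
    Full q M ((g : Matrix (Fin n) (Fin n) F) *ᵥ v) := by
  refine ⟨by rw [herm_mulVec (hMI hg)]; exact h.1, fun c hc => ?_⟩
  have e : uax q ((g : Matrix (Fin n) (Fin n) F) *ᵥ v) c =
      uax q v c ᵥ* ((g⁻¹ : GL (Fin n) F) : Matrix (Fin n) (Fin n) F) := by
    refine dotProduct_eq _ _ fun x => ?_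
    rw [smul_dotProduct, axisOf_dot, ← Matrix.dotProduct_mulVec, smul_dotProduct, axisOf_dot,
      ← herm_mulVec (hMI hg) _ v, mulVec_inv_mulVec]
  rw [e]
  exact (h.2 c hc).conj hg

/-- Isotropic vectors on the line through two non-orthogonal full centres are full. -/
lemma full_add_smul (hMI : M ≤ suGL n F q) {u v : Fin n → F} (hu : Full q M u) (hv : Full q M v)
    (h : Cfsg.hermForm n F q v u ≠ 0) (a : F)
    (ha : Cfsg.hermForm n F q (v + a • u) (v + a • u) = 0) : Full q M (v + a • u) := by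
  have hf := isUnitaryForm hF (n := n)
  have hc : a / Cfsg.hermForm n F q v u + (a / Cfsg.hermForm n F q v u) ^ q = 0 := by
    simp only [hf.add_left, Unit.add_right hf, hf.smul_left, Unit.smul_right hf, hu.1, hv.1,
      frobEquiv_apply] at ha
    rw [CfsgLib.Unitary.herm_swap hF v u] at ha
    have h0 : Cfsg.hermForm n F q v u ^ q ≠ 0 := pow_ne_zero _ h
    rw [div_pow, div_add_div _ _ h h0, div_eq_zero_iff]
    exact Or.inl (by linear_combination ha)
  obtain ⟨hd, hm⟩ := hu.2 _ hc
  have h1 := full_conj hF hMI hv hm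
  rwa [utv_mulVec hF hu.1, div_mul_cancel₀ a h] at h1

omit hF in
lemma full_zero : Full q M (0 : Fin n → F) :=
  ⟨LinLeft.zero_left ⟨CfsgLib.Unitary.herm_add_left n, CfsgLib.Unitary.herm_smul_left n⟩ 0,
    fun _ _ => hasTv_zero_left M _⟩

/-- `M` is the whole special unitary group once every isotropic vector is a full centre. -/
theorem suGL_le_of_full' (hn : 1 ≤ n) (h32 : ¬ (n = 3 ∧ q = 2))
    (h : ∀ v, Cfsg.hermForm n F q v v = 0 → Full q M v) : suGL n F q ≤ M := by
  intro g hg
  let g' : Cfsg.SU n F q :=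
    ⟨⟨(g : Matrix (Fin n) (Fin n) F), mem_specialLinear.1 hg.2⟩, fun u v => herm_mulVec hg u v⟩
  have hg' : g' ∈ CfsgLib.Unitary.tvGroup n F q := by
    rw [CfsgLib.Unitary.tvGroup_eq_top hF hn h32]; trivial
  have hle : CfsgLib.Unitary.tvGroup n F q ≤
      (M.comap (Matrix.SpecialLinearGroup.toGL.comp (Cfsg.SU n F q).subtype)) := by
    refine (Subgroup.closure_le _).2 ?_
    rintro A ⟨v, c, hv, hA⟩
    rcases eq_or_ne v 0 with rfl | hv0
    · have : A = 1 := CfsgLib.Unitary.su_ext fun x => by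
        rw [hA, CfsgLib.Unitary.utv_mulVec, smul_zero, add_zero, CfsgLib.Unitary.suMat_one, Matrix.one_mulVec]
      rw [this]; exact one_mem _
    have hc : c + c ^ q = 0 := (CfsgLib.Unitary.utv_preserves_iff hF hv0 hv c).1 fun x y => by
      rw [← hA]; exact CfsgLib.Unitary.su_preserves A x y
    obtain ⟨hd, hm⟩ := (h v hv).2 c hc
    have e : Matrix.SpecialLinearGroup.toGL (A : Matrix.SpecialLinearGroup (Fin n) F) =
        tvec v (uax q v c) hd := by
      refine gl_ext_mulVec fun x => ?_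
      rw [utv_mulVec hF hv, ← CfsgLib.Unitary.utv_mulVec, ← hA]
      rfl
    change Matrix.SpecialLinearGroup.toGL (A : Matrix.SpecialLinearGroup (Fin n) F) ∈ M
    rw [e]; exact hm
  have := hle hg'
  rwa [Subgroup.mem_comap, show (Matrix.SpecialLinearGroup.toGL.comp (Cfsg.SU n F q).subtype) g' = g from
    Units.ext rfl] at this

/-- `M` is the whole special unitary group once every isotropic vector is a full centre, in dimension at least four. -/
theorem suGL_le_of_full (hn : 4 ≤ n) (h : ∀ v, Cfsg.hermForm n F q v v = 0 → Full q M v) :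
    suGL n F q ≤ M :=
  suGL_le_of_full' hF (by omega) (by omega) h

omit hF in
/-- The orthogonal of a subspace. -/
def perp (q : ℕ) (W : Submodule F (Fin n → F)) : Submodule F (Fin n → F) where
  carrier := {x | ∀ w ∈ W, Cfsg.hermForm n F q x w = 0}
  zero_mem' w _ := LinLeft.zero_left ⟨CfsgLib.Unitary.herm_add_left n, CfsgLib.Unitary.herm_smul_left n⟩ w
  add_mem' {a b} ha hb w hw := by rw [CfsgLib.Unitary.herm_add_left, ha w hw, hb w hw, add_zero]
  smul_mem' c a ha w hw := by rw [CfsgLib.Unitary.herm_smul_left, ha w hw, mul_zero]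

lemma herm_perp {W : Submodule F (Fin n → F)} {x : Fin n → F} (hx : x ∈ perp q W) {w : Fin n → F}
    (hw : w ∈ W) : Cfsg.hermForm n F q w x = 0 := by
  rw [(isUnitaryForm hF).herm, hx w hw, map_zero]

lemma exists_form_of_notMem (S : Submodule F (Fin n → F)) {u : Fin n → F} (hu : u ∉ S) :
    ∃ y, y ∈ perp q S ∧ Cfsg.hermForm n F q u y = 1 := by
  obtain ⟨φ, hφ, hφu⟩ := exists_covector S hu
  obtain ⟨y, hy⟩ := Unit.exists_axis (isUnitaryForm hF (n := n)) φ
  refine ⟨y, fun s hs => ?_, ?_⟩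
  · rw [(isUnitaryForm hF).herm, ← axisOf_dot, hy, hφ s hs, map_zero]
  · rw [← axisOf_dot, hy, hφu]

lemma mem_of_perp {W : Submodule F (Fin n → F)} {y : Fin n → F}
    (h : ∀ x ∈ perp q W, Cfsg.hermForm n F q y x = 0) : y ∈ W := by
  by_contra hy
  obtain ⟨x, hx, hyx⟩ := exists_form_of_notMem hF W hy
  rw [h x hx] at hyx
  exact zero_ne_one hyx

lemma utv_mem_stabilizer {W : Submodule F (Fin n → F)} {v : Fin n → F}
    (hv : Cfsg.hermForm n F q v v = 0) (c : F) (h : v ∈ W ∨ v ∈ perp q W) :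
    tvec v (uax q v c) (uax_dot_self hv c) ∈ subspaceStabilizer W := by
  refine tvec_mem_subspaceStabilizer _ (h.imp_right fun hp w hw => ?_)
  rw [smul_dotProduct, axisOf_dot, herm_perp hF hp hw, smul_zero]

end CfsgLib.Geo.UTv
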