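/-
Stabilisers of totally singular and of non-degenerate subspaces are maximal in the special unitary group.
-/
import Cfsg.Agent.Geo.UnitTv
import Cfsg.Agent.Unitary.Commutators

set_option autoImplicit false

namespace CfsgLib.Geo.UTv

open Matrix Cfsg Cfsg.Geo CfsgLib.Geo

variable {n q : ℕ} {F : Type*} [Field F] [Finite F] (hF : Nat.card F = q ^ 2)
  {W : Submodule F (Fin n → F)} {M : Subgroup (GL (Fin n) F)}

/-- An element of SU in the general linear group. -/
noncomputable def suToGL (A : Cfsg.SU n F q) : GL (Fin n) F :=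
  Matrix.SpecialLinearGroup.toGL (A : Matrix.SpecialLinearGroup (Fin n) F)

lemma suToGL_mem (A : Cfsg.SU n F q) : suToGL A ∈ suGL n F q :=
  ⟨fun u v => CfsgLib.Unitary.su_preserves A u v, mem_specialLinear.2 (A : Matrix.SpecialLinearGroup (Fin n) F).2⟩

include hF

/-! ### Orthogonal subspaces -/

lemma finrank_perp (T : Submodule F (Fin n → F)) :
    Module.finrank F (perp q T) + Module.finrank F T = n := by
  classical
  have hf := isUnitaryForm hF (n := n)
  let b := Module.finBasis F T
  let L : (Fin n → F) →ₗ[F] (Fin (Module.finrank F T) → F) :=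
    LinearMap.pi fun i => (Unit.linLeft hf).toLin (b i : Fin n → F)
  have hL : ∀ x i, L x i = Cfsg.hermForm n F q x (b i : Fin n → F) := fun x i => rfl
  have hker : LinearMap.ker L = perp q T := by
    ext x
    refine ⟨fun hx w hw => ?_, fun hx => LinearMap.mem_ker.2 (funext fun i => hx _ (b i).2)⟩
    have h1 : (⟨w, hw⟩ : T) ∈ Submodule.span F (Set.range b) := b.mem_span _
    have hle : Submodule.span F (Set.range b) ≤
        { carrier := {t : T | Cfsg.hermForm n F q x (t : Fin n → F) = 0}
          zero_mem' := Unit.zero_right hf x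
          add_mem' := fun {s t} hs ht => by
            simp only [Set.mem_ofPred_eq, Submodule.coe_add] at *
            rw [Unit.add_right hf, hs, ht, add_zero]
          smul_mem' := fun c t ht => by
            simp only [Set.mem_ofPred_eq, Submodule.coe_smul] at *
            rw [Unit.smul_right hf, ht, mul_zero] } :=
      Submodule.span_le.2 (by rintro _ ⟨i, rfl⟩; exact (hL x i).symm.trans (congrFun (LinearMap.mem_ker.1 hx) i))
    exact hle h1
  have hsurj : LinearMap.range L = ⊤ := by
    refine eq_top_iff.2 fun z _ => ?_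
    rw [pi_eq_sum_univ' z]
    refine Submodule.sum_mem _ fun i _ => Submodule.smul_mem _ _ ?_
    obtain ⟨y, hy, hyb⟩ := exists_form_of_notMem hF
      (Submodule.span F ((fun j => (b j : Fin n → F)) '' {j | j ≠ i})) (u := (b i : Fin n → F)) (by
        have hli : LinearIndependent F fun j => (b j : Fin n → F) :=
          b.linearIndependent.map' T.subtype T.ker_subtype
        exact hli.notMem_span_image (by simp))
    refine ⟨y, funext fun j => ?_⟩
    rw [hL]
    rcases eq_or_ne j i with rfl | hji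
    · rw [Pi.single_eq_same, hf.herm, hyb, map_one]
    · rw [Pi.single_eq_of_ne hji]
      exact hy _ (Submodule.subset_span ⟨j, hji, rfl⟩)
  have h1 := L.finrank_range_add_finrank_ker
  rw [hsurj, hker, finrank_top, Module.finrank_fin_fun, Module.finrank_fin_fun] at h1
  omega

section nondeg

variable (hW : IsNondegenerateOn (Cfsg.hermForm n F q) W)
include hW

lemma eq_zero_of_mem_perp {x : Fin n → F} (hx : x ∈ W) (hx' : x ∈ perp q W) : x = 0 := by
  by_contra h0
  obtain ⟨-, y, hy, hxy⟩ := hW x hx h0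
  exact hxy (hx' y hy)

lemma exists_split (x : Fin n → F) : ∃ a ∈ W, x - a ∈ perp q W := by
  have hd : W ⊓ perp q W = ⊥ := eq_bot_iff.2 fun x hx => eq_zero_of_mem_perp hF hW hx.1 hx.2
  have htop : W ⊔ perp q W = ⊤ := by
    refine Submodule.eq_top_of_finrank_eq ?_
    have := Submodule.finrank_sup_add_finrank_inf_eq W (perp q W)
    rw [hd, finrank_bot] at this
    have := finrank_perp hF W
    rw [Module.finrank_fin_fun]
    omega
  obtain ⟨a, ha, b, hb, hab⟩ := Submodule.mem_sup.1 (htop ▸ Submodule.mem_top : x ∈ W ⊔ perp q W)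
  exact ⟨a, ha, by rw [← hab, add_sub_cancel_left]; exact hb⟩

lemma finrank_perp_sup {T : Submodule F (Fin n → F)} (hT : T ≤ perp q W) :
    Module.finrank F (perp q (W ⊔ T)) + Module.finrank F W + Module.finrank F T = n := by
  have hd : W ⊓ T = ⊥ := eq_bot_iff.2 fun x hx => eq_zero_of_mem_perp hF hW hx.1 (hT hx.2)
  have h1 := Submodule.finrank_sup_add_finrank_inf_eq W T
  rw [hd, finrank_bot] at h1
  have := finrank_perp hF (W ⊔ T)
  omega

/-- A translate of a subspace takes every length, unless the subspace is totally isotropic and orthogonal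
to the translating vector. -/
lemma exists_shift_length (D : Submodule F (Fin n → F)) (s : Fin n → F) {ν : F} (hν : ν ^ q = ν)
    (hD : (∃ a ∈ D, Cfsg.hermForm n F q a a ≠ 0) ∨ ∃ a ∈ D, Cfsg.hermForm n F q a s ≠ 0) :
    ∃ d ∈ D, Cfsg.hermForm n F q (s + d) (s + d) = ν := by
  have hf := isUnitaryForm hF (n := n)
  have hν' : frobEquiv hF ν = ν := by rw [frobEquiv_apply, hν]
  by_cases hA : ∃ a ∈ D, Cfsg.hermForm n F q a a ≠ 0
  · obtain ⟨a, ha, ha0⟩ := hA
    set μ := Cfsg.hermForm n F q s a / Cfsg.hermForm n F q a a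
    set s' := s - μ • a with hs'
    have hs'a : Cfsg.hermForm n F q s' a = 0 := by
      rw [hs', (Unit.linLeft hf).sub_left, hf.smul_left, div_mul_cancel₀ _ ha0, sub_self]
    obtain ⟨c, hc⟩ := CfsgLib.Geo.Unit.exists_norm_eq hf.ne_refl hf.involutive
      (t := (ν - Cfsg.hermForm n F q s' s') / Cfsg.hermForm n F q a a)
      (by rw [map_div₀, map_sub, Unit.sigma_self hf, Unit.sigma_self hf, hν'])
    refine ⟨(c - μ) • a, D.smul_mem _ ha, ?_⟩
    rw [show s + (c - μ) • a = s' + c • a by rw [hs']; module]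
    simp only [hf.add_left, Unit.add_right hf, hf.smul_left, Unit.smul_right hf, hs'a, hf.herm a s', map_zero,
      mul_zero, add_zero, zero_add]
    rw [← mul_assoc, hc, div_mul_cancel₀ _ ha0]
    ring
  · obtain ⟨a, ha, has⟩ := hD.resolve_left hA
    have ha0 : Cfsg.hermForm n F q a a = 0 := by_contra fun h => hA ⟨a, ha, h⟩
    obtain ⟨t, ht⟩ := CfsgLib.Geo.Unit.exists_trace_eq hf.ne_refl hf.involutive
      (t := ν - Cfsg.hermForm n F q s s) (by rw [map_sub, hν', Unit.sigma_self hf])
    refine ⟨(t / Cfsg.hermForm n F q a s) • a, D.smul_mem _ ha, ?_⟩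
    simp only [hf.add_left, Unit.add_right hf, hf.smul_left, Unit.smul_right hf, ha0, mul_zero, add_zero]
    rw [hf.herm s a, ← map_mul, div_mul_cancel₀ _ has]
    linear_combination ht

lemma exists_dual_perp {u : Fin n → F} (hu : u ∈ perp q W) (S : Submodule F (Fin n → F)) (hS : S ≤ perp q W)
    (huS : u ∉ S) : ∃ y ∈ perp q W, y ∈ perp q S ∧ Cfsg.hermForm n F q y u = 1 := by
  have hf := isUnitaryForm hF (n := n)
  obtain ⟨y, hy, hyu⟩ := exists_form_of_notMem hF (W ⊔ S) (u := u) (fun hc => by
    obtain ⟨w, hw, s, hs, e⟩ := Submodule.mem_sup.1 hc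
    have : w ∈ perp q W := by
      have := (perp q W).sub_mem hu (hS hs)
      rwa [← e, add_sub_cancel_right] at this
    rw [eq_zero_of_mem_perp hF hW hw this, zero_add] at e
    exact huS (e ▸ hs))
  exact ⟨y, fun w hw => hy w (Submodule.mem_sup_left hw), fun s hs => hy s (Submodule.mem_sup_right hs),
    by rw [hf.herm, hyu, map_one]⟩

/-- A vector of prescribed length with prescribed product with `u`, outside the line of `u`. -/
lemma exists_vec (hd : Module.finrank F W + 4 ≤ n) {u : Fin n → F} (hu : u ∈ perp q W) (hu0 : u ≠ 0) (κ : F)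
    {ν : F} (hν : ν ^ q = ν) :
    ∃ x ∈ perp q W, x ∉ F ∙ u ∧ Cfsg.hermForm n F q x u = κ ∧ Cfsg.hermForm n F q x x = ν := by
  classical
  have hf := isUnitaryForm hF (n := n)
  obtain ⟨y1, hy1, -, hy1u⟩ := exists_dual_perp hF hW hu ⊥ bot_le (by simpa using hu0)
  have hne : ∀ T : Submodule F (Fin n → F), T ≤ perp q W → 2 * Module.finrank F T + 1 ≤
      n - Module.finrank F W + (if ∃ z ∈ T, Cfsg.hermForm n F q z z ≠ 0 then 1 else 0) →
      ∃ a ∈ perp q (W ⊔ T), Cfsg.hermForm n F q a a ≠ 0 := by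
    intro T hT hdim
    by_contra hcon
    push Not at hcon
    have hzero := Unit.eq_zero_of_totally_isotropic hf hcon
    set D := perp q (W ⊔ T) with hDdef
    have hDW : D ≤ perp q W := fun x hx w hw => hx w (Submodule.mem_sup_left hw)
    have h1 := finrank_perp_sup hF hW hDW
    have h2 := finrank_perp_sup hF hW hT
    rw [← hDdef] at h2
    have hle : D ≤ perp q (W ⊔ D) := fun x hx y hy => by
      obtain ⟨w, hw, d, hd, rfl⟩ := Submodule.mem_sup.1 hy
      rw [Unit.add_right hf, hDW hx w hw, hzero x hx d hd, add_zero]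
    split_ifs at hdim with hz
    · obtain ⟨z, hzT, hz0⟩ := hz
      have hlt : D < perp q (W ⊔ D) := lt_of_le_of_ne hle fun e => hz0 (hcon z (by
        rw [e]
        intro y hy
        obtain ⟨w, hw, d, hd, rfl⟩ := Submodule.mem_sup.1 hy
        rw [Unit.add_right hf, hT hzT w hw, herm_perp hF hd (Submodule.mem_sup_right hzT), add_zero]))
      have := Submodule.finrank_lt_finrank_of_lt hlt
      omega
    · have := Submodule.finrank_mono hle
      omega
  obtain ⟨p, hp, hp0⟩ := hne (F ∙ u) ((Submodule.span_singleton_le_iff_mem _ _).2 hu) (by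
    have : Module.finrank F (F ∙ u) ≤ 1 := (finrank_span_le_card {u}).trans (by simp)
    omega)
  have hpW : p ∈ perp q W := fun w hw => hp w (Submodule.mem_sup_left hw)
  have hpu : Cfsg.hermForm n F q p u = 0 := hp u (Submodule.mem_sup_right (Submodule.mem_span_singleton_self u))
  set T := Submodule.span F (({u, p} : Finset (Fin n → F)) : Set (Fin n → F)) with hTdef
  have huT : u ∈ T := Submodule.subset_span (by simp)
  have hpT : p ∈ T := Submodule.subset_span (by simp)
  have hTW : T ≤ perp q W := Submodule.span_le.2 (by intro z hz; simp at hz; rcases hz with rfl | rfl <;> assumption)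
  obtain ⟨a, ha, ha0⟩ := hne T hTW (by
    rw [if_pos ⟨p, hpT, hp0⟩]
    have : Module.finrank F T ≤ 2 := (finrank_span_finset_le_card _).trans Finset.card_le_two
    omega)
  set s := κ • y1 + ((1 - Cfsg.hermForm n F q (κ • y1) p) / Cfsg.hermForm n F q p p) • p with hs
  obtain ⟨d, hd', hdn⟩ := exists_shift_length hF hW (perp q (W ⊔ T)) s hν (Or.inl ⟨a, ha, ha0⟩)
  have hdT : ∀ z ∈ T, Cfsg.hermForm n F q d z = 0 := fun z hz => hd' z (Submodule.mem_sup_right hz)
  have hxp : Cfsg.hermForm n F q (s + d) p = 1 := by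
    rw [hs, hf.add_left, hf.add_left, hdT p hpT, hf.smul_left ((1 - _) / _), div_mul_cancel₀ _ hp0]
    ring
  refine ⟨s + d, (perp q W).add_mem ((perp q W).add_mem ((perp q W).smul_mem _ hy1)
    ((perp q W).smul_mem _ hpW)) (fun w hw => hd' w (Submodule.mem_sup_left hw)), fun hc => ?_, ?_, hdn⟩
  · obtain ⟨r, hr⟩ := Submodule.mem_span_singleton.1 hc
    rw [← hr, hf.smul_left, hf.herm u p, hpu, map_zero, mul_zero] at hxp
    exact zero_ne_one hxp
  · rw [hs, hf.add_left, hf.add_left, hdT u huT, hf.smul_left, hf.smul_left, hy1u, hpu]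
    ring

variable (hM : subspaceStabilizer W ⊓ suGL n F q ≤ M) (hMI : M ≤ suGL n F q)
include hM hMI

omit hMI hW in
lemma full_of_stab {v : Fin n → F} (hv : Cfsg.hermForm n F q v v = 0) (h : v ∈ W ∨ v ∈ perp q W) :
    Full q M v :=
  full_of_mem hF hv fun _ hc => hM ⟨utv_mem_stabilizer hF hv _ h, utv_mem hF hv hc⟩

/-- The component in the orthogonal of `W` of a mixed full centre can be moved over its sphere. -/
lemma full_sphere (hd : Module.finrank F W + 4 ≤ n) {w u u2 : Fin n → F} (hw : w ∈ W) (hu : u ∈ perp q W)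
    (hu2 : u2 ∈ perp q W) (hu0 : u ≠ 0) (hu20 : u2 ≠ 0) (hz : Full q M (w + u))
    (hnorm : Cfsg.hermForm n F q u2 u2 = Cfsg.hermForm n F q u u) : Full q M (w + u2) := by
  classical
  have hf := isUnitaryForm hF (n := n)
  have hwu : ∀ x ∈ perp q W, Cfsg.hermForm n F q w x = 0 ∧ Cfsg.hermForm n F q x w = 0 := fun x hx =>
    ⟨herm_perp hF hx hw, hx w hw⟩
  -- one step along an isotropic difference
  have step : ∀ x y, x ∈ perp q W → y ∈ perp q W → Full q M (w + x) →
      Cfsg.hermForm n F q (y - x) (y - x) = 0 → Cfsg.hermForm n F q y y = Cfsg.hermForm n F q x x →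
      Cfsg.hermForm n F q x (y - x) ≠ 0 → Full q M (w + y) := by
    intro x y hx hy hwx h1 h2 h3
    have hyx := (perp q W).sub_mem hy hx
    have h4 := full_add_smul hF hMI (full_of_stab hF hM h1 (Or.inr hyx)) hwx
      (by rw [hf.add_left, (hwu _ hyx).1, zero_add]; exact h3) 1 (by
        rw [one_smul, show w + x + (y - x) = w + y by abel]
        have h5 := hwx.1
        simp only [hf.add_left, Unit.add_right hf, (hwu x hx).1, (hwu x hx).2, (hwu y hy).1, (hwu y hy).2] at h5 ⊢
        rw [h2]; exact h5)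
    rwa [one_smul, show w + x + (y - x) = w + y by abel] at h4
  -- two steps between independent vectors
  have indep : ∀ x y, x ∈ perp q W → y ∈ perp q W → x ∉ F ∙ y → y ∉ F ∙ x → Full q M (w + x) →
      Cfsg.hermForm n F q y y = Cfsg.hermForm n F q x x → Full q M (w + y) := by
    intro x y hx hy hxy hyx hwx hnorm
    obtain ⟨c, hc0, hc⟩ := Unit.exists_skew hf.ne_refl hf.involutive
    obtain ⟨p, hp, hpy, hpx⟩ := exists_dual_perp hF hW hx (F ∙ y)
      ((Submodule.span_singleton_le_iff_mem _ _).2 hy) hxy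
    obtain ⟨r, hr, hrx, hry⟩ := exists_dual_perp hF hW hy (F ∙ x)
      ((Submodule.span_singleton_le_iff_mem _ _).2 hx) hyx
    replace hpy := hpy y (Submodule.mem_span_singleton_self y)
    replace hrx := hrx x (Submodule.mem_span_singleton_self x)
    set ν := Cfsg.hermForm n F q x x with hν
    set s := (ν + c) • p + (ν + c) • r with hs
    have hsx : Cfsg.hermForm n F q s x = ν + c := by
      rw [hs, hf.add_left, hf.smul_left, hf.smul_left, hpx, hrx]; ring
    have hsy : Cfsg.hermForm n F q s y = ν + c := by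
      rw [hs, hf.add_left, hf.smul_left, hf.smul_left, hpy, hry]; ring
    have hs' : s ∈ perp q W := (perp q W).add_mem ((perp q W).smul_mem _ hp) ((perp q W).smul_mem _ hr)
    set T := Submodule.span F (({x, y} : Finset (Fin n → F)) : Set (Fin n → F)) with hTdef
    have hxT : x ∈ T := Submodule.subset_span (by simp)
    have hyT : y ∈ T := Submodule.subset_span (by simp)
    have hTW : T ≤ perp q W := Submodule.span_le.2 (by
      intro z hz; simp at hz; rcases hz with rfl | rfl <;> assumption)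
    obtain ⟨t, ht', ht1⟩ := exists_shift_length hF hW (perp q (W ⊔ T)) s (ν := ν)
      (by rw [← frobEquiv_apply hF, hν, Unit.sigma_self hf]) (by
      by_contra hcon
      push Not at hcon
      obtain ⟨hiso, horth⟩ := hcon
      have hzero := Unit.eq_zero_of_totally_isotropic hf hiso
      set D := perp q (W ⊔ T) with hDdef
      have hDW : D ≤ perp q W := fun z hz w hw => hz w (Submodule.mem_sup_left hw)
      have h1 := finrank_perp_sup hF hW hDW
      have h2 := finrank_perp_sup hF hW hTW
      rw [← hDdef] at h2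
      have hle : D ≤ perp q (W ⊔ D) := fun z hz y hy => by
        obtain ⟨w, hw, d, hd, rfl⟩ := Submodule.mem_sup.1 hy
        rw [Unit.add_right hf, hDW hz w hw, hzero z hz d hd, add_zero]
      have h3 := Submodule.finrank_mono hle
      have hT2 : Module.finrank F T ≤ 2 := (finrank_span_finset_le_card _).trans Finset.card_le_two
      have heq : D = perp q (W ⊔ D) := Submodule.eq_of_le_of_finrank_le hle (by omega)
      have hxD : x ∈ D := by
        rw [heq]
        intro z hz
        obtain ⟨w, hw, d, hd, rfl⟩ := Submodule.mem_sup.1 hz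
        rw [Unit.add_right hf, hx w hw, herm_perp hF hd (Submodule.mem_sup_right hxT), add_zero]
      have h4 : ν + c = 0 := by
        rw [← hsx, hf.herm, horth x hxD, map_zero]
      rw [show ν = 0 from (hν ▸ hiso x hxD), zero_add] at h4
      exact hc0 h4)
    have htx : Cfsg.hermForm n F q t x = 0 := ht' x (Submodule.mem_sup_right hxT)
    have hty : Cfsg.hermForm n F q t y = 0 := ht' y (Submodule.mem_sup_right hyT)
    have ht : t ∈ perp q W := fun w hw => ht' w (Submodule.mem_sup_left hw)
    have hu3 : s + t ∈ perp q W :=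
      (perp q W).add_mem ((perp q W).add_mem ((perp q W).smul_mem _ hp) ((perp q W).smul_mem _ hr)) ht
    have e1 : Cfsg.hermForm n F q (s + t) x = ν + c := by rw [hf.add_left, hsx, htx, add_zero]
    have e2 : Cfsg.hermForm n F q (s + t) y = ν + c := by rw [hf.add_left, hsy, hty, add_zero]
    have e3 : Cfsg.hermForm n F q (s + t) (s + t) = ν := ht1
    have e1' : Cfsg.hermForm n F q x (s + t) = ν - c := by
      rw [hf.herm, e1, map_add, hν, Unit.sigma_self hf, hc, sub_eq_add_neg]
    have e2' : Cfsg.hermForm n F q y (s + t) = ν - c := by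
      rw [hf.herm, e2, map_add, hν, Unit.sigma_self hf, hc, sub_eq_add_neg]
    have hsq : ∀ a b : Fin n → F, Cfsg.hermForm n F q (b - a) (b - a) = Cfsg.hermForm n F q b b -
        Cfsg.hermForm n F q b a - Cfsg.hermForm n F q a b + Cfsg.hermForm n F q a a := fun a b => by
      rw [show b - a = b + (-1 : F) • a by module]
      simp only [hf.add_left, Unit.add_right hf, hf.smul_left, Unit.smul_right hf, map_neg, map_one]
      ring
    have h1 : Full q M (w + (s + t)) := by
      refine step x (s + t) hx hu3 hwx ?_ e3 ?_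
      · rw [hsq, e1, e3, e1', ← hν]; ring
      · rw [sub_eq_add_neg, show (-x : Fin n → F) = (-1 : F) • x by module, Unit.add_right hf,
          Unit.smul_right hf, e1', map_neg, map_one, ← hν, neg_one_mul,
          show ν - c + -ν = -c by ring, neg_ne_zero]
        exact hc0
    refine step (s + t) y hu3 hy h1 ?_ (hnorm.trans e3.symm) ?_
    · rw [hsq, e2, e3, e2', hnorm]; ring
    · rw [sub_eq_add_neg, show (-(s + t) : Fin n → F) = (-1 : F) • (s + t) by module, Unit.add_right hf,
        Unit.smul_right hf, e2, e3, map_neg, map_one, neg_one_mul, show ν + c + -ν = c by ring]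
      exact hc0
  by_cases h1 : u2 ∈ F ∙ u
  · obtain ⟨x, hx, hxu, -, hxn⟩ := exists_vec hF hW hd hu hu0 0 (ν := Cfsg.hermForm n F q u u) (by
      rw [← frobEquiv_apply hF, Unit.sigma_self hf])
    obtain ⟨r, rfl⟩ := Submodule.mem_span_singleton.1 h1
    have hr : r ≠ 0 := by rintro rfl; exact hu20 (zero_smul F u)
    have hux : u ∉ F ∙ x := fun hc => by
      obtain ⟨a, ha⟩ := Submodule.mem_span_singleton.1 hc
      have ha0 : a ≠ 0 := by rintro rfl; exact hu0 (by rw [← ha, zero_smul])
      exact hxu ((Submodule.smul_mem_iff _ ha0).1 (by rw [ha]; exact Submodule.mem_span_singleton_self u))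
    refine indep x (r • u) hx hu2 ?_ (fun hc => hux ((Submodule.smul_mem_iff _ hr).1 hc))
      (indep u x hu hx hux hxu hz hxn) (hnorm.trans hxn.symm)
    intro hc
    obtain ⟨a, ha⟩ := Submodule.mem_span_singleton.1 hc
    exact hxu (Submodule.mem_span_singleton.2 ⟨a * r, by rw [← ha, smul_smul]⟩)
  · refine indep u u2 hu hu2 (fun hc => ?_) h1 hz hnorm
    obtain ⟨a, ha⟩ := Submodule.mem_span_singleton.1 hc
    have ha0 : a ≠ 0 := by rintro rfl; exact hu0 (by rw [← ha, zero_smul])
    exact h1 (Submodule.mem_span_singleton.2 ⟨a⁻¹, by rw [← ha, smul_smul, inv_mul_cancel₀ ha0, one_smul]⟩)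

theorem nondeg_key (hn : 4 ≤ n) (hd : Module.finrank F W + 4 ≤ n) (hdim : 2 * Module.finrank F W < n)
    (hMX : ¬ M ≤ subspaceStabilizer W) : suGL n F q ≤ M := by
  classical
  have hf := isUnitaryForm hF (n := n)
  obtain ⟨g, hgM, hgW⟩ := SetLike.not_le_iff_exists.1 hMX
  have hUne : perp q W ≠ ⊥ := fun h => by
    have := finrank_perp hF W; rw [h, finrank_bot] at this; omega
  obtain ⟨u₀, hu₀, hu₀0⟩ := (Submodule.ne_bot_iff _).1 hUne
  obtain ⟨iso, hiso, hisoU, -, hisoN⟩ := exists_vec hF hW hd hu₀ hu₀0 1 (ν := 0)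
    (zero_pow (by have := CfsgLib.Forms.two_le_q hF; omega))
  -- a mixed full centre
  obtain ⟨v, hvF, hvW, hvP⟩ : ∃ v, Full q M v ∧ v ∉ W ∧ v ∉ perp q W := by
    by_contra hcon
    push Not at hcon
    have hin : ∀ v ∈ perp q W, Cfsg.hermForm n F q v v = 0 →
        (g : Matrix (Fin n) (Fin n) F) *ᵥ v ∈ W ∨ (g : Matrix (Fin n) (Fin n) F) *ᵥ v ∈ perp q W := by
      intro v hv hv0
      by_cases h : (g : Matrix (Fin n) (Fin n) F) *ᵥ v ∈ W
      · exact Or.inl h
      · exact Or.inr (hcon _ (full_conj hF hMI (full_of_stab hF hM hv0 (Or.inr hv)) hgM) h)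
    have hone : (∀ v ∈ perp q W, Cfsg.hermForm n F q v v = 0 → (g : Matrix (Fin n) (Fin n) F) *ᵥ v ∈ W) ∨
        (∀ v ∈ perp q W, Cfsg.hermForm n F q v v = 0 → (g : Matrix (Fin n) (Fin n) F) *ᵥ v ∈ perp q W) := by
      by_contra hc
      push Not at hc
      obtain ⟨⟨a, ha, ha0, haW⟩, b, hb, hb0, hbP⟩ := hc
      have haP := (hin a ha ha0).resolve_left haW
      have hbW := (hin b hb hb0).resolve_right hbP
      obtain ⟨d, hd0, hd⟩ := Unit.exists_isotropic_combination hf ha0 hb0
      have h1 := hin (a + d • b) ((perp q W).add_mem ha ((perp q W).smul_mem _ hb)) hd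
      rw [Matrix.mulVec_add, Matrix.mulVec_smul] at h1
      rcases h1 with h1 | h1
      · exact haW (by simpa using W.sub_mem h1 (W.smul_mem d hbW))
      · exact hbP (((perp q W).smul_mem_iff hd0).1 (by simpa using (perp q W).sub_mem h1 haP))
    obtain ⟨x, hx, -, hxi, -⟩ := exists_vec hF hW hd hiso (fun e => hisoU (by rw [e]; exact Submodule.zero_mem _)) 1
      (ν := 0) (zero_pow (by have := CfsgLib.Forms.two_le_q hF; omega))
    have hix : Cfsg.hermForm n F q iso x ≠ 0 := by rw [hf.herm, hxi, map_one]; exact one_ne_zero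
    have hspan : ∀ T : Submodule F (Fin n → F),
        (∀ v ∈ perp q W, Cfsg.hermForm n F q v v = 0 → (g : Matrix (Fin n) (Fin n) F) *ᵥ v ∈ T) →
        (perp q W).map (glEquiv g).toLinearMap ≤ T := fun T hT => by
      rintro _ ⟨v, hv, rfl⟩
      have h1 : perp q W ≤ T.comap (glEquiv g).toLinearMap :=
        Unit.mem_of_isotropic hf hiso hx hisoN hix fun v hv hv0 => by
          simpa using hT v hv hv0
      exact h1 hv
    rcases hone with h1 | h1
    · have := Submodule.finrank_mono (hspan W h1)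
      rw [LinearEquiv.finrank_map_eq] at this
      have := finrank_perp hF W
      omega
    · have hP := Submodule.eq_of_le_of_finrank_le (hspan _ h1)
        (le_of_eq (LinearEquiv.finrank_map_eq (glEquiv g) _).symm)
      refine hgW (mem_subspaceStabilizer.2 fun w hw => mem_of_perp hF fun y hy => ?_)
      rw [← hP] at hy
      obtain ⟨y', hy', rfl⟩ := hy
      rw [LinearEquiv.coe_coe, glEquiv_apply, herm_mulVec (hMI hgM)]
      exact herm_perp hF hy' hw
  obtain ⟨w, hw, hu⟩ := exists_split hF hW v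
  have hu0 : v - w ≠ 0 := fun e => hvW (by rw [sub_eq_zero.1 e]; exact hw)
  have hw0 : w ≠ 0 := fun e => hvP (by simpa [e] using hu)
  have hvF' : Full q M (w + (v - w)) := by rwa [add_sub_cancel]
  have hnormOf : ∀ a b, a ∈ W → b ∈ perp q W → Cfsg.hermForm n F q (a + b) (a + b) = 0 →
      Cfsg.hermForm n F q b b = -Cfsg.hermForm n F q a a := fun a b ha hb h => by
    simp only [hf.add_left, Unit.add_right hf, herm_perp hF hb ha, hb a ha] at h
    linear_combination h
  -- the first components of mixed full centres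
  let S : Submodule F (Fin n → F) :=
    { carrier := {a | a ∈ W ∧ ∃ b ∈ perp q W, b ≠ 0 ∧ Full q M (a + b)}
      zero_mem' := ⟨W.zero_mem, iso, hiso, fun e => hisoU (by rw [e]; exact Submodule.zero_mem _),
        by rw [zero_add]; exact full_of_stab hF hM hisoN (Or.inr hiso)⟩
      add_mem' := by
        rintro a a' ⟨ha, b, hb, hb0, hab⟩ ⟨ha', b', hb', hb'0, hab'⟩
        refine ⟨W.add_mem ha ha', ?_⟩
        obtain ⟨c, hc0, hc⟩ := Unit.exists_skew hf.ne_refl hf.involutive
        have hn1 := hnormOf a' b' ha' hb' hab'.1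
        obtain ⟨x, hx, hxb, hxκ, hxn⟩ := exists_vec hF hW hd hb hb0 (c - Cfsg.hermForm n F q a' a)
          (ν := Cfsg.hermForm n F q b' b') (by rw [← frobEquiv_apply hF, Unit.sigma_self hf])
        have hx0 : x ≠ 0 := fun e => hxb (by rw [e]; exact Submodule.zero_mem _)
        have h1 := full_sphere hF hW hM hMI hd ha' hb' hx hb'0 hx0 hab' hxn
        have hκ : Cfsg.hermForm n F q (a' + x) (a + b) = c := by
          simp only [hf.add_left, Unit.add_right hf, herm_perp hF hb ha', hx a ha, hxκ]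
          ring
        refine ⟨b + x, (perp q W).add_mem hb hx, fun e => hxb ?_, ?_⟩
        · rw [eq_neg_of_add_eq_zero_right e]
          exact Submodule.neg_mem _ (Submodule.mem_span_singleton_self b)
        · have h2 := full_add_smul hF hMI hab h1 (by rw [hκ]; exact hc0) 1 (by
            rw [one_smul, hf.add_left, Unit.add_right hf (a' + x), Unit.add_right hf (a + b), h1.1, hab.1,
              hf.herm (a + b) (a' + x), hκ, hc]
            ring)
          rwa [one_smul, show a' + x + (a + b) = a + a' + (b + x) by abel] at h2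
      smul_mem' := by
        rintro r a ⟨ha, b, hb, hb0, hab⟩
        refine ⟨W.smul_mem r ha, ?_⟩
        rcases eq_or_ne r 0 with rfl | hr
        · exact ⟨iso, hiso, fun e => hisoU (by rw [e]; exact Submodule.zero_mem _),
            by rw [zero_smul, zero_add]; exact full_of_stab hF hM hisoN (Or.inr hiso)⟩
        · exact ⟨r • b, (perp q W).smul_mem r hb, smul_ne_zero hr hb0, by
            rw [← smul_add]; exact full_smul hF hab r⟩ }
  have hwS : w ∈ S := ⟨hw, v - w, hu, hu0, hvF'⟩
  have hmove : ∀ a ∈ S, ∀ e ∈ W, Cfsg.hermForm n F q e e = 0 → Cfsg.hermForm n F q a e ≠ 0 → e ∈ S := by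
    rintro a ⟨ha, b, hb, hb0, hab⟩ e he he0 hae
    obtain ⟨c, hc0, hc⟩ := Unit.exists_skew hf.ne_refl hf.involutive
    have hc' : c + c ^ q = 0 := by rw [← frobEquiv_apply hF, hc, add_neg_cancel]
    obtain ⟨hd', hm⟩ := (full_of_stab hF hM he0 (Or.inl he)).2 c hc'
    have h1 := full_conj hF hMI hab hm
    rw [utv_mulVec hF he0, hf.add_left, hb e he, add_zero] at h1
    have h2 : a + (c * Cfsg.hermForm n F q a e) • e ∈ S :=
      ⟨W.add_mem ha (W.smul_mem _ he), b, hb, hb0, by rwa [add_right_comm]⟩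
    have h3 := S.sub_mem h2 (show a ∈ S from ⟨ha, b, hb, hb0, hab⟩)
    rw [add_sub_cancel_left] at h3
    exact (S.smul_mem_iff (mul_ne_zero hc0 hae)).1 h3
  have hSW : W ≤ S := by
    by_cases hhyp : ∃ z ∈ W, ∃ x ∈ W, Cfsg.hermForm n F q z z = 0 ∧ Cfsg.hermForm n F q z x ≠ 0
    · obtain ⟨z, hz, x, hx, hzz, hzx⟩ := hhyp
      obtain ⟨e0, he0, he00, hwe0⟩ : ∃ e0 ∈ W, Cfsg.hermForm n F q e0 e0 = 0 ∧
          Cfsg.hermForm n F q w e0 ≠ 0 := by
        by_contra hc
        push Not at hc
        have h1 : W ≤ perp q (F ∙ w) := Unit.mem_of_isotropic hf hz hx hzz hzx fun e he he0 a ha => by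
          obtain ⟨r, rfl⟩ := Submodule.mem_span_singleton.1 ha
          rw [Unit.smul_right hf, hf.herm, hc e he he0, map_zero, mul_zero]
        obtain ⟨-, y, hy, hwy⟩ := hW w hw hw0
        exact hwy (herm_perp hF (h1 hy) (Submodule.mem_span_singleton_self w))
      have he0S := hmove w hwS e0 he0 he00 hwe0
      refine Unit.mem_of_isotropic hf hz hx hzz hzx fun e he hee => ?_
      by_cases h1 : Cfsg.hermForm n F q w e = 0
      · obtain ⟨d, hd0, hd⟩ := Unit.exists_isotropic_combination hf he00 hee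
        have h2 := hmove w hwS (e0 + d • e) (W.add_mem he0 (W.smul_mem d he)) hd (by
          rw [Unit.add_right hf, Unit.smul_right hf, h1, mul_zero, add_zero]; exact hwe0)
        have h3 := S.sub_mem h2 he0S
        rw [add_sub_cancel_left] at h3
        exact (S.smul_mem_iff hd0).1 h3
      · exact hmove w hwS e he hee h1
    · push Not at hhyp
      intro y hy
      have hμ : Cfsg.hermForm n F q w w ≠ 0 := fun h0 => by
        obtain ⟨-, x, hx, hwx⟩ := hW w hw hw0
        exact hwx (hhyp w hw x hx h0)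
      set μ := Cfsg.hermForm n F q w w with hμdef
      set r := Cfsg.hermForm n F q y w / μ
      set y' := y - r • w with hy'
      have hy'W : y' ∈ W := W.sub_mem hy (W.smul_mem _ hw)
      have hy'w : Cfsg.hermForm n F q y' w = 0 := by
        rw [hy', (Unit.linLeft hf).sub_left, hf.smul_left, ← hμdef, div_mul_cancel₀ _ hμ, sub_self]
      have : y' = 0 := by
        by_contra h0
        have hne : Cfsg.hermForm n F q y' y' ≠ 0 := fun h1 => by
          obtain ⟨-, x, hx, hyx⟩ := hW y' hy'W h0
          exact hyx (hhyp y' hy'W x hx h1)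
        obtain ⟨c, hc⟩ := CfsgLib.Geo.Unit.exists_norm_eq hf.ne_refl hf.involutive
          (t := -μ / Cfsg.hermForm n F q y' y')
          (by rw [map_div₀, map_neg, hμdef, Unit.sigma_self hf, Unit.sigma_self hf])
        have h1 : Cfsg.hermForm n F q (w + c • y') (w + c • y') = 0 := by
          simp only [hf.add_left, Unit.add_right hf, hf.smul_left, Unit.smul_right hf, hy'w, hf.herm w y',
            map_zero, ← hμdef]
          field_simp at hc
          linear_combination hc
        have h2 := hhyp (w + c • y') (W.add_mem hw (W.smul_mem c hy'W)) w hw h1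
        rw [hf.add_left, hf.smul_left, hy'w, mul_zero, add_zero] at h2
        exact hμ h2
      rw [hy', sub_eq_zero] at this
      rw [this]
      exact S.smul_mem r hwS
  refine suGL_le_of_full hF hn fun y hy => ?_
  obtain ⟨a, ha, hb⟩ := exists_split hF hW y
  rcases eq_or_ne (y - a) 0 with h0 | h0
  · exact full_of_stab hF hM hy (Or.inl (by rw [sub_eq_zero.1 h0]; exact ha))
  obtain ⟨-, b, hb', hb0, hab⟩ := hSW ha
  have := full_sphere hF hW hM hMI hd ha hb' hb hb0 h0 hab (by
    rw [hnormOf a b ha hb' hab.1, hnormOf a (y - a) ha hb (by rw [add_sub_cancel]; exact hy)])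
  rwa [add_sub_cancel] at this

omit hM hMI in
theorem nondeg_proper (hW0 : W ≠ ⊥) (hd : Module.finrank F W + 4 ≤ n) :
    ¬ suGL n F q ≤ subspaceStabilizer W := by
  have hf := isUnitaryForm hF (n := n)
  intro h
  obtain ⟨a, ha, ha0⟩ := W.ne_bot_iff.1 hW0
  obtain ⟨u, hu, hu0⟩ := (Submodule.ne_bot_iff (perp q W)).1 fun e => by
    have := finrank_perp hF W; rw [e, finrank_bot] at this; omega
  obtain ⟨b, hb, hbu, -, hbn⟩ := exists_vec hF hW hd hu hu0 0 (ν := -Cfsg.hermForm n F q a a) (by
    rw [← frobEquiv_apply hF, map_neg, Unit.sigma_self hf])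
  have hb0 : b ≠ 0 := fun e => hbu (by rw [e]; exact Submodule.zero_mem _)
  have hiso : Cfsg.hermForm n F q (a + b) (a + b) = 0 := by
    simp only [hf.add_left, Unit.add_right hf, herm_perp hF hb ha, hb a ha, hbn]; ring
  obtain ⟨c, hc0, hc⟩ := Unit.exists_skew hf.ne_refl hf.involutive
  have hc' : c + c ^ q = 0 := by rw [← frobEquiv_apply hF, hc, add_neg_cancel]
  obtain ⟨-, x, hx, hax⟩ := hW a ha ha0
  refine tvec_notMem_subspaceStabilizer (uax_dot_self hiso c) (w := x) ?_ hx ?_ (h (utv_mem hF hiso hc'))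
  · exact fun h' => hb0 (eq_zero_of_mem_perp hF hW (by simpa using W.sub_mem h' ha) hb)
  · rw [smul_dotProduct, axisOf_dot, Unit.add_right hf, herm_perp hF hb hx, add_zero, smul_eq_mul]
    refine mul_ne_zero hc0 fun h0 => hax ?_
    rw [hf.herm, h0, map_zero]

end nondeg

/-! ### Totally singular subspaces -/

theorem singular_key (hn : 4 ≤ n) (hW : IsTotallySingularFor (Cfsg.hermForm n F q) W)
    (hM : subspaceStabilizer W ⊓ suGL n F q ≤ M) (hMI : M ≤ suGL n F q)
    (hMX : ¬ M ≤ subspaceStabilizer W) : suGL n F q ≤ M := by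
  have hf := isUnitaryForm hF (n := n)
  obtain ⟨g, hgM, hgW⟩ := SetLike.not_le_iff_exists.1 hMX
  have hWP : ∀ w ∈ W, w ∈ perp q W := fun w hw x hx => hW w hw x hx
  have hfull : ∀ v, Cfsg.hermForm n F q v v = 0 → (v ∈ W ∨ v ∈ perp q W) → Full q M v := fun v hv h =>
    full_of_mem hF hv fun _ hc => hM ⟨utv_mem_stabilizer hF hv _ h, utv_mem hF hv hc⟩
  obtain ⟨z, hzF, hzP⟩ : ∃ z, Full q M z ∧ z ∉ perp q W := by
    by_contra hcon
    push Not at hcon
    have hin : ∀ v ∈ perp q W, Cfsg.hermForm n F q v v = 0 →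
        (g : Matrix (Fin n) (Fin n) F) *ᵥ v ∈ perp q W := fun v hv hv0 =>
      hcon _ (full_conj hF hMI (hfull v hv0 (Or.inr hv)) hgM)
    by_cases hhyp : ∃ z ∈ perp q W, ∃ x ∈ perp q W,
        Cfsg.hermForm n F q z z = 0 ∧ Cfsg.hermForm n F q z x ≠ 0
    · obtain ⟨z, hz, x, hx, hzz, hzx⟩ := hhyp
      have h1 : perp q W ≤ (perp q W).comap (glEquiv g).toLinearMap :=
        Unit.mem_of_isotropic hf hz hx hzz hzx fun v hv hv0 => by simpa using hin v hv hv0
      have hst : g ∈ subspaceStabilizer (perp q W) :=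
        mem_subspaceStabilizer.2 fun v hv => by simpa using h1 hv
      refine hgW (mem_subspaceStabilizer.2 fun w hw => mem_of_perp hF fun y hy => ?_)
      rw [← mulVec_inv_mulVec g y, herm_mulVec (hMI hgM)]
      exact herm_perp hF (mem_subspaceStabilizer.1 (Subgroup.inv_mem _ hst) y hy) hw
    · push Not at hhyp
      refine hgW (mem_subspaceStabilizer.2 fun w hw => mem_of_perp hF fun y hy => ?_)
      exact hhyp _ (hin w (hWP w hw) (hW w hw w hw)) y hy (by rw [herm_mulVec (hMI hgM)]; exact hW w hw w hw)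
  refine suGL_le_of_full hF hn fun y hy => ?_
  by_cases hyP : y ∈ perp q W
  · exact hfull y hy (Or.inr hyP)
  obtain ⟨w, hw, hzw, hyw⟩ : ∃ w ∈ W, Cfsg.hermForm n F q z w ≠ 0 ∧ Cfsg.hermForm n F q y w ≠ 0 := by
    have hz' : ¬ ∀ w ∈ W, Cfsg.hermForm n F q z w = 0 := hzP
    have hy' : ¬ ∀ w ∈ W, Cfsg.hermForm n F q y w = 0 := hyP
    push Not at hz' hy'
    obtain ⟨a, ha, hza⟩ := hz'
    obtain ⟨b, hb, hyb⟩ := hy'
    by_cases hya : Cfsg.hermForm n F q y a = 0
    · by_cases hzb : Cfsg.hermForm n F q z b = 0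
      · exact ⟨a + b, W.add_mem ha hb, by rwa [Unit.add_right hf, hzb, add_zero],
          by rwa [Unit.add_right hf, hya, zero_add]⟩
      · exact ⟨b, hb, hzb, hyb⟩
    · exact ⟨a, ha, hza, hya⟩
  -- normalise
  obtain ⟨r, hr⟩ : ∃ r : F, frobEquiv hF r = (Cfsg.hermForm n F q z w)⁻¹ :=
    (frobEquiv hF).surjective _
  set w' := r • w with hw'
  have hw'W : w' ∈ W := W.smul_mem r hw
  have hr0 : r ≠ 0 := fun e => by rw [e, map_zero, zero_eq_inv] at hr; exact hzw hr.symm
  have hzw' : Cfsg.hermForm n F q z w' = 1 := by rw [hw', Unit.smul_right hf, hr, inv_mul_cancel₀ hzw]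
  have hyw' : Cfsg.hermForm n F q y w' ≠ 0 := by
    rw [hw', Unit.smul_right hf]; exact mul_ne_zero (by rw [hr]; exact inv_ne_zero hzw) hyw
  set y' := (Cfsg.hermForm n F q y w')⁻¹ • y with hy'
  have hy'w : Cfsg.hermForm n F q y' w' = 1 := by rw [hy', hf.smul_left, inv_mul_cancel₀ hyw']
  have hy'0 : Cfsg.hermForm n F q y' y' = 0 := by simp only [hy', hf.smul_left, Unit.smul_right hf, hy, mul_zero]
  suffices hgoal : Full q M y' by
    have := full_smul hF hgoal (Cfsg.hermForm n F q y w')
    rwa [hy', smul_smul, mul_inv_cancel₀ hyw', one_smul] at this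
  set a := y' - z with ha
  have haw : Cfsg.hermForm n F q a w' = 0 := by rw [ha, (Unit.linLeft hf).sub_left, hy'w, hzw', sub_self]
  obtain ⟨s, hs⟩ := CfsgLib.Unitary.exists_root hF (μ := Cfsg.hermForm n F q a a)
    (by rw [← frobEquiv_apply hF, Unit.sigma_self hf])
  have hw'0 : Cfsg.hermForm n F q w' w' = 0 := hW w' hw'W w' hw'W
  set E := suToGL (CfsgLib.Unitary.eich hF w' a s hw'0 haw hs) with hE
  have hEv : ∀ x, (E : Matrix (Fin n) (Fin n) F) *ᵥ x = x + Cfsg.hermForm n F q x w' • a +
      (s * Cfsg.hermForm n F q x w' - Cfsg.hermForm n F q x a) • w' :=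
    fun x => CfsgLib.Unitary.suMat_eich hF w' a s hw'0 haw hs x
  have hEM : E ∈ M := hM ⟨mem_subspaceStabilizer.2 fun x hx => by
    rw [hEv, hW x hx w' hw'W, zero_smul, add_zero]
    exact W.add_mem hx (W.smul_mem _ hw'W), suToGL_mem _⟩
  have h1 := full_conj hF hMI hzF hEM
  rw [hEv, hzw', one_smul, mul_one, ha, add_sub_cancel] at h1
  set μ := s - Cfsg.hermForm n F q z a with hμ
  have hμs : μ + μ ^ q = 0 := by
    have h2 := h1.1
    simp only [hf.add_left, Unit.add_right hf, hf.smul_left, Unit.smul_right hf, hy'0, hw'0, hy'w,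
      hf.herm w' y', map_one, frobEquiv_apply, one_pow] at h2
    linear_combination h2
  have hνs : -μ + (-μ) ^ q = 0 := by
    rw [← frobEquiv_apply hF, map_neg, frobEquiv_apply]; linear_combination -hμs
  obtain ⟨hd, hm⟩ := (hfull w' hw'0 (Or.inl hw'W)).2 (-μ) hνs
  have h3 := full_conj hF hMI h1 hm
  rw [utv_mulVec hF hw'0, hf.add_left, hy'w, hf.smul_left, hw'0, mul_zero, add_zero, mul_one] at h3
  rwa [add_assoc, ← add_smul, add_neg_cancel, zero_smul, add_zero] at h3

theorem singular_proper (hW : IsTotallySingularFor (Cfsg.hermForm n F q) W) (hW0 : W ≠ ⊥) :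
    ¬ suGL n F q ≤ subspaceStabilizer W := by
  have hf := isUnitaryForm hF (n := n)
  intro h
  obtain ⟨a, ha, ha0⟩ := W.ne_bot_iff.1 hW0
  obtain ⟨b, hab⟩ := (hf.nondegenerate a ha0).2
  obtain ⟨e, he⟩ := Unit.exists_isotropic_add hf (hW a ha a ha) hab
  set v := b + e • a with hv
  have hav : Cfsg.hermForm n F q a v ≠ 0 := by
    rwa [hv, Unit.add_right hf, Unit.smul_right hf, hW a ha a ha, mul_zero, add_zero]
  have hvW : v ∉ W := fun h' => hav (hW a ha v h')
  obtain ⟨c, hc0, hc⟩ := Unit.exists_skew hf.ne_refl hf.involutive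
  have hc' : c + c ^ q = 0 := by rw [← frobEquiv_apply hF, hc, add_neg_cancel]
  refine tvec_notMem_subspaceStabilizer (uax_dot_self he c) hvW ha ?_ (h (utv_mem hF he hc'))
  rw [smul_dotProduct, axisOf_dot, smul_eq_mul]
  exact mul_ne_zero hc0 hav

end CfsgLib.Geo.UTv
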