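import Cfsg.Agent.Quad.Transport
import Cfsg.Agent.Classical.RankOne
import Cfsg.Agent.Forms.Quadratic
import Cfsg.Prelude.Def_SporadicB

/-!
Transvections of orthogonal groups over the field with two elements as 3-transpositions, and the
product of two transvections in characteristic 2.
-/

set_option autoImplicit false
set_option linter.style.haveILetI false

namespace CfsgLib.Geo.ThreeTrans

open Matrix QuadraticMap CfsgLib.Quad

/-- Two transvections in characteristic two whose product of cross values is 0 or 1. -/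
theorem sq_or_cube {F ι : Type*} [Field F] [CharP F 2] [Fintype ι] [DecidableEq ι]
    {s t : Matrix ι ι F} {u v : ι → F} {f g : (ι → F) →ₗ[F] F}
    (hs : ∀ x, s *ᵥ x = x + f x • u) (ht : ∀ x, t *ᵥ x = x + g x • v)
    (hfu : f u = 0) (hgv : g v = 0) (hab : f v = 0 ∧ g u = 0 ∨ f v * g u = 1) :
    (s * t) ^ 2 = 1 ∨ (s * t) ^ 3 = 1 := by
  have h2 : (2 : F) = 0 := CharTwo.two_eq_zero
  have hst : ∀ x, (s * t) *ᵥ x = x + g x • v + (f x + g x * f v) • u := fun x => by
    rw [← Matrix.mulVec_mulVec, ht, hs, map_add, map_smul, smul_eq_mul]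
  rcases hab with ⟨ha, hb⟩ | hab
  · refine Or.inl (Matrix.toLin'.injective (LinearMap.ext fun x => ?_))
    rw [pow_two, Matrix.toLin'_apply, Matrix.toLin'_apply, Matrix.one_mulVec,
      ← Matrix.mulVec_mulVec]
    simp only [hst, map_add, map_smul, hgv, hb, ha, hfu, smul_eq_mul]
    match_scalars <;> grind
  · refine Or.inr (Matrix.toLin'.injective (LinearMap.ext fun x => ?_))
    rw [pow_succ, pow_two, Matrix.toLin'_apply, Matrix.toLin'_apply, Matrix.one_mulVec,
      ← Matrix.mulVec_mulVec, ← Matrix.mulVec_mulVec]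
    simp only [hst, map_add, map_smul, hgv, hfu, smul_eq_mul]
    match_scalars <;> grind

variable {ι : Type} [Fintype ι] [DecidableEq ι] (Q : QuadraticForm (ZMod 2) (ι → ZMod 2))
  {Q₀ : (ι → ZMod 2) → ZMod 2} (e : ⇑Q = Q₀)

theorem two_cases : ∀ a : ZMod 2, a = 0 ∨ a = 1 := by decide

theorem exists_refl (hQ : (polarBilin Q).Nondegenerate) (g : oGroup Q)
    {M : Matrix ι ι (ZMod 2)} (hM : ∀ x, g.1 x = M *ᵥ x) (h1 : (M - 1).rank = 1) :
    ∃ d, Q d = 1 ∧ g = refl Q d := by
  obtain ⟨v, lam, hv, ⟨x₀, hx₀⟩, hlam⟩ := CfsgLib.Linear.RankOne.exists_vec h1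
  have key : ∀ x, lam x = 1 → Q v + polar Q x v = 0 := fun x hx => by
    have h := g.2 x
    rw [hM, hlam, hx, one_smul, CfsgLib.Forms.quad_add] at h
    linear_combination h
  have hx1 : lam x₀ = 1 := (two_cases _).resolve_left hx₀
  have hlp : ∀ x, lam x * Q v = polar Q x v := by
    intro x
    rcases two_cases (lam x) with h | h
    · have h' := key (x + x₀) (by rw [map_add, h, hx1, zero_add])
      rw [polar_add_left] at h'
      rw [h]; linear_combination key x₀ hx1 - h'
    · rw [h]
      linear_combination -(key x h) + CharTwo.two_eq_zero (R := ZMod 2) * Q v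
  have hQv : Q v = 1 := by
    refine (two_cases _).resolve_left fun h => ?_
    refine hv (hQ.2 v fun x => ?_)
    rw [polarBilin_apply_apply, ← hlp, h, mul_zero]
  refine ⟨v, hQv, Subtype.ext (LinearEquiv.ext fun x => ?_)⟩
  rw [hM, hlam, refl_apply, ← hlp, hQv, inv_one, mul_one, ZMod.neg_eq_self_mod_two, one_mul]

include e in
theorem threeTransposition (hQ : (polarBilin Q).Nondegenerate)
    (hd : 5 ≤ Fintype.card ι) :
    Cfsg.IsThreeTranspositionClass {g : ↥(Cfsg.isometryGroup (ZMod 2) Q₀) |
      (((g : GL ι (ZMod 2)) : Matrix ι ι (ZMod 2)) - 1).rank = 1} := by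
  classical
  subst e
  set E := isoGroupEquiv Q
  set D := {g : ↥(Cfsg.isometryGroup (ZMod 2) ⇑Q) |
      (((g : GL ι (ZMod 2)) : Matrix ι ι (ZMod 2)) - 1).rank = 1} with hDdef
  have hne : ∀ d, Q d = 1 → d ≠ 0 := fun d h e => by rw [e, QuadraticMap.map_zero] at h; exact zero_ne_one h
  have happ : ∀ d x, Q d = 1 → ((E.symm (refl Q d)).1 : Matrix ι ι (ZMod 2)) *ᵥ x = x + polar Q x d • d :=
    fun d x h => by
      rw [← isoGroupEquiv_apply, MulEquiv.apply_symm_apply, refl_apply, h, inv_one,
        ZMod.neg_eq_self_mod_two, one_mul]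
  have hmem : ∀ d, Q d = 1 → E.symm (refl Q d) ∈ D := by
    intro d h
    show Module.finrank (ZMod 2) (LinearMap.range (Matrix.mulVecLin _)) = 1
    obtain ⟨y, hy⟩ := exists_polar_ne (Q := Q) hQ (hne d h)
    have : LinearMap.range (Matrix.mulVecLin (((E.symm (refl Q d)).1 : Matrix ι ι (ZMod 2)) - 1)) =
        Submodule.span (ZMod 2) {d} := by
      refine le_antisymm ?_ ((Submodule.span_singleton_le_iff_mem _ _).2 ⟨y, ?_⟩)
      · rintro _ ⟨x, rfl⟩
        rw [Matrix.mulVecLin_apply, Matrix.sub_mulVec, happ d x h, Matrix.one_mulVec, add_sub_cancel_left]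
        exact Submodule.smul_mem _ _ (Submodule.mem_span_singleton_self d)
      · rw [Matrix.mulVecLin_apply, Matrix.sub_mulVec, happ d y h, Matrix.one_mulVec, add_sub_cancel_left,
          polar_comm, (two_cases _).resolve_left hy, one_smul]
    rw [this, finrank_span_singleton (hne d h)]
  have hD : ∀ g ∈ D, ∃ d, Q d = 1 ∧ g = E.symm (refl Q d) := fun g hg => by
    obtain ⟨d, h1, h2⟩ := exists_refl Q hQ (E g) (fun x => isoGroupEquiv_apply Q g x) hg
    exact ⟨d, h1, by rw [← h2, MulEquiv.symm_apply_apply]⟩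
  have hd4 : Module.finrank (ZMod 2) (ι → ZMod 2) ≠ 4 := by simp; omega
  obtain ⟨d₀, hd₀⟩ : ∃ d, Q d = 1 := by
    haveI : Nonempty ι := Fintype.card_pos_iff.1 (by omega)
    obtain ⟨x, hx⟩ := exists_ne (0 : ι → ZMod 2)
    obtain ⟨y, hy⟩ := exists_polar_ne (Q := Q) hQ hx
    by_contra hc
    push Not at hc
    have h0 : ∀ z, Q z = 0 := fun z => (two_cases _).resolve_right (hc z)
    exact hy (by simp [polar, h0])
  refine ⟨⟨fun g hg => ?_, fun g hg g' hg' => ?_⟩, ⟨_, hmem d₀ hd₀, ?_⟩, ?_⟩
  · obtain ⟨d, h, rfl⟩ := hD g hg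
    refine orderOf_eq_prime (by rw [pow_two, ← map_mul, refl_mul_self, map_one]) fun h1 => ?_
    have hh := hmem d h
    rw [h1, hDdef] at hh
    simp at hh
  · obtain ⟨d, h, rfl⟩ := hD g hg
    obtain ⟨d', h', rfl⟩ := hD g' hg'
    have hself : ∀ d, polar Q d d = 0 := fun d => by
      rw [polar_self, two_smul, CharTwo.add_self_eq_zero]
    have key := sq_or_cube (f := (polarBilin Q).flip d) (g := (polarBilin Q).flip d')
      (s := ((E.symm (refl Q d)).1 : Matrix ι ι (ZMod 2)))
      (t := ((E.symm (refl Q d')).1 : Matrix ι ι (ZMod 2))) (fun x => happ d x h) (fun x => happ d' x h')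
      (hself d) (hself d') (by
        simp only [LinearMap.flip_apply, polarBilin_apply_apply, polar_comm Q d d']
        rcases two_cases (polar Q d' d) with e | e <;> simp [e])
    exact key.imp (fun k => Subtype.ext (Units.ext (by simpa using k)))
      (fun k => Subtype.ext (Units.ext (by simpa using k)))
  · ext g
    rw [show g ∈ conjugatesOf (E.symm (refl Q d₀)) ↔ IsConj (E.symm (refl Q d₀)) g from Iff.rfl]
    constructor
    · intro hg
      obtain ⟨d, h, rfl⟩ := hD g hg
      obtain ⟨σ, hσ, hσd⟩ := CfsgLib.Forms.quad_exists_map_family hQ ![d₀] ![d]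
        (by simpa [linearIndependent_unique_iff] using hne _ hd₀)
        (by simpa [linearIndependent_unique_iff] using hne _ h)
        (fun i => by fin_cases i; simp [hd₀, h]) (fun i j => by
          fin_cases i; fin_cases j; simp [polar_self, hd₀, h])
      refine isConj_iff.2 ⟨E.symm ⟨σ, hσ⟩, E.injective ?_⟩
      simp only [map_mul, map_inv, MulEquiv.apply_symm_apply]
      rw [refl_conj, show (⟨σ, hσ⟩ : oGroup Q).1 d₀ = d from hσd 0]
    · intro hg
      obtain ⟨c, rfl⟩ := isConj_iff.1 hg
      have : c * E.symm (refl Q d₀) * c⁻¹ = E.symm (refl Q ((E c).1 d₀)) := E.injective (by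
        simp only [map_mul, map_inv, MulEquiv.apply_symm_apply, refl_conj])
      rw [this]
      exact hmem _ (by rw [(E c).2, hd₀])
  · have hgen := reflGroup_eq_top hQ (Or.inr hd4)
    rw [eq_top_iff]
    intro g _
    have hg : E g ∈ reflGroup Q := hgen ▸ Subgroup.mem_top _
    suffices h : ∀ x ∈ reflGroup Q, E.symm x ∈ Subgroup.closure D by simpa using h _ hg
    intro x hx
    induction hx using Subgroup.closure_induction with
    | mem x hx =>
      obtain ⟨d, rfl⟩ := hx
      rcases two_cases (Q d) with h | h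
      · have : refl Q d = 1 := Subtype.ext (LinearEquiv.ext fun y => by
          rw [refl_apply, h]; simp)
        rw [this, map_one]; exact one_mem _
      · exact Subgroup.subset_closure (hmem d h)
    | one => rw [map_one]; exact one_mem _
    | mul a b _ _ ha hb => rw [map_mul]; exact mul_mem ha hb
    | inv a _ ha => rw [map_inv]; exact inv_mem ha

end CfsgLib.Geo.ThreeTrans
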