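import Cfsg.Agent.Geo.SpSemisimple
import Mathlib

/-!
Semisimple classes of symplectic groups and self-dual polynomials.
-/

set_option autoImplicit false
set_option linter.style.haveILetI false
set_option linter.unusedSectionVars false

namespace CfsgLib.Geo.SpSemiClasses

open Matrix Polynomial CfsgLib.Geo.USemi CfsgLib.Geo.SpSemi

variable {K : Type*} [Field K] [Fintype K] (p : ℕ) [Fact p.Prime] [CharP K p]

theorem isAlt_toBilin {ν : Type*} [Fintype ν] [DecidableEq ν] {M : Matrix ν ν K} (h1 : Mᵀ = -M)
    (h2 : ∀ i, M i i = 0) : (Matrix.toBilin' M).IsAlt := by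
  intro x
  rw [Matrix.toBilin'_apply, ← Fintype.sum_prod_type']
  refine Finset.sum_involution (fun ij _ => (ij.2, ij.1)) (fun ij _ => ?_) (fun ij _ hne he => hne ?_)
    (fun _ _ => Finset.mem_univ _) (fun _ _ => rfl)
  · have hT : M ij.2 ij.1 = - M ij.1 ij.2 := congrFun (congrFun h1 ij.1) ij.2
    show x ij.1 * M ij.1 ij.2 * x ij.2 + x ij.2 * M ij.2 ij.1 * x ij.1 = 0
    rw [hT]; ring
  · rw [show ij.1 = ij.2 from (congrArg Prod.fst he).symm, h2, mul_zero, zero_mul]

theorem realised_props {f : K[X]} (hf : Realised p f) : Even f.natDegree ∧ f.coeff 0 = 1 := by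
  obtain ⟨n, g, -, hgc, S, hS1, hS2, hS3, -⟩ := id hf
  obtain ⟨m, k, b, -, -, -, hb4⟩ := CfsgLib.Forms.exists_symplectic_basis _ (Fin n → K) (Matrix.toBilin' S)
    (isAlt_toBilin hS1 hS2) rfl
  obtain rfl : k = 0 := by
    rcases Nat.eq_zero_or_pos k with h | h
    · exact h
    · refine absurd (Matrix.vecMul_injective_iff_isUnit.2 hS3 (funext fun j => ?_)) (b.ne_zero (Sum.inr ⟨0, h⟩))
      have := hb4 ⟨0, h⟩ (Pi.single j 1)
      rw [Matrix.toBilin'_apply', Matrix.dotProduct_mulVec, dotProduct_single, mul_one] at this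
      show (b (Sum.inr ⟨0, h⟩) ᵥ* S) j = ((0 : Fin n → K) ᵥ* S) j
      rw [this, Matrix.zero_vecMul]; rfl
  have hn : n = m + m := by
    have h1 := Module.finrank_eq_card_basis b
    simpa [Module.finrank_fin_fun] using h1
  have hd : f.natDegree = m + m := by
    rw [← hgc, Matrix.charpoly_natDegree_eq_dim, Fintype.card_fin, hn]
  obtain ⟨M, -, hM⟩ := exists_mem_symplectic p hd hf
  refine ⟨⟨m, hd⟩, ?_⟩
  have h := Matrix.det_eq_sign_charpoly_coeff (M : Matrix (Fin m ⊕ Fin m) (Fin m ⊕ Fin m) K)
  rw [SymplecticGroup.det_eq_one M.2, hM, Fintype.card_sum, Fintype.card_fin, ← two_mul, pow_mul, neg_one_sq,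
    one_pow, one_mul] at h
  exact h.symm

/-- Every self-dual polynomial of even degree and constant term one is realised. -/
theorem realised_of_dual : ∀ d : ℕ, ∀ f : K[X], f.natDegree = d → f.Monic → f.coeff 0 = 1 →
    dual (RingHom.id K) f = f → Even d → Realised p f := by
  intro d
  induction d using Nat.strong_induction_on with
  | _ d ih =>
  intro f hfd hfm hf0 hfdual hev'
  have hf0' : f.coeff 0 ≠ 0 := by rw [hf0]; exact one_ne_zero
  by_cases hR : ∃ P : K[X], P.Monic ∧ Irreducible P ∧ P ∣ f ∧ ¬ P ∣ X ^ 2 - 1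
  · obtain ⟨P, hPm, hPi, hPf, hP2⟩ := hR
    have hP0 : P.coeff 0 ≠ 0 := CfsgLib.GLClass.coeff_zero_ne_of_dvd hPf hf0'
    obtain ⟨B, hBd, hBm, hBr, hBf, hB⟩ : ∃ B : K[X], dual (RingHom.id K) B = B ∧ B.Monic ∧ Realised p B ∧
        B ∣ f ∧ 0 < B.natDegree := by
      by_cases hPd : dual (RingHom.id K) P = P
      · exact ⟨P, hPd, hPm, realised_irreducible p hPm hPi hP0 hPd hP2, hPf, hPi.natDegree_pos⟩
      · refine ⟨P * dual (RingHom.id K) P, by rw [dual_mul, dual_dual _ (fun a => rfl) hPm hP0, mul_comm],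
          hPm.mul (monic_dual _ hP0), realised_pair p hPm hP0, ?_, ?_⟩
        · have hQf : dual (RingHom.id K) P ∣ f := by
            obtain ⟨R', hR'⟩ := hPf
            exact ⟨dual (RingHom.id K) R', by rw [← dual_mul, ← hR', hfdual]⟩
          refine IsCoprime.mul_dvd (hPi.coprime_iff_not_dvd.2 fun h => hPd ?_) hPf hQf
          exact eq_of_monic_of_dvd_of_natDegree_le hPm (monic_dual _ hP0) h (natDegree_dual _ hP0).le
        · rw [hPm.natDegree_mul (monic_dual _ hP0)]; have := hPi.natDegree_pos; omega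
    obtain ⟨hBev, hB0⟩ := realised_props p hBr
    obtain ⟨h, rfl⟩ := hBf
    have hhm : h.Monic := hBm.of_mul_monic_left hfm
    have hdd := hBm.natDegree_mul hhm
    refine hBr.mul p (ih h.natDegree (by rw [← hfd]; omega) h rfl hhm ?_ ?_ ?_)
    · rwa [mul_coeff_zero, hB0, one_mul] at hf0
    · rw [dual_mul, hBd] at hfdual
      exact mul_left_cancel₀ hBm.ne_zero hfdual
    · rw [← hfd, hdd] at hev'
      exact (Nat.even_add.1 hev').1 hBev
  · classical
    have hone : ∀ c : K, c * c = 1 → Realised p ((X - C c) * (X - C c)) := fun c hc => by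
      have hc0 : c ≠ 0 := left_ne_zero_of_mul_eq_one hc
      have h := realised_pair p (monic_X_sub_C c) (by simpa using hc0)
      have hd : dual (RingHom.id K) (X - C c) = X - C c := by
        have h0 : (X - C c).coeff 0 = -c := by simp
        have h0' : (X - C c).coeff 0 ≠ 0 := by rw [h0]; exact neg_ne_zero.2 hc0
        have e := (monic_dual (RingHom.id K) h0').eq_X_add_C (by rw [natDegree_dual _ h0', natDegree_X_sub_C])
        rw [coeff_zero_dual _ (monic_X_sub_C c), h0] at e
        rw [e, RingHom.id_apply, inv_neg, inv_eq_of_mul_eq_one_right hc, map_neg, sub_eq_add_neg]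
      rwa [hd] at h
    set s := UniqueFactorizationMonoid.normalizedFactors f with hs
    have hprod : s.prod = f := by
      rw [hs, UniqueFactorizationMonoid.prod_normalizedFactors_eq hfm.ne_zero, hfm.normalize_eq_self]
    have hmem : ∀ P ∈ s, P = X - C 1 ∨ P = X - C (-1) := fun P hP => by
      have hPm := CfsgLib.GLClass.monic_of_mem_nf hP
      have hPi := UniqueFactorizationMonoid.irreducible_of_normalized_factor P hP
      have h2 : P ∣ X ^ 2 - 1 := by
        by_contra h
        exact hR ⟨P, hPm, hPi, UniqueFactorizationMonoid.dvd_of_mem_normalizedFactors hP, h⟩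
      rw [show (X : K[X]) ^ 2 - 1 = (X - C 1) * (X - C (-1)) by simp; ring] at h2
      rcases hPi.prime.dvd_or_dvd h2 with h | h
      · exact Or.inl (eq_of_monic_of_associated hPm (monic_X_sub_C 1) (hPi.associated_of_dvd (irreducible_X_sub_C 1) h))
      · exact Or.inr (eq_of_monic_of_associated hPm (monic_X_sub_C _) (hPi.associated_of_dvd (irreducible_X_sub_C _) h))
    set A := s.filter (fun P => P = X - C (1 : K)) with hA
    set B := s.filter (fun P => ¬ P = X - C (1 : K)) with hB
    have hAB : A + B = s := Multiset.filter_add_not _ _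
    have hAe : A = Multiset.replicate (Multiset.card A) (X - C 1) :=
      Multiset.eq_replicate_card.2 fun P hP => (Multiset.mem_filter.1 hP).2
    have hBe : B = Multiset.replicate (Multiset.card B) (X - C (-1)) := Multiset.eq_replicate_card.2 fun P hP =>
      (hmem P (Multiset.mem_filter.1 hP).1).resolve_left (Multiset.mem_filter.1 hP).2
    set u := Multiset.card A
    set v := Multiset.card B
    have hf : f = (X - C 1) ^ u * (X - C (-1)) ^ v := by
      rw [← hprod, ← hAB, Multiset.prod_add, hAe, hBe, Multiset.prod_replicate, Multiset.prod_replicate]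
    have huv : u + v = d := by
      have h := congrArg natDegree hf
      rw [hfd, ((monic_X_sub_C (1 : K)).pow u).natDegree_mul ((monic_X_sub_C (-1 : K)).pow v),
        (monic_X_sub_C (1 : K)).natDegree_pow, (monic_X_sub_C (-1 : K)).natDegree_pow, natDegree_X_sub_C,
        natDegree_X_sub_C, mul_one, mul_one] at h
      exact h.symm
    have hsq : ∀ (c : K), c * c = 1 → ∀ e, Realised p ((X - C c) ^ (2 * e)) := fun c hc e => by
      induction e with
      | zero => simpa using realised_one p
      | succ e ih' => rw [mul_add, pow_add, mul_one, sq]; exact ih'.mul p (hone c hc)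
    have hu0 : ((-1 : K)) ^ u = 1 := by
      have h := congrArg (fun P => P.coeff 0) hf
      simp only [hf0, coeff_zero_eq_eval_zero, eval_mul, eval_pow, eval_sub, eval_X, eval_C, sub_neg_eq_add,
        zero_sub, zero_add, one_pow, mul_one] at h
      exact h.symm
    rcases Nat.even_or_odd u with hu | hu
    · have hv : Even v := (Nat.even_add.1 (huv ▸ hev')).1 hu
      obtain ⟨a, ha⟩ := even_iff_two_dvd.1 hu
      obtain ⟨b, hb⟩ := even_iff_two_dvd.1 hv
      rw [hf, ha, hb]
      exact (hsq 1 (one_mul 1) a).mul p (hsq (-1) (by simp) b)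
    · -- then -1 = 1
      rw [hu.neg_one_pow] at hu0
      obtain ⟨e, he⟩ := even_iff_two_dvd.1 hev'
      rw [hf, hu0, ← pow_add, huv, he]
      exact hsq 1 (one_mul 1) e

/-- The polynomials in question. -/
theorem card_polys (n : ℕ) :
    Nat.card {f : K[X] // f.Monic ∧ f.natDegree = n + n ∧ f.coeff 0 = 1 ∧ dual (RingHom.id K) f = f} =
      Fintype.card K ^ n := by
  classical
  have hcard : Nat.card (Fin n → K) = Fintype.card K ^ n := by
    rw [Nat.card_fun, Nat.card_fin, Nat.card_eq_fintype_card]
  rw [← hcard]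
  have hsym : ∀ f : {f : K[X] // f.Monic ∧ f.natDegree = n + n ∧ f.coeff 0 = 1 ∧ dual (RingHom.id K) f = f},
      ∀ k ≤ n + n, f.1.coeff k = f.1.coeff (n + n - k) := fun f k hk => by
    conv_lhs => rw [← f.2.2.2.2]
    rw [coeff_dual _ (f.2.2.1.symm ▸ hk), f.2.2.1, f.2.2.2.1, map_one, inv_one, one_mul, RingHom.id_apply]
  refine Nat.card_eq_of_bijective (fun f i => f.1.coeff (i.val + 1)) ⟨fun f g h => ?_, fun v => ?_⟩
  · have key : ∀ k ≤ n, f.1.coeff k = g.1.coeff k := fun k hk => by
      rcases Nat.eq_zero_or_pos k with rfl | hk0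
      · rw [f.2.2.2.1, g.2.2.2.1]
      · have := congrFun h ⟨k - 1, by omega⟩
        simpa [show k - 1 + 1 = k by omega] using this
    refine Subtype.ext (Polynomial.ext fun k => ?_)
    rcases le_or_gt k n with hk | hk
    · exact key k hk
    rcases le_or_gt k (n + n) with hk' | hk'
    · rw [hsym f k hk', hsym g k hk']; exact key _ (by omega)
    · rw [coeff_eq_zero_of_natDegree_lt (by rw [f.2.2.1]; omega),
        coeff_eq_zero_of_natDegree_lt (by rw [g.2.2.1]; omega)]
  · let w : ℕ → K := fun k => if h : k - 1 < n then (if k = 0 then 1 else v ⟨k - 1, h⟩) else 1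
    let c : ℕ → K := fun k => if k ≤ n then w k else w (n + n - k)
    have hc0 : c 0 = 1 := by simp [c, w]
    have hcs : ∀ k ≤ n + n, c (n + n - k) = c k := fun k hk => by
      rcases lt_trichotomy k n with h | rfl | h
      · simp only [c, if_neg (show ¬ n + n - k ≤ n by omega), if_pos h.le, show n + n - (n + n - k) = k by omega]
      · simp
      · simp only [c, if_pos (show n + n - k ≤ n by omega), if_neg (show ¬ k ≤ n by omega)]
    have hcn : c (n + n) = 1 := by rw [← hcs _ le_rfl, Nat.sub_self, hc0]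
    let f : K[X] := ∑ k ∈ Finset.range (n + n + 1), C (c k) * X ^ k
    have hc : ∀ k, f.coeff k = if k < n + n + 1 then c k else 0 := fun k => by simp [f, coeff_C_mul, coeff_X_pow]
    have hdeg : f.natDegree = n + n :=
      natDegree_eq_of_le_of_coeff_ne_zero (natDegree_le_iff_coeff_eq_zero.2 fun k hk => by
        rw [hc, if_neg (by omega)]) (by rw [hc, if_pos (by omega), hcn]; exact one_ne_zero)
    have hmon : f.Monic := by rw [Monic, leadingCoeff, hdeg, hc, if_pos (by omega), hcn]
    have hf0 : f.coeff 0 = 1 := by rw [hc, if_pos (by omega), hc0]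
    have hdual : dual (RingHom.id K) f = f := Polynomial.ext fun k => by
      rcases le_or_gt k (n + n) with hk | hk
      · rw [coeff_dual _ (hdeg.symm ▸ hk), hdeg, hf0, map_one, inv_one, one_mul, RingHom.id_apply, hc, hc,
          if_pos (by omega), if_pos (by omega), hcs k hk]
      · rw [coeff_eq_zero_of_natDegree_lt (p := f) (by omega), coeff_eq_zero_of_natDegree_lt]
        rw [natDegree_dual _ (by rw [hf0]; exact one_ne_zero)]; omega
    refine ⟨⟨f, hmon, hdeg, hf0, hdual⟩, funext fun i => ?_⟩
    show f.coeff (i.val + 1) = v i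
    rw [hc, if_pos (by omega)]
    simp [c, w, show i.val + 1 ≤ n by omega]

end CfsgLib.Geo.SpSemiClasses
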