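import Mathlib.GroupTheory.Index
import Mathlib.Algebra.Group.Conj
import Mathlib.GroupTheory.Subgroup.Centralizer
import Mathlib.Tactic.Group

/-!
Splitting of a conjugacy class in the kernel of a map to an abelian group.
-/

set_option autoImplicit false

namespace CfsgLib.Geo.ClassSplit

variable {G K A : Type*} [Group G] [Group K] [CommGroup A]

/-- The classes of `ker δ` inside the class of `g₀` are counted by `[range δ : δ (C(g₀))]`. -/
theorem card_split (δ : G →* A) (ι : K →* G) (hι : Function.Injective ι) (hr : ι.range = δ.ker)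
    (g₀ : G) (h₀ : δ g₀ = 1) :
    Nat.card {C : ConjClasses K // ∃ u, ConjClasses.mk u = C ∧ IsConj g₀ (ι u)} =
      ((Subgroup.centralizer ({g₀} : Set G)).map δ).relIndex δ.range := by
  classical
  have hmem : ∀ g : G, ∃ u : K, ι u = g * g₀ * g⁻¹ := fun g => by
    have h : g * g₀ * g⁻¹ ∈ δ.ker := by
      rw [MonoidHom.mem_ker, map_mul, map_mul, h₀, mul_one, map_inv, mul_inv_cancel]
    rwa [← hr] at h
  choose u hu using hmem
  let toC : G → {C : ConjClasses K // ∃ u, ConjClasses.mk u = C ∧ IsConj g₀ (ι u)} := fun g =>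
    ⟨ConjClasses.mk (u g), u g, rfl, isConj_iff.2 ⟨g, (hu g).symm⟩⟩
  have hsurj : ∀ C, ∃ g, toC g = C := by
    rintro ⟨_, v, rfl, hv⟩
    obtain ⟨g, hg⟩ := isConj_iff.1 hv
    exact ⟨g, Subtype.ext (congrArg ConjClasses.mk (hι (by rw [hu, hg])))⟩
  set P := (Subgroup.centralizer ({g₀} : Set G)).map δ
  have hfib : ∀ g g', toC g = toC g' ↔ (δ g)⁻¹ * δ g' ∈ P := by
    intro g g'
    constructor
    · intro h
      obtain ⟨k, hk⟩ := isConj_iff.1 (ConjClasses.mk_eq_mk_iff_isConj.1 (congrArg Subtype.val h))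
      have hk' : ι k * (g * g₀ * g⁻¹) * (ι k)⁻¹ = g' * g₀ * g'⁻¹ := by
        rw [← hu, ← hu, ← map_inv, ← map_mul, ← map_mul, hk]
      have hδk : δ (ι k) = 1 := by
        rw [← MonoidHom.mem_ker, ← hr]; exact ⟨k, rfl⟩
      refine ⟨g⁻¹ * (ι k)⁻¹ * g', ?_, by simp [hδk]⟩
      rw [SetLike.mem_coe, Subgroup.mem_centralizer_singleton_iff]
      calc g⁻¹ * (ι k)⁻¹ * g' * g₀ = g⁻¹ * (ι k)⁻¹ * (g' * g₀ * g'⁻¹) * g' := by group
        _ = g₀ * (g⁻¹ * (ι k)⁻¹ * g') := by rw [← hk']; group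
    · rintro ⟨c, hc, hcd⟩
      rw [SetLike.mem_coe, Subgroup.mem_centralizer_singleton_iff] at hc
      have hker : g' * c⁻¹ * g⁻¹ ∈ δ.ker := by
        rw [MonoidHom.mem_ker, map_mul, map_mul, map_inv, map_inv, hcd]
        simp [mul_comm]
      rw [← hr] at hker
      obtain ⟨k, hk⟩ := hker
      refine Subtype.ext (ConjClasses.mk_eq_mk_iff_isConj.2 (isConj_iff.2 ⟨k, hι ?_⟩))
      rw [map_mul, map_mul, map_inv, hu, hu, hk]
      calc g' * c⁻¹ * g⁻¹ * (g * g₀ * g⁻¹) * (g' * c⁻¹ * g⁻¹)⁻¹ = g' * c⁻¹ * (g₀ * c) * g'⁻¹ := by group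
        _ = g' * g₀ * g'⁻¹ := by rw [← hc]; group
  choose sec hsec using fun a : δ.range => a.2
  rw [Subgroup.relIndex, Subgroup.index]
  refine (Nat.card_congr (Equiv.ofBijective (Quotient.lift (fun a => toC (sec a)) ?_) ⟨?_, ?_⟩)).symm
  · intro a b hab
    refine (hfib _ _).2 ?_
    rw [hsec, hsec]
    exact Subgroup.mem_subgroupOf.1 (QuotientGroup.leftRel_apply.mp hab)
  · intro x y
    induction x using Quotient.inductionOn with | h a =>
    induction y using Quotient.inductionOn with | h b =>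
    intro h
    refine QuotientGroup.eq.mpr ?_
    have := (hfib _ _).1 h
    rwa [hsec, hsec] at this
  · intro C
    obtain ⟨g, rfl⟩ := hsurj C
    refine ⟨QuotientGroup.mk ⟨δ g, g, rfl⟩, (hfib _ _).2 ?_⟩
    rw [hsec]
    show (δ g)⁻¹ * δ g ∈ P
    rw [inv_mul_cancel]; exact one_mem P

end CfsgLib.Geo.ClassSplit
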