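import Mathlib.FieldTheory.ChevalleyWarning
import Mathlib.LinearAlgebra.QuadraticForm.Basis
import Mathlib.LinearAlgebra.FiniteDimensional.Basic

/-!
Two quadratic forms on a space of dimension at least five over a finite field have a common non-zero
zero.
-/

set_option autoImplicit false

namespace CfsgLib.Geo

open QuadraticMap MvPolynomial

variable {F X : Type*} [Field F] [Finite F] [AddCommGroup X] [Module F X] [FiniteDimensional F X]

omit [Finite F] in
theorem exists_quad_poly {d : ℕ} (b : Module.Basis (Fin d) F X) (Q : QuadraticForm F X) :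
    ∃ P : MvPolynomial (Fin d) F, P.totalDegree ≤ 2 ∧
      ∀ x : Fin d → F, eval x P = Q (b.equivFun.symm x) := by
  classical
  set B := Q.toBilin b
  refine ⟨∑ i, ∑ j, C (B (b i) (b j)) * (MvPolynomial.X i * MvPolynomial.X j), ?_, fun x => ?_⟩
  · refine totalDegree_finsetSum_le fun i _ => totalDegree_finsetSum_le fun j _ => ?_
    refine (totalDegree_mul _ _).trans ?_
    rw [totalDegree_C, zero_add]
    refine (totalDegree_mul _ _).trans ?_
    rw [totalDegree_X, totalDegree_X]
  · have hQ : Q (b.equivFun.symm x) = B (b.equivFun.symm x) (b.equivFun.symm x) := by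
      conv_lhs => rw [← QuadraticMap.toQuadraticMap_toBilin Q b]
      rfl
    rw [hQ, Module.Basis.equivFun_symm_apply]
    simp only [map_sum, map_smul, LinearMap.sum_apply, LinearMap.smul_apply, smul_eq_mul,
      map_mul, eval_C, eval_X, Finset.mul_sum]
    rw [Finset.sum_comm]
    refine Finset.sum_congr rfl fun i _ => Finset.sum_congr rfl fun j _ => ?_
    ring

/-- A common non-zero zero of two quadratic forms in at least five variables. -/
theorem exists_common_zero (Q₁ Q₂ : QuadraticForm F X) (h5 : 5 ≤ Module.finrank F X) :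
    ∃ x : X, x ≠ 0 ∧ Q₁ x = 0 ∧ Q₂ x = 0 := by
  classical
  have : Fintype F := Fintype.ofFinite F
  obtain ⟨p, hp⟩ := CharP.exists F
  have hpp : p.Prime := (CharP.char_is_prime_or_zero F p).resolve_right
    fun h => CharP.char_ne_zero_of_finite F p h
  set b := Module.finBasis F X
  obtain ⟨P₁, d₁, e₁⟩ := exists_quad_poly b Q₁
  obtain ⟨P₂, d₂, e₂⟩ := exists_quad_poly b Q₂
  have hdvd := char_dvd_card_solutions_of_add_lt (f₁ := P₁) (f₂ := P₂) p (by
    rw [Fintype.card_fin]; omega)
  by_contra hc
  push Not at hc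
  have hone : Fintype.card {x : Fin (Module.finrank F X) → F // eval x P₁ = 0 ∧ eval x P₂ = 0} = 1 := by
    rw [Fintype.card_eq_one_iff]
    refine ⟨⟨0, by rw [e₁, map_zero, QuadraticMap.map_zero],
      by rw [e₂, map_zero, QuadraticMap.map_zero]⟩, fun y => Subtype.ext ?_⟩
    by_contra hy
    refine hc (b.equivFun.symm y.1) ?_ (by rw [← e₁]; exact y.2.1) (by rw [← e₂]; exact y.2.2)
    exact fun h => hy (b.equivFun.symm.map_eq_zero_iff.1 h)
  rw [hone, Nat.dvd_one] at hdvd
  exact hpp.one_lt.ne' hdvd

end CfsgLib.Geo
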