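/-
Coordinates adapted to a decomposition into subspaces of equal dimension, and the count of non-zero components.
-/
import Cfsg.Agent.Geo.Basic

set_option autoImplicit false

namespace CfsgLib.Geo.Decomp

open Matrix Cfsg Cfsg.Geo

variable {ι : Type} [Fintype ι] [DecidableEq ι] {F : Type*} [Field F] {t m : ℕ}
  {D : Fin t → Submodule F (ι → F)}

/-- An isomorphism of `F^(t × m)` with the space carrying the `i`-th block onto the `i`-th member. -/
theorem exists_coords (hD : IsMDecomposition m D) :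
    ∃ Θ : (Fin t → Fin m → F) ≃ₗ[F] (ι → F),
      ∀ i v, v ∈ D i ↔ ∀ j, j ≠ i → Θ.symm v j = 0 := by
  classical
  have he : ∀ i, Nonempty ((Fin m → F) ≃ₗ[F] D i) := fun i =>
    ⟨((Module.finBasisOfFinrankEq F (D i) (hD.finrank_eq i)).equivFun).symm⟩
  let ee : ∀ i, (Fin m → F) ≃ₗ[F] D i := fun i => (he i).some
  let L : (Fin t → Fin m → F) →ₗ[F] (ι → F) :=
    ∑ i, (D i).subtype ∘ₗ (ee i).toLinearMap ∘ₗ LinearMap.proj i
  have hL : ∀ w, L w = ∑ i, ((ee i (w i) : D i) : ι → F) := fun w => by simp [L]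
  have hinj : Function.Injective L := by
    rw [← LinearMap.ker_eq_bot, Submodule.eq_bot_iff]
    intro w hw
    have h0 : ∑ i, ((ee i (w i) : D i) : ι → F) = 0 := by rw [← hL]; exact hw
    funext i
    have := (iSupIndep_iff_finsetSum_eq_zero_imp_eq_zero D).1 hD.indep Finset.univ _
      (fun i _ => (ee i (w i)).2) h0 i (Finset.mem_univ i)
    exact (ee i).injective (by rw [Pi.zero_apply, map_zero]; exact Subtype.ext this)
  have hsurj : Function.Surjective L := by
    rw [← LinearMap.range_eq_top, eq_top_iff, ← hD.iSup_eq_top, iSup_le_iff]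
    intro i v hv
    refine ⟨Pi.single i ((ee i).symm ⟨v, hv⟩), ?_⟩
    rw [hL, Finset.sum_eq_single i]
    · simp
    · intro j _ hj; simp [Pi.single_eq_of_ne hj]
    · simp
  refine ⟨LinearEquiv.ofBijective L ⟨hinj, hsurj⟩, fun i v => ?_⟩
  have key : ∀ w : Fin t → Fin m → F, L w = v →
      (LinearEquiv.ofBijective L ⟨hinj, hsurj⟩).symm v = w := by
    intro w hw
    rw [LinearEquiv.symm_apply_eq]; exact hw.symm
  refine ⟨fun hv j hj => ?_, fun h => ?_⟩
  · rw [key (Pi.single i ((ee i).symm ⟨v, hv⟩))]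
    · exact Pi.single_eq_of_ne hj _
    · rw [hL, Finset.sum_eq_single i]
      · simp
      · intro k _ hk; simp [Pi.single_eq_of_ne hk]
      · simp
  · obtain ⟨w, hw⟩ := hsurj v
    rw [key w hw] at h
    rw [← hw, hL, Finset.sum_eq_single i (fun j _ hj => by simp [h j hj]) (by simp)]
    exact Subtype.coe_prop _

variable (Θ : (Fin t → Fin m → F) ≃ₗ[F] (ι → F))

/-- The number of non-zero components of a vector, as an element of the field. -/
noncomputable def weight (v : ι → F) : F :=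
  haveI := Classical.decEq (Fin m → F)
  ∑ i, if Θ.symm v i = 0 then 0 else 1

/-- The components of an image under an element of the stabiliser. -/
theorem stab_components (hΘ : ∀ i v, v ∈ D i ↔ ∀ j, j ≠ i → Θ.symm v j = 0)
    {g : GL ι F} (hg : g ∈ decompositionStabilizer D) :
    ∃ σ : Equiv.Perm (Fin t), ∀ v i,
      (Θ.symm ((g : Matrix ι ι F) *ᵥ v) (σ i) = 0 ↔ Θ.symm v i = 0) := by
  classical
  obtain ⟨σ, hσ⟩ := hg
  refine ⟨σ, fun v i => ?_⟩
  have hblock : ∀ (i : Fin t) (x : Fin m → F),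
      (g : Matrix ι ι F) *ᵥ Θ (Pi.single i x) ∈ D (σ i) := by
    intro i x
    rw [← hσ i]
    refine ⟨_, (hΘ i _).2 fun j hj => ?_, by rw [Matrix.toLin'_apply]⟩
    rw [LinearEquiv.symm_apply_apply]; exact Pi.single_eq_of_ne hj _
  have hv : v = ∑ k, Θ (Pi.single k (Θ.symm v k)) := by
    rw [← map_sum, Finset.univ_sum_single, LinearEquiv.apply_symm_apply]
  have hcomp : Θ.symm ((g : Matrix ι ι F) *ᵥ v) (σ i) =
      Θ.symm ((g : Matrix ι ι F) *ᵥ Θ (Pi.single i (Θ.symm v i))) (σ i) := by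
    conv_lhs => rw [hv, Matrix.mulVec_sum, map_sum, Finset.sum_apply]
    refine Finset.sum_eq_single i (fun k _ hk => ?_) (by simp)
    exact (hΘ _ _).1 (hblock k _) (σ i) fun h => hk (σ.injective h).symm
  rw [hcomp]
  constructor
  · intro h
    have h0 : Θ.symm ((g : Matrix ι ι F) *ᵥ Θ (Pi.single i (Θ.symm v i))) = 0 := by
      funext j
      by_cases hj : j = σ i
      · rw [hj]; exact h
      · exact (hΘ _ _).1 (hblock i _) j hj
    have h1 : (g : Matrix ι ι F) *ᵥ Θ (Pi.single i (Θ.symm v i)) = 0 := by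
      have := congrArg Θ h0
      rwa [LinearEquiv.apply_symm_apply, map_zero] at this
    have h2 := congrArg (fun z => ((g⁻¹ : GL ι F) : Matrix ι ι F) *ᵥ z) h1
    simp only [inv_mulVec_mulVec, Matrix.mulVec_zero, map_eq_zero_iff _ Θ.injective] at h2
    simpa using congrFun h2 i
  · intro h
    simp [h]

theorem weight_stab (hΘ : ∀ i v, v ∈ D i ↔ ∀ j, j ≠ i → Θ.symm v j = 0)
    {g : GL ι F} (hg : g ∈ decompositionStabilizer D) (v : ι → F) :
    weight Θ ((g : Matrix ι ι F) *ᵥ v) = weight Θ v := by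
  obtain ⟨σ, hσ⟩ := stab_components Θ hΘ hg
  classical
  unfold weight
  rw [← Equiv.sum_comp σ]
  exact Finset.sum_congr rfl fun i _ => by by_cases h : Θ.symm v i = 0 <;> simp [h, hσ]

/-- The subgroup of elements preserving a function. -/
def preserving (f : (ι → F) → F) : Subgroup (GL ι F) where
  carrier := {g | ∀ v, f ((g : Matrix ι ι F) *ᵥ v) = f v}
  mul_mem' {a b} ha hb := fun v => by rw [Units.val_mul, ← Matrix.mulVec_mulVec, ha, hb]
  one_mem' := fun v => by simp
  inv_mem' {a} ha := fun v => by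
    conv_rhs => rw [← mulVec_inv_mulVec a v]
    exact (ha _).symm

end CfsgLib.Geo.Decomp
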