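import Cfsg.Agent.Quad.Concrete
import Cfsg.Agent.GLElem.RestrictScalars
import Cfsg.Agent.Unitary.Basic
import Cfsg.Agent.Unitary.Generation
import Cfsg.Prelude.Def_LieClassical

/-!
Embeddings of classical groups through a quadratic field extension:
`O^-_{2m}(q)` in `O^+_{2m}(q^2)` and `GU_m(q)` in `O^±_{2m}(q)`.
-/

set_option autoImplicit false
set_option linter.style.haveILetI false

namespace CfsgLib.Geo.ExtEmbed

open Matrix CfsgLib.Quad

variable {K F : Type*} [Field K] [Finite K] [Field F] [Finite F] {q : ℕ}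
  (hK : Nat.card K = q ^ 2) (hF : Nat.card F = q) (ι : F →+* K) (hι : ∀ x, ι x ^ q = ι x)
  {a b : F} (hab : ∀ z₁ z₂ : F, z₁ ^ 2 + a * z₁ * z₂ + b * z₂ ^ 2 = 0 → z₁ = 0 ∧ z₂ = 0)

include hab in
omit [Finite F] in
theorem no_root (t : F) : t ^ 2 + a * t + b ≠ 0 := fun h =>
  one_ne_zero (hab t 1 (by linear_combination h)).2

include hK hF hι hab in
/-- The roots in `K` of an irreducible monic quadratic over `F`. -/
theorem exists_root : ∃ r : K, r ^ q ≠ r ∧ r + r ^ q = -ι a ∧ r * r ^ q = ι b := by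
  letI : Algebra F K := ι.toAlgebra
  let P : Polynomial F := Polynomial.X ^ 2 + Polynomial.C a * Polynomial.X + Polynomial.C b
  have hd : P.natDegree = 2 := by simp only [P]; compute_degree!
  have hirr : Irreducible P := by
    rw [Polynomial.irreducible_iff_roots_eq_zero_of_degree_le_three hd.ge (by omega)]
    refine Multiset.eq_zero_of_forall_notMem fun t ht => no_root hab t ?_
    simpa [P] using (Polynomial.mem_roots'.1 ht).2
  haveI := Fact.mk hirr
  haveI : FiniteDimensional F K := Module.Finite.of_finite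
  have hfr : Module.finrank F K = 2 := by
    have h := Module.natCard_eq_pow_finrank (K := F) (V := K)
    rw [hK, hF] at h
    exact (Nat.pow_right_injective (CfsgLib.Forms.two_le_q hK) h).symm
  haveI : FiniteDimensional F (AdjoinRoot P) :=
    (AdjoinRoot.powerBasis hirr.ne_zero).finite
  haveI : Finite (AdjoinRoot P) := Module.finite_of_finite F
  obtain ⟨f⟩ := FiniteField.nonempty_algHom_of_finrank_dvd (F := F) (K := AdjoinRoot P) (L := K)
    (by rw [(AdjoinRoot.powerBasis hirr.ne_zero).finrank, AdjoinRoot.powerBasis_dim, hd, hfr])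
  have h0 : f (AdjoinRoot.root P) ^ 2 + ι a * f (AdjoinRoot.root P) + ι b = 0 := by
    have h := congrArg f (AdjoinRoot.eval₂_root P)
    simpa [P, ← AdjoinRoot.algebraMap_eq, RingHom.algebraMap_toAlgebra] using h
  generalize f (AdjoinRoot.root P) = r at h0
  have hne : r ^ q ≠ r := by
    intro h
    obtain ⟨t, rfl⟩ := CfsgLib.RestrictScalars.mem_range_of_pow hK hF ι hι h
    exact no_root hab t (ι.injective (by simpa using h0))
  have h1 : (r ^ q) ^ 2 + ι a * r ^ q + ι b = 0 := by
    have h := congrArg (CfsgLib.Forms.frobQ hK) h0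
    simp only [map_add, map_mul, map_pow, map_zero] at h
    simpa only [CfsgLib.Forms.frobQ_apply, hι] using h
  have h2 : r + r ^ q = -ι a := by
    refine eq_neg_of_add_eq_zero_left ((mul_eq_zero.mp ?_).resolve_left (sub_ne_zero.mpr hne.symm))
    linear_combination h0 - h1
  exact ⟨r, hne, h2, by linear_combination -h0 + r * h2⟩

variable {ι} {r : K}

omit [Finite F] in
include hι in
theorem coords_injective (hr : r ^ q ≠ r) {x y : F} (h : ι x - ι y * r = 0) : x = 0 ∧ y = 0 := by
  by_cases hy : y = 0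
  · subst hy
    exact ⟨ι.injective (by simpa using h), rfl⟩
  · refine absurd ?_ hr
    have hy' : ι y ≠ 0 := fun e => hy (ι.injective (by simpa using e))
    have e : r = ι (x / y) := by rw [map_div₀, eq_div_iff hy']; linear_combination -h
    rw [e, hι]

omit [Finite F] in
include hK hι in
theorem norm_coords (h2 : r + r ^ q = -ι a) (h3 : r * r ^ q = ι b) (x y : F) :
    (ι x - ι y * r) * (ι x - ι y * r) ^ q = ι (x ^ 2 + a * x * y + b * y ^ 2) := by
  rw [← CfsgLib.Forms.frobQ_apply hK (ι x - ι y * r), map_sub, map_mul]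
  simp only [CfsgLib.Forms.frobQ_apply, hι, map_add, map_mul, map_pow]
  linear_combination -(ι x * ι y) * h2 + ι y ^ 2 * h3

include hK hF hι in
theorem exists_coords (hr : r ^ q ≠ r) (z : K) : ∃ x y : F, ι x - ι y * r = z := by
  let f : F × F → K := fun p => ι p.1 - ι p.2 * r
  have hinj : Function.Injective f := fun p p' h => by
    obtain ⟨h1, h2⟩ := coords_injective hι hr (x := p.1 - p'.1) (y := p.2 - p'.2)
      (by simp only [f] at h; simp only [map_sub]; linear_combination h)
    exact Prod.ext (sub_eq_zero.mp h1) (sub_eq_zero.mp h2)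
  obtain ⟨p, hp⟩ := ((Nat.bijective_iff_injective_and_card f).mpr
    ⟨hinj, by rw [Nat.card_prod, hF, hK, sq]⟩).2 z
  exact ⟨p.1, p.2, hp⟩

/-- An `F`-linear coordinate map on `K^m` carrying the Hermitian norm to `Q` embeds `GU_m(q)`. -/
theorem embed_GU (ι : F →+* K) {σ : Type} [Fintype σ] [DecidableEq σ] (Q : (σ → F) → F) (m : ℕ)
    (e : (σ → F) → (Fin m → K)) (hadd : ∀ u v, e (u + v) = e u + e v)
    (hsmul : ∀ (c : F) u, e (c • u) = ι c • e u) (hbij : Function.Bijective e)
    (he : ∀ u, Cfsg.hermForm m K q (e u) (e u) = ι (Q u)) :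
    ∃ φ : ↥(Cfsg.GU m K q) →* ↥(Cfsg.isometryGroup F Q), Function.Injective φ := by
  classical
  letI : Algebra F K := ι.toAlgebra
  let eL : (σ → F) ≃ₗ[F] (Fin m → K) := LinearEquiv.ofBijective
    { toFun := e, map_add' := hadd
      map_smul' := fun c u => by
        rw [hsmul]; funext i; simp [Algebra.smul_def, RingHom.algebraMap_toAlgebra] } hbij
  let T : ↥(Cfsg.GU m K q) →* Module.End F (σ → F) :=
    { toFun := fun g => eL.symm.toLinearMap ∘ₗ
        (Matrix.mulVecLin (g.1 : Matrix (Fin m) (Fin m) K)).restrictScalars F ∘ₗ eL.toLinearMap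
      map_one' := LinearMap.ext fun v => by simp
      map_mul' := fun g h => LinearMap.ext fun v => by simp [Matrix.mulVec_mulVec] }
  let ψ : ↥(Cfsg.GU m K q) →* Matrix.GeneralLinearGroup σ F :=
    ((LinearMap.toMatrixAlgEquiv' : _ ≃ₐ[F] Matrix σ σ F).toMonoidHom.comp T).toHomUnits
  have hψ : ∀ g v, (ψ g : Matrix σ σ F) *ᵥ v = T g v := fun g v => by
    show LinearMap.toMatrix' (T g) *ᵥ v = T g v
    exact LinearMap.toMatrix'_mulVec _ _
  refine ⟨ψ.codRestrict _ (fun g v _ => ?_), fun g h e' => ?_⟩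
  · apply ι.injective
    show ι (Q ((ψ g : Matrix σ σ F) *ᵥ v)) = ι (Q v)
    rw [hψ, ← he, ← he]
    have hgv : e (T g v) = (g.1 : Matrix (Fin m) (Fin m) K) *ᵥ e v := by
      show eL (eL.symm _) = _
      simp [eL]
    rw [hgv]
    exact g.2 _ _
  · refine Subtype.ext (Units.ext (Matrix.toLin'.injective (LinearMap.ext fun w => ?_)))
    obtain ⟨v, rfl⟩ := eL.surjective w
    have h1 : T g v = T h v := by
      rw [← hψ, ← hψ]
      exact congrArg (fun z : ↥(Cfsg.isometryGroup F Q) => ((z.1 : Matrix σ σ F) *ᵥ v)) e'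
    simpa [T] using h1

/-- The two halves of `Fin (k + k)`. -/
def halves (k : ℕ) : Fin k ⊕ Fin k ≃ Fin (k + k) := finSumFinEquiv

include hab in
theorem disc_ne_zero : 4 * b - a ^ 2 ≠ 0 := by
  intro h
  by_cases h2 : (2 : F) = 0
  · have ha : a = 0 := pow_eq_zero_iff two_ne_zero |>.mp (by linear_combination -h + 2 * b * h2)
    haveI := CharTwo.of_one_ne_zero_of_two_eq_zero (one_ne_zero (α := F)) h2
    obtain ⟨s, hs⟩ := FiniteField.isSquare_of_char_two (ringChar.eq F 2) b
    exact no_root hab s (by linear_combination hs + s * ha + s * s * h2)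
  · exact (no_root hab (-a / 2)) (by field_simp; linear_combination h)

include hK hF hι hab in
/-- `K^{2k}` with the Hermitian norm is `plus` of dimension `4k` over `F`. -/
theorem exists_plus_coords (k : ℕ) : ∃ e : (Fin (k + k) ⊕ Fin (k + k) → F) → (Fin (k + k) → K),
    (∀ u v, e (u + v) = e u + e v) ∧ (∀ (c : F) u, e (c • u) = ι c • e u) ∧ Function.Bijective e ∧
    ∀ u, Cfsg.hermForm (k + k) K q (e u) (e u) = ι (Cfsg.quadFormPlus (k + k) F u) := by
  classical
  obtain ⟨r, hr, h2, h3⟩ := exists_root hK hF ι hι hab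
  choose X Y hXY using exists_coords hK hF hι hr
  obtain ⟨c, hc⟩ := CfsgLib.Unitary.exists_norm_eq hK (μ := (-1 : K))
    (by rw [← CfsgLib.Forms.frobQ_apply hK, map_neg, map_one])
  have hc0 : c ≠ 0 := fun h => by simp [h] at hc
  have hN : ∀ z, z * z ^ q = ι (X z ^ 2 + a * X z * Y z + b * Y z ^ 2) := fun z => by
    conv_lhs => rw [← hXY z]
    exact norm_coords hK hι h2 h3 _ _
  have hlin : ∀ (u : F) (z w : K), X (ι u * z + w) = u * X z + X w ∧ Y (ι u * z + w) = u * Y z + Y w := by
    intro u z w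
    obtain ⟨e1, e2⟩ := coords_injective hι hr (x := X (ι u * z + w) - (u * X z + X w))
      (y := Y (ι u * z + w) - (u * Y z + Y w)) (by
        simp only [map_sub, map_add, map_mul]
        linear_combination hXY (ι u * z + w) - ι u * hXY z - hXY w)
    exact ⟨sub_eq_zero.mp e1, sub_eq_zero.mp e2⟩
  have hX0 : X 0 = 0 ∧ Y 0 = 0 := coords_injective hι hr (hXY 0)
  letI : Algebra F K := ι.toAlgebra
  let h := finSumFinEquiv (m := k) (n := k)
  let g : (Fin (k + k) → K) →ₗ[F] (Fin (k + k) ⊕ Fin (k + k) → F) :=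
    { toFun := fun v => Sum.elim
        (fun j => Sum.elim (fun i => X (v (h (.inl i))) - X (c * v (h (.inr i))))
          (fun i => Y (v (h (.inl i))) - Y (c * v (h (.inr i)))) (h.symm j))
        (fun j => Sum.elim
          (fun i => X (v (h (.inl i))) + X (c * v (h (.inr i))) + a * Y (v (h (.inl i))))
          (fun i => b * (Y (v (h (.inl i))) + Y (c * v (h (.inr i)))) + a * X (c * v (h (.inr i))))
          (h.symm j))
      map_add' := fun u v => by
        funext j
        rcases j with j | j <;> obtain ⟨i, rfl⟩ := h.surjective j <;> rcases i with i | i <;>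
          simp only [Sum.elim_inl, Sum.elim_inr, Pi.add_apply, Equiv.symm_apply_apply, mul_add] <;>
          first
          | (have e1 := hlin 1 (u (h (.inl i))) (v (h (.inl i)))
             have e2 := hlin 1 (c * u (h (.inr i))) (c * v (h (.inr i)))
             simp only [map_one, one_mul] at e1 e2
             rw [e1.1, e1.2, e2.1, e2.2]; ring)
          | (have e1 := hlin 1 (u (h (.inl i))) (v (h (.inl i)))
             have e2 := hlin 1 (c * u (h (.inr i))) (c * v (h (.inr i)))
             simp only [map_one, one_mul] at e1 e2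
             simp only [e1.1, e1.2, e2.1, e2.2]; ring)
      map_smul' := fun u v => by
        funext j
        rcases j with j | j <;> obtain ⟨i, rfl⟩ := h.surjective j <;> rcases i with i | i <;>
          simp only [Sum.elim_inl, Sum.elim_inr, Pi.smul_apply, Algebra.smul_def,
            RingHom.algebraMap_toAlgebra, RingHom.id_apply, smul_eq_mul, Equiv.symm_apply_apply,
            mul_left_comm c (ι u)] <;>
          (have e1 := hlin u (v (h (.inl i))) 0
           have e2 := hlin u (c * v (h (.inr i))) 0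
           simp only [add_zero, hX0.1, hX0.2] at e1 e2
           simp only [e1.1, e1.2, e2.1, e2.2, Pi.algebraMap_apply, Algebra.algebraMap_self,
             RingHom.id_apply]
           ring) }
  have hg : Function.Injective g := by
    rw [injective_iff_map_eq_zero]
    intro v hv
    funext j
    obtain ⟨i, rfl⟩ := h.surjective j
    have key : ∀ i, v (h (.inl i)) = 0 ∧ c * v (h (.inr i)) = 0 := by
      intro i
      have p1 := congrFun hv (.inl (h (.inl i)))
      have p2 := congrFun hv (.inl (h (.inr i)))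
      have r1 := congrFun hv (.inr (h (.inl i)))
      have r2 := congrFun hv (.inr (h (.inr i)))
      simp only [g, LinearMap.coe_mk, AddHom.coe_mk, Sum.elim_inl, Sum.elim_inr,
        Equiv.symm_apply_apply, Pi.zero_apply] at p1 p2 r1 r2
      have hd := disc_ne_zero hab
      have hy' : Y (c * v (h (.inr i))) = 0 := by
        refine (mul_eq_zero.mp ?_).resolve_left hd
        linear_combination 2 * r2 - 2 * b * p2 - a * r1 + a * p1 + a ^ 2 * p2
      have hx' : X (c * v (h (.inr i))) = 0 := by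
        refine (mul_eq_zero.mp ?_).resolve_left hd
        linear_combination 2 * b * r1 - 2 * b * p1 - a * r2 + (a * b - 2 * a * b) * p2
      rw [hx', sub_zero] at p1
      rw [hy', sub_zero] at p2
      constructor
      · rw [← hXY (v (h (.inl i))), p1, p2]; simp
      · rw [← hXY (c * v (h (.inr i))), hx', hy']; simp
    rcases i with i | i
    · exact (key i).1
    · exact (mul_eq_zero.mp (key i).2).resolve_left hc0
  have hgb : Function.Bijective g := (Nat.bijective_iff_injective_and_card g).mpr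
    ⟨hg, by rw [Nat.card_fun, Nat.card_fun, hK, hF, Nat.card_sum, Nat.card_fin, ← pow_mul]; ring⟩
  let G := LinearEquiv.ofBijective g hgb
  refine ⟨fun u => G.symm u, map_add G.symm, fun d u => ?_, G.symm.bijective, fun u => ?_⟩
  · simp only []; rw [map_smul]; funext i; simp [Algebra.smul_def, RingHom.algebraMap_toAlgebra]
  · obtain ⟨v, rfl⟩ := G.surjective u
    simp only [LinearEquiv.symm_apply_apply]
    simp only [Cfsg.hermForm, Cfsg.quadFormPlus, G, g, LinearEquiv.ofBijective_apply,
      LinearMap.coe_mk, AddHom.coe_mk, Sum.elim_inl, Sum.elim_inr]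
    rw [← h.sum_comp, ← h.sum_comp, Fintype.sum_sum_type, Fintype.sum_sum_type]
    simp only [Equiv.symm_apply_apply, Sum.elim_inl, Sum.elim_inr]
    rw [← Finset.sum_add_distrib, ← Finset.sum_add_distrib, map_sum]
    refine Finset.sum_congr rfl fun i _ => ?_
    have e1 := hN (v (h (.inl i)))
    have e2 := hN (c * v (h (.inr i)))
    rw [pow_succ] at hc
    rw [mul_pow] at e2
    simp only [map_add, map_sub, map_mul, map_pow] at e1 e2 ⊢
    linear_combination e1 - e2 + v (h (.inr i)) * v (h (.inr i)) ^ q * hc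

include hK hF hι hab in
/-- `GU_{2k+1}(q)` embeds in `O^-_{4k+2}(q)`. -/
theorem embed_minus (k : ℕ) : ∃ φ : ↥(Cfsg.GU (k + k + 1) K q) →*
    ↥(Cfsg.isometryGroup F (Cfsg.quadFormMinus (k + k) F a b)), Function.Injective φ := by
  classical
  obtain ⟨r, hr, h2, h3⟩ := exists_root hK hF ι hι hab
  obtain ⟨e, he1, he2, he3, he4⟩ := exists_plus_coords hK hF hι hab k
  let lin : (Fin 2 → F) → K := fun z => ι (z 0) - ι (z 1) * r
  refine embed_GU ι _ _ (fun u => Fin.snoc (e (u ∘ Sum.inl)) (lin (u ∘ Sum.inr)))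
    (fun u v => ?_) (fun c u => ?_) ⟨fun u v h => ?_, fun w => ?_⟩ fun u => ?_
  · funext i
    refine Fin.lastCases ?_ (fun j => ?_) i
    · simp [lin]; ring
    · simp [Pi.add_comp, he1]
  · funext i
    refine Fin.lastCases ?_ (fun j => ?_) i
    · simp [lin]; ring
    · simp only [Fin.snoc_castSucc, Pi.smul_apply]
      exact congrFun (he2 c _) j
  · have h' := Fin.snoc_inj.mp h
    have e1 := he3.1 h'.1
    obtain ⟨e2, e2'⟩ := coords_injective hι hr (x := u (.inr 0) - v (.inr 0))
      (y := u (.inr 1) - v (.inr 1)) (by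
        have := h'.2
        simp only [lin, Function.comp_apply] at this
        simp only [map_sub]; linear_combination this)
    funext i
    rcases i with i | i
    · exact congrFun e1 i
    · fin_cases i
      · exact sub_eq_zero.mp e2
      · exact sub_eq_zero.mp e2'
  · obtain ⟨u, hu⟩ := he3.2 (Fin.init w)
    obtain ⟨x, y, hxy⟩ := exists_coords hK hF hι hr (w (Fin.last _))
    refine ⟨Sum.elim u ![x, y], ?_⟩
    simp only [Sum.elim_comp_inl, hu, lin, Sum.elim_comp_inr, Matrix.cons_val_zero,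
      Matrix.cons_val_one, hxy, Fin.snoc_init_self]
  · simp only [Cfsg.hermForm, Fin.sum_univ_castSucc, Fin.snoc_castSucc, Fin.snoc_last]
    rw [show ∑ i, e (u ∘ Sum.inl) i * e (u ∘ Sum.inl) i ^ q = _ from he4 _,
      norm_coords hK hι h2 h3, ← map_add]
    rfl

include hK hF hι hab in
/-- `GU_{2k}(q)` embeds in `O^+_{4k}(q)`. -/
theorem embed_plus (k : ℕ) : ∃ φ : ↥(Cfsg.GU (k + k) K q) →*
    ↥(Cfsg.isometryGroup F (Cfsg.quadFormPlus (k + k) F)), Function.Injective φ := by
  obtain ⟨e, he1, he2, he3, he4⟩ := exists_plus_coords hK hF hι hab k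
  exact embed_GU ι _ _ e he1 he2 he3 he4

omit [Finite F] in
include hK hι in
/-- Over `K` a form with anisotropic binary part becomes hyperbolic. -/
theorem minus_to_plus (hr : r ^ q ≠ r) (h2 : r + r ^ q = -ι a) (h3 : r * r ^ q = ι b) (n : ℕ) :
    ∃ g : ((Fin n ⊕ Fin n) ⊕ Fin 2 → K) ≃ₗ[K] (Fin (n + 1) ⊕ Fin (n + 1) → K),
      ∀ v, Cfsg.quadFormPlus (n + 1) K (g v) = Cfsg.quadFormMinus n K (ι a) (ι b) v := by
  let g : ((Fin n ⊕ Fin n) ⊕ Fin 2 → K) →ₗ[K] (Fin (n + 1) ⊕ Fin (n + 1) → K) :=
    { toFun := fun v => Sum.elim (Fin.snoc (fun i => v (.inl (.inl i))) (v (.inr 0) - r * v (.inr 1)))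
        (Fin.snoc (fun i => v (.inl (.inr i))) (v (.inr 0) - r ^ q * v (.inr 1)))
      map_add' := fun u v => by
        funext j
        rcases j with j | j <;> induction j using Fin.lastCases <;> simp <;> ring
      map_smul' := fun c v => by
        funext j
        rcases j with j | j <;> induction j using Fin.lastCases <;> simp <;> ring }
  have hg : Function.Injective g := by
    rw [injective_iff_map_eq_zero]
    intro v hv
    have p := congrFun hv (.inl (Fin.last n))
    have p' := congrFun hv (.inr (Fin.last n))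
    simp [g] at p p'
    have hz : v (.inr 1) = 0 := by
      refine (mul_eq_zero.mp ?_).resolve_left (sub_ne_zero.mpr hr)
      linear_combination p - p'
    funext j
    rcases j with (j | j) | j
    · simpa [g] using congrFun hv (.inl j.castSucc)
    · simpa [g] using congrFun hv (.inr j.castSucc)
    · fin_cases j
      · simpa [hz] using p
      · exact hz
  refine ⟨LinearEquiv.ofBijective g ⟨hg, (LinearMap.injective_iff_surjective_of_finrank_eq_finrank
    (by simp; omega)).mp hg⟩, fun v => ?_⟩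
  show Cfsg.quadFormPlus (n + 1) K (g v) = _
  simp only [Cfsg.quadFormPlus, Cfsg.quadFormMinus, g,
    LinearMap.coe_mk, AddHom.coe_mk, Sum.elim_inl, Sum.elim_inr, Fin.sum_univ_castSucc,
    Fin.snoc_castSucc, Fin.snoc_last]
  linear_combination -(v (.inr 0) * v (.inr 1)) * h2 + v (.inr 1) ^ 2 * h3

include hK hF hι hab in
/-- `O^-_{2n+2}(q)` embeds in `O^+_{2n+2}(q^2)`. -/
theorem embed_minus_plus (n : ℕ) : ∃ φ : ↥(Cfsg.isometryGroup F (Cfsg.quadFormMinus n F a b)) →*
    ↥(Cfsg.isometryGroup K (Cfsg.quadFormPlus (n + 1) K)), Function.Injective φ := by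
  classical
  obtain ⟨r, hr, h2, h3⟩ := exists_root hK hF ι hι hab
  obtain ⟨g, hg⟩ := minus_to_plus hK hι hr h2 h3 n
  set Q := minusQ n a b
  set QK := minusQ n (ι a) (ι b)
  have hev : ∀ u, QK (ι ∘ u) = ι (Q u) := fun u => by
    simp only [QK, Q, minusQ_coe, Cfsg.quadFormMinus]
    simp
  have hpol : ∀ u w, QuadraticMap.polar QK (ι ∘ u) (ι ∘ w) = ι (QuadraticMap.polar Q u w) := fun u w => by
    have : ι ∘ u + ι ∘ w = ι ∘ (u + w) := funext fun i => (map_add ι _ _).symm
    simp only [QuadraticMap.polar, this, hev, map_sub]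
  have hext : ∀ (M : Matrix ((Fin n ⊕ Fin n) ⊕ Fin 2) ((Fin n ⊕ Fin n) ⊕ Fin 2) F),
      (∀ u, Q (M *ᵥ u) = Q u) → ∀ v, QK (M.map ι *ᵥ v) = QK v := by
    intro M hM v
    choose x y hxy using fun i => exists_coords hK hF hι hr (v i)
    have hv : v = ι ∘ x + (-r) • ι ∘ y := funext fun i => by simp [← hxy i]; ring
    have hMv : ∀ z, M.map ι *ᵥ (ι ∘ z) = ι ∘ (M *ᵥ z) := fun z =>
      funext fun i => (RingHom.map_mulVec ι M z i).symm
    have hp : QuadraticMap.polar Q (M *ᵥ x) (M *ᵥ y) = QuadraticMap.polar Q x y := by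
      simp only [QuadraticMap.polar, ← Matrix.mulVec_add, hM]
    rw [hv, Matrix.mulVec_add, Matrix.mulVec_smul, hMv, hMv]
    simp only [QuadraticMap.map_add QK, QuadraticMap.map_smul, QuadraticMap.polar_smul_right, hev,
      hpol, hM, hp]
  let T : ↥(Cfsg.isometryGroup F (Cfsg.quadFormMinus n F a b)) →*
      Module.End K (Fin (n + 1) ⊕ Fin (n + 1) → K) :=
    { toFun := fun M => g.toLinearMap ∘ₗ
        Matrix.mulVecLin ((M.1 : Matrix _ _ F).map ι) ∘ₗ g.symm.toLinearMap
      map_one' := LinearMap.ext fun v => by simp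
      map_mul' := fun M N => LinearMap.ext fun v => by
        simp [Matrix.map_mul, Matrix.mulVec_mulVec] }
  let ψ := ((LinearMap.toMatrixAlgEquiv' : _ ≃ₐ[K]
    Matrix (Fin (n + 1) ⊕ Fin (n + 1)) (Fin (n + 1) ⊕ Fin (n + 1)) K).toMonoidHom.comp T).toHomUnits
  have hψ : ∀ M v, (ψ M : Matrix (Fin (n + 1) ⊕ Fin (n + 1)) (Fin (n + 1) ⊕ Fin (n + 1)) K) *ᵥ v = T M v := fun M v => by
    show LinearMap.toMatrix' (T M) *ᵥ v = T M v
    exact LinearMap.toMatrix'_mulVec _ _
  refine ⟨ψ.codRestrict _ (fun M v _ => ?_), fun M N e' => ?_⟩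
  · show Cfsg.quadFormPlus _ K ((ψ M : Matrix (Fin (n + 1) ⊕ Fin (n + 1)) (Fin (n + 1) ⊕ Fin (n + 1)) K) *ᵥ v) = Cfsg.quadFormPlus _ K v
    rw [hψ]
    obtain ⟨u, rfl⟩ := g.surjective v
    simp only [T, MonoidHom.coe_mk, OneHom.coe_mk, LinearMap.comp_apply, LinearEquiv.coe_coe,
      LinearEquiv.symm_apply_apply, Matrix.mulVecLin_apply, hg, ← minusQ_coe]
    exact hext _ (fun w => by simp only [Q, minusQ_coe]; exact M.2 w w) u
  · refine Subtype.ext (Units.ext (Matrix.map_injective ι.injective
      (Matrix.toLin'.injective (LinearMap.ext fun u => ?_))))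
    have h1 : T M (g u) = T N (g u) := by
      rw [← hψ, ← hψ]
      exact congrArg (fun z : ↥(Cfsg.isometryGroup K (Cfsg.quadFormPlus (n + 1) K)) =>
        (z.1 : Matrix (Fin (n + 1) ⊕ Fin (n + 1)) (Fin (n + 1) ⊕ Fin (n + 1)) K) *ᵥ g u) e'
    simpa [T] using h1

end CfsgLib.Geo.ExtEmbed
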