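import Cfsg.Agent.Unitary.ConjugacyGL
import Mathlib.FieldTheory.Fixed
import Mathlib.LinearAlgebra.Matrix.GeneralLinearGroup.Card
import Mathlib.LinearAlgebra.Matrix.GeneralLinearGroup.Defs

/-!
Matrices fixed up to a scalar by a field automorphism of prime order.
-/

set_option autoImplicit false
set_option linter.style.haveILetI false

namespace CfsgLib.Geo.FieldTwist

open Matrix

variable {K : Type*} [Field K] (σ : K ≃+* K)

/-- The fixed field. -/
abbrev fix : Subfield K := FixedPoints.subfield (Subgroup.zpowers σ) K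

theorem mem_fix {x : K} : x ∈ fix σ ↔ σ x = x := by
  show (∀ g : Subgroup.zpowers σ, g • x = x) ↔ σ x = x
  refine ⟨fun h => h ⟨σ, Subgroup.mem_zpowers σ⟩, fun h => ?_⟩
  rintro ⟨g, k, rfl⟩
  have : σ ∈ MulAction.stabilizer (K ≃+* K) x := h
  exact Subgroup.zpow_mem _ this k

theorem card_fix [Finite K] {Q r : ℕ} (hr : r ≠ 0) (hσ : orderOf σ = r) (hK : Nat.card K = Q ^ r) :
    Nat.card (fix σ) = Q := by
  haveI : Finite (K ≃+* K) := Finite.of_injective (fun e : K ≃+* K => (e : K → K)) DFunLike.coe_injective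
  haveI : Fintype (Subgroup.zpowers σ) := Fintype.ofFinite _
  haveI : Module.Finite (fix σ) K := Module.Finite.of_finite
  have h1 : Module.finrank (fix σ) K = r := by
    rw [← hσ, ← Nat.card_zpowers, Nat.card_eq_fintype_card]
    exact FixedPoints.finrank_eq_card (Subgroup.zpowers σ) K
  have h2 := Module.natCard_eq_pow_finrank (K := fix σ) (V := K)
  rw [h1, hK] at h2
  exact (Nat.pow_left_injective hr h2).symm

variable {n : ℕ}

/-- Scalar matrices. -/
def scal (n : ℕ) : Kˣ →* GL (Fin n) K := Units.map (Matrix.scalar (Fin n)).toMonoidHom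

theorem scal_val (a : Kˣ) : (scal n a : Matrix (Fin n) (Fin n) K) = (a : K) • 1 := by
  show Matrix.scalar (Fin n) (a : K) = _
  rw [Matrix.scalar_apply, ← Matrix.smul_one_eq_diagonal]

theorem scal_mul_val (a : Kˣ) (g : GL (Fin n) K) :
    ((scal n a * g : GL (Fin n) K) : Matrix (Fin n) (Fin n) K) = (a : K) • (g : Matrix (Fin n) (Fin n) K) := by
  rw [Units.val_mul, scal_val, smul_mul_assoc, one_mul]

/-- The inclusion of `GL n` of the fixed field. -/
def incl (n : ℕ) : GL (Fin n) (fix σ) →* GL (Fin n) K := Matrix.GeneralLinearGroup.map (fix σ).subtype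

theorem incl_val (h : GL (Fin n) (fix σ)) :
    (incl σ n h : Matrix (Fin n) (Fin n) K) = (h : Matrix (Fin n) (Fin n) (fix σ)).map (fix σ).subtype :=
  rfl

theorem incl_injective : Function.Injective (incl σ n) := fun a b h =>
  Units.ext (Matrix.map_injective (fix σ).subtype.injective
    (congrArg (fun g : GL (Fin n) K => (g : Matrix (Fin n) (Fin n) K)) h))

theorem twist_mul (a : Kˣ) (h : GL (Fin n) (fix σ)) :
    ∃ c : K, c ≠ 0 ∧ ((scal n a * incl σ n h : GL (Fin n) K) : Matrix (Fin n) (Fin n) K).map σ =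
      c • ((scal n a * incl σ n h : GL (Fin n) K) : Matrix (Fin n) (Fin n) K) := by
  refine ⟨σ a / a, div_ne_zero ((_root_.map_ne_zero σ).mpr a.ne_zero) a.ne_zero, ?_⟩
  rw [scal_mul_val, incl_val]
  ext i j
  have e : σ ((h : Matrix (Fin n) (Fin n) (fix σ)) i j : K) = ((h : Matrix (Fin n) (Fin n) (fix σ)) i j : K) :=
    (mem_fix σ).mp ((h : Matrix (Fin n) (Fin n) (fix σ)) i j).2
  simp [e, ← mul_assoc, div_mul_cancel₀ _ a.ne_zero]

theorem exists_decomp (hn : 1 ≤ n) {g : GL (Fin n) K} {c : K}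
    (hg : (g : Matrix (Fin n) (Fin n) K).map σ = c • (g : Matrix (Fin n) (Fin n) K)) :
    ∃ (a : Kˣ) (h : GL (Fin n) (fix σ)), g = scal n a * incl σ n h := by
  haveI : Nonempty (Fin n) := ⟨⟨0, hn⟩⟩
  obtain ⟨i, j, hij⟩ : ∃ i j, (g : Matrix (Fin n) (Fin n) K) i j ≠ 0 := by
    by_contra h
    push Not at h
    exact g.ne_zero (Matrix.ext h)
  set a : K := (g : Matrix (Fin n) (Fin n) K) i j with ha
  have hc : ∀ k l, σ ((g : Matrix (Fin n) (Fin n) K) k l) = c * (g : Matrix (Fin n) (Fin n) K) k l :=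
    fun k l => congrFun (congrFun hg k) l
  have hfix : ∀ k l, (g : Matrix (Fin n) (Fin n) K) k l / a ∈ fix σ := fun k l => by
    have hσa : σ a = c * a := hc i j
    have hc0 : c ≠ 0 := fun h => hij ((_root_.map_eq_zero σ).mp (by rw [hσa, h, zero_mul]))
    rw [mem_fix, map_div₀, hc, hσa, mul_div_mul_left _ _ hc0]
  let H : Matrix (Fin n) (Fin n) (fix σ) := fun k l => ⟨_, hfix k l⟩
  have hH : a • H.map (fix σ).subtype = (g : Matrix (Fin n) (Fin n) K) := by
    ext k l
    show a * ((g : Matrix (Fin n) (Fin n) K) k l / a) = _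
    rw [mul_div_cancel₀ _ hij]
  have hdet : H.det ≠ 0 := by
    intro h0
    have := Matrix.GeneralLinearGroup.det g
    have h1 : (g : Matrix (Fin n) (Fin n) K).det ≠ 0 :=
      ((Matrix.isUnit_iff_isUnit_det _).mp g.isUnit).ne_zero
    rw [← hH, Matrix.det_smul, ← RingHom.mapMatrix_apply, ← RingHom.map_det, h0, map_zero, mul_zero] at h1
    exact h1 rfl
  refine ⟨Units.mk0 a hij, Matrix.GeneralLinearGroup.mkOfDetNeZero H hdet, Units.ext ?_⟩
  rw [scal_mul_val, incl_val]
  exact hH.symm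

/-- The product map. -/
def prodMap (A : Subgroup Kˣ) (H : Subgroup (GL (Fin n) (fix σ))) :
    A × H →* GL (Fin n) K where
  toFun x := scal n x.1 * incl σ n x.2
  map_one' := by simp
  map_mul' x y := by
    have hc : incl σ n x.2.1 * scal n y.1.1 = scal n y.1.1 * incl σ n x.2.1 :=
      Units.ext ((Matrix.scalar_commute _ (Commute.all _) _).eq).symm
    simp only [Prod.fst_mul, Prod.snd_mul, Subgroup.coe_mul, map_mul]
    rw [mul_assoc, ← mul_assoc (scal n y.1.1), ← hc]
    simp only [mul_assoc]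

theorem ker_card (hn : 1 ≤ n) (A : Subgroup Kˣ) (H : Subgroup (GL (Fin n) (fix σ)))
    (hH : ∀ (a : A) (b : (fix σ)ˣ), (b : K) * ((a : Kˣ) : K) = 1 →
      Units.map (Matrix.scalar (Fin n)).toMonoidHom b ∈ H) :
    Nat.card (prodMap σ A H).ker = Nat.card {a : A // ((a : Kˣ) : K) ∈ fix σ} := by
  haveI : Nonempty (Fin n) := ⟨⟨0, hn⟩⟩
  let i0 : Fin n := ⟨0, hn⟩
  refine Nat.card_eq_of_bijective (fun x => ⟨x.1.1, ?_⟩) ⟨?_, ?_⟩
  · have h : scal n x.1.1.1 * incl σ n x.1.2.1 = 1 := x.2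
    have hM : ((x.1.1.1 : Kˣ) : K) •
        (x.1.2.1 : Matrix (Fin n) (Fin n) (fix σ)).map (fix σ).subtype = 1 := by
      rw [← incl_val σ, ← scal_mul_val, h, Units.val_one]
    have h' := congrFun (congrFun hM i0) i0
    simp only [Matrix.smul_apply, Matrix.map_apply, Matrix.one_apply_eq, smul_eq_mul] at h'
    rw [show ((x.1.1 : Kˣ) : K) = ((fix σ).subtype ((x.1.2.1 : Matrix _ _ (fix σ)) i0 i0))⁻¹ from
      eq_inv_of_mul_eq_one_left h']
    exact inv_mem ((x.1.2.1 : Matrix _ _ (fix σ)) i0 i0).2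
  · intro x y h
    have h1 : x.1.1 = y.1.1 := congrArg Subtype.val h
    have hx : scal n x.1.1.1 * incl σ n x.1.2.1 = 1 := x.2
    have hy : scal n y.1.1.1 * incl σ n y.1.2.1 = 1 := y.2
    rw [h1, ← hy] at hx
    exact Subtype.ext (Prod.ext h1 (Subtype.ext (incl_injective σ (mul_left_cancel hx))))
  · rintro ⟨a, ha⟩
    let b : (fix σ)ˣ := Units.mk0 ⟨((a : Kˣ) : K)⁻¹, inv_mem ha⟩
      (fun h => inv_ne_zero (a : Kˣ).ne_zero (congrArg Subtype.val h))
    refine ⟨⟨⟨a, ⟨_, hH a b (by simp [b])⟩⟩, ?_⟩, rfl⟩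
    refine Units.ext ?_
    show ((scal n a.1 * incl σ n (Units.map (Matrix.scalar (Fin n)).toMonoidHom b) : GL (Fin n) K) :
      Matrix (Fin n) (Fin n) K) = 1
    rw [scal_mul_val, incl_val]
    show ((a : Kˣ) : K) • (Matrix.scalar (Fin n) (b : fix σ)).map (fix σ).subtype = 1
    rw [Matrix.scalar_apply, Matrix.diagonal_map (map_zero _)]
    ext k l
    rcases eq_or_ne k l with rfl | hkl
    · simp [b]
    · simp [Matrix.diagonal_apply_ne _ hkl, Matrix.one_apply_ne hkl]

theorem count (hn : 1 ≤ n) (A : Subgroup Kˣ) (H : Subgroup (GL (Fin n) (fix σ)))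
    (hH : ∀ (a : A) (b : (fix σ)ˣ), (b : K) * ((a : Kˣ) : K) = 1 →
      Units.map (Matrix.scalar (Fin n)).toMonoidHom b ∈ H) :
    Nat.card {a : A // ((a : Kˣ) : K) ∈ fix σ} * Nat.card (prodMap σ A H).range =
      Nat.card A * Nat.card H := by
  rw [← ker_card σ hn A H hH, ← Subgroup.index_ker, Subgroup.card_mul_index, Nat.card_prod]

theorem card_GL_twist [Finite K] {q₀ r : ℕ} (hr : r ≠ 0) (hn : 1 ≤ n) (hK : Nat.card K = q₀ ^ r)
    (hσ : orderOf σ = r) :
    Nat.card {g : GL (Fin n) K // ∃ c : K, c ≠ 0 ∧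
      (g : Matrix (Fin n) (Fin n) K).map σ = c • (g : Matrix (Fin n) (Fin n) K)} =
      (q₀ ^ r - 1) / (q₀ - 1) * ∏ i : Fin n, (q₀ ^ n - q₀ ^ (i : ℕ)) := by
  haveI : Fintype (fix σ) := Fintype.ofFinite _
  have hq : Nat.card (fix σ) = q₀ := card_fix σ hr hσ hK
  have h2 : 2 ≤ q₀ := hq ▸ Finite.one_lt_card
  have hc := count σ (n := n) hn ⊤ ⊤ (fun _ _ _ => trivial)
  have hker : Nat.card {a : (⊤ : Subgroup Kˣ) // ((a : Kˣ) : K) ∈ fix σ} = q₀ - 1 := by
    rw [← hq, ← Nat.card_units]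
    refine Nat.card_congr
      { toFun := fun a => Units.mk0 ⟨_, a.2⟩ (fun h => a.1.1.ne_zero (congrArg Subtype.val h))
        invFun := fun b => ⟨⟨Units.map (fix σ).subtype.toMonoidHom b, trivial⟩, (b : fix σ).2⟩
        left_inv := fun a => Subtype.ext (Subtype.ext (Units.ext rfl))
        right_inv := fun b => Units.ext rfl }
  rw [hker, Subgroup.card_top, Subgroup.card_top, Nat.card_units, hK, Matrix.card_GL_field,
    ← Nat.card_eq_fintype_card, hq] at hc
  have hset : Nat.card (prodMap σ (⊤ : Subgroup Kˣ) (⊤ : Subgroup (GL (Fin n) (fix σ)))).range =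
      Nat.card {g : GL (Fin n) K // ∃ c : K, c ≠ 0 ∧
        (g : Matrix (Fin n) (Fin n) K).map σ = c • (g : Matrix (Fin n) (Fin n) K)} := by
    have hiff : ∀ g : GL (Fin n) K,
        g ∈ (prodMap σ (⊤ : Subgroup Kˣ) (⊤ : Subgroup (GL (Fin n) (fix σ)))).range ↔
          ∃ c : K, c ≠ 0 ∧ (g : Matrix (Fin n) (Fin n) K).map σ = c • (g : Matrix (Fin n) (Fin n) K) := by
      intro g
      rw [MonoidHom.mem_range]
      constructor
      · rintro ⟨x, rfl⟩
        exact twist_mul σ (x.1 : Kˣ) (x.2 : GL (Fin n) (fix σ))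
      · rintro ⟨c, -, hg⟩
        obtain ⟨a, h, rfl⟩ := exists_decomp σ hn hg
        exact ⟨(⟨a, trivial⟩, ⟨h, trivial⟩), rfl⟩
    exact Nat.card_congr (Equiv.subtypeEquivRight hiff)
  rw [← hset]
  obtain ⟨d, hd⟩ : q₀ - 1 ∣ q₀ ^ r - 1 := Nat.sub_one_dvd_pow_sub_one q₀ r
  rw [hd, Nat.mul_div_cancel_left _ (by omega)]
  rw [hd, mul_assoc] at hc
  exact Nat.eq_of_mul_eq_mul_left (by omega) hc

open CfsgLib.Forms CfsgLib.Unitary

theorem card_GU_twist [Finite K] {q₀ q r : ℕ} (hr : Odd r) (hn : 1 ≤ n) (hq : q = q₀ ^ r)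
    (hK : Nat.card K = q ^ 2) (hσ : orderOf σ = r) :
    Nat.card {g : Cfsg.GU n K q // ∃ c : K, c ≠ 0 ∧
      ((g : GL (Fin n) K) : Matrix (Fin n) (Fin n) K).map σ =
        c • ((g : GL (Fin n) K) : Matrix (Fin n) (Fin n) K)} =
      (q + 1) / (q₀ + 1) * Nat.card (Cfsg.GU n (fix σ) q₀) := by
  have hK0 : Nat.card (fix σ) = q₀ ^ 2 :=
    card_fix σ (by rintro rfl; simp at hr) hσ (by rw [hK, hq, ← pow_mul, ← pow_mul, mul_comm])
  have hpow : ∀ x : fix σ, (x : K) ^ q = ((x ^ q₀ : fix σ) : K) := by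
    intro x
    rw [SubmonoidClass.coe_pow, hq]
    obtain ⟨k, rfl⟩ := hr
    clear hq hK hσ
    induction k with
    | zero => simp
    | succ k ih =>
      rw [show 2 * (k + 1) + 1 = (2 * k + 1) + 2 by ring, pow_add, pow_mul, ih, ← pow_mul,
        show q₀ * q₀ ^ 2 = q₀ ^ 2 * q₀ by ring, pow_mul,
        show (x : K) ^ (q₀ ^ 2) = x by
          rw [← hK0, ← SubmonoidClass.coe_pow]
          haveI : Fintype (fix σ) := Fintype.ofFinite _
          rw [Nat.card_eq_fintype_card, FiniteField.pow_card]]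
  have hmap : ∀ M : Matrix (Fin n) (Fin n) (fix σ),
      adj (frobQ hK) (M.map (fix σ).subtype) = (adj (frobQ hK0) M).map (fix σ).subtype := fun M => by
    ext i j
    simp only [adj, Matrix.transpose_apply, Matrix.map_apply, frobQ_apply, Subfield.coe_subtype]
    exact hpow _
  have hone : (1 : Matrix (Fin n) (Fin n) (fix σ)).map (fix σ).subtype = 1 :=
    Matrix.map_one _ (map_zero _) (map_one _)
  set A : Subgroup Kˣ := (powMonoidHom (q + 1) : Kˣ →* Kˣ).ker
  have hA : ∀ a : Kˣ, a ∈ A ↔ (a : K) ^ q * a = 1 := fun a => by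
    rw [← pow_succ, ← Units.val_pow_eq_pow_val, Units.val_eq_one]; rfl
  have hscal : ∀ (a : Kˣ) (h : GL (Fin n) (fix σ)),
      adj (frobQ hK) ((scal n a * incl σ n h : GL (Fin n) K) : Matrix (Fin n) (Fin n) K) *
        ((scal n a * incl σ n h : GL (Fin n) K) : Matrix (Fin n) (Fin n) K) =
      ((a : K) ^ q * a) • (adj (frobQ hK0) (h : Matrix (Fin n) (Fin n) (fix σ)) *
        (h : Matrix (Fin n) (Fin n) (fix σ))).map (fix σ).subtype := fun a h => by
    rw [scal_mul_val, adj_smul, smul_mul_smul_comm, incl_val, hmap, frobQ_apply, Matrix.map_mul]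
  have hH : ∀ (a : A) (b : (fix σ)ˣ), (b : K) * ((a : Kˣ) : K) = 1 →
      Units.map (Matrix.scalar (Fin n)).toMonoidHom b ∈ Cfsg.GU n (fix σ) q₀ := by
    intro a b hab
    rw [mem_GU_iff_adj hK0]
    show adj (frobQ hK0) (Matrix.scalar (Fin n) (b : fix σ)) * Matrix.scalar (Fin n) (b : fix σ) = 1
    rw [adj, Matrix.scalar_apply, Matrix.diagonal_map (map_zero _), Matrix.diagonal_transpose,
      Matrix.diagonal_mul_diagonal, ← Matrix.diagonal_one]
    congr 1
    funext k
    refine Subtype.ext ?_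
    rw [frobQ_apply, Subfield.coe_mul, Subfield.coe_one, ← hpow]
    calc ((b : fix σ) : K) ^ q * (b : fix σ) = ((b : fix σ) : K) ^ q * (b : fix σ) *
          (((a : Kˣ) : K) ^ q * (a : Kˣ)) := by rw [(hA _).mp a.2, mul_one]
      _ = (((b : fix σ) : K) * (a : Kˣ)) ^ q * (((b : fix σ) : K) * (a : Kˣ)) := by rw [mul_pow]; ring
      _ = 1 := by rw [hab, one_pow, one_mul]
  have hc := count σ hn A (Cfsg.GU n (fix σ) q₀) hH
  have hker : Nat.card {a : A // ((a : Kˣ) : K) ∈ fix σ} = q₀ + 1 := by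
    have : Nat.card {a : A // ((a : Kˣ) : K) ∈ fix σ} =
        Nat.card (powMonoidHom (q₀ + 1) : (fix σ)ˣ →* (fix σ)ˣ).ker := by
      have hiff : ∀ b : (fix σ)ˣ, b ^ (q₀ + 1) = 1 ↔ ((b : fix σ) : K) ^ q * (b : fix σ) = 1 := fun b => by
        rw [hpow, ← Subfield.coe_mul, ← pow_succ, Units.ext_iff, Units.val_pow_eq_pow_val, Units.val_one]
        exact (OneMemClass.coe_eq_one).symm
      refine Nat.card_congr
        { toFun := fun a => ⟨Units.mk0 ⟨_, a.2⟩ (fun h => a.1.1.ne_zero (congrArg Subtype.val h)),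
            (hiff _).mpr ((hA _).mp a.1.2)⟩
          invFun := fun b => ⟨⟨Units.map (fix σ).subtype.toMonoidHom b.1,
            (hA _).mpr ((hiff _).mp b.2)⟩, (b.1 : fix σ).2⟩
          left_inv := fun a => Subtype.ext (Subtype.ext (Units.ext rfl))
          right_inv := fun b => Subtype.ext (Units.ext rfl) }
    rw [this, IsCyclic.card_powMonoidHom_ker, card_units_eq hK0, Nat.gcd_mul_right_left]
  have hAcard : Nat.card A = q + 1 := by
    rw [IsCyclic.card_powMonoidHom_ker, card_units_eq hK, Nat.gcd_mul_right_left]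
  have hset : Nat.card (prodMap σ A (Cfsg.GU n (fix σ) q₀)).range =
      Nat.card {g : Cfsg.GU n K q // ∃ c : K, c ≠ 0 ∧
        ((g : GL (Fin n) K) : Matrix (Fin n) (Fin n) K).map σ =
          c • ((g : GL (Fin n) K) : Matrix (Fin n) (Fin n) K)} := by
    suffices hiff : ∀ g : GL (Fin n) K, g ∈ (prodMap σ A (Cfsg.GU n (fix σ) q₀)).range ↔
        g ∈ Cfsg.GU n K q ∧ ∃ c : K, c ≠ 0 ∧
          (g : Matrix (Fin n) (Fin n) K).map σ = c • (g : Matrix (Fin n) (Fin n) K) from
      Nat.card_congr ((Equiv.subtypeEquivRight hiff).trans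
        (Equiv.subtypeSubtypeEquivSubtypeInter (fun g : GL (Fin n) K => g ∈ Cfsg.GU n K q)
          fun g : GL (Fin n) K => ∃ c : K, c ≠ 0 ∧
            (g : Matrix (Fin n) (Fin n) K).map σ = c • (g : Matrix (Fin n) (Fin n) K)).symm)
    intro g
    rw [MonoidHom.mem_range]
    constructor
    · rintro ⟨⟨a, h⟩, rfl⟩
      refine ⟨?_, twist_mul σ (a : Kˣ) (h : GL (Fin n) (fix σ))⟩
      rw [mem_GU_iff_adj hK]
      show adj (frobQ hK) ((scal n a.1 * incl σ n h.1 : GL (Fin n) K) : Matrix (Fin n) (Fin n) K) *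
        ((scal n a.1 * incl σ n h.1 : GL (Fin n) K) : Matrix (Fin n) (Fin n) K) = 1
      rw [hscal, (hA _).mp a.2, one_smul, (mem_GU_iff_adj hK0).mp h.2, hone]
    · rintro ⟨hg, c, -, hgc⟩
      obtain ⟨a, h, rfl⟩ := exists_decomp σ hn hgc
      rw [mem_GU_iff_adj hK, hscal] at hg
      set M := adj (frobQ hK0) (h : Matrix (Fin n) (Fin n) (fix σ)) * (h : Matrix (Fin n) (Fin n) (fix σ))
      let i0 : Fin n := ⟨0, hn⟩
      have h00 : ((a : K) ^ q * a) * (M i0 i0 : K) = 1 := by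
        have := congrFun (congrFun hg i0) i0
        simpa using this
      have hμ0 : M i0 i0 ≠ 0 := fun e => by rw [e] at h00; simp at h00
      have hM : M = M i0 i0 • 1 := by
        refine Matrix.map_injective (fix σ).subtype.injective ?_
        show M.map (fix σ).subtype = (M i0 i0 • (1 : Matrix (Fin n) (Fin n) (fix σ))).map (fix σ).subtype
        have hne : ((a : K) ^ q * a) ≠ 0 := fun e => by rw [e, zero_mul] at h00; exact zero_ne_one h00
        refine smul_right_injective _ hne ?_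
        show ((a : K) ^ q * a) • _ = _
        rw [hg]
        ext i j
        rcases eq_or_ne i j with rfl | hij
        · simp [h00]
        · simp [Matrix.one_apply_ne hij]
      have hμfix : frobQ hK0 (M i0 i0) = M i0 i0 := by
        have e : adj (frobQ hK0) M = M := by
          rw [show M = adj (frobQ hK0) (h : Matrix (Fin n) (Fin n) (fix σ)) * _ from rfl, adj_mul,
            adj_adj (frobQ_invol hK0)]
        exact congrFun (congrFun e i0) i0
      obtain ⟨ν, hν⟩ := finite_norm_surjective (frobQ_ne_id hK0) (frobQ_invol hK0) (M i0 i0)⁻¹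
        (by rw [map_inv₀, hμfix]) (inv_ne_zero hμ0)
      have hν0 : ν ≠ 0 := fun e => inv_ne_zero hμ0 (by rw [← hν, e, zero_mul])
      let u : (fix σ)ˣ := Units.mk0 ν hν0
      let uK : Kˣ := Units.map (fix σ).subtype.toMonoidHom u
      refine ⟨(⟨a * uK⁻¹, ?_⟩, ⟨Units.map (Matrix.scalar (Fin n)).toMonoidHom u * h, ?_⟩), ?_⟩
      · rw [hA]
        have hνK : ((ν : K) ^ q) * ν * (M i0 i0 : K) = 1 := by
          rw [hpow, ← Subfield.coe_mul, ← Subfield.coe_mul, ← Subfield.coe_one]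
          congr 1
          rw [← frobQ_apply hK0, mul_comm (frobQ hK0 ν), hν, inv_mul_cancel₀ hμ0]
        have hu : ((uK : Kˣ) : K) = (ν : K) := rfl
        rw [Units.val_mul, Units.val_inv_eq_inv_val, hu]
        have hνne : (ν : K) ≠ 0 := fun e => hν0 (Subtype.ext e)
        rw [mul_pow, inv_pow]
        field_simp
        linear_combination ((ν : K) ^ q * ν) * h00 - ((a : K) ^ q * a) * hνK
      · rw [mem_GU_iff_adj hK0, Units.val_mul]
        have e : ((Units.map (Matrix.scalar (Fin n)).toMonoidHom u : GL (Fin n) (fix σ)) :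
            Matrix (Fin n) (Fin n) (fix σ)) = ν • 1 := by
          show Matrix.scalar (Fin n) ν = _
          rw [Matrix.scalar_apply, ← Matrix.smul_one_eq_diagonal]
        rw [e, smul_mul_assoc, one_mul, adj_smul, smul_mul_smul_comm, mul_comm, hν]
        conv_lhs => arg 2; change M; rw [hM]
        rw [smul_smul, inv_mul_cancel₀ hμ0, one_smul]
      · show scal n (a * uK⁻¹) * incl σ n (Units.map (Matrix.scalar (Fin n)).toMonoidHom u * h) =
          scal n a * incl σ n h
        have e : incl σ n (Units.map (Matrix.scalar (Fin n)).toMonoidHom u) = scal n uK := by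
          refine Units.ext ?_
          rw [incl_val]
          show (Matrix.scalar (Fin n) ν).map (fix σ).subtype = Matrix.scalar (Fin n) (ν : K)
          rw [Matrix.scalar_apply, Matrix.scalar_apply, Matrix.diagonal_map (map_zero _)]
          rfl
        rw [map_mul, map_mul, e, map_inv, mul_assoc, inv_mul_cancel_left]
  obtain ⟨d, hd⟩ : q₀ + 1 ∣ q + 1 := by
    rw [hq]
    simpa using hr.nat_add_dvd_pow_add_pow q₀ 1
  rw [← hset, hd, Nat.mul_div_cancel_left _ (by omega)]
  rw [hker, hAcard, hd, mul_assoc] at hc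
  exact Nat.eq_of_mul_eq_mul_left (by omega) hc

end CfsgLib.Geo.FieldTwist
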