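import Cfsg.Agent.QuadStd.Split
import Cfsg.Agent.Quad.Plane
import Cfsg.Agent.AutPOm.Types
import Mathlib

/-!
Value counts of quadratic forms of even dimension over finite fields, and their types.
-/

set_option autoImplicit false
set_option linter.style.haveILetI false
set_option linter.unusedSectionVars false

namespace CfsgLib.Geo.OCounts

open QuadraticMap CfsgLib.Quad

variable {F : Type*} [Field F] [Fintype F]

local notation "qF" => (Nat.card F : ℤ)

/-- Value counts of the type with sign `ε` in dimension `2k`. -/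
def EType {V : Type*} (Q : V → F) (k : ℕ) (ε : ℤ) : Prop :=
  (∀ c : F, c ≠ 0 → qF * Nat.card {v // Q v = c} = qF ^ (2 * k) - ε * qF ^ k) ∧
    qF * Nat.card {v // Q v = 0} = qF ^ (2 * k) + ε * (qF ^ (k + 1) - qF ^ k)

theorem EType.congr {V W : Type*} {Q : V → F} {Q' : W → F} (e : V ≃ W) (he : ∀ v, Q' (e v) = Q v)
    {k : ℕ} {ε : ℤ} (h : EType Q k ε) : EType Q' k ε := by
  have hc : ∀ c, Nat.card {v // Q' v = c} = Nat.card {v // Q v = c} := fun c =>
    (Nat.card_congr (Equiv.subtypeEquiv e fun v => by rw [he])).symm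
  exact ⟨fun c hc' => by rw [hc]; exact h.1 c hc', by rw [hc]; exact h.2⟩

theorem one_lt_card : 1 < qF := by exact_mod_cast Finite.one_lt_card

theorem EType.unique {V : Type*} {Q : V → F} {k : ℕ} {ε ε' : ℤ} (h : EType Q k ε) (h' : EType Q k ε') : ε = ε' := by
  have h2 := h.2.symm.trans h'.2
  have hq := one_lt_card (F := F)
  have hne : qF ^ (k + 1) - qF ^ k ≠ 0 := by
    rw [pow_succ, ← mul_sub_one]
    exact mul_ne_zero (pow_ne_zero _ (by omega)) (by omega)
  exact mul_right_cancel₀ hne (add_left_cancel h2)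

theorem etype_point {V : Type*} [Unique V] {Q : V → F} (h : Q default = 0) : EType Q 0 1 := by
  refine ⟨fun c hc => ?_, ?_⟩
  · haveI : IsEmpty {v // Q v = c} := ⟨fun v => hc (by rw [← v.2, Unique.eq_default v.1, h])⟩
    simp
  · haveI : Unique {v // Q v = 0} := ⟨⟨⟨default, h⟩⟩, fun v => Subtype.ext (Unique.eq_default _)⟩
    rw [Nat.card_unique (α := {v // Q v = 0})]; simp

/-- Adding a binary form with constant nonzero fibres. -/
theorem etype_add {V W P : Type*} [Finite W] [Finite P] {Q : V → F} {QW : W → F} {QP : P → F}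
    (e : V ≃ W × P) (he : ∀ v, Q v = QW (e v).1 + QP (e v).2) {s : ℤ} (hs : s * s = 1)
    (hP : Nat.card P = Nat.card F ^ 2) (hfib : ∀ c : F, c ≠ 0 → (Nat.card {z // QP z = c} : ℤ) = qF - s)
    {k : ℕ} {ε : ℤ} (hW : EType QW k ε) (hWc : Nat.card W = Nat.card F ^ (2 * k)) : EType Q (k + 1) (s * ε) := by
  classical
  haveI := Fintype.ofFinite W
  haveI := Fintype.ofFinite P
  let N0 : ℤ := Nat.card {z // QP z = 0}
  have hsum : N0 + (qF - 1) * (qF - s) = qF ^ 2 := by
    have h1 : Nat.card P = ∑ c : F, Nat.card {z // QP z = c} := by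
      rw [← Nat.card_congr (Equiv.sigmaFiberEquiv QP), Nat.card_sigma]
    have h2 : (Nat.card P : ℤ) = ∑ c : F, (Nat.card {z // QP z = c} : ℤ) := by rw [h1, Nat.cast_sum]
    rw [← Finset.add_sum_erase _ _ (Finset.mem_univ (0 : F)),
      Finset.sum_congr rfl fun c hc => hfib c (Finset.ne_of_mem_erase hc), Finset.sum_const,
      Finset.card_erase_of_mem (Finset.mem_univ _), Finset.card_univ, nsmul_eq_mul, hP] at h2
    rw [show N0 = (Nat.card {z // QP z = 0} : ℤ) from rfl]
    push_cast [← Nat.card_eq_fintype_card] at h2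
    have h3 : ((Nat.card F - 1 : ℕ) : ℤ) = qF - 1 := by
      have := Nat.card_pos (α := F); omega
    rw [h3] at h2
    linarith
  have hfib' : ∀ c : F, (Nat.card {z // QP z = c} : ℤ) = if c = 0 then N0 else qF - s := fun c => by
    split_ifs with h
    · rw [h]
    · exact hfib c h
  have key : ∀ c : F, (Nat.card {v // Q v = c} : ℤ) =
      Nat.card {w // QW w = c} * N0 + (qF ^ (2 * k) - Nat.card {w // QW w = c}) * (qF - s) := by
    intro c
    have e1 : {v // Q v = c} ≃ Σ w : W, {z : P // QP z = c - QW w} :=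
      { toFun := fun v => ⟨(e v.1).1, (e v.1).2, by
          have := v.2; rw [he] at this; exact eq_sub_of_add_eq' this⟩
        invFun := fun x => ⟨e.symm (x.1, x.2.1), by
          rw [he, Equiv.apply_symm_apply]; show QW x.1 + QP x.2.1 = c; rw [x.2.2, add_sub_cancel]⟩
        left_inv := fun v => Subtype.ext (e.symm_apply_apply _)
        right_inv := fun x => Sigma.subtype_ext (by simp) (by simp) }
    rw [Nat.card_congr e1, Nat.card_sigma, Nat.cast_sum, Finset.sum_congr rfl fun w _ => hfib' (c - QW w),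
      Finset.sum_ite, Finset.sum_const, Finset.sum_const, nsmul_eq_mul, nsmul_eq_mul]
    have hA : (Finset.univ.filter fun w => c - QW w = 0).card = Nat.card {w // QW w = c} := by
      rw [Nat.card_eq_fintype_card, Fintype.card_subtype]
      congr 1; ext w; simp [sub_eq_zero, eq_comm]
    have hB : ((Finset.univ.filter fun w => c - QW w = 0).card : ℤ) +
        (Finset.univ.filter fun w => ¬ c - QW w = 0).card = qF ^ (2 * k) := by
      rw [← Nat.cast_add, Finset.card_filter_add_card_filter_not, Finset.card_univ, ← Nat.card_eq_fintype_card, hWc,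
        Nat.cast_pow]
    rw [hA] at hB ⊢
    rw [show ((Finset.univ.filter fun w => ¬ c - QW w = 0).card : ℤ) = qF ^ (2 * k) - Nat.card {w // QW w = c} by
      linarith]
  refine ⟨fun c hc => ?_, ?_⟩
  · have h := hW.1 c hc
    rw [key, show N0 = qF ^ 2 - (qF - 1) * (qF - s) by linarith,
      show 2 * (k + 1) = 2 * k + 1 + 1 by ring, pow_succ, pow_succ]
    linear_combination (qF ^ 2 - (qF - 1) * (qF - s) - (qF - s)) * h
  · have h := hW.2
    rw [key, show N0 = qF ^ 2 - (qF - 1) * (qF - s) by linarith,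
      show 2 * (k + 1) = 2 * k + 1 + 1 by ring, pow_succ _ (2 * k + 1), pow_succ _ (2 * k), pow_succ _ (k + 1),
      pow_succ _ k] at *
    linear_combination (qF ^ 2 - (qF - 1) * (qF - s) - (qF - s)) * h

theorem card_mul_fibre {c : F} (hc : c ≠ 0) :
    (Nat.card {z : F × F // z.1 * z.2 = c} : ℤ) = qF - 1 := by
  classical
  let e : {z : F × F // z.1 * z.2 = c} ≃ {x : F // x ≠ 0} :=
    { toFun := fun z => ⟨z.1.1, left_ne_zero_of_mul (by rw [z.2]; exact hc : z.1.1 * z.1.2 ≠ 0)⟩
      invFun := fun x => ⟨(x.1, c / x.1), mul_div_cancel₀ _ x.2⟩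
      left_inv := fun z => Subtype.ext (Prod.ext rfl (by
        have h0 : z.1.1 ≠ 0 := left_ne_zero_of_mul (by rw [z.2]; exact hc : z.1.1 * z.1.2 ≠ 0)
        show c / z.1.1 = z.1.2
        rw [div_eq_iff h0, mul_comm]; exact z.2.symm))
      right_inv := fun x => rfl }
  rw [Nat.card_congr e, Nat.card_eq_fintype_card, Fintype.card_subtype_compl, Fintype.card_subtype_eq,
    ← Nat.card_eq_fintype_card, Nat.cast_sub Nat.card_pos]
  rfl

theorem card_plane_fibre {a b : F} (hab : ∀ z₁ z₂ : F, z₁ ^ 2 + a * z₁ * z₂ + b * z₂ ^ 2 = 0 → z₁ = 0 ∧ z₂ = 0)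
    {c : F} (hc : c ≠ 0) : (Nat.card {z : F × F // planeQ a b z = c} : ℤ) = qF - (-1) := by
  obtain ⟨u, hu⟩ := planeQ_surjective hab c
  have hinj : Function.Injective (pmul a b u) := by
    rw [← LinearMap.ker_eq_bot, LinearMap.ker_eq_bot']
    intro z hz
    have h := planeQ_pmul a b u z
    rw [hz, QuadraticMap.map_zero, hu] at h
    exact planeQ_eq_zero hab ((mul_eq_zero.1 h.symm).resolve_left hc)
  let f : {z : F × F // planeQ a b z = 1} → {z : F × F // planeQ a b z = c} := fun z =>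
    ⟨pmul a b u z.1, by rw [planeQ_pmul, hu, z.2, mul_one]⟩
  have hf : Function.Bijective f := by
    refine ⟨fun x y h => Subtype.ext (hinj (congrArg Subtype.val h)), fun z => ?_⟩
    obtain ⟨w, hw⟩ := Finite.injective_iff_surjective.1 hinj z.1
    have h := planeQ_pmul a b u w
    rw [hw, z.2, hu] at h
    exact ⟨⟨w, (mul_eq_left₀ hc).1 h.symm⟩, Subtype.ext hw⟩
  rw [← Nat.card_eq_of_bijective f hf, card_planeQ_one hab rfl, sub_neg_eq_add]
  push_cast; rfl

theorem etype_plus : ∀ m : ℕ, EType (⇑(plusQ (F := F) m)) m 1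
  | 0 => etype_point (by
      rw [show (default : Fin 0 ⊕ Fin 0 → F) = 0 from Subsingleton.elim _ _]; exact QuadraticMap.map_zero _)
  | m + 1 => by
    have h := etype_add (V := Fin (m + 1) ⊕ Fin (m + 1) → F) (Q := ⇑(plusQ (F := F) (m + 1)))
      (QW := ⇑(plusQ (F := F) m)) (QP := fun z : F × F => z.1 * z.2) (s := 1)
      ((plusSplit (F := F) m).toEquiv.trans (Equiv.prodComm _ _))
      (fun v => by rw [← plusSplit_apply, hypSum_apply, add_comm]; rfl) (one_mul 1)
      (by rw [Nat.card_prod, pow_two]) (fun c hc => card_mul_fibre hc) (etype_plus m)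
      (by rw [Nat.card_fun, Nat.card_sum, Nat.card_fin]; ring_nf)
    rwa [one_mul] at h

theorem etype_minus {a b : F} (hab : ∀ z₁ z₂ : F, z₁ ^ 2 + a * z₁ * z₂ + b * z₂ ^ 2 = 0 → z₁ = 0 ∧ z₂ = 0) :
    ∀ m : ℕ, EType (⇑(minusQ (F := F) m a b)) (m + 1) (-1)
  | 0 => by
    let e : ((Fin 0 ⊕ Fin 0) ⊕ Fin 2 → F) ≃ PUnit.{1} × (F × F) :=
      { toFun := fun v => (PUnit.unit.{1}, v (Sum.inr 0), v (Sum.inr 1))
        invFun := fun x => Sum.elim (fun i => Sum.elim (fun j => j.elim0) (fun j => j.elim0) i) ![x.2.1, x.2.2]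
        left_inv := fun v => by
          funext i
          rcases i with (i | i) | i
          · exact i.elim0
          · exact i.elim0
          · fin_cases i <;> rfl
        right_inv := fun x => rfl }
    have h := etype_add (Q := ⇑(minusQ (F := F) 0 a b)) (QW := fun _ : PUnit => (0 : F))
      (QP := ⇑(planeQ a b)) (s := -1) e (fun v => by
        show minusQ 0 a b v = 0 + planeQ a b (v (Sum.inr 0), v (Sum.inr 1))
        rw [minusQ_coe, planeQ_apply]; simp [Cfsg.quadFormMinus]) (by norm_num)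
      (by rw [Nat.card_prod, pow_two]) (fun c hc => card_plane_fibre hab hc) (etype_point rfl) (by simp)
    rwa [mul_one] at h
  | m + 1 => by
    have h := etype_add (Q := ⇑(minusQ (F := F) (m + 1) a b))
      (QW := ⇑(minusQ (F := F) m a b)) (QP := fun z : F × F => z.1 * z.2) (s := 1)
      ((minusSplit (F := F) m).toEquiv.trans (Equiv.prodComm _ _))
      (fun v => by rw [← minusSplit_apply, hypSum_apply, add_comm]; rfl) (one_mul 1)
      (by rw [Nat.card_prod, pow_two]) (fun c hc => card_mul_fibre hc) (etype_minus hab m)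
      (by rw [Nat.card_fun, Nat.card_sum, Nat.card_sum, Nat.card_fin, Nat.card_fin]; ring_nf)
    rwa [one_mul] at h

theorem exists_etype {V : Type*} [AddCommGroup V] [Module F V] [FiniteDimensional F V] {Q : QuadraticForm F V}
    (hQ : (polarBilin Q).Nondegenerate) {k : ℕ} (hV : Module.finrank F V = 2 * k) :
    ∃ ε : ℤ, (ε = 1 ∨ ε = -1) ∧ EType (⇑Q) k ε := by
  rcases CfsgLib.QuadStd.classify_even hQ hV with ⟨φ, hφ⟩ | ⟨ζ, φ, hk, hζ, hφ⟩
  · exact ⟨1, Or.inl rfl, (etype_plus k).congr φ.symm.toEquiv fun v => by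
      show Q (φ.symm v) = _; rw [hφ, φ.apply_symm_apply]⟩
  · refine ⟨-1, Or.inr rfl, ?_⟩
    have h := (etype_minus (CfsgLib.QuadStd.plane_aniso hζ) (k - 1)).congr φ.symm.toEquiv (Q' := ⇑Q) fun v => by
      show Q (φ.symm v) = _; rw [hφ, φ.apply_symm_apply]
    rwa [Nat.sub_add_cancel hk] at h

/-- The type determines the form. -/
theorem exists_equiv {V W : Type*} [AddCommGroup V] [Module F V] [FiniteDimensional F V] [AddCommGroup W]
    [Module F W] [FiniteDimensional F W] {Q : QuadraticForm F V} (hQ : (polarBilin Q).Nondegenerate)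
    {Q' : QuadraticForm F W} (hQ' : (polarBilin Q').Nondegenerate) {k : ℕ} (hV : Module.finrank F V = 2 * k)
    (hW : Module.finrank F W = 2 * k) {ε : ℤ} (hE : EType (⇑Q) k ε) (hE' : EType (⇑Q') k ε) :
    ∃ φ : V ≃ₗ[F] W, ∀ v, Q' (φ v) = Q v := by
  rcases CfsgLib.QuadStd.classify_even hQ hV with ⟨φ, hφ⟩ | ⟨ζ, φ, hk, hζ, hφ⟩ <;>
    rcases CfsgLib.QuadStd.classify_even hQ' hW with ⟨ψ, hψ⟩ | ⟨ζ', ψ, hk', hζ', hψ⟩
  · exact ⟨φ.trans ψ.symm, fun v => by rw [hψ, LinearEquiv.trans_apply, ψ.apply_symm_apply, hφ]⟩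
  · exfalso
    have h1 := hE.unique ((etype_plus k).congr φ.symm.toEquiv fun v => by
      show Q (φ.symm v) = _; rw [hφ, φ.apply_symm_apply])
    have h2 := (etype_minus (CfsgLib.QuadStd.plane_aniso hζ') (k - 1)).congr ψ.symm.toEquiv (Q' := ⇑Q') fun v => by
      show Q' (ψ.symm v) = _; rw [hψ, ψ.apply_symm_apply]
    rw [Nat.sub_add_cancel hk'] at h2
    have := hE'.unique h2
    omega
  · exfalso
    have h1 := hE'.unique ((etype_plus k).congr ψ.symm.toEquiv fun v => by
      show Q' (ψ.symm v) = _; rw [hψ, ψ.apply_symm_apply])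
    have h2 := (etype_minus (CfsgLib.QuadStd.plane_aniso hζ) (k - 1)).congr φ.symm.toEquiv (Q' := ⇑Q) fun v => by
      show Q (φ.symm v) = _; rw [hφ, φ.apply_symm_apply]
    rw [Nat.sub_add_cancel hk] at h2
    have := hE.unique h2
    omega
  · obtain ⟨χ, hχ⟩ := CfsgLib.AutPOm.minusQ_isometric (k - 1) (CfsgLib.QuadStd.plane_aniso hζ')
      (CfsgLib.QuadStd.plane_aniso hζ)
    exact ⟨φ.trans (χ.trans ψ.symm), fun v => by
      rw [hψ, LinearEquiv.trans_apply, LinearEquiv.trans_apply, ψ.apply_symm_apply, hχ, hφ]⟩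

/-- A fixed-point-free isometry of odd prime order determines the type. -/
theorem etype_forced {V : Type*} [AddCommGroup V] [Module F V] [Finite V] {Q : QuadraticForm F V} {k : ℕ} {ε : ℤ}
    (hE : EType (⇑Q) k ε) {r : ℕ} [Fact r.Prime] (g : V ≃ₗ[F] V) (hg : ∀ v, Q (g v) = Q v)
    (hgr : ∀ v, (g^[r]) v = v) (hfix : ∀ v, g v = v → v = 0)
    (hq2k : ((Nat.card F : ℕ) : ZMod r) ^ (2 * k) = 1) :
    (ε : ZMod r) * ((Nat.card F : ℕ) : ZMod r) ^ k = 1 := by
  classical
  haveI := Fintype.ofFinite V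
  have hdiv : Nat.card {v // Q v = 1} % r = 0 := by
    let σ : Equiv.Perm {v // Q v = 1} := g.toEquiv.subtypeEquiv fun v => by
      show Q v = 1 ↔ Q (g v) = 1; rw [hg]
    have hσ : ∀ (n : ℕ) x, ((σ ^ n) x).1 = (g^[n]) x.1 := by
      intro n
      induction n with
      | zero => intro x; rfl
      | succ n ih => intro x; rw [pow_succ', Function.iterate_succ_apply']; show g ((σ ^ n) x).1 = _; rw [ih]
    have h1 : σ ^ r ^ 1 = 1 := by
      rw [pow_one]; refine Equiv.Perm.ext fun x => Subtype.ext ?_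
      rw [hσ, hgr]; rfl
    have h2 := Equiv.Perm.card_compl_support_modEq h1
    have h3 : σ.supportᶜ = ∅ := by
      refine Finset.eq_empty_of_forall_notMem fun x hx => ?_
      rw [Finset.mem_compl, Equiv.Perm.notMem_support] at hx
      have h4 := hfix x.1 (congrArg Subtype.val hx)
      have h5 := x.2
      rw [h4, QuadraticMap.map_zero] at h5
      exact zero_ne_one h5
    rw [h3, Finset.card_empty] at h2
    rw [Nat.card_eq_fintype_card]
    exact h2.symm
  have h := congrArg (Int.cast : ℤ → ZMod r) (hE.1 1 one_ne_zero)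
  push_cast at h
  rw [show ((Nat.card {v // Q v = 1} : ℕ) : ZMod r) = 0 from
    (ZMod.natCast_eq_zero_iff _ _).2 (Nat.dvd_of_mod_eq_zero hdiv), mul_zero, hq2k] at h
  exact (sub_eq_zero.1 h.symm).symm

end CfsgLib.Geo.OCounts
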