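import Cfsg.Agent.Geo.PrimeSelfDual

/-!
Classes of order `r` in groups where only some self-dual weights occur.
-/

set_option autoImplicit false
set_option linter.style.haveILetI false
set_option linter.unusedSectionVars false

namespace CfsgLib.Geo.PrimeSD

open Polynomial UniqueFactorizationMonoid CfsgLib.Geo.USemi
open CfsgLib.GLClass (rootFactors mem_rootFactors rootFactors_spec)

variable {K : Type*} [Field K] [Fintype K] (p : ℕ) [Fact p.Prime] [CharP K p] (r : ℕ) [Fact r.Prime]

/-- Duality on the factors. -/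
noncomputable def dmap (hrp : r.Coprime p) (σ : K →+* K) {k : ℕ} (hσ : ∀ a, σ a = a ^ p ^ k)
    (P : rootFactors K r) : rootFactors K r :=
  ⟨dual σ P.1, (dual_rootFactor p r hrp σ hσ P.2).1⟩

theorem dmap_dmap (hrp : r.Coprime p) (σ : K →+* K) (hσσ : ∀ a, σ (σ a) = a) {k : ℕ}
    (hσ : ∀ a, σ a = a ^ p ^ k) (P : rootFactors K r) : dmap p r hrp σ hσ (dmap p r hrp σ hσ P) = P := by
  refine Subtype.ext (dual_dual σ hσσ (mem_rootFactors P.2).1 ?_)
  refine CfsgLib.GLClass.coeff_zero_ne_of_dvd (mem_rootFactors P.2).2.2 ?_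
  rw [cyclotomic_coeff_zero K (Fact.out : r.Prime).one_lt]; exact one_ne_zero

theorem dual_wpoly (hrp : r.Coprime p) (σ : K →+* K) (hσσ : ∀ a, σ (σ a) = a) {k : ℕ}
    (hσ : ∀ a, σ a = a ^ p ^ k) {i N : ℕ} (m : Wt (dmap p r hrp σ hσ) i N) :
    dual σ (wpoly r i N m.1) = wpoly r i N m.1 := by
  classical
  let De : Equiv.Perm (rootFactors K r) :=
    ⟨dmap p r hrp σ hσ, dmap p r hrp σ hσ, dmap_dmap p r hrp σ hσσ hσ, dmap_dmap p r hrp σ hσσ hσ⟩
  show dualHom σ _ = _
  rw [wpoly, map_mul, map_pow, map_prod, show dualHom σ (X - C 1) = X - C 1 from dual_X_sub_one σ]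
  congr 1
  rw [← Equiv.prod_comp De (fun P => (P : K[X]) ^ m.1 P)]
  refine Finset.prod_congr rfl fun P _ => ?_
  show dualHom σ _ = (dmap p r hrp σ hσ P : K[X]) ^ m.1 (dmap p r hrp σ hσ P)
  rw [map_pow, m.2.1]; rfl

theorem dvd_X_pow_sub_one (P : K[X]) (hPm : P.Monic) (hP : Irreducible P) :
    P ∣ X ^ r - 1 ↔ P = X - C 1 ∨ P ∈ rootFactors K r := by
  rw [← cyclotomic_prime_mul_X_sub_one K r, ← C_1]
  constructor
  · intro h
    rcases hP.prime.dvd_or_dvd h with h | h
    · exact Or.inr (mem_rootFactors_of r hPm hP h)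
    · exact Or.inl (eq_of_monic_of_associated hPm (monic_X_sub_C 1) (hP.associated_of_dvd (irreducible_X_sub_C 1) h))
  · rintro (rfl | h)
    · exact dvd_mul_left _ _
    · exact (mem_rootFactors h).2.2.trans (dvd_mul_right _ _)

/-- The elements with a given weight. -/
theorem exists_weight (hrp : r.Coprime p) (σ : K →+* K) (hσσ : ∀ a, σ (σ a) = a) {k : ℕ}
    (hσ : ∀ a, σ a = a ^ p ^ k) {N : ℕ} {i : ℕ} (hi : i = orderOf ((Fintype.card K : ℕ) : ZMod r))
    {x : GL (Fin N) K} (hx : x ^ r = 1) (hdual : dual σ x.val.charpoly = x.val.charpoly) :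
    ∃ m : Wt (dmap p r hrp σ hσ) i N, x.val.charpoly = wpoly r i N m.1 := by
  classical
  obtain ⟨hxo, hxf⟩ := (CfsgLib.GLClass.pow_eq_one_iff_charpoly p hrp x).1 hx
  set c := x.val.charpoly with hc
  have hcm : c.Monic := Matrix.charpoly_monic _
  have hprod : (normalizedFactors c).prod = c := by
    rw [prod_normalizedFactors_eq hcm.ne_zero, hcm.normalize_eq_self]
  have hnm : ∀ Q ∈ normalizedFactors c, Q = X - C 1 ∨ Q ∈ rootFactors K r := fun Q hQ =>
    (dvd_X_pow_sub_one r Q (CfsgLib.GLClass.monic_of_mem_nf hQ) (irreducible_of_normalized_factor Q hQ)).1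
      (hxf Q (CfsgLib.GLClass.monic_of_mem_nf hQ) (irreducible_of_normalized_factor Q hQ)
        (dvd_of_mem_normalizedFactors hQ))
  let m : rootFactors K r → ℕ := fun P => (normalizedFactors c).count (P : K[X])
  have hdd : ∀ Q, Q = X - C 1 ∨ Q ∈ rootFactors K r → dual σ (dual σ Q) = Q ∧
      (dual σ Q).Monic ∧ Irreducible (dual σ Q) := by
    rintro Q (rfl | hQ)
    · rw [dual_X_sub_one, dual_X_sub_one]; exact ⟨rfl, monic_X_sub_C 1, irreducible_X_sub_C 1⟩
    · have h' := (dmap p r hrp σ hσ ⟨Q, hQ⟩).2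
      exact ⟨congrArg Subtype.val (dmap_dmap p r hrp σ hσσ hσ ⟨Q, hQ⟩), (mem_rootFactors h').1,
        (mem_rootFactors h').2.1⟩
  have hmap : (normalizedFactors c).map (dual σ) = normalizedFactors c := by
    have h1 : ((normalizedFactors c).map (dualHom σ)).prod = c := by
      rw [← map_multiset_prod, hprod]; exact hdual
    conv_rhs => rw [← h1]
    rw [normalizedFactors_prod_eq _ fun Q hQ => by
      obtain ⟨Q', hQ', rfl⟩ := Multiset.mem_map.1 hQ; exact (hdd Q' (hnm Q' hQ')).2.2]
    rw [Multiset.map_map]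
    exact Multiset.map_congr rfl fun Q hQ => ((hdd Q (hnm Q hQ)).2.1.normalize_eq_self).symm
  have hinv : ∀ P, m (dmap p r hrp σ hσ P) = m P := fun P => by
    show Multiset.count (dual σ P.1) (normalizedFactors c) = Multiset.count P.1 (normalizedFactors c)
    conv_lhs => rw [← hmap, Multiset.count_map]
    rw [Multiset.count_eq_card_filter_eq]
    congr 1
    refine Multiset.filter_congr fun Q hQ => ⟨fun h => ?_, fun h => h ▸ rfl⟩
    rw [← (hdd Q (hnm Q hQ)).1, ← h, (hdd P.1 (Or.inr P.2)).1]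
  have hnf : normalizedFactors c =
      Multiset.replicate ((normalizedFactors c).count (X - C 1)) (X - C 1) +
        ∑ P, Multiset.replicate (m P) (P : K[X]) := by
    refine Multiset.ext.2 fun Q => ?_
    rw [Multiset.count_add, Multiset.count_replicate, Multiset.count_sum']
    by_cases hQu : X - C 1 = Q
    · rw [if_pos hQu, Finset.sum_eq_zero fun P _ => by
        rw [Multiset.count_replicate, if_neg fun h => one_not_mem p r hrp (by rw [hQu, ← h]; exact P.2)],
        add_zero, hQu]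
    rw [if_neg hQu, zero_add]
    by_cases hQR : Q ∈ rootFactors K r
    · rw [Finset.sum_eq_single ⟨Q, hQR⟩ (fun b _ hb => by
        rw [Multiset.count_replicate, if_neg fun h => hb (Subtype.ext h)])
        (fun h => absurd (Finset.mem_univ _) h), Multiset.count_replicate_self]
    · rw [Finset.sum_eq_zero fun P _ => by rw [Multiset.count_replicate, if_neg fun h : P.1 = Q => hQR (h ▸ P.2)],
        Multiset.count_eq_zero]
      exact fun h => (hnm Q h).elim (fun e => hQu e.symm) hQR
  set u := (normalizedFactors c).count (X - C 1)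
  have hcd : c = (X - C 1) ^ u * ∏ P : rootFactors K r, P.1 ^ m P := by
    conv_lhs => rw [← hprod, hnf]
    rw [Multiset.prod_add, Multiset.prod_replicate, Multiset.prod_sum]
    simp only [Multiset.prod_replicate]
  have hN : u + i * ∑ P, m P = N := by
    have h := congrArg natDegree hcd
    rw [hc, Matrix.charpoly_natDegree_eq_dim, Fintype.card_fin, ((monic_X_sub_C (1 : K)).pow u).natDegree_mul
      (monic_prod_of_monic _ _ fun P _ => (mem_rootFactors P.2).1.pow _), (monic_X_sub_C 1).natDegree_pow,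
      natDegree_X_sub_C, mul_one, natDegree_prod_of_monic _ _ fun P _ => (mem_rootFactors P.2).1.pow _,
      Finset.sum_congr rfl fun P _ => (mem_rootFactors P.2).1.natDegree_pow (m P)] at h
    rw [h, Finset.mul_sum]
    congr 1
    refine Finset.sum_congr rfl fun P _ => ?_
    rw [(rootFactors_spec (F := K) p hrp).1 P.1 P.2, ← hi, mul_comm]
  refine ⟨⟨m, hinv, by omega⟩, ?_⟩
  rw [hcd, wpoly, show N - i * ∑ P, m P = u by omega]

open scoped Classical in
/-- The number of classes of order `r`, given the weights that occur. -/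
theorem card_classes_good (hrp : r.Coprime p) (σ : K →+* K) (hσσ : ∀ a, σ (σ a) = a) {k : ℕ}
    (hσ : ∀ a, σ a = a ^ p ^ k) {N : ℕ} {H : Type*} [Group H] (ι : H →* GL (Fin N) K)
    (hι : Function.Injective ι) (hdual : ∀ h, dual σ (ι h).val.charpoly = (ι h).val.charpoly)
    (hconj : ∀ x y : H, (orderOf (ι x)).Coprime p → x ^ r = 1 → IsConj (ι x) (ι y) → IsConj x y)
    {i : ℕ} (hi : i = orderOf ((Fintype.card K : ℕ) : ZMod r)) (Good : Wt (dmap p r hrp σ hσ) i N → Prop)
    (hgood : ∀ m, Good m ↔ ∃ h : H, (orderOf (ι h)).Coprime p ∧ (ι h).val.charpoly = wpoly r i N m.1) :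
    Nat.card {C : ConjClasses H // ∃ g, ConjClasses.mk g = C ∧ orderOf g = r} + 1 =
      Nat.card {m // Good m} := by
  classical
  have hr : r.Prime := Fact.out
  choose g hgo hgc using fun m : {m // Good m} => (hgood m.1).1 m.2
  have hgr : ∀ m, g m ^ r = 1 := fun m => by
    refine hι ?_
    rw [map_pow, map_one, CfsgLib.GLClass.pow_eq_one_iff_charpoly p hrp]
    refine ⟨hgo m, fun P hPm hP hdvd => (dvd_X_pow_sub_one r P hPm hP).2 ?_⟩
    rw [hgc] at hdvd
    obtain ⟨Q', h1, h2⟩ := exists_mem_normalizedFactors_of_dvd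
      (wpoly_props p r hrp hi m.1.1 m.1.2.2).1.ne_zero hP hdvd
    rw [eq_of_monic_of_associated hPm (CfsgLib.GLClass.monic_of_mem_nf h1) h2]
    rw [nf_wpoly] at h1
    rcases Multiset.mem_add.1 h1 with h | h
    · exact Or.inl (Multiset.eq_of_mem_replicate h)
    · obtain ⟨P', -, hP'⟩ := Multiset.mem_sum.1 h
      exact Or.inr (Multiset.eq_of_mem_replicate hP' ▸ P'.2)
  let f : {m // Good m} → {C : ConjClasses H // ∃ g, ConjClasses.mk g = C ∧ g ^ r = 1} := fun m =>
    ⟨ConjClasses.mk (g m), g m, rfl, hgr m⟩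
  have hf : Function.Bijective f := by
    constructor
    · intro a b h
      have h1 := CfsgLib.GLClass.charpoly_eq_of_isConj (MonoidHom.map_isConj ι
        (ConjClasses.mk_eq_mk_iff_isConj.1 (congrArg Subtype.val h)))
      rw [hgc, hgc] at h1
      refine Subtype.ext (Subtype.ext (funext fun P => ?_))
      rw [← count_wpoly p r hrp i N a.1.1 P, h1, count_wpoly p r hrp]
    · rintro ⟨_, x, rfl, hx⟩
      have hx' : (ι x) ^ r = 1 := by rw [← map_pow, hx, map_one]
      obtain ⟨w, hw⟩ := exists_weight p r hrp σ hσσ hσ hi hx' (hdual x)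
      have hxo := ((CfsgLib.GLClass.pow_eq_one_iff_charpoly p hrp (ι x)).1 hx').1
      let m : {m // Good m} := ⟨w, (hgood w).2 ⟨x, hxo, hw⟩⟩
      exact ⟨m, Subtype.ext (ConjClasses.mk_eq_mk_iff_isConj.2 (hconj _ _ (hgo m) (hgr m)
        (CfsgLib.GLClass.isConj_of_charpoly_eq p (hgo m) hxo ((hgc m).trans hw.symm))))⟩
  haveI : Finite H := Finite.of_injective ι hι
  haveI : Finite (ConjClasses H) := inferInstance
  let e : {C : ConjClasses H // ∃ g, ConjClasses.mk g = C ∧ orderOf g = r} ⊕ Unit →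
      {C : ConjClasses H // ∃ g, ConjClasses.mk g = C ∧ g ^ r = 1} :=
    Sum.elim (fun C => ⟨C.1, by obtain ⟨g, h1, h2⟩ := C.2; exact ⟨g, h1, h2 ▸ pow_orderOf_eq_one g⟩⟩)
      fun _ => ⟨ConjClasses.mk 1, 1, rfl, one_pow r⟩
  have he : Function.Bijective e := by
    constructor
    · rintro (⟨C, g', hg', hgo'⟩ | ⟨⟩) (⟨C', g'', hg'', hgo''⟩ | ⟨⟩) h
      · have h' : C = C' := congrArg Subtype.val h
        exact congrArg Sum.inl (Subtype.ext h')
      · exfalso
        have h' : ConjClasses.mk g' = ConjClasses.mk 1 := hg'.trans (congrArg Subtype.val h)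
        rw [isConj_one_right.1 (ConjClasses.mk_eq_mk_iff_isConj.1 h'.symm), orderOf_one] at hgo'
        exact hr.one_lt.ne hgo'
      · exfalso
        have h' : ConjClasses.mk g'' = ConjClasses.mk 1 := hg''.trans (congrArg Subtype.val h).symm
        rw [isConj_one_right.1 (ConjClasses.mk_eq_mk_iff_isConj.1 h'.symm), orderOf_one] at hgo''
        exact hr.one_lt.ne hgo''
      · rfl
    · rintro ⟨C, g', hg', hgr'⟩
      by_cases h1 : g' = 1
      · exact ⟨Sum.inr (), Subtype.ext (show ConjClasses.mk 1 = C by rw [← hg', h1])⟩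
      · exact ⟨Sum.inl ⟨C, g', hg', orderOf_eq_prime hgr' h1⟩, rfl⟩
  rw [Nat.card_eq_of_bijective f hf, ← Nat.card_eq_of_bijective e he, Nat.card_sum, Nat.card_unique (α := Unit)]

end CfsgLib.Geo.PrimeSD
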