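import Cfsg.Agent.Geo.SpSemisimple
import Cfsg.Agent.Geo.OCounts
import Cfsg.Agent.Geo.PrimeSDGood
import Mathlib

/-!
Invariant quadratic forms of elements with a self-dual characteristic polynomial.
-/

set_option autoImplicit false
set_option linter.style.haveILetI false
set_option linter.unusedSectionVars false

namespace CfsgLib.Geo.OSemi

open Matrix Polynomial CfsgLib.Geo.USemi CfsgLib.Geo.OCounts
open CfsgLib.GLClass (rootFactors mem_rootFactors rootFactors_spec)

variable {K : Type*} [Field K]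

/-- The quadratic form of a matrix. -/
noncomputable def qf {ν : Type*} [Fintype ν] [DecidableEq ν] (M : Matrix ν ν K) : QuadraticForm K (ν → K) :=
  LinearMap.BilinMap.toQuadraticMap (Matrix.toBilin' M)

theorem qf_apply {ν : Type*} [Fintype ν] [DecidableEq ν] (M : Matrix ν ν K) (v : ν → K) :
    qf M v = v ⬝ᵥ M *ᵥ v := Matrix.toBilin'_apply' M v v

theorem qf_nondeg {ν : Type*} [Fintype ν] [DecidableEq ν] {M : Matrix ν ν K} (hM : IsUnit (M + Mᵀ)) :
    (QuadraticMap.polarBilin (qf M)).Nondegenerate := by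
  have key : ∀ u v, QuadraticMap.polar (qf M) u v = u ⬝ᵥ (M + Mᵀ) *ᵥ v := fun u v => by
    simp only [QuadraticMap.polar, qf_apply, Matrix.add_mulVec, dotProduct_add, Matrix.mulVec_add, add_dotProduct]
    rw [Matrix.mulVec_transpose, dotProduct_comm u (v ᵥ* M), ← Matrix.dotProduct_mulVec]
    ring
  have h1 : ∀ x, (∀ y, QuadraticMap.polar (qf M) x y = 0) → x = 0 := fun x hx =>
    Matrix.vecMul_injective_iff_isUnit.2 hM (funext fun j => by
      have := hx (Pi.single j 1)
      rw [key, Matrix.dotProduct_mulVec, dotProduct_single, mul_one] at this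
      show (x ᵥ* (M + Mᵀ)) j = ((0 : ν → K) ᵥ* (M + Mᵀ)) j
      rw [this, Matrix.zero_vecMul]; rfl)
  exact ⟨fun x hx => h1 x hx, fun y hy => h1 y fun z => by rw [QuadraticMap.polar_comm]; exact hy z⟩

/-- `g` fixes the nondegenerate form of `M`. -/
def IsQuad {n : ℕ} (g : GL (Fin n) K) (M : Matrix (Fin n) (Fin n) K) : Prop :=
  g.valᵀ * M * g.val = M ∧ IsUnit (M + Mᵀ)

theorem IsQuad.map_qf {n : ℕ} {g : GL (Fin n) K} {M : Matrix (Fin n) (Fin n) K} (h : IsQuad g M) (v : Fin n → K) :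
    qf M (g.val *ᵥ v) = qf M v := by
  rw [qf_apply, qf_apply]
  conv_rhs => rw [← h.1]
  rw [← Matrix.mulVec_mulVec, ← Matrix.mulVec_mulVec, Matrix.dotProduct_mulVec v g.valᵀ, Matrix.vecMul_transpose]

/-- Block sum. -/
def blk {n m : ℕ} (M : Matrix (Fin n) (Fin n) K) (T : Matrix (Fin m) (Fin m) K) :
    Matrix (Fin (n + m)) (Fin (n + m)) K :=
  Matrix.reindex finSumFinEquiv finSumFinEquiv (Matrix.fromBlocks M 0 0 T)

theorem IsQuad.mul {n m : ℕ} {g : GL (Fin n) K} {M : Matrix (Fin n) (Fin n) K} (hg : IsQuad g M)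
    {k : GL (Fin m) K} {T : Matrix (Fin m) (Fin m) K} (hk : IsQuad k T) : IsQuad (emb (g, k)) (blk M T) := by
  refine ⟨?_, ?_⟩
  · rw [emb_val, blk]
    simp only [Matrix.reindex_apply, Matrix.transpose_submatrix, Matrix.submatrix_mul_equiv,
      Matrix.fromBlocks_transpose, Matrix.fromBlocks_multiply, Matrix.transpose_zero, Matrix.mul_zero, Matrix.zero_mul,
      add_zero, zero_add, hg.1, hk.1]
  · rw [blk, Matrix.transpose_reindex, Matrix.fromBlocks_transpose, Matrix.transpose_zero, Matrix.transpose_zero]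
    simp only [Matrix.reindex_apply]
    rw [show ((Matrix.fromBlocks M 0 0 T).submatrix finSumFinEquiv.symm finSumFinEquiv.symm +
        (Matrix.fromBlocks Mᵀ 0 0 Tᵀ).submatrix finSumFinEquiv.symm finSumFinEquiv.symm) =
      (Matrix.fromBlocks M 0 0 T + Matrix.fromBlocks Mᵀ 0 0 Tᵀ).submatrix finSumFinEquiv.symm finSumFinEquiv.symm
      from rfl, Matrix.fromBlocks_add, add_zero, add_zero, Matrix.isUnit_iff_isUnit_det,
      Matrix.det_submatrix_equiv_self, Matrix.det_fromBlocks_zero₂₁]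
    exact ((Matrix.isUnit_iff_isUnit_det _).1 hg.2).mul ((Matrix.isUnit_iff_isUnit_det _).1 hk.2)

theorem qf_blk {n m : ℕ} (M : Matrix (Fin n) (Fin n) K) (T : Matrix (Fin m) (Fin m) K) (v : Fin (n + m) → K) :
    qf (blk M T) v = qf M (fun i => v (finSumFinEquiv (Sum.inl i))) + qf T (fun i => v (finSumFinEquiv (Sum.inr i))) := by
  simp only [qf_apply, dotProduct, Matrix.mulVec, blk, Matrix.reindex_apply, Matrix.submatrix_apply]
  rw [← Equiv.sum_comp finSumFinEquiv, Fintype.sum_sum_type]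
  congr 1 <;> refine Finset.sum_congr rfl fun i _ => ?_ <;>
    rw [← Equiv.sum_comp finSumFinEquiv (fun j : Fin (n + m) => _ * v j), Fintype.sum_sum_type] <;> simp

/-- Transfer to another index type. -/
theorem transfer {N : ℕ} {g : GL (Fin N) K} {M : Matrix (Fin N) (Fin N) K} (hg : IsQuad g M)
    {ν : Type*} [Fintype ν] [DecidableEq ν] (Q : (ν → K) → K) (φ : (ν → K) ≃ₗ[K] (Fin N → K)) {c : K} (hc : c ≠ 0)
    (hφ : ∀ v, qf M (φ v) = c * Q v) :
    ∃ h : GL ν K, (∀ v, Q (h.val *ᵥ v) = Q v) ∧ orderOf h ∣ orderOf g ∧ h.val.charpoly = g.val.charpoly := by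
  let A := LinearMap.toMatrix' φ.toLinearMap
  let B := LinearMap.toMatrix' φ.symm.toLinearMap
  have hAB : A * B = 1 := by rw [← LinearMap.toMatrix'_comp]; simp
  have hBA : B * A = 1 := by rw [← LinearMap.toMatrix'_comp]; simp
  let f : GL (Fin N) K →* GL ν K :=
    { toFun := fun x => ⟨B * x.val * A, B * (x⁻¹).val * A,
        by rw [show B * x.val * A * (B * (x⁻¹).val * A) = B * (x.val * (A * B) * (x⁻¹).val) * A by
          simp only [Matrix.mul_assoc], hAB, Matrix.mul_one, Units.mul_inv, Matrix.mul_one, hBA],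
        by rw [show B * (x⁻¹).val * A * (B * x.val * A) = B * ((x⁻¹).val * (A * B) * x.val) * A by
          simp only [Matrix.mul_assoc], hAB, Matrix.mul_one, Units.inv_mul, Matrix.mul_one, hBA]⟩
      map_one' := Units.ext (by simp [hBA])
      map_mul' := fun x y => Units.ext (by
        show B * (x.val * y.val) * A = B * x.val * A * (B * y.val * A)
        rw [show B * x.val * A * (B * y.val * A) = B * (x.val * (A * B) * y.val) * A by
          simp only [Matrix.mul_assoc], hAB, Matrix.mul_one]) }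
  refine ⟨f g, fun v => mul_left_cancel₀ hc ?_, orderOf_map_dvd f g, ?_⟩
  · rw [← hφ, ← hφ]
    have e : φ ((f g).val *ᵥ v) = g.val *ᵥ φ v := by
      show φ ((B * g.val * A) *ᵥ v) = _
      rw [← Matrix.mulVec_mulVec, ← Matrix.mulVec_mulVec, LinearMap.toMatrix'_mulVec, LinearMap.toMatrix'_mulVec]
      exact φ.apply_symm_apply _
    rw [e, hg.map_qf]
  · show (B * g.val * A).charpoly = _
    have hcard : Fintype.card ν = N := by
      have := φ.finrank_eq
      rwa [Module.finrank_fintype_fun_eq_card, Module.finrank_fin_fun] at this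
    have h1 := Matrix.charpoly_mul_comm' B (g.val * A)
    rw [Fintype.card_fin, hcard, Matrix.mul_assoc g.val A B, hAB, Matrix.mul_one, ← Matrix.mul_assoc] at h1
    exact mul_left_cancel₀ (pow_ne_zero _ Polynomial.X_ne_zero) h1

section real

variable [Fintype K] (p : ℕ) [Fact p.Prime] [CharP K p]

/-- A semisimple element with this polynomial fixes a nondegenerate quadratic form. -/
def RealQ (f : K[X]) : Prop :=
  ∃ (n : ℕ) (g : GL (Fin n) K) (M : Matrix (Fin n) (Fin n) K),
    (orderOf g).Coprime p ∧ g.val.charpoly = f ∧ IsQuad g M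

theorem realQ_one : RealQ p (1 : K[X]) :=
  ⟨0, 1, 0, by rw [orderOf_one]; exact Nat.coprime_one_left p, by simp, Subsingleton.elim _ _,
    isUnit_of_subsingleton _⟩

theorem RealQ.mul {f h : K[X]} (hf : RealQ p f) (hh : RealQ p h) : RealQ p (f * h) := by
  obtain ⟨n, g, M, hgo, hgc, hgq⟩ := hf
  obtain ⟨m, k, T, hko, hkc, hkq⟩ := hh
  exact ⟨n + m, emb (g, k), blk M T, coprime_emb p hgo hko, by rw [charpoly_emb, hgc, hkc], hgq.mul hkq⟩

theorem realQ_pair {f : K[X]} (hm : f.Monic) (h0 : f.coeff 0 ≠ 0) : RealQ p (f * dual (RingHom.id K) f) := by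
  obtain ⟨A, hA, hAc⟩ := CfsgLib.GLClass.exists_regular_charpoly p
    (⟨f, hm, rfl, h0⟩ : CfsgLib.GLClass.GoodPoly K f.natDegree)
  have hstar : (star' (RingHom.id K) A).val = (A⁻¹).valᵀ := by
    show CfsgLib.Unitary.adj _ _ = _
    rfl
  refine ⟨_, emb (A, star' (RingHom.id K) A),
    Matrix.reindex finSumFinEquiv finSumFinEquiv (Matrix.fromBlocks 0 1 0 0),
    coprime_emb p hA (hA.coprime_dvd_left (orderOf_map_dvd _ _)),
    by rw [charpoly_emb, charpoly_star', hAc], ?_, ?_⟩
  · rw [emb_val]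
    simp only [Matrix.reindex_apply, Matrix.transpose_submatrix, Matrix.submatrix_mul_equiv,
      Matrix.fromBlocks_transpose, Matrix.fromBlocks_multiply, Matrix.transpose_zero, Matrix.mul_zero, Matrix.zero_mul,
      add_zero, zero_add, mul_one, hstar]
    rw [← Matrix.transpose_mul, Units.inv_mul, Matrix.transpose_one]
  · refine IsUnit.of_mul_eq_one (Matrix.reindex finSumFinEquiv finSumFinEquiv (Matrix.fromBlocks 0 1 1 0)) ?_
    rw [Matrix.transpose_reindex, Matrix.fromBlocks_transpose]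
    simp only [Matrix.reindex_apply, Matrix.transpose_zero, Matrix.transpose_one]
    rw [show ((Matrix.fromBlocks (0 : Matrix (Fin f.natDegree) (Fin f.natDegree) K) 1 0 0).submatrix
        finSumFinEquiv.symm finSumFinEquiv.symm + (Matrix.fromBlocks 0 0 1 0).submatrix finSumFinEquiv.symm
        finSumFinEquiv.symm) = (Matrix.fromBlocks (0 : Matrix (Fin f.natDegree) (Fin f.natDegree) K) 1 0 0 +
        Matrix.fromBlocks 0 0 1 0).submatrix
        finSumFinEquiv.symm finSumFinEquiv.symm from rfl]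
    simp [Matrix.fromBlocks_add, Matrix.submatrix_mul_equiv, Matrix.fromBlocks_multiply]

theorem realQ_irreducible {P : K[X]} (hm : P.Monic) (hP : Irreducible P) (h0 : P.coeff 0 ≠ 0)
    (hd : dual (RingHom.id K) P = P) (hne : ¬ P ∣ X ^ 2 - 1) : RealQ p P := by
  obtain ⟨g, hg, hgc⟩ := CfsgLib.GLClass.exists_regular_charpoly p
    (⟨P, hm, rfl, h0⟩ : CfsgLib.GLClass.GoodPoly K P.natDegree)
  obtain ⟨k, hk⟩ := isConj_iff.1 (CfsgLib.GLClass.isConj_of_charpoly_eq p (g := g)
    (h := star' (RingHom.id K) g) hg (hg.coprime_dvd_left (orderOf_map_dvd _ _)) (by rw [charpoly_star', hgc, hd]))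
  have hA : aeval g.val P = 0 := by
    have := Matrix.aeval_self_charpoly g.val; rwa [hgc] at this
  set X' := k.val
  have hX : g.valᵀ * X' * g.val = X' := by
    have h1 : X' * g.val = (g⁻¹).valᵀ * X' := by
      have : (k * g).val = (star' (RingHom.id K) g * k).val := by rw [← hk, inv_mul_cancel_right]
      rw [Units.val_mul, Units.val_mul] at this
      rw [this]; rfl
    rw [mul_assoc, h1, ← mul_assoc, ← Matrix.transpose_mul, Units.inv_mul, Matrix.transpose_one, one_mul]
  have key : ∀ M : Matrix (Fin P.natDegree) (Fin P.natDegree) K, g.valᵀ * M * g.val = M →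
      Mᵀ = -M ∨ RealQ p P := by
    intro M hM
    set S := M + Mᵀ with hS
    have hMT : g.valᵀ * Mᵀ * g.val = Mᵀ := by
      have := congrArg Matrix.transpose hM
      rwa [Matrix.transpose_mul, Matrix.transpose_mul, Matrix.transpose_transpose, ← mul_assoc] at this
    have hSg : g.valᵀ * S * g.val = S := by rw [hS, mul_add, add_mul, hM, hMT]
    by_cases hker : ∀ v, S *ᵥ v = 0 → v = 0
    · exact Or.inr ⟨_, g, M, hg, hgc, hM, Matrix.mulVec_injective_iff_isUnit.1 fun a b hab =>
        sub_eq_zero.1 (hker _ (by rw [Matrix.mulVec_sub, hab, sub_self]))⟩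
    · left
      push Not at hker
      obtain ⟨v, hv, hv0⟩ := hker
      have htop : LinearMap.ker S.mulVecLin = ⊤ := by
        refine CfsgLib.Geo.SpSemi.invariant_eq_top hP rfl hA (fun w hw => ?_) (LinearMap.mem_ker.2 hv) hv0
        rw [LinearMap.mem_ker, Matrix.mulVecLin_apply] at hw ⊢
        have h1 : (g⁻¹).valᵀ * (g.valᵀ * S * g.val) = S * g.val := by
          rw [← mul_assoc, ← mul_assoc, ← Matrix.transpose_mul, Units.mul_inv, Matrix.transpose_one, one_mul]
        rw [hSg] at h1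
        rw [Matrix.mulVec_mulVec, ← h1, ← Matrix.mulVec_mulVec, hw, Matrix.mulVec_zero]
      refine eq_neg_of_add_eq_zero_right (Matrix.ext_of_mulVec_single fun i => ?_)
      rw [Matrix.zero_mulVec]
      exact LinearMap.mem_ker.1 (htop ▸ Submodule.mem_top)
  rcases key X' hX with hsym | h
  · rcases key (X' * g.val) (by
      calc g.valᵀ * (X' * g.val) * g.val = g.valᵀ * X' * g.val * g.val := by rw [← mul_assoc]
        _ = X' * g.val := by rw [hX]) with hsym2 | h
    · exfalso
      rw [Matrix.transpose_mul, hsym, mul_neg, neg_inj] at hsym2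
      have h2 : X' * (g.val * g.val) = X' := by rw [← mul_assoc, ← hsym2, hX]
      have h3 : g.val * g.val = 1 := by
        have := congrArg ((k⁻¹).val * ·) h2
        simpa [X', ← mul_assoc] using this
      refine hne ?_
      by_contra hdv
      obtain ⟨a, b, hab⟩ := (hP.coprime_iff_not_dvd).2 hdv
      have h4 := congrArg (aeval g.val) hab
      rw [map_add, map_mul, map_mul, hA, mul_zero, zero_add, map_sub, map_pow, aeval_X, map_one, sq, h3,
        sub_self, mul_zero] at h4
      haveI : Nonempty (Fin P.natDegree) := ⟨⟨0, hP.natDegree_pos⟩⟩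
      exact zero_ne_one h4
    · exact h
  · exact h

theorem realQ_of_factors (r : ℕ) [Fact r.Prime] (hrp : r.Coprime p) (hr2 : r ≠ 2) :
    ∀ d : ℕ, ∀ f : K[X], f.natDegree = d → f.Monic → f.coeff 0 ≠ 0 → dual (RingHom.id K) f = f →
      (∀ P, P.Monic → Irreducible P → P ∣ f → P ∈ rootFactors K r) → RealQ p f := by
  intro d
  induction d using Nat.strong_induction_on with
  | _ d ih =>
  intro f hfd hfm hf0 hfdual hfac
  by_cases hd : f.natDegree = 0
  · rw [hfm.natDegree_eq_zero.1 hd]; exact realQ_one p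
  obtain ⟨P, hPm, hPi, hPf⟩ := Polynomial.exists_monic_irreducible_factor f
    (not_isUnit_of_natDegree_pos f (Nat.pos_of_ne_zero hd))
  obtain ⟨-, -, hPc⟩ := mem_rootFactors (hfac P hPm hPi hPf)
  have hP0 : P.coeff 0 ≠ 0 := CfsgLib.GLClass.coeff_zero_ne_of_dvd hPf hf0
  obtain ⟨B, hBm, hBd, hBr, hBf, hBp⟩ : ∃ B : K[X], B.Monic ∧
      dual (RingHom.id K) B = B ∧ RealQ p B ∧ B ∣ f ∧ 0 < B.natDegree := by
    by_cases hPd : dual (RingHom.id K) P = P
    · refine ⟨P, hPm, hPd, realQ_irreducible p hPm hPi hP0 hPd fun h => ?_, hPf, hPi.natDegree_pos⟩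
      haveI := Fact.mk hPi
      haveI : NeZero (r : AdjoinRoot P) := ⟨by
        rw [← map_natCast (algebraMap K (AdjoinRoot P))]
        exact (_root_.map_ne_zero _).2 (CfsgLib.Geo.PrimeSD.cast_ne_zero p r hrp)⟩
      have h1 : aeval (AdjoinRoot.root P) (cyclotomic r K) = 0 := by
        rw [AdjoinRoot.aeval_eq, AdjoinRoot.mk_eq_zero]; exact hPc
      rw [aeval_def, eval₂_eq_eval_map, map_cyclotomic] at h1
      have h2 := (isRoot_cyclotomic_iff.1 h1).dvd_of_pow_eq_one 2 (by
        rw [← AdjoinRoot.mk_eq_zero, map_sub, map_pow, AdjoinRoot.mk_X, map_one, sub_eq_zero] at h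
        exact h)
      exact hr2 ((Nat.prime_dvd_prime_iff_eq Fact.out Nat.prime_two).1 h2)
    · refine ⟨P * dual (RingHom.id K) P, hPm.mul (monic_dual _ hP0), by
        rw [dual_mul, dual_dual _ (fun a => rfl) hPm hP0, mul_comm], realQ_pair p hPm hP0, ?_, ?_⟩
      · have hQf : dual (RingHom.id K) P ∣ f := by
          obtain ⟨R', hR'⟩ := hPf
          exact ⟨dual (RingHom.id K) R', by rw [← dual_mul, ← hR', hfdual]⟩
        refine IsCoprime.mul_dvd (hPi.coprime_iff_not_dvd.2 fun h => hPd ?_) hPf hQf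
        exact eq_of_monic_of_dvd_of_natDegree_le hPm (monic_dual _ hP0) h (natDegree_dual _ hP0).le
      · rw [hPm.natDegree_mul (monic_dual _ hP0)]; have := hPi.natDegree_pos; omega
  obtain ⟨h, rfl⟩ := hBf
  have hhm : h.Monic := hBm.of_mul_monic_left hfm
  have hdd := hBm.natDegree_mul hhm
  refine hBr.mul p (ih h.natDegree (by rw [← hfd]; omega) h rfl hhm
    (CfsgLib.GLClass.coeff_zero_ne_of_dvd (dvd_mul_left h B) hf0) ?_ fun P h1 h2 h3 =>
      hfac P h1 h2 (h3.trans (dvd_mul_left h B)))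
  rw [dual_mul, hBd] at hfdual
  exact mul_left_cancel₀ hBm.ne_zero hfdual

/-- Realisation with a given type. -/
def RealE (f : K[X]) (k : ℕ) (ε : ℤ) : Prop :=
  ∃ (n : ℕ) (g : GL (Fin n) K) (M : Matrix (Fin n) (Fin n) K),
    n = 2 * k ∧ (orderOf g).Coprime p ∧ g.val.charpoly = f ∧ IsQuad g M ∧ EType (⇑(qf M)) k ε

theorem RealE.addPlane {f : K[X]} {k : ℕ} {ε : ℤ} (hf : RealE p f k ε) {T : Matrix (Fin 2) (Fin 2) K}
    (hT : IsUnit (T + Tᵀ)) {s : ℤ} (hs : s * s = 1)
    (hfib : ∀ c : K, c ≠ 0 → (Nat.card {z // qf T z = c} : ℤ) = (Nat.card K : ℤ) - s) :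
    RealE p (f * (X - C 1) ^ 2) (k + 1) (s * ε) := by
  obtain ⟨n, g, M, hn, hgo, hgc, hgq, hE⟩ := hf
  refine ⟨n + 2, emb (g, 1), blk M T, by omega, coprime_emb p hgo (by rw [orderOf_one]; exact Nat.coprime_one_left p),
    ?_, hgq.mul ⟨by simp, hT⟩, ?_⟩
  · rw [charpoly_emb, hgc, Units.val_one, Matrix.charpoly_one, Fintype.card_fin, C_1]
  · refine etype_add (QW := ⇑(qf M)) (QP := ⇑(qf T))
      ((Equiv.arrowCongr finSumFinEquiv.symm (Equiv.refl K)).trans (Equiv.sumArrowEquivProdArrow _ _ K))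
      (fun v => qf_blk M T v) hs (by rw [Nat.card_fun, Nat.card_fin]) hfib hE ?_
    rw [Nat.card_fun, Nat.card_fin, hn]

theorem RealE.addHyp {f : K[X]} {k : ℕ} {ε : ℤ} (hf : RealE p f k ε) :
    RealE p (f * (X - C 1) ^ 2) (k + 1) ε := by
  rw [← one_mul ε]
  refine hf.addPlane p (T := !![0, 1; 0, 0]) ?_ (one_mul 1) fun c hc => ?_
  · rw [Matrix.isUnit_iff_isUnit_det, isUnit_iff_ne_zero, Matrix.det_fin_two]; simp
  · rw [← card_mul_fibre hc]
    congr 1
    refine Nat.card_congr (Equiv.subtypeEquiv (piFinTwoEquiv fun _ => K) fun z => ?_)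
    simp [qf_apply, Matrix.mulVec, dotProduct, piFinTwoEquiv]

theorem RealE.addAniso {f : K[X]} {k : ℕ} {ε : ℤ} (hf : RealE p f k ε) :
    RealE p (f * (X - C 1) ^ 2) (k + 1) (-ε) := by
  obtain ⟨a, b, hab⟩ := CfsgLib.AutPOm.exists_aniso_pair K
  rw [← neg_one_mul ε]
  refine hf.addPlane p (T := !![1, a; 0, b]) ?_ (by norm_num) fun c hc => ?_
  · rw [Matrix.isUnit_iff_isUnit_det, isUnit_iff_ne_zero, Matrix.det_fin_two]
    have := CfsgLib.Quad.disc_ne_zero hab
    intro h
    apply this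
    simp at h
    linear_combination h
  · rw [← card_plane_fibre hab hc]
    congr 1
    refine Nat.card_congr (Equiv.subtypeEquiv (piFinTwoEquiv fun _ => K) fun z => ?_)
    rw [qf_apply, CfsgLib.Quad.planeQ_apply]
    simp [Matrix.mulVec, dotProduct, piFinTwoEquiv]
    ring_nf

theorem realE_padded {f : K[X]} {k : ℕ} {ε : ℤ} (hf : RealE p f k ε) :
    ∀ l : ℕ, ∀ ε' : ℤ, ε' = ε ∨ (1 ≤ l ∧ ε' = -ε) → RealE p (f * (X - C 1) ^ (2 * l)) (k + l) ε' := by
  intro l
  induction l generalizing f k ε with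
  | zero =>
    intro ε' h
    rcases h with rfl | ⟨h, -⟩
    · simpa using hf
    · omega
  | succ l ih =>
    intro ε' h
    rw [show f * (X - C 1) ^ (2 * (l + 1)) = f * (X - C 1) ^ 2 * (X - C 1) ^ (2 * l) by
      rw [mul_assoc, ← pow_add]; ring_nf, show k + (l + 1) = k + 1 + l by ring]
    rcases h with rfl | ⟨-, rfl⟩
    · exact ih hf.addHyp _ (Or.inl rfl)
    · exact ih hf.addAniso _ (Or.inl rfl)

end real

end CfsgLib.Geo.OSemi
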