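import Cfsg.Agent.Elusive.Jordan
import Mathlib

/-!
# Skew nilpotent maps of alternating and symmetric forms

A nilpotent map `N` skew for a non-degenerate form with `B y x = η * B x y` has generators `v i` with chains
`N ^ j (v i)`, `j < k i`. The Gram matrices of the forms `(x, y) ↦ B x (N ^ (n - 1) y)` on the
generators of height `n` determine `N` up to isometry, and are themselves determined up to congruence.
-/

set_option autoImplicit false
set_option linter.style.haveILetI false
set_option linter.unusedSectionVars false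

namespace CfsgLib.Geo.NilForms

open Matrix Module

variable {F : Type*} [Field F] {V : Type*} [AddCommGroup V] [Module F V]

/-- Indices of height `n`. -/
abbrev Ht {ι : Type} (k : ι → ℕ) (n : ℕ) := {i : ι // k i = n}

/-- Gram matrix of the generators of height `n`. -/
def gram (B : LinearMap.BilinForm F V) (N : V →ₗ[F] V) {ι : Type} (k : ι → ℕ) (v : ι → V) (n : ℕ) :
    Matrix (Ht k n) (Ht k n) F :=
  Matrix.of fun q p => B (v q.1) ((N ^ (n - 1)) (v p.1))

/-- Generators of a skew nilpotent map with non-singular Gram matrices. -/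
structure IsGen (B : LinearMap.BilinForm F V) (N : V →ₗ[F] V) {ι : Type} [Fintype ι] [DecidableEq ι]
    (k : ι → ℕ) (v : ι → V) : Prop where
  pos : ∀ i, 0 < k i
  zero : ∀ i, (N ^ k i) (v i) = 0
  card : ∑ i, k i = finrank F V
  det : ∀ n, (gram B N k v n).det ≠ 0

/-- A non-degenerate `η`-symmetric form with a skew map. -/
structure Skew (η : F) (B : LinearMap.BilinForm F V) (N : V →ₗ[F] V) : Prop where
  sq : η * η = 1
  swap : ∀ x y, B y x = η * B x y
  nd : ∀ x, (∀ y, B x y = 0) → x = 0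
  adj : ∀ x y, B (N x) y = -B x (N y)

theorem pow_zero_of_le {N : V →ₗ[F] V} {x : V} {a b : ℕ} (h : (N ^ a) x = 0) (hab : a ≤ b) :
    (N ^ b) x = 0 := by
  rw [show b = (b - a) + a by omega, pow_add, Module.End.mul_apply, h, map_zero]

section Tools

variable {η : F} {B : LinearMap.BilinForm F V} {N : V →ₗ[F] V} (hS : Skew η B N)
include hS

theorem Skew.adj_pow (a : ℕ) : ∀ x y, B ((N ^ a) x) y = (-1 : F) ^ a * B x ((N ^ a) y) := by
  induction a with
  | zero => intro x y; simp
  | succ a ih =>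
    intro x y
    rw [pow_succ, Module.End.mul_apply, ih, hS.adj, ← Module.End.mul_apply, ← pow_succ', pow_succ,
      pow_succ]
    ring

theorem Skew.zero_left {a : ℕ} {x : V} (h : (N ^ a) x = 0) {b : ℕ} (hab : a ≤ b) (y : V) :
    B x ((N ^ b) y) = 0 := by
  have h1 := hS.adj_pow b x y
  rw [pow_zero_of_le h hab, map_zero, LinearMap.zero_apply] at h1
  exact (mul_eq_zero.1 h1.symm).resolve_left (pow_ne_zero _ (neg_ne_zero.2 one_ne_zero))

theorem Skew.swap_pow (a : ℕ) (x y : V) : B y ((N ^ a) x) = η * (-1 : F) ^ a * B x ((N ^ a) y) := by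
  rw [hS.swap ((N ^ a) x) y, hS.adj_pow]
  ring

end Tools

variable [FiniteDimensional F V] {η : F} {B : LinearMap.BilinForm F V} {N : V →ₗ[F] V}
  {ι : Type} [Fintype ι] [DecidableEq ι] {k : ι → ℕ} {v : ι → V}

/-- The chain vectors. -/
def chain (N : V →ₗ[F] V) (k : ι → ℕ) (v : ι → V) (x : (i : ι) × Fin (k i)) : V :=
  (N ^ (x.2 : ℕ)) (v x.1)

theorem gram_mulVec (n : ℕ) (c : Ht k n → F) (q : Ht k n) :
    (gram B N k v n *ᵥ c) q = B (v q.1) ((N ^ (n - 1)) (∑ p, c p • v p.1)) := by
  simp only [map_sum, map_smul, smul_eq_mul, Matrix.mulVec, dotProduct, gram, Matrix.of_apply]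
  exact Finset.sum_congr rfl fun p _ => mul_comm _ _

theorem IsGen.tops (hS : Skew η B N) (g : IsGen B N k v) {d : ι → F}
    (hd : ∑ p, d p • (N ^ (k p - 1)) (v p) = 0) : d = 0 := by
  classical
  by_contra hne
  obtain ⟨p₀, hp₀⟩ := Function.ne_iff.1 hne
  obtain ⟨p₁, hp₁, hmin⟩ := Finset.exists_min_image (Finset.univ.filter fun p => d p ≠ 0) k
    ⟨p₀, by simpa using hp₀⟩
  rw [Finset.mem_filter] at hp₁
  set n := k p₁ with hn
  have h0 : gram B N k v n *ᵥ (fun p : Ht k n => d p.1) = 0 := by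
    funext q
    rw [gram_mulVec, Pi.zero_apply, map_sum, map_sum]
    have h1 := congrArg (B (v q.1)) hd
    rw [map_zero, map_sum] at h1
    rw [← h1, ← Finset.sum_subtype (Finset.univ.filter fun p => k p = n) (fun p => by simp)
      (fun p : ι => B (v q.1) ((N ^ (n - 1)) (d p • v p))), Finset.sum_filter]
    refine Finset.sum_congr rfl fun p _ => ?_
    by_cases hp : k p = n
    · rw [if_pos hp, hp, map_smul]
    · rw [if_neg hp]
      by_cases hdp : d p = 0
      · rw [hdp, zero_smul, map_zero]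
      · have h2 : n ≤ k p := hmin p (by simp [hdp])
        rw [map_smul, hS.zero_left (g.zero q.1) (by rw [q.2]; omega), smul_zero]
  exact hp₁.2 (congrFun (Matrix.eq_zero_of_mulVec_eq_zero (g.det n) h0) ⟨p₁, rfl⟩)

theorem IsGen.li (hS : Skew η B N) (g : IsGen B N k v) : LinearIndependent F (chain N k v) := by
  classical
  refine Fintype.linearIndependent_iff.2 fun c hc x₀ => ?_
  by_contra hx₀
  obtain ⟨x₁, hx₁, hmax⟩ := Finset.exists_max_image (Finset.univ.filter fun x => c x ≠ 0)
    (fun x : (i : ι) × Fin (k i) => k x.1 - x.2) ⟨x₀, by simpa using hx₀⟩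
  rw [Finset.mem_filter] at hx₁
  set m := k x₁.1 - x₁.2 with hm
  have hm1 : 1 ≤ m := by have := x₁.2.isLt; omega
  let d : ι → F := fun p => if h : m ≤ k p then c ⟨p, ⟨k p - m, by omega⟩⟩ else 0
  have hd := g.tops hS (d := d) (by
    have h1 := congrArg (N ^ (m - 1)) hc
    rw [map_zero, map_sum, Fintype.sum_sigma] at h1
    rw [← h1]
    refine Finset.sum_congr rfl fun p _ => ?_
    symm
    by_cases hp : m ≤ k p
    · rw [Finset.sum_eq_single (⟨k p - m, by omega⟩ : Fin (k p))]
      · simp only [d, dif_pos hp, map_smul, chain]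
        rw [← Module.End.mul_apply, ← pow_add, show m - 1 + (k p - m) = k p - 1 by omega]
      · intro j _ hj
        rw [map_smul]
        by_cases hcj : c ⟨p, j⟩ = 0
        · rw [hcj, zero_smul]
        · have h2 : k p - j ≤ m := hmax ⟨p, j⟩ (by simp [hcj])
          have h3 : (j : ℕ) ≠ k p - m := fun e => hj (Fin.ext e)
          simp only [chain]
          rw [← Module.End.mul_apply, ← pow_add, pow_zero_of_le (g.zero p) (by omega), smul_zero]
      · simp
    · simp only [d, dif_neg hp, zero_smul]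
      refine Finset.sum_eq_zero fun j _ => ?_
      simp only [map_smul, chain]
      rw [← Module.End.mul_apply, ← pow_add, pow_zero_of_le (g.zero p) (by omega), smul_zero])
  have h4 := congrFun hd x₁.1
  simp only [d, Pi.zero_apply] at h4
  rw [dif_pos (show m ≤ k x₁.1 by omega)] at h4
  refine hx₁.2 ?_
  rw [← h4]
  congr 1
  exact Sigma.ext rfl (heq_of_eq (Fin.ext (show (x₁.2 : ℕ) = k x₁.1 - m by have := x₁.2.isLt; omega)))

/-! ## The Jordan basis -/

section Basis

variable (b : Module.Basis ((i : ι) × Fin (k i)) F V) (hb : ∀ x, b x = chain N k v x)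
  (hz : ∀ i, (N ^ k i) (v i) = 0)
include hb hz

theorem repr_pow (n : ℕ) (x : V) (i : ι) (a : Fin (k i)) :
    b.repr ((N ^ n) x) ⟨i, a⟩ =
      if n ≤ (a : ℕ) then b.repr x ⟨i, ⟨(a : ℕ) - n, lt_of_le_of_lt (Nat.sub_le _ _) a.isLt⟩⟩ else 0 := by
  classical
  let co : (i : ι) × Fin (k i) → (V →ₗ[F] F) := fun z =>
    (Finsupp.lapply z).comp b.repr.toLinearMap
  have hco : ∀ z w, co z w = b.repr w z := fun z w => rfl
  suffices h : (co ⟨i, a⟩).comp (N ^ n) =
      if n ≤ (a : ℕ) then co ⟨i, ⟨(a : ℕ) - n, lt_of_le_of_lt (Nat.sub_le _ _) a.isLt⟩⟩ else 0 by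
    have := LinearMap.congr_fun h x
    split_ifs at this ⊢ <;> simpa [hco] using this
  refine b.ext fun y => ?_
  obtain ⟨p, j⟩ := y
  simp only [LinearMap.comp_apply, hco]
  rw [hb ⟨p, j⟩]
  simp only [chain]
  rw [← Module.End.mul_apply, ← pow_add]
  by_cases hjn : n + (j : ℕ) < k p
  · rw [show (N ^ (n + (j : ℕ))) (v p) = b ⟨p, ⟨n + j, hjn⟩⟩ by rw [hb]; rfl, b.repr_self,
      Finsupp.single_apply]
    split_ifs with h1 h2
    · simp only [LinearMap.comp_apply, hco]
      rw [show (N ^ (j : ℕ)) (v p) = b ⟨p, j⟩ from (hb ⟨p, j⟩).symm, b.repr_self, Finsupp.single_apply,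
        if_pos]
      obtain ⟨rfl, h⟩ := Sigma.mk.inj_iff.1 h1
      have := congrArg Fin.val (eq_of_heq h)
      exact Sigma.ext rfl (heq_of_eq (Fin.ext (by simp only at this ⊢; omega)))
    · obtain ⟨rfl, h⟩ := Sigma.mk.inj_iff.1 h1
      have := congrArg Fin.val (eq_of_heq h)
      simp only at this
      omega
    · simp only [LinearMap.comp_apply, hco]
      rw [show (N ^ (j : ℕ)) (v p) = b ⟨p, j⟩ from (hb ⟨p, j⟩).symm, b.repr_self, Finsupp.single_apply,
        if_neg]
      intro h3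
      obtain ⟨rfl, h⟩ := Sigma.mk.inj_iff.1 h3
      have := congrArg Fin.val (eq_of_heq h)
      exact h1 (Sigma.ext rfl (heq_of_eq (Fin.ext (by simp only at this ⊢; omega))))
    · rfl
  · rw [pow_zero_of_le (hz p) (by omega), map_zero, Finsupp.zero_apply]
    split_ifs with h1
    · simp only [LinearMap.comp_apply, hco]
      rw [show (N ^ (j : ℕ)) (v p) = b ⟨p, j⟩ from (hb ⟨p, j⟩).symm, b.repr_self, Finsupp.single_apply,
        if_neg]
      intro h3
      obtain ⟨rfl, h⟩ := Sigma.mk.inj_iff.1 h3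
      have := congrArg Fin.val (eq_of_heq h)
      simp only at this
      have := a.isLt
      omega
    · rfl

theorem support_ker {n : ℕ} {x : V} (hx : (N ^ n) x = 0) {i : ι} {j : Fin (k i)}
    (hne : b.repr x ⟨i, j⟩ ≠ 0) : k i ≤ (j : ℕ) + n := by
  by_contra hlt
  have h := repr_pow b hb hz n x i ⟨(j : ℕ) + n, by omega⟩
  rw [hx, map_zero, Finsupp.zero_apply, if_pos (Nat.le_add_left _ _)] at h
  refine hne (Eq.trans ?_ h.symm)
  congr 1
  exact Sigma.ext rfl (heq_of_eq (Fin.ext (by simp)))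

theorem expand (hS : Skew η B N) {n : ℕ} (hn : 1 ≤ n) {x : V} (hx : (N ^ n) x = 0) {y : V}
    (hy : (N ^ n) y = 0) :
    B y ((N ^ (n - 1)) x) = ∑ p : Ht k n,
      b.repr x ⟨p.1, ⟨0, by rw [p.2]; omega⟩⟩ * B y ((N ^ (n - 1)) (v p.1)) := by
  classical
  conv_lhs => rw [← b.sum_repr x]
  simp only [map_sum, map_smul, smul_eq_mul, hb, chain, ← Module.End.mul_apply, ← pow_add]
  rw [Fintype.sum_sigma, ← Finset.sum_subtype (Finset.univ.filter fun p => k p = n) (fun p => by simp)
    (fun p : ι => if h : 0 < k p then b.repr x ⟨p, ⟨0, h⟩⟩ * B y ((N ^ (n - 1)) (v p)) else 0) |>.trans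
      (Finset.sum_congr rfl fun p _ => dif_pos (by rw [p.2]; omega)), Finset.sum_filter]
  refine Finset.sum_congr rfl fun p _ => ?_
  have hzero : ∀ j : Fin (k p), ¬(k p = n ∧ (j : ℕ) = 0) →
      b.repr x ⟨p, j⟩ * B y ((N ^ (n - 1 + (j : ℕ))) (v p)) = 0 := by
    intro j hj
    by_cases hne : b.repr x ⟨p, j⟩ = 0
    · rw [hne, zero_mul]
    · have h1 := support_ker b hb hz hx hne
      rcases Nat.eq_zero_or_pos (j : ℕ) with hj0 | hj0
      · rw [pow_zero_of_le (hz p) (by omega), map_zero, mul_zero]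
      · rw [hS.zero_left hy (by omega), mul_zero]
  by_cases hp : k p = n
  · rw [if_pos hp, dif_pos (show 0 < k p by omega), Finset.sum_eq_single (⟨0, by omega⟩ : Fin (k p))
      (fun j _ hj => hzero j fun h => hj (Fin.ext h.2)) (by simp)]
    rfl
  · rw [if_neg hp]
    exact Finset.sum_eq_zero fun j _ => hzero j fun h => hp h.1

theorem det_of_basis (hS : Skew η B N) (n : ℕ) (hpos : ∀ i, 0 < k i) : (gram B N k v n).det ≠ 0 := by
  classical
  intro hdet
  obtain ⟨c, hc0, hc⟩ := Matrix.exists_mulVec_eq_zero_iff.2 hdet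
  obtain ⟨p₀, hp₀⟩ := Function.ne_iff.1 hc0
  have hn : 1 ≤ n := by have := hpos p₀.1; rw [p₀.2] at this; exact this
  set x := ∑ p : Ht k n, c p • v p.1 with hxdef
  have hzn : ∀ p : Ht k n, (N ^ n) (v p.1) = 0 := fun p => by
    have h := hz p.1
    rwa [p.2] at h
  have hx : (N ^ n) x = 0 := by
    rw [hxdef, map_sum]; exact Finset.sum_eq_zero fun p _ => by rw [map_smul, hzn, smul_zero]
  have hperp : ∀ y, (N ^ n) y = 0 → B y ((N ^ (n - 1)) x) = 0 := by
    intro y hy
    have h1 : B x ((N ^ (n - 1)) y) = 0 := by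
      rw [expand b hb hz hS hn hy hx]
      refine Finset.sum_eq_zero fun q _ => ?_
      rw [hS.swap_pow (n - 1) (v q.1) x, ← gram_mulVec, hc, Pi.zero_apply, mul_zero, mul_zero]
    rw [hS.swap_pow, h1, mul_zero]
  have hrefl : B.IsRefl := fun a a' h => by rw [hS.swap a a', h, mul_zero]
  have hnd : B.Nondegenerate := ⟨fun a ha => hS.nd a ha, fun a ha => hS.nd a fun a' => by
    rw [hS.swap a' a, ha, mul_zero]⟩
  have hle : LinearMap.range (N ^ n) ≤ B.orthogonal (LinearMap.ker (N ^ n)) := by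
    rintro _ ⟨w, rfl⟩ y hy
    exact hS.zero_left (LinearMap.mem_ker.1 hy) le_rfl w
  have heq : LinearMap.range (N ^ n) = B.orthogonal (LinearMap.ker (N ^ n)) := by
    refine Submodule.eq_of_le_of_finrank_le hle ?_
    rw [LinearMap.BilinForm.finrank_orthogonal hnd]
    have := (N ^ n).finrank_range_add_finrank_ker
    omega
  obtain ⟨w, hw⟩ : (N ^ (n - 1)) x ∈ LinearMap.range (N ^ n) := by
    rw [heq]
    exact fun y hy => hperp y (LinearMap.mem_ker.1 hy)
  refine hp₀ ?_
  have h2 := congrArg (fun z => b.repr z ⟨p₀.1, ⟨n - 1, by rw [p₀.2]; omega⟩⟩) hw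
  simp only [repr_pow b hb hz, le_refl, if_true, Nat.sub_self] at h2
  rw [if_neg (by omega)] at h2
  rw [Pi.zero_apply]
  refine Eq.trans ?_ h2.symm
  rw [hxdef, map_sum, Finsupp.finset_sum_apply, Finset.sum_eq_single p₀]
  · rw [map_smul, show v p₀.1 = b ⟨p₀.1, ⟨0, hpos _⟩⟩ by rw [hb]; simp [chain], b.repr_self]
    simp
  · intro p _ hne
    rw [map_smul, show v p.1 = b ⟨p.1, ⟨0, hpos _⟩⟩ by rw [hb]; simp [chain], b.repr_self]
    rw [Finsupp.smul_apply, Finsupp.single_apply, if_neg, smul_zero]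
    intro h
    exact hne (Subtype.ext (congrArg Sigma.fst h))
  · simp

end Basis

/-- The basis of chains. -/
noncomputable def IsGen.basis (hS : Skew η B N) (g : IsGen B N k v) :
    Module.Basis ((i : ι) × Fin (k i)) F V :=
  Module.Basis.mk (g.li hS) (le_of_eq ((g.li hS).span_eq_top_of_card_eq_finrank'
    (by rw [Fintype.card_sigma]; simp only [Fintype.card_fin]; exact g.card)).symm)

theorem IsGen.basis_apply (hS : Skew η B N) (g : IsGen B N k v) (x : (i : ι) × Fin (k i)) :
    g.basis hS x = chain N k v x := Module.Basis.mk_apply _ _ _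

/-- Generators exist for every skew nilpotent map. -/
theorem exists_family {N : V →ₗ[F] V} {p : ℕ} : ∀ (d : ℕ) (T : Submodule F V), finrank F T = d →
    CfsgLib.Elusive.Inv N T → (∀ t ∈ T, (N ^ p) t = 0) →
    ∃ (n : ℕ) (k : Fin n → ℕ) (v : Fin n → V), (∀ i, 0 < k i) ∧ (∀ i, (N ^ k i) (v i) = 0) ∧
      (∀ i, v i ∈ T) ∧ ∑ i, k i = d ∧ T ≤ Submodule.span F (Set.range (chain N k v)) := by
  intro d
  induction d using Nat.strong_induction_on with
  | _ d ih =>
    intro T hd hT hp
    rcases Nat.eq_zero_or_pos d with rfl | hpos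
    · exact ⟨0, Fin.elim0, Fin.elim0, fun i => i.elim0, fun i => i.elim0, fun i => i.elim0, by simp,
        by rw [Submodule.finrank_eq_zero.1 hd]; exact bot_le⟩
    classical
    have hne : ∃ a, ∀ t ∈ T, (N ^ a) t = 0 := ⟨p, hp⟩
    obtain ⟨a, ha⟩ : ∃ a, Nat.find hne = a + 1 := by
      refine Nat.exists_eq_succ_of_ne_zero fun h => ?_
      have hT0 : T = ⊥ := (Submodule.eq_bot_iff _).2 fun t ht => by
        simpa [h] using Nat.find_spec hne t ht
      rw [hT0, finrank_bot] at hd
      omega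
    obtain ⟨u, hu, hua⟩ : ∃ u ∈ T, (N ^ a) u ≠ 0 := by
      by_contra hcon
      push Not at hcon
      exact Nat.find_min hne (show a < Nat.find hne by omega) hcon
    obtain ⟨U, W, hU, hW, hsup, hinf, hUd, hUp⟩ :=
      CfsgLib.Elusive.exists_block hT (k := a) (ha ▸ Nat.find_spec hne) hu hua
    have hspec : ∀ t ∈ T, (N ^ (a + 1)) t = 0 := ha ▸ Nat.find_spec hne
    obtain ⟨u', hu', hua'⟩ : ∃ u' ∈ U, (N ^ a) u' ≠ 0 := by
      by_contra hcon
      push Not at hcon
      have h1 := hUp a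
      rw [CfsgLib.Elusive.kerDim, inf_eq_left.2 fun x hx => LinearMap.mem_ker.2 (hcon x hx), hUd] at h1
      omega
    have hUz : (N ^ (a + 1)) u' = 0 := hspec u' (hsup ▸ Submodule.mem_sup_left hu')
    have hli : LinearIndependent F fun j : Fin (a + 1) => (N ^ (j : ℕ)) u' := by
      refine Fintype.linearIndependent_iff.2 fun c hc => ?_
      by_contra hex
      push Not at hex
      obtain ⟨j₀, hj₀⟩ := hex
      obtain ⟨j₁, hj₁, hmin⟩ := Finset.exists_min_image (Finset.univ.filter fun j => c j ≠ 0)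
        (fun j : Fin (a + 1) => (j : ℕ)) ⟨j₀, by simpa using hj₀⟩
      rw [Finset.mem_filter] at hj₁
      have h1 := congrArg (N ^ (a - (j₁ : ℕ))) hc
      rw [map_zero, map_sum, Finset.sum_eq_single j₁ (fun j _ hj => ?_) (by simp), map_smul,
        ← Module.End.mul_apply, ← pow_add, Nat.sub_add_cancel (by omega)] at h1
      · exact hj₁.2 ((smul_eq_zero.1 h1).resolve_right hua')
      · rw [map_smul]
        by_cases hcj : c j = 0
        · rw [hcj, zero_smul]
        · have h2 : (j₁ : ℕ) ≤ j := hmin j (by simp [hcj])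
          have h3 : (j₁ : ℕ) ≠ j := fun e => hj (Fin.ext e.symm)
          rw [← Module.End.mul_apply, ← pow_add, pow_zero_of_le hUz (by omega), smul_zero]
    have hUspan : U ≤ Submodule.span F (Set.range fun j : Fin (a + 1) => (N ^ (j : ℕ)) u') := by
      refine (Submodule.eq_of_le_of_finrank_le (Submodule.span_le.2 ?_) ?_).ge
      · rintro _ ⟨j, rfl⟩; exact hU.pow _ u' hu'
      · rw [hUd, finrank_span_eq_card hli, Fintype.card_fin]
    have hWd : finrank F W + (a + 1) = d := by
      have := Submodule.finrank_sup_add_finrank_inf_eq U W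
      rw [hsup, hinf, finrank_bot, hd, hUd] at this
      omega
    obtain ⟨n, k, v, hk, hv, hvW, hsum, hspan⟩ := ih (finrank F W) (by omega) W rfl hW
      fun t ht => hp t (hsup ▸ Submodule.mem_sup_right ht)
    refine ⟨n + 1, Fin.cons (a + 1) k, Fin.cons u' v, fun i => ?_, fun i => ?_, fun i => ?_, ?_, ?_⟩
    · induction i using Fin.cases with
      | zero => simp
      | succ i => simpa using hk i
    · induction i using Fin.cases with
      | zero => simpa using hUz
      | succ i => simpa using hv i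
    · induction i using Fin.cases with
      | zero => simpa using hsup ▸ Submodule.mem_sup_left (T := W) hu'
      | succ i => simpa using hsup ▸ Submodule.mem_sup_right (S := U) (hvW i)
    · rw [Fin.sum_univ_succ]; simp only [Fin.cons_zero, Fin.cons_succ, hsum]; omega
    · rw [← hsup]
      refine sup_le (hUspan.trans (Submodule.span_le.2 ?_)) (hspan.trans (Submodule.span_le.2 ?_))
      · rintro _ ⟨j, rfl⟩
        exact Submodule.subset_span ⟨⟨0, ⟨j, j.isLt⟩⟩, rfl⟩
      · rintro _ ⟨⟨i, j⟩, rfl⟩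
        exact Submodule.subset_span ⟨⟨i.succ, ⟨j, by simpa using j.isLt⟩⟩, by simp [chain]⟩

/-- Generators exist for every skew nilpotent map. -/
theorem exists_gen (hS : Skew η B N) (hN : IsNilpotent N) :
    ∃ (n : ℕ) (k : Fin n → ℕ) (v : Fin n → V), IsGen B N k v := by
  obtain ⟨p, hp⟩ := hN
  obtain ⟨n, k, v, hk, hv, -, hsum, hspan⟩ := exists_family (N := N) (p := p) _ ⊤ rfl
    (fun x _ => Submodule.mem_top) (fun t _ => by rw [hp, LinearMap.zero_apply])
  rw [finrank_top] at hsum
  have hcard : Fintype.card ((i : Fin n) × Fin (k i)) = finrank F V := by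
    rw [Fintype.card_sigma]; simp only [Fintype.card_fin]; exact hsum
  exact ⟨n, k, v, hk, hv, hsum,
    fun m => det_of_basis (basisOfTopLeSpanOfCardEqFinrank _ hspan hcard)
      (fun x => by rw [coe_basisOfTopLeSpanOfCardEqFinrank]) hv hS m hk⟩

/-! ## Square roots -/

theorem exists_sqrt_poly (h2 : (2 : F) ≠ 0) : ∀ n, 1 ≤ n → ∃ a r : Polynomial F,
    (1 + Polynomial.X * a) ^ 2 = 1 + Polynomial.X + Polynomial.X ^ n * r := by
  intro n hn
  induction n, hn using Nat.le_induction with
  | base => exact ⟨0, -1, by ring⟩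
  | succ n hn ih =>
    obtain ⟨a, r, h⟩ := ih
    set c := Polynomial.C ((2 : F)⁻¹) with hc
    have h2c : 2 * c = 1 := by
      rw [hc, show (2 : Polynomial F) = Polynomial.C 2 from (map_ofNat Polynomial.C 2).symm,
        ← map_mul, mul_inv_cancel₀ h2, map_one]
    refine ⟨a - c * Polynomial.X ^ (n - 1) * r, -a * r + c ^ 2 * Polynomial.X ^ (n - 1) * r ^ 2, ?_⟩
    obtain ⟨m, rfl⟩ := Nat.exists_eq_add_of_le hn
    rw [show 1 + m - 1 = m by omega]
    rw [pow_succ, pow_add, pow_one] at *
    linear_combination h - (Polynomial.X * Polynomial.X ^ m * r * (1 + Polynomial.X * a)) * h2c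

theorem exists_sqrt (h2 : (2 : F) ≠ 0) {E : V →ₗ[F] V} (hE : IsNilpotent E) :
    ∃ P : Polynomial F, Polynomial.aeval E P * Polynomial.aeval E P = 1 + E := by
  obtain ⟨n, hn⟩ := hE
  obtain ⟨a, r, h⟩ := exists_sqrt_poly h2 (n + 1) (by omega)
  refine ⟨1 + Polynomial.X * a, ?_⟩
  rw [← map_mul, ← pow_two, h]
  simp [pow_succ, hn]

/-! ## The Gram matrices determine the map -/

/-- The weight of a chain vector. -/
def wt (k : ι → ℕ) (x : (i : ι) × Fin (k i)) : ℕ :=
  (x.2 : ℕ) * (∑ i, k i + 1) + (∑ i, k i - k x.1)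

theorem repr_eq_zero_of_le (hS : Skew η B N) (g : IsGen B N k v) {E : V →ₗ[F] V} (hc : Commute E N)
    (hE : ∀ p q, k p = k q → B (v q) ((N ^ (k p - 1)) (E (v p))) = 0) (i : ι) (y : (i : ι) × Fin (k i))
    (hy : wt k y ≤ ∑ j, k j - k i) : (g.basis hS).repr (E (v i)) y = 0 := by
  set n := k i with hn
  have hcomm : ∀ (a : ℕ) (x : V), (N ^ a) (E x) = E ((N ^ a) x) := fun a x =>
    LinearMap.congr_fun (hc.pow_right a).symm.eq x
  have hker : (N ^ n) (E (v i)) = 0 := by rw [hcomm, g.zero, map_zero]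
  by_contra hne
  obtain ⟨p, j⟩ := y
  have h1 := support_ker (g.basis hS) (g.basis_apply hS) g.zero hker hne
  have hle : ∀ a, k a ≤ ∑ j, k j := fun a => Finset.single_le_sum (fun b _ => Nat.zero_le (k b)) (Finset.mem_univ a)
  simp only [wt] at hy
  have hj : (j : ℕ) = 0 := by
    by_contra hj
    have : (∑ a, k a + 1) ≤ (j : ℕ) * (∑ a, k a + 1) := Nat.le_mul_of_pos_left _ (Nat.pos_of_ne_zero hj)
    omega
  rw [hj, zero_mul, zero_add] at hy
  have hkp : k p = n := by have := hle p; have := hle i; omega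
  have hn1 : 1 ≤ n := g.pos i
  have hmv : gram B N k v n *ᵥ
      (fun p : Ht k n => (g.basis hS).repr (E (v i)) ⟨p.1, ⟨0, by rw [p.2]; omega⟩⟩) = 0 := by
    funext q
    have h2 := expand (g.basis hS) (g.basis_apply hS) g.zero hS hn1 hker
      (y := v q.1) (by have := g.zero q.1; rwa [q.2] at this)
    rw [hE i q.1 q.2.symm] at h2
    rw [Pi.zero_apply, h2]
    exact Finset.sum_congr rfl fun p _ => mul_comm _ _
  have h3 := congrFun (Matrix.eq_zero_of_mulVec_eq_zero (g.det n) hmv) ⟨p, hkp⟩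
  simp only [Pi.zero_apply] at h3
  refine hne ?_
  rw [show j = ⟨0, by omega⟩ from Fin.ext hj]
  exact h3

theorem isNilpotent_of_tops (hS : Skew η B N) (g : IsGen B N k v) {E : V →ₗ[F] V} (hc : Commute E N)
    (hE : ∀ p q, k p = k q → B (v q) ((N ^ (k p - 1)) (E (v p))) = 0) : IsNilpotent E := by
  classical
  set b := g.basis hS with hbdef
  let K := ∑ i, k i
  let Fil : ℕ → Submodule F V := fun t => Submodule.span F (b '' {x | t ≤ wt k x})
  have hmap : ∀ t x, x ∈ Fil t → E x ∈ Fil (t + 1) := by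
    intro t x hx
    refine (Submodule.span_le.2 ?_ : Fil t ≤ (Fil (t + 1)).comap E) hx
    rintro _ ⟨⟨i, j⟩, hij, rfl⟩
    rw [SetLike.mem_coe, Submodule.mem_comap, g.basis_apply hS]
    simp only [chain]
    rw [show E ((N ^ (j : ℕ)) (v i)) = (N ^ (j : ℕ)) (E (v i)) from
      LinearMap.congr_fun (hc.pow_right (j : ℕ)).eq (v i), ← b.sum_repr (E (v i)), map_sum]
    refine Submodule.sum_mem _ fun y _ => ?_
    rw [map_smul]
    by_cases h0 : b.repr (E (v i)) y = 0
    · rw [h0, zero_smul]; exact Submodule.zero_mem _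
    refine Submodule.smul_mem _ _ ?_
    have hw : K - k i < wt k y := by
      by_contra hle
      exact h0 (repr_eq_zero_of_le hS g hc hE i y (Nat.le_of_not_lt hle))
    obtain ⟨p, l⟩ := y
    rw [hbdef, g.basis_apply hS]
    simp only [chain]
    rw [← Module.End.mul_apply, ← pow_add]
    rcases Nat.lt_or_ge ((j : ℕ) + l) (k p) with hlt | hge
    · refine Submodule.subset_span ⟨⟨p, ⟨(j : ℕ) + l, hlt⟩⟩, ?_, ?_⟩
      · simp only [Set.mem_ofPred_eq, wt, add_mul] at hij hw ⊢
        omega
      · rw [g.basis_apply hS]; rfl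
    · rw [pow_zero_of_le (g.zero p) hge]; exact Submodule.zero_mem _
  have hiter : ∀ n t x, x ∈ Fil t → (E ^ n) x ∈ Fil (t + n) := by
    intro n
    induction n with
    | zero => intro t x hx; simpa using hx
    | succ n ih =>
      intro t x hx
      rw [pow_succ', Module.End.mul_apply, ← add_assoc]
      exact hmap _ _ (ih t x hx)
  refine ⟨(K + 1) * (K + 1), LinearMap.ext fun x => ?_⟩
  have hx : x ∈ Fil 0 := by
    have := b.mem_span x
    simpa [Fil] using this
  have h4 := hiter ((K + 1) * (K + 1)) 0 x hx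
  have hbot : Fil (0 + (K + 1) * (K + 1)) = ⊥ := by
    refine Submodule.span_eq_bot.2 ?_
    rintro _ ⟨⟨i, j⟩, hij, rfl⟩
    exfalso
    have h5 : k i ≤ K := Finset.single_le_sum (fun b _ => Nat.zero_le (k b)) (Finset.mem_univ i)
    have h6 : (j : ℕ) * (K + 1) ≤ K * (K + 1) := Nat.mul_le_mul_right _ (by omega)
    have h7 : (K + 1) * (K + 1) = K * (K + 1) + (K + 1) := by ring
    simp only [Set.mem_ofPred_eq, wt] at hij
    simp only [K] at h5 h6 h7 hij
    omega
  rw [hbot, Submodule.mem_bot] at h4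
  simpa using h4

variable {V' : Type*} [AddCommGroup V'] [Module F V'] [FiniteDimensional F V']
  {B' : LinearMap.BilinForm F V'} {N' : V' →ₗ[F] V'} {v' : ι → V'}

/-- Generators with equal Gram matrices give an isometry intertwining the maps. -/
theorem exists_isometry (h2 : (2 : F) ≠ 0) (hS : Skew η B N) (hS' : Skew η B' N') (g : IsGen B N k v)
    (g' : IsGen B' N' k v') (hG : ∀ n, gram B N k v n = gram B' N' k v' n) :
    ∃ e : V ≃ₗ[F] V', (∀ x, e (N x) = N' (e x)) ∧ ∀ x y, B' (e x) (e y) = B x y := by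
  classical
  let e₀ := (g.basis hS).equiv (g'.basis hS') (Equiv.refl _)
  have he₀ : ∀ x, e₀ (chain N k v x) = chain N' k v' x := fun x => by
    rw [← g.basis_apply hS, ← g'.basis_apply hS']; simp [e₀]
  have hcomm : ∀ x, e₀ (N x) = N' (e₀ x) := by
    suffices h : e₀.toLinearMap.comp N = N'.comp e₀.toLinearMap from fun x => LinearMap.congr_fun h x
    refine (g.basis hS).ext fun x => ?_
    obtain ⟨i, j⟩ := x
    simp only [LinearMap.comp_apply, LinearEquiv.coe_coe, g.basis_apply hS, he₀]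
    simp only [chain, ← Module.End.mul_apply, ← pow_succ']
    rcases Nat.lt_or_ge ((j : ℕ) + 1) (k i) with hlt | hge
    · exact he₀ ⟨i, ⟨(j : ℕ) + 1, hlt⟩⟩
    · rw [pow_zero_of_le (g.zero i) hge, pow_zero_of_le (g'.zero i) hge, map_zero]
  have hpow : ∀ (a : ℕ) x, e₀ ((N ^ a) x) = (N' ^ a) (e₀ x) := by
    intro a
    induction a with
    | zero => intro x; simp
    | succ a ih => intro x; rw [pow_succ', pow_succ', Module.End.mul_apply, Module.End.mul_apply, hcomm, ih]
  have hnd : B.Nondegenerate := ⟨fun a ha => hS.nd a ha, fun a ha => hS.nd a fun a' => by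
    rw [hS.swap a' a, ha, mul_zero]⟩
  let S : V →ₗ[F] V := (B.toDual hnd).symm.toLinearMap.comp (B'.compl₁₂ e₀.toLinearMap e₀.toLinearMap)
  have hSdef : ∀ x y, B (S x) y = B' (e₀ x) (e₀ y) := fun x y => by
    show B ((B.toDual hnd).symm (B'.compl₁₂ e₀.toLinearMap e₀.toLinearMap x)) y = _
    rw [LinearMap.BilinForm.apply_toDual_symm_apply]
    rfl
  have hSsymm : ∀ x y, B x (S y) = B' (e₀ x) (e₀ y) := fun x y => by
    rw [hS.swap (S y) x, hSdef, hS'.swap (e₀ x) (e₀ y), ← mul_assoc, hS.sq, one_mul]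
  have hSN : Commute S N := by
    refine LinearMap.ext fun y => sub_eq_zero.1 (hS.nd _ fun z => ?_)
    simp only [Module.End.mul_apply, map_sub, LinearMap.sub_apply]
    rw [hSdef, hS.adj, hSdef, hcomm, hS'.adj, ← hcomm, sub_self]
  set E := S - 1 with hEdef
  have hEN : Commute E N := hSN.sub_left (Commute.one_left N)
  have hE : IsNilpotent E := by
    refine isNilpotent_of_tops hS g hEN fun p q hpq => ?_
    rw [LinearMap.congr_fun (hEN.pow_right (k p - 1)).symm.eq (v p) |> fun h =>
      (show (N ^ (k p - 1)) (E (v p)) = E ((N ^ (k p - 1)) (v p)) from h), hEdef, LinearMap.sub_apply,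
      Module.End.one_apply, map_sub, hSsymm, hpow]
    have h1 := congrFun (congrFun (hG (k p)) ⟨q, hpq.symm⟩) ⟨p, rfl⟩
    simp only [gram, Matrix.of_apply] at h1
    have e1 : ∀ i, e₀ (v i) = v' i := fun i => by
      have := he₀ ⟨i, ⟨0, g.pos i⟩⟩
      simpa [chain] using this
    rw [e1, e1, h1, sub_self]
  obtain ⟨P, hP⟩ := exists_sqrt h2 hE
  set X := Polynomial.aeval E P with hX
  rw [hEdef, add_sub_cancel] at hP
  have hEsa : ∀ x y, B (E x) y = B x (E y) := fun x y => by
    simp only [hEdef, LinearMap.sub_apply, Module.End.one_apply, map_sub]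
    rw [hSdef, hSsymm]
  have hEp : ∀ (a : ℕ) x y, B ((E ^ a) x) y = B x ((E ^ a) y) := by
    intro a
    induction a with
    | zero => intro x y; simp
    | succ a ih =>
      intro x y
      rw [pow_succ, Module.End.mul_apply, ih, hEsa, ← Module.End.mul_apply, ← pow_succ', pow_succ]
  have hQsa : ∀ (Q : Polynomial F) x y, B (Polynomial.aeval E Q x) y = B x (Polynomial.aeval E Q y) := by
    intro Q
    induction Q using Polynomial.induction_on' with
    | add Q R hp hq =>
      intro x y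
      simp only [map_add, LinearMap.add_apply]
      rw [hp, hq]
    | monomial a c =>
      intro x y
      simp only [Polynomial.aeval_monomial, Algebra.algebraMap_eq_smul_one, smul_mul_assoc, one_mul,
        LinearMap.smul_apply, map_smul]
      rw [hEp]
  have hQN : ∀ Q : Polynomial F, Commute (Polynomial.aeval E Q) N := by
    intro Q
    induction Q using Polynomial.induction_on' with
    | add Q R hp hq => rw [map_add]; exact hp.add_left hq
    | monomial a c =>
      rw [Polynomial.aeval_monomial]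
      exact (Algebra.commute_algebraMap_left c N).mul_left (hEN.pow_left a)
  have hXsa : ∀ x y, B (X x) y = B x (X y) := hQsa P
  have hXN : Commute X N := hQN P
  have hSu : Function.Injective S := by
    rw [← LinearMap.ker_eq_bot, Submodule.eq_bot_iff]
    intro x hx
    refine e₀.map_eq_zero_iff.1 (hS'.nd _ fun y => ?_)
    obtain ⟨y, rfl⟩ := e₀.surjective y
    rw [← hSdef, LinearMap.mem_ker.1 hx, map_zero, LinearMap.zero_apply]
  have hXinj : Function.Injective X := by
    intro x y hxy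
    apply hSu
    rw [← hP, Module.End.mul_apply, Module.End.mul_apply, hxy]
  let eX : V ≃ₗ[F] V := LinearEquiv.ofInjectiveEndo X hXinj
  have heX : ∀ x, eX x = X x := fun x => rfl
  refine ⟨eX.symm.trans e₀, fun x => ?_, fun x y => ?_⟩
  · obtain ⟨x, rfl⟩ := eX.surjective x
    simp only [LinearEquiv.trans_apply, eX.symm_apply_apply]
    rw [heX, ← show X (N x) = N (X x) from LinearMap.congr_fun hXN.eq x, ← heX, eX.symm_apply_apply,
      hcomm]
  · obtain ⟨x, rfl⟩ := eX.surjective x
    obtain ⟨y, rfl⟩ := eX.surjective y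
    simp only [LinearEquiv.trans_apply, eX.symm_apply_apply]
    rw [heX, heX, ← hSsymm, hXsa, ← hP, Module.End.mul_apply]

/-! ## Congruence of the Gram matrices -/

theorem gram_transpose (hS : Skew η B N) {n : ℕ} (hn : 1 ≤ n) :
    (gram B N k v n)ᵀ = (-(η * (-1 : F) ^ n)) • gram B N k v n := by
  funext p q
  show B (v q.1) ((N ^ (n - 1)) (v p.1)) = -(η * (-1 : F) ^ n) * B (v p.1) ((N ^ (n - 1)) (v q.1))
  rw [hS.swap_pow (n - 1) (v p.1) (v q.1)]
  obtain ⟨m, rfl⟩ := Nat.exists_eq_add_of_le hn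
  rw [show 1 + m - 1 = m by omega, pow_add, pow_one]
  ring

variable {ι' : Type} [Fintype ι'] [DecidableEq ι'] {k' : ι' → ℕ} {w : ι' → V}

/-- Two families of generators have congruent Gram matrices. -/
theorem exists_congr (hS : Skew η B N) (g : IsGen B N k v) (g' : IsGen B N k' w) {n : ℕ} (hn : 1 ≤ n) :
    ∃ P : Matrix (Ht k n) (Ht k' n) F, gram B N k' w n = Pᵀ * gram B N k v n * P := by
  refine ⟨Matrix.of fun p p' => (g.basis hS).repr (w p'.1) ⟨p.1, ⟨0, by rw [p.2]; omega⟩⟩, ?_⟩
  funext q' p'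
  have hz : ∀ p : Ht k' n, (N ^ n) (w p.1) = 0 := fun p => by
    have h := g'.zero p.1
    rwa [p.2] at h
  have hz' : ∀ p : Ht k n, (N ^ n) (v p.1) = 0 := fun p => by
    have h := g.zero p.1
    rwa [p.2] at h
  have hb := g.basis_apply hS
  show B (w q'.1) ((N ^ (n - 1)) (w p'.1)) = _
  rw [expand _ hb g.zero hS hn (hz p') (hz q'), Matrix.mul_apply]
  refine Finset.sum_congr rfl fun p _ => ?_
  rw [mul_comm, Matrix.of_apply, Matrix.mul_apply, hS.swap_pow (n - 1) (v p.1) (w q'.1),
    expand _ hb g.zero hS hn (hz q') (hz' p), Finset.mul_sum]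
  congr 1
  refine Finset.sum_congr rfl fun q _ => ?_
  simp only [gram, Matrix.transpose_apply, Matrix.of_apply]
  rw [hS.swap_pow (n - 1) (v p.1) (v q.1)]
  ring

theorem card_ht_le (hS : Skew η B N) (g : IsGen B N k v) (g' : IsGen B N k' w) {n : ℕ} (hn : 1 ≤ n) :
    Fintype.card (Ht k' n) ≤ Fintype.card (Ht k n) := by
  obtain ⟨P, hP⟩ := exists_congr hS g g' hn
  have h1 := Matrix.rank_of_isUnit _ ((Matrix.isUnit_iff_isUnit_det _).2
    (isUnit_iff_ne_zero.2 (g'.det n)))
  rw [hP] at h1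
  rw [← h1]
  refine (Matrix.rank_mul_le_right _ _).trans ?_
  exact Matrix.rank_le_card_height _

theorem card_ht_eq (hS : Skew η B N) (g : IsGen B N k v) (g' : IsGen B N k' w) (n : ℕ) :
    Fintype.card (Ht k' n) = Fintype.card (Ht k n) := by
  rcases Nat.eq_zero_or_pos n with rfl | hn
  · haveI : IsEmpty (Ht k 0) := ⟨fun p => by have := g.pos p.1; omega⟩
    haveI : IsEmpty (Ht k' 0) := ⟨fun p => by have := g'.pos p.1; omega⟩
    rw [Fintype.card_eq_zero, Fintype.card_eq_zero]
  · exact le_antisymm (card_ht_le hS g g' hn) (card_ht_le hS g' g hn)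

end CfsgLib.Geo.NilForms
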