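import Cfsg.Agent.Geo.InvolCayley
import Cfsg.Agent.Classical.SemisimpleCore
import Cfsg.Agent.GLElem.RegularCentralizer
import Mathlib.LinearAlgebra.SymplecticGroup

/-!
Regular unipotent elements of symplectic groups in odd characteristic: centraliser and classes.
-/

set_option autoImplicit false
set_option linter.style.haveILetI false

namespace CfsgLib.Geo.SpRegUnip

open Matrix

variable {F : Type*} [Field F] {m : ℕ}

/-- Square matrices on the symplectic space. -/
abbrev SMat (F : Type*) (m : ℕ) := Matrix (Fin m ⊕ Fin m) (Fin m ⊕ Fin m) F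

/-- The symplectic adjoint. -/
noncomputable def adj (M : SMat F m) : SMat F m :=
  CfsgLib.SemiConj.adjG (Matrix.J (Fin m) F) (-Matrix.J (Fin m) F) M

theorem hJ : Matrix.J (Fin m) F * -Matrix.J (Fin m) F = 1 := by
  rw [mul_neg, J_squared, neg_neg]

theorem adj_mul (M N : SMat F m) : adj (M * N) = adj N * adj M := CfsgLib.SemiConj.adjG_mul hJ M N

theorem adj_one : adj (1 : SMat F m) = 1 := CfsgLib.SemiConj.adjG_one hJ

theorem adj_add (M N : SMat F m) : adj (M + N) = adj M + adj N := CfsgLib.SemiConj.adjG_add M N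

theorem adj_sub (M N : SMat F m) : adj (M - N) = adj M - adj N := CfsgLib.SemiConj.adjG_sub M N

theorem adj_smul (c : F) (M : SMat F m) : adj (c • M) = c • adj M := CfsgLib.SemiConj.adjG_smul c M

theorem adj_adj (M : SMat F m) : adj (adj M) = M :=
  CfsgLib.SemiConj.adjG_adjG hJ (ε := -1) (by rw [J_transpose, neg_one_smul]) (by ring) M

theorem adj_pow (M : SMat F m) (k : ℕ) : adj (M ^ k) = adj M ^ k :=
  CfsgLib.SemiConj.adjG_pow hJ M k

theorem J_adj (M : SMat F m) : Matrix.J (Fin m) F * adj M = Mᵀ * Matrix.J (Fin m) F := by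
  rw [adj, CfsgLib.SemiConj.adjG, ← mul_assoc, ← mul_assoc, hJ, one_mul]

theorem mem_sp_iff {g : SMat F m} : g ∈ Matrix.symplecticGroup (Fin m) F ↔ adj g * g = 1 := by
  rw [SymplecticGroup.mem_iff', ← J_adj, mul_assoc]
  refine ⟨fun h => ?_, fun h => by rw [h, mul_one]⟩
  have := congrArg (-Matrix.J (Fin m) F * ·) h
  simpa only [← mul_assoc, mul_eq_one_comm.1 (hJ (F := F) (m := m)), one_mul] using this

/-- The quadratic function `x ↦ B(x, M x)`. -/
noncomputable def bv (M : SMat F m) (x : Fin m ⊕ Fin m → F) : F :=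
  x ⬝ᵥ (Matrix.J (Fin m) F * M) *ᵥ x

theorem bv_mulVec (M g : SMat F m) (x : Fin m ⊕ Fin m → F) :
    bv M (g *ᵥ x) = bv (adj g * M * g) x := by
  have e : ∀ A : SMat F m, x ⬝ᵥ (gᵀ * A * g) *ᵥ x = (g *ᵥ x) ⬝ᵥ A *ᵥ (g *ᵥ x) := fun A => by
    rw [← mulVec_mulVec, ← mulVec_mulVec, dotProduct_mulVec x gᵀ, vecMul_transpose]
  rw [bv, bv, ← e, ← mul_assoc _ _ g, ← mul_assoc (Matrix.J (Fin m) F) (adj g), J_adj]
  simp only [mul_assoc]

theorem bv_smul (c : F) (M : SMat F m) (x : Fin m ⊕ Fin m → F) : bv (c • M) x = c * bv M x := by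
  rw [bv, bv, mul_smul_comm, smul_mulVec, dotProduct_smul, smul_eq_mul]

theorem eq_zero_of_bv (h2 : (2 : F) ≠ 0) {M : SMat F m} (hM : adj M = -M) (h : ∀ x, bv M x = 0) :
    M = 0 := by
  set A := Matrix.J (Fin m) F * M with hA
  have hsym : Aᵀ = A := by
    rw [hA, transpose_mul, J_transpose, mul_neg, ← J_adj, hM, mul_neg, neg_neg]
  have h0 : A = 0 := Matrix.toBilin'.injective (LinearMap.ext₂ fun x y => by
    rw [map_zero, LinearMap.zero_apply, LinearMap.zero_apply, Matrix.toBilin'_apply']
    have hxy : y ⬝ᵥ A *ᵥ x = x ⬝ᵥ A *ᵥ y := by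
      rw [dotProduct_comm, dotProduct_mulVec x, ← mulVec_transpose, hsym]
    have e := h (x + y)
    have ex := h x
    have ey := h y
    simp only [bv, ← hA, mulVec_add, add_dotProduct, dotProduct_add] at e ex ey
    rw [ex, ey, hxy, zero_add, add_zero, ← two_mul] at e
    exact (mul_eq_zero.mp e).resolve_left h2)
  have := congrArg (-Matrix.J (Fin m) F * ·) h0
  rw [mul_zero, hA, ← mul_assoc, mul_eq_one_comm.1 (hJ (F := F) (m := m)), one_mul] at this
  exact this

/-- A regular unipotent element. -/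
def Reg (u : Matrix.symplecticGroup (Fin m) F) : Prop :=
  ((u : SMat F m) - 1) ^ (2 * m) = 0 ∧ ((u : SMat F m) - 1).rank = 2 * m - 1

/-- The nilpotent part. -/
noncomputable def nil (u : Matrix.symplecticGroup (Fin m) F) : SMat F m := (u : SMat F m) - 1

/-- The last nonzero power of the nilpotent part. -/
noncomputable def top (u : Matrix.symplecticGroup (Fin m) F) : SMat F m := nil u ^ (2 * m - 1)

variable {u : Matrix.symplecticGroup (Fin m) F}

theorem finrank_space : Module.finrank F (Fin m ⊕ Fin m → F) = 2 * m := by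
  rw [Module.finrank_fintype_fun_eq_card, Fintype.card_sum, Fintype.card_fin, two_mul]

theorem nil_data (hm : 1 ≤ m) (hu : Reg u) :
    IsNilpotent (Matrix.toLinAlgEquiv' (nil u)) ∧
      Module.finrank F (LinearMap.ker (Matrix.toLinAlgEquiv' (nil u))) ≤ 1 ∧
      Module.finrank F (Fin m ⊕ Fin m → F) = (2 * m - 1) + 1 := by
  refine ⟨⟨2 * m, by rw [← map_pow, show nil u ^ (2 * m) = 0 from hu.1, map_zero]⟩, ?_,
    by rw [finrank_space]; omega⟩
  have h := (Matrix.mulVecLin (nil u)).finrank_range_add_finrank_ker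
  have hr : Module.finrank F (LinearMap.range (Matrix.mulVecLin (nil u))) = 2 * m - 1 := hu.2
  rw [finrank_space, hr] at h
  have : LinearMap.ker (Matrix.toLinAlgEquiv' (nil u)) = LinearMap.ker (Matrix.mulVecLin (nil u)) := by
    ext v; simp
  rw [this]; omega

theorem exists_top_ne (hm : 1 ≤ m) (hu : Reg u) : ∃ v, top u *ᵥ v ≠ 0 := by
  obtain ⟨hN, h1, hV⟩ := nil_data hm hu
  obtain ⟨v, hv⟩ := CfsgLib.GLElem.pow_ne_zero_of_regular hV h1
  exact ⟨v, by rw [← map_pow, Matrix.toLinAlgEquiv'_apply] at hv; exact hv⟩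

theorem nil_mul_top (hm : 1 ≤ m) (hu : Reg u) : nil u * top u = 0 := by
  rw [top, ← pow_succ', Nat.sub_add_cancel (by omega)]; exact hu.1

/-- Every matrix commuting with `nil u` is determined by, and can be prescribed at, a cyclic vector. -/
theorem cyclic (hm : 1 ≤ m) (hu : Reg u) {v : Fin m ⊕ Fin m → F} (hv : top u *ᵥ v ≠ 0) :
    (∀ g g' : SMat F m, Commute g (nil u) → Commute g' (nil u) → g *ᵥ v = g' *ᵥ v → g = g') ∧
    (∀ w, ∃ g ∈ Submodule.span F (Set.range fun k : ℕ => nil u ^ k), g *ᵥ v = w) := by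
  obtain ⟨hN, h1, hV⟩ := nil_data hm hu
  have hsp := CfsgLib.GLElem.span_powers_eq_top hV hN h1 (v := v)
    (by rw [← map_pow, Matrix.toLinAlgEquiv'_apply]; exact hv)
  refine ⟨fun g g' hg hg' h => ?_, fun w => ?_⟩
  · refine Matrix.toLinAlgEquiv'.injective (CfsgLib.GLElem.commute_ext hsp ?_ ?_ ?_)
    · exact hg.map _
    · exact hg'.map _
    · rw [Matrix.toLinAlgEquiv'_apply, Matrix.toLinAlgEquiv'_apply, h]
  · have hw : w ∈ Submodule.span F (Set.range fun k : ℕ => (Matrix.toLinAlgEquiv' (nil u) ^ k) v) :=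
      hsp ▸ Submodule.mem_top
    induction hw using Submodule.span_induction with
    | mem x hx =>
      obtain ⟨k, rfl⟩ := hx
      exact ⟨nil u ^ k, Submodule.subset_span ⟨k, rfl⟩, by
        show _ = (Matrix.toLinAlgEquiv' (nil u) ^ k) v
        rw [← map_pow, Matrix.toLinAlgEquiv'_apply]⟩
    | zero => exact ⟨0, zero_mem _, zero_mulVec v⟩
    | add x y _ _ hx hy =>
      obtain ⟨a, ha, rfl⟩ := hx
      obtain ⟨b, hb, rfl⟩ := hy
      exact ⟨a + b, add_mem ha hb, add_mulVec a b v⟩
    | smul c x _ hx =>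
      obtain ⟨a, ha, rfl⟩ := hx
      exact ⟨c • a, Submodule.smul_mem _ c ha, smul_mulVec c a v⟩

theorem commute_of_mem_span {M : SMat F m} {g h : SMat F m} (hh : Commute h M)
    (hg : g ∈ Submodule.span F (Set.range fun k : ℕ => M ^ k)) : Commute h g := by
  induction hg using Submodule.span_induction with
  | mem x hx => obtain ⟨k, rfl⟩ := hx; exact hh.pow_right k
  | zero => exact Commute.zero_right h
  | add x y _ _ hx hy => exact hx.add_right hy
  | smul c x _ hx => exact hx.smul_right c

theorem mem_span_of_commute (hm : 1 ≤ m) (hu : Reg u) {g : SMat F m} (hg : Commute g (nil u)) :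
    g ∈ Submodule.span F (Set.range fun k : ℕ => nil u ^ k) := by
  obtain ⟨v, hv⟩ := exists_top_ne hm hu
  obtain ⟨h, hh, he⟩ := (cyclic hm hu hv).2 (g *ᵥ v)
  rwa [(cyclic hm hu hv).1 g h hg (commute_of_mem_span (Commute.refl _) hh).symm he.symm]

theorem comm_commutant (hm : 1 ≤ m) (hu : Reg u) {g h : SMat F m} (hg : Commute g (nil u))
    (hh : Commute h (nil u)) : Commute g h :=
  commute_of_mem_span hg (mem_span_of_commute hm hu hh)

theorem decomp (hm : 1 ≤ m) (hu : Reg u) {g : SMat F m} (hg : Commute g (nil u)) :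
    ∃ (c : F) (d : SMat F m), Commute d (nil u) ∧ g = c • 1 + nil u * d := by
  have h := mem_span_of_commute hm hu hg
  clear hg
  induction h using Submodule.span_induction with
  | mem x hx =>
    obtain ⟨k, rfl⟩ := hx
    rcases k with _ | k
    · exact ⟨1, 0, Commute.zero_left _, by simp⟩
    · exact ⟨0, nil u ^ k, (Commute.refl _).pow_left k, by simp [pow_succ']⟩
  | zero => exact ⟨0, 0, Commute.zero_left _, by simp⟩
  | add x y _ _ hx hy =>
    obtain ⟨a, d, hd, rfl⟩ := hx
    obtain ⟨b, d', hd', rfl⟩ := hy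
    exact ⟨a + b, d + d', hd.add_left hd', by rw [add_smul, mul_add]; abel⟩
  | smul r x _ hx =>
    obtain ⟨a, d, hd, rfl⟩ := hx
    exact ⟨r * a, r • d, hd.smul_left r, by rw [smul_add, smul_smul, mul_smul_comm]⟩

theorem top_mul (hm : 1 ≤ m) (hu : Reg u) (c : F) {d : SMat F m} (hd : Commute d (nil u)) :
    (c • 1 + nil u * d) * top u = c • top u ∧ top u * (c • 1 + nil u * d) = c • top u ∧
      IsNilpotent (nil u * d) := by
  refine ⟨?_, ?_, Commute.isNilpotent_mul_right hd.symm ⟨2 * m, hu.1⟩⟩
  · rw [add_mul, smul_mul_assoc, one_mul, ← hd.eq, mul_assoc, nil_mul_top hm hu, mul_zero, add_zero]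
  · rw [mul_add, mul_smul_comm, mul_one, ← mul_assoc,
      show top u * nil u = nil u * top u from ((Commute.refl (nil u)).pow_left _).eq,
      nil_mul_top hm hu, zero_mul, add_zero]

theorem inv_mul_u : adj (u : SMat F m) * (u : SMat F m) = 1 := mem_sp_iff.mp u.2

theorem u_mul_inv : (u : SMat F m) * adj (u : SMat F m) = 1 := mul_eq_one_comm.1 inv_mul_u

theorem u_eq : (u : SMat F m) = 1 + nil u := by rw [nil]; abel

theorem commute_inv : Commute (adj (u : SMat F m)) (nil u) := by
  rw [nil]
  exact ((show Commute (adj (u : SMat F m)) (u : SMat F m) from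
    inv_mul_u.trans u_mul_inv.symm).sub_right (Commute.one_right _))

theorem adj_commute {g : SMat F m} (hg : Commute g (nil u)) : Commute (adj g) (nil u) := by
  have h1 : Commute g (u : SMat F m) := by rw [u_eq]; exact (Commute.one_right g).add_right hg
  have h2 : g * adj (u : SMat F m) = adj (u : SMat F m) * g := by
    calc g * adj (u : SMat F m) = adj (u : SMat F m) * ((u : SMat F m) * g) * adj (u : SMat F m) := by
          rw [← mul_assoc, inv_mul_u, one_mul]
      _ = adj (u : SMat F m) * g := by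
          rw [← h1.eq, mul_assoc, mul_assoc g, u_mul_inv, mul_one]
  have h3 := congrArg adj h2
  rw [adj_mul, adj_mul, adj_adj] at h3
  rw [nil]
  exact (show Commute (adj g) (u : SMat F m) from h3.symm).sub_right (Commute.one_right _)

theorem adj_top (hm : 1 ≤ m) (hu : Reg u) : adj (top u) = -top u := by
  have hNL := nil_mul_top hm hu
  have h1 : adj (u : SMat F m) * top u = top u := by
    calc adj (u : SMat F m) * top u = adj (u : SMat F m) * ((u : SMat F m) * top u) := by
          rw [u_eq, add_mul, one_mul, hNL, add_zero]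
      _ = top u := by rw [← mul_assoc, inv_mul_u, one_mul]
  have h2 : ∀ k, adj (u : SMat F m) ^ k * top u = top u := by
    intro k
    induction k with
    | zero => simp
    | succ k ih => rw [pow_succ, mul_assoc, h1, ih]
  have hN : adj (nil u) = -(adj (u : SMat F m) * nil u) := by
    rw [nil, adj_sub, adj_one, mul_sub, inv_mul_u, mul_one, neg_sub]
  conv_lhs => rw [top, adj_pow, hN, neg_pow,
    (commute_inv (u := u)).mul_pow, Odd.neg_one_pow ⟨m - 1, by omega⟩, ← top, h2]
  rw [neg_one_mul]

/-- Structure of the values of `bv (top u)`. -/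
theorem bv_values (h2 : (2 : F) ≠ 0) (hm : 1 ≤ m) (hu : Reg u) :
    ∃ v, top u *ᵥ v ≠ 0 ∧ bv (top u) v ≠ 0 ∧
      ∀ x, ∃ c : F, bv (top u) x = c * c * bv (top u) v := by
  obtain ⟨v, hv⟩ := exists_top_ne hm hu
  have key : ∀ x, ∃ c : F, bv (top u) x = c * c * bv (top u) v := by
    intro x
    obtain ⟨g, hg, rfl⟩ := (cyclic hm hu hv).2 x
    have hgc : Commute g (nil u) := (commute_of_mem_span (Commute.refl _) hg).symm
    obtain ⟨c, d, hd, hgd⟩ := decomp hm hu hgc
    have hL : top u * g = c • top u := by rw [hgd]; exact (top_mul hm hu c hd).2.1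
    have hL' : adj g * top u = c • top u := by
      have h3 := congrArg adj hL
      rw [adj_mul, adj_top hm hu, adj_smul, adj_top hm hu, mul_neg, smul_neg] at h3
      exact neg_injective h3
    refine ⟨c, ?_⟩
    rw [bv_mulVec, hL', smul_mul_assoc, hL, smul_smul, bv_smul]
  refine ⟨v, hv, fun h0 => ?_, key⟩
  have hz : ∀ x, bv (top u) x = 0 := fun x => by
    obtain ⟨c, hc⟩ := key x
    rw [hc, h0, mul_zero]
  exact hv (by rw [eq_zero_of_bv h2 (adj_top hm hu) hz, zero_mulVec])

/-- The commutant of `nil u`. -/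
noncomputable abbrev comm (u : Matrix.symplecticGroup (Fin m) F) : Subalgebra F (SMat F m) :=
  Subalgebra.centralizer F {nil u}

theorem mem_comm {g : SMat F m} : g ∈ comm u ↔ Commute g (nil u) := by
  rw [comm, Subalgebra.mem_centralizer_iff]
  exact ⟨fun h => (h _ rfl).symm, fun h y hy => by rw [Set.mem_singleton_iff.mp hy]; exact h.eq.symm⟩

/-- The commutant is commutative. -/
@[reducible] noncomputable def commRing (hm : 1 ≤ m) (hu : Reg u) : CommRing (comm u) :=
  { (inferInstance : Ring (comm u)) with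
    mul_comm := fun a b => Subtype.ext (comm_commutant hm hu (mem_comm.mp a.2) (mem_comm.mp b.2)).eq }

theorem card_centralizer [Finite F] (h2 : (2 : F) ≠ 0) (hm : 1 ≤ m) (hu : Reg u) :
    Nat.card (Subgroup.centralizer ({u} : Set (Matrix.symplecticGroup (Fin m) F))) =
      2 * Nat.card F ^ m := by
  classical
  obtain ⟨v, hv⟩ := exists_top_ne hm hu
  letI := commRing hm hu
  let τ : comm u →+* comm u :=
    { toFun := fun a => ⟨adj a.1, mem_comm.mpr (adj_commute (mem_comm.mp a.2))⟩
      map_one' := Subtype.ext adj_one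
      map_mul' := fun a b => Subtype.ext ((adj_mul a.1 b.1).trans
        (comm_commutant hm hu (adj_commute (mem_comm.mp b.2)) (adj_commute (mem_comm.mp a.2))).eq)
      map_zero' := Subtype.ext (by simp [adj, CfsgLib.SemiConj.adjG])
      map_add' := fun a b => Subtype.ext (adj_add a.1 b.1) }
  have hτ : ∀ a, (τ a).1 = adj a.1 := fun a => rfl
  have hττ : ∀ a, τ (τ a) = a := fun a => Subtype.ext (adj_adj a.1)
  let t : comm u := algebraMap F (comm u) (2 : F)⁻¹
  have ht : t * 2 = 1 := by
    rw [show (2 : comm u) = algebraMap F (comm u) 2 from (map_ofNat _ 2).symm, ← map_mul,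
      inv_mul_cancel₀ h2, map_one]
  have hτt : τ t = t := Subtype.ext (by
    rw [hτ, show (t : SMat F m) = (2 : F)⁻¹ • 1 from Algebra.algebraMap_eq_smul_one _, adj_smul, adj_one])
  have h2u : IsUnit (2 : comm u) := IsUnit.of_mul_eq_one t (by rw [mul_comm, ht])
  have hres : ∀ a : comm u, ∃ c : F, top u * a.1 = c • top u ∧
      IsNilpotent (a - algebraMap F (comm u) c) := by
    intro a
    obtain ⟨c, d, hd, he⟩ := decomp hm hu (mem_comm.mp a.2)
    obtain ⟨-, e2, e3⟩ := top_mul hm hu c hd
    obtain ⟨k, hk⟩ := e3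
    refine ⟨c, by rw [he]; exact e2, k, Subtype.ext ?_⟩
    show (a.1 - algebraMap F (SMat F m) c) ^ k = 0
    rw [he, Algebra.algebraMap_eq_smul_one, add_sub_cancel_left, hk]
  have hL0 : top u ≠ 0 := fun h => hv (by rw [h, zero_mulVec])
  haveI : Nontrivial (comm u) := ⟨0, 1, fun h => by
    have : (1 : SMat F m) = 0 := (congrArg Subtype.val h).symm
    exact hL0 (by rw [← mul_one (top u), this, mul_zero])⟩
  have hskew : ∀ a, τ a = -a → ∃ b : comm u, a = (⟨nil u, mem_comm.mpr (Commute.refl _)⟩ : comm u) * b := by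
    intro a ha
    obtain ⟨c, d, hd, he⟩ := decomp hm hu (mem_comm.mp a.2)
    have hc : c = 0 := by
      obtain ⟨e1, e2, -⟩ := top_mul hm hu c hd
      rw [← he] at e1 e2
      have h3 := congrArg adj e2
      rw [adj_mul, show adj a.1 = -a.1 from congrArg Subtype.val ha, adj_top hm hu, neg_mul_neg, e1,
        adj_smul, adj_top hm hu, smul_neg, ← sub_eq_zero, sub_neg_eq_add, ← two_smul F, smul_smul] at h3
      rcases smul_eq_zero.mp h3 with h | h
      · exact (mul_eq_zero.mp h).resolve_left h2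
      · exact absurd h hL0
    refine ⟨⟨d, mem_comm.mpr hd⟩, Subtype.ext ?_⟩
    show a.1 = nil u * d
    rw [he, hc, zero_smul, zero_add]
  have hNnil : IsNilpotent (⟨nil u, mem_comm.mpr (Commute.refl _)⟩ : comm u) :=
    ⟨2 * m, Subtype.ext hu.1⟩
  -- the two eigenspaces have the same size
  set N' : comm u := ⟨nil u, mem_comm.mpr (Commute.refl _)⟩ with hN'
  let ui : comm u := ⟨adj (u : SMat F m), mem_comm.mpr commute_inv⟩
  have hui : ui * (1 + N') = 1 := Subtype.ext (by
    show adj (u : SMat F m) * (1 + nil u) = 1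
    rw [← u_eq, inv_mul_u])
  have hτu : τ (1 + N') = ui := Subtype.ext (by
    show adj (1 + nil u) = _
    rw [← u_eq])
  let δ : comm u := 1 + N' - ui
  have hδ : τ δ = -δ := by
    have hτi : τ ui = 1 + N' := by rw [← hτu, hττ]
    simp only [δ, map_sub, hτu, hτi, neg_sub]
  have hδN : δ = N' * (ui * (2 + N')) := by linear_combination (-(1 + N')) * hui
  have hW : IsUnit (ui * (2 + N')) :=
    (IsUnit.of_mul_eq_one (1 + N') hui).mul (InvolCayley.isUnit_unit_add h2u hNnil)
  have hNker : ∀ b : comm u, N' * b = 0 → τ b = -b := by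
    intro b hb
    obtain ⟨hNil, h1, -⟩ := nil_data hm hu
    have hker : LinearMap.ker (Matrix.toLinAlgEquiv' (nil u)) = Submodule.span F {top u *ᵥ v} := by
      refine (Submodule.eq_of_le_of_finrank_le ?_ ?_).symm
      · rw [Submodule.span_le, Set.singleton_subset_iff, SetLike.mem_coe, LinearMap.mem_ker,
          Matrix.toLinAlgEquiv'_apply, mulVec_mulVec, nil_mul_top hm hu, zero_mulVec]
      · rw [finrank_span_singleton hv]; exact h1
    have : b.1 *ᵥ v ∈ Submodule.span F {top u *ᵥ v} := by
      rw [← hker, LinearMap.mem_ker, Matrix.toLinAlgEquiv'_apply, mulVec_mulVec,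
        show nil u * b.1 = 0 from congrArg Subtype.val hb, zero_mulVec]
    obtain ⟨c, hc⟩ := Submodule.mem_span_singleton.mp this
    have he : b.1 = c • top u := (cyclic hm hu hv).1 _ _ (mem_comm.mp b.2)
      (((Commute.refl (nil u)).pow_left _).smul_left c) (by rw [smul_mulVec, hc])
    exact Subtype.ext (by rw [hτ, Subalgebra.coe_neg, he, adj_smul, adj_top hm hu, smul_neg])
  let f : {b : comm u // τ b = b} → {a : comm u // τ a = -a} := fun b =>
    ⟨δ * b.1, by rw [map_mul, hδ, b.2, neg_mul]⟩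
  have hf : Function.Bijective f := by
    constructor
    · intro b b' h
      have h' : δ * (b.1 - b'.1) = 0 := by
        linear_combination (congrArg Subtype.val h : δ * b.1 = δ * b'.1)
      rw [hδN, mul_assoc, mul_comm (ui * _), ← mul_assoc] at h'
      have h3 := hNker _ (hW.mul_left_eq_zero.mp h')
      rw [map_sub, b.2, b'.2] at h3
      have h4 : (2 : comm u) * (b.1 - b'.1) = 0 := by linear_combination h3
      exact Subtype.ext (sub_eq_zero.mp (h2u.mul_right_eq_zero.mp h4))
    · rintro ⟨a, ha⟩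
      obtain ⟨d, rfl⟩ := hskew a ha
      obtain ⟨k, hk⟩ := hW.exists_right_inv
      refine ⟨⟨t * (d * k + τ (d * k)), by rw [map_mul, map_add, hττ, hτt, add_comm]⟩, Subtype.ext ?_⟩
      show δ * (t * (d * k + τ (d * k))) = N' * d
      have h1 : δ * (d * k) = N' * d := by rw [hδN]; linear_combination (N' * d) * hk
      have h3 : δ * τ (d * k) = N' * d := by
        have := congrArg τ h1
        rw [map_mul, hδ, ha] at this
        linear_combination (-1 : comm u) * this
      linear_combination t * h1 + t * h3 + (N' * d) * ht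
  have hsplit : Nat.card {b : comm u // τ b = b} * Nat.card {a : comm u // τ a = -a} =
      Nat.card (comm u) := by
    rw [← Nat.card_prod]
    refine Nat.card_congr
      { toFun := fun x => x.1.1 + x.2.1
        invFun := fun x => (⟨t * (x + τ x), by rw [map_mul, map_add, hττ, hτt, add_comm]⟩,
          ⟨t * (x - τ x), by rw [map_mul, map_sub, hττ, hτt, ← mul_neg, neg_sub]⟩)
        left_inv := fun x => ?_
        right_inv := fun x => ?_ }
    · refine Prod.ext (Subtype.ext ?_) (Subtype.ext ?_)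
      · show t * (x.1.1 + x.2.1 + τ (x.1.1 + x.2.1)) = x.1.1
        rw [map_add, x.1.2, x.2.2]
        linear_combination x.1.1 * ht
      · show t * (x.1.1 + x.2.1 - τ (x.1.1 + x.2.1)) = x.2.1
        rw [map_add, x.1.2, x.2.2]
        linear_combination x.2.1 * ht
    · show t * (x + τ x) + t * (x - τ x) = x
      linear_combination x * ht
  have hall : Nat.card (comm u) = Nat.card F ^ (2 * m) := by
    let e : comm u → (Fin m ⊕ Fin m → F) := fun g => g.1 *ᵥ v
    have he : Function.Bijective e := by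
      refine ⟨fun a b h => Subtype.ext ((cyclic hm hu hv).1 _ _ (mem_comm.mp a.2) (mem_comm.mp b.2) h),
        fun w => ?_⟩
      obtain ⟨g, hg, hgw⟩ := (cyclic hm hu hv).2 w
      exact ⟨⟨g, mem_comm.mpr (commute_of_mem_span (Commute.refl _) hg).symm⟩, hgw⟩
    rw [Nat.card_congr (Equiv.ofBijective e he), Nat.card_fun, Nat.card_sum, Nat.card_fin, two_mul]
  have hskewcard : Nat.card {a : comm u // τ a = -a} = Nat.card F ^ m := by
    rw [Nat.card_congr (Equiv.ofBijective f hf), hall] at hsplit
    rw [← pow_two, mul_comm 2 m, pow_mul] at hsplit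
    exact Nat.pow_left_injective two_ne_zero hsplit
  have hnorm : Nat.card {g : comm u // τ g * g = 1} =
      Nat.card (Subgroup.centralizer ({u} : Set (Matrix.symplecticGroup (Fin m) F))) := by
    refine Nat.card_congr
      { toFun := fun g => ⟨⟨g.1.1, mem_sp_iff.mpr (congrArg Subtype.val g.2)⟩,
          Subgroup.mem_centralizer_singleton_iff.mpr (Subtype.ext ?_)⟩
        invFun := fun g => ⟨⟨g.1.1, mem_comm.mpr ?_⟩, Subtype.ext (mem_sp_iff.mp g.1.2)⟩
        left_inv := fun g => rfl
        right_inv := fun g => rfl }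
    · show g.1.1 * (u : SMat F m) = (u : SMat F m) * g.1.1
      rw [u_eq]
      exact ((Commute.one_right _).add_right (mem_comm.mp g.1.2)).eq
    · have : Commute g.1.1 (u : SMat F m) :=
        congrArg Subtype.val (Subgroup.mem_centralizer_singleton_iff.mp g.2)
      exact this.sub_right (Commute.one_right _)
  rw [← hnorm, InvolCayley.card_norm_one τ h2u ?_ ?_, hskewcard]
  · intro a ha
    obtain ⟨b, rfl⟩ := hskew a ha
    exact Commute.isNilpotent_mul_right (Commute.all _ _) hNnil
  · intro g hg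
    obtain ⟨c, hc, hn⟩ := hres g
    have hg1 : adj g.1 * g.1 = 1 := congrArg Subtype.val hg
    have hc2 : c * c = 1 := by
      have h3 : adj g.1 * (top u * g.1) = c • (adj g.1 * top u) := by rw [hc, mul_smul_comm]
      have hcg : Commute (top u) g.1 := ((mem_comm.mp g.2).symm.pow_left _)
      rw [hcg.eq, ← mul_assoc, hg1, one_mul] at h3
      have h4 := congrArg adj h3
      rw [adj_top hm hu, adj_smul, adj_mul, adj_adj, adj_top hm hu, neg_mul, smul_neg, neg_inj, hc,
        smul_smul, ← sub_eq_zero] at h4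
      conv_lhs at h4 => arg 1; rw [← one_smul F (top u)]
      rw [← sub_smul] at h4
      exact (sub_eq_zero.mp ((smul_eq_zero.mp h4).resolve_right hL0)).symm
    rcases mul_self_eq_one_iff.mp hc2 with rfl | rfl
    · exact Or.inl (by simpa using hn)
    · exact Or.inr (by simpa [sub_neg_eq_add] using hn)

end CfsgLib.Geo.SpRegUnip
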