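import Cfsg.Agent.Geo.NilModel
import Cfsg.Agent.Geo.SpRegUnip

/-!
# Unipotent classes of symplectic groups in odd characteristic

The classes of elements `u` with `u ^ p = 1` of `Sp (2m)` correspond to the partitions of `2m` with parts
at most `p`, odd parts having even multiplicity, with a sign on each even part.
-/

set_option autoImplicit false
set_option linter.style.haveILetI false
set_option linter.unusedSectionVars false

namespace CfsgLib.Geo.SpUnipClasses

open Matrix Module CfsgLib.Geo.NilForms CfsgLib.Geo.SpRegUnip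

variable {F : Type*} [Field F] {m : ℕ}

/-! ## Matrices and forms -/

/-- The standard alternating form. -/
noncomputable def stdB (F : Type*) [Field F] (m : ℕ) : LinearMap.BilinForm F (Fin m ⊕ Fin m → F) :=
  Matrix.toBilin' (Matrix.J (Fin m) F)

theorem stdB_apply (x y : Fin m ⊕ Fin m → F) : stdB F m x y = x ⬝ᵥ Matrix.J (Fin m) F *ᵥ y :=
  Matrix.toBilin'_apply' _ _ _

theorem stdB_adj (M : SMat F m) (x y : Fin m ⊕ Fin m → F) :
    stdB F m (M *ᵥ x) y = stdB F m x (adj M *ᵥ y) := by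
  rw [stdB_apply, stdB_apply, mulVec_mulVec, J_adj, ← mulVec_mulVec, dotProduct_mulVec x,
    vecMul_transpose]

theorem stdB_swap (x y : Fin m ⊕ Fin m → F) : stdB F m y x = -stdB F m x y := by
  rw [stdB_apply, stdB_apply, dotProduct_mulVec, ← mulVec_transpose, J_transpose, neg_mulVec,
    neg_dotProduct, dotProduct_comm]

theorem stdB_nd (x : Fin m ⊕ Fin m → F) (h : ∀ y, stdB F m x y = 0) : x = 0 :=
  (LinearMap.BilinForm.nondegenerate_toBilin'_of_det_ne_zero' (Matrix.J (Fin m) F)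
    (Matrix.isUnit_det_J _ _).ne_zero).1 x h

theorem skew_of_adj {X : SMat F m} (h : adj X = -X) : Skew (-1) (stdB F m) (Matrix.toLin' X) :=
  ⟨by ring, fun x y => by rw [neg_one_mul]; exact stdB_swap x y, stdB_nd, fun x y => by
    rw [Matrix.toLin'_apply, Matrix.toLin'_apply, stdB_adj, h, neg_mulVec, map_neg]⟩

theorem adj_of_skew {X : SMat F m} (h : Skew (-1 : F) (stdB F m) (Matrix.toLin' X)) : adj X = -X := by
  apply Matrix.toLin'.injective
  refine LinearMap.ext fun y => sub_eq_zero.1 (stdB_nd _ fun x => ?_)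
  rw [stdB_swap, map_sub, map_neg, LinearMap.neg_apply, map_neg, Matrix.toLin'_apply, ← stdB_adj,
    Matrix.toLin'_apply, sub_neg_eq_add, ← Matrix.toLin'_apply, ← Matrix.toLin'_apply, h.adj,
    neg_add_cancel, neg_zero]

theorem mem_sp_of_preserves {g : SMat F m} (h : ∀ x y, stdB F m (g *ᵥ x) (g *ᵥ y) = stdB F m x y) :
    g ∈ Matrix.symplecticGroup (Fin m) F := by
  rw [mem_sp_iff]
  apply Matrix.toLin'.injective
  refine LinearMap.ext fun y => sub_eq_zero.1 (stdB_nd _ fun x => ?_)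
  rw [stdB_swap, map_sub, Matrix.toLin'_apply, Matrix.toLin'_apply, ← mulVec_mulVec, ← stdB_adj, h,
    one_mulVec, sub_self, neg_zero]

theorem preserves_of_mem {g : SMat F m} (h : g ∈ Matrix.symplecticGroup (Fin m) F)
    (x y : Fin m ⊕ Fin m → F) : stdB F m (g *ᵥ x) (g *ᵥ y) = stdB F m x y := by
  rw [stdB_adj, mulVec_mulVec, mem_sp_iff.1 h, one_mulVec]

/-- A non-degenerate alternating space of dimension `2m` is the standard one. -/
theorem exists_std_iso {V : Type*} [AddCommGroup V] [Module F V] [FiniteDimensional F V]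
    (h2 : (2 : F) ≠ 0) (B : LinearMap.BilinForm F V) (hswap : ∀ x y, B y x = -B x y)
    (hnd : ∀ x, (∀ y, B x y = 0) → x = 0) (hfr : finrank F V = 2 * m) :
    ∃ e : V ≃ₗ[F] (Fin m ⊕ Fin m → F), ∀ x y, stdB F m (e x) (e y) = B x y := by
  classical
  have halt : B.IsAlt := fun x => by
    have h := hswap x x
    exact (mul_eq_zero.1 (show (2 : F) * B x x = 0 by linear_combination h)).resolve_left h2
  obtain ⟨c, d, b, h1, h2', h3, h4⟩ := CfsgLib.Forms.exists_symplectic_basis _ _ B halt rfl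
  have hd : d = 0 := by
    by_contra hd
    exact b.ne_zero (Sum.inr ⟨0, Nat.pos_of_ne_zero hd⟩) (hnd _ fun y => h4 _ y)
  subst hd
  have hc : c = m := by
    have := Module.finrank_eq_card_basis b
    simp at this
    omega
  subst hc
  let b' := b.reindex ((Equiv.sumEmpty (Fin c ⊕ Fin c) (Fin 0)).trans (Equiv.sumComm (Fin c) (Fin c)))
  refine ⟨b'.equiv (Pi.basisFun F (Fin c ⊕ Fin c)) (Equiv.refl _), ?_⟩
  suffices h : (stdB F c).compl₁₂ (b'.equiv (Pi.basisFun F (Fin c ⊕ Fin c)) (Equiv.refl _)).toLinearMap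
      (b'.equiv (Pi.basisFun F (Fin c ⊕ Fin c)) (Equiv.refl _)).toLinearMap = B from
    fun x y => LinearMap.congr_fun (LinearMap.congr_fun h x) y
  refine LinearMap.BilinForm.ext_basis b' fun i j => ?_
  simp only [LinearMap.compl₁₂_apply, LinearEquiv.coe_coe, Module.Basis.equiv_apply, Equiv.refl_apply,
    Pi.basisFun_apply]
  rw [stdB, Matrix.toBilin'_single]
  have h1' : ∀ p q : Fin c, B (b (Sum.inl (Sum.inr p))) (b (Sum.inl (Sum.inl q))) =
      if q = p then -1 else 0 := fun p q => by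
    rw [hswap, h1]
    split_ifs <;> simp
  simp only [b', Module.Basis.reindex_apply, Equiv.symm_trans_apply, Equiv.sumComm_symm,
    Equiv.sumComm_apply]
  rcases i with i | i <;> rcases j with j | j <;>
    simp [Matrix.J, h1, h1', h2', h3, Matrix.one_apply, eq_comm] <;> split_ifs <;> simp

/-! ## The Cayley correspondence -/

/-- `X` is the Cayley transform of `u`. -/
def Rel (u X : SMat F m) : Prop := X * (u + 1) = u - 1 ∧ u * (1 - X) = 1 + X

theorem Rel.conj (h2 : (2 : F) ≠ 0) {u u' X X' g : SMat F m} (hu : Rel u X) (hu' : Rel u' X')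
    (hX : IsNilpotent X) : g * u = u' * g ↔ g * X = X' * g := by
  have hunit : IsUnit (1 - X) := hX.isUnit_one_sub
  constructor
  · intro h
    have hu1 : IsUnit (u + 1) := by
      have h3 : (u + 1) * (1 - X) = (2 : F) • (1 : SMat F m) := by
        rw [add_mul, one_mul, hu.2, two_smul]; abel
      exact IsUnit.of_mul_eq_one ((2 : F)⁻¹ • (1 - X)) (by
        rw [mul_smul_comm, h3, smul_smul, inv_mul_cancel₀ h2, one_smul])
    rw [← hu1.mul_left_inj, mul_assoc, hu.1, mul_assoc, mul_add g, mul_one, h,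
      show u' * g + g = (u' + 1) * g by rw [add_mul, one_mul], ← mul_assoc, hu'.1, mul_sub, mul_one, h,
      sub_mul, one_mul]
  · intro h
    rw [← hunit.mul_left_inj, mul_assoc, hu.2, mul_assoc, mul_sub g, mul_one, h,
      show g - X' * g = (1 - X') * g by rw [sub_mul, one_mul], ← mul_assoc, hu'.2, mul_add, mul_one, h,
      add_mul, one_mul]

theorem exists_cayley (h2 : (2 : F) ≠ 0) {u : SMat F m} (hu : u ∈ Matrix.symplecticGroup (Fin m) F)
    {p : ℕ} (hp : (u - 1) ^ p = 0) : ∃ X, Rel u X ∧ adj X = -X ∧ X ^ p = 0 := by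
  have hu1 : IsUnit (u + 1) := by
    have h : IsUnit ((2 : F) • (1 : SMat F m) + (u - 1)) := by
      refine IsNilpotent.isUnit_add_left_of_commute ⟨p, hp⟩ ?_ ((Commute.one_right _).smul_right _)
      exact IsUnit.of_mul_eq_one ((2 : F)⁻¹ • (1 : SMat F m)) (by
        rw [mul_smul_comm, smul_mul_assoc, one_mul, smul_smul, inv_mul_cancel₀ h2, one_smul])
    rwa [show (2 : F) • (1 : SMat F m) + (u - 1) = u + 1 by rw [two_smul]; abel] at h
  obtain ⟨w, hw⟩ := hu1
  set X := (u - 1) * (↑w⁻¹ : SMat F m) with hXdef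
  have hwu : Commute (↑w⁻¹ : SMat F m) (u - 1) := by
    refine (Commute.units_inv_left ?_)
    rw [hw]
    exact ((Commute.refl u).sub_right (Commute.one_right u)).add_left (Commute.one_left _)
  have hX1 : X * (u + 1) = u - 1 := by rw [hXdef, ← hw, mul_assoc, Units.inv_mul, mul_one]
  have hX2 : u * (1 - X) = 1 + X := by
    have hcomm : (u + 1) * X = u - 1 := by
      rw [hXdef, ← hwu.eq, ← mul_assoc, ← hw, Units.mul_inv, one_mul]
    rw [mul_sub, mul_one]
    rw [add_mul, one_mul] at hcomm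
    linear_combination (norm := abel) -hcomm
  have hX3 : X * u = u * X := by
    rw [mul_add, mul_one] at hX1
    rw [mul_sub, mul_one] at hX2
    linear_combination (norm := abel) hX1 + hX2
  refine ⟨X, ⟨hX1, hX2⟩, ?_, by rw [hXdef, hwu.symm.mul_pow, hp, zero_mul]⟩
  have h1 := congrArg adj hX2
  rw [adj_mul, adj_sub, adj_add, adj_one] at h1
  have h3 := congrArg (· * u) h1
  simp only [mul_assoc, mem_sp_iff.1 hu, mul_one] at h3
  have h4 : adj X * (u + 1) = -X * (u + 1) := by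
    rw [neg_mul, hX1, mul_add, mul_one]
    rw [add_mul, one_mul] at h3
    linear_combination (norm := abel) -h3
  exact (IsUnit.mul_left_inj (by rw [← hw]; exact w.isUnit)).1 h4

theorem exists_of_skew (h2 : (2 : F) ≠ 0) {X : SMat F m} (hX : adj X = -X) {p : ℕ} (hp : X ^ p = 0) :
    ∃ u ∈ Matrix.symplecticGroup (Fin m) F, Rel u X ∧ (u - 1) ^ p = 0 := by
  obtain ⟨w, hw⟩ := (IsNilpotent.isUnit_one_sub (r := X) ⟨p, hp⟩)
  have hwX : Commute (↑w⁻¹ : SMat F m) X := by
    refine Commute.units_inv_left ?_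
    rw [hw]
    exact (Commute.one_left X).sub_left (Commute.refl X)
  set u := (1 + X) * (↑w⁻¹ : SMat F m) with hudef
  have hu2 : u * (1 - X) = 1 + X := by rw [hudef, ← hw, mul_assoc, Units.inv_mul, mul_one]
  have hu1 : u - 1 = (2 : F) • (X * (↑w⁻¹ : SMat F m)) := by
    refine (IsUnit.mul_left_inj (a := 1 - X) (by rw [← hw]; exact w.isUnit)).1 ?_
    rw [sub_mul, hu2, one_mul, smul_mul_assoc, mul_assoc, ← hw, Units.inv_mul, mul_one, hw, two_smul]
    abel
  have huX : Commute X u :=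
    ((Commute.one_right X).add_right (Commute.refl X)).mul_right hwX.symm
  refine ⟨u, ?_, ⟨?_, hu2⟩, by
    rw [hu1, _root_.smul_pow, hwX.symm.mul_pow, hp, zero_mul, smul_zero]⟩
  · rw [mem_sp_iff]
    have h1 := congrArg adj hu2
    rw [adj_mul, adj_sub, adj_add, adj_one, hX, sub_neg_eq_add, ← sub_eq_add_neg] at h1
    -- `(1 + X) * adj u = 1 - X`
    have hpu : IsUnit (1 + X) := IsNilpotent.isUnit_one_add ⟨p, hp⟩
    refine hpu.mul_right_injective ?_
    show (1 + X) * (adj u * u) = (1 + X) * 1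
    rw [← mul_assoc, h1, mul_one, ← hu2, sub_mul, one_mul, mul_sub, mul_one, huX.eq]
  · rw [mul_add, mul_one, huX.eq]
    rw [mul_sub, mul_one] at hu2
    linear_combination (norm := abel) -hu2

/-! ## Data -/

variable {L : ℕ}

/-- Indices of the canonical generators. -/
abbrev Idx (c : Fin L → ℕ) := (j : Fin L) × Fin (c j)

/-- The heights of the canonical generators. -/
def ht (c : Fin L → ℕ) (x : Idx c) : ℕ := (x.1 : ℕ)

/-- The generators of height `j`. -/
def htEquiv (c : Fin L → ℕ) (j : Fin L) : Fin (c j) ≃ Ht (ht c) (j : ℕ) where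
  toFun a := ⟨⟨j, a⟩, rfl⟩
  invFun p := Fin.cast (congrArg c (Fin.ext p.2)) p.1.2
  left_inv _ := rfl
  right_inv p := by
    obtain ⟨⟨j', a⟩, h⟩ := p
    obtain rfl : j' = j := Fin.ext h
    rfl

theorem card_ht_idx (c : Fin L → ℕ) (j : Fin L) : Fintype.card (Ht (ht c) (j : ℕ)) = c j := by
  rw [← Fintype.card_congr (htEquiv c j), Fintype.card_fin]

theorem isEmpty_ht (c : Fin L → ℕ) {n : ℕ} (hn : L ≤ n) : IsEmpty (Ht (ht c) n) :=
  ⟨fun p => by have := p.1.1.isLt; have h : (p.1.1 : ℕ) = n := p.2; omega⟩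

/-- Canonical Gram matrices. -/
def nf (ν : F) (c : Fin L → ℕ) (s : Fin L → Bool) (n : ℕ) : Matrix (Ht (ht c) n) (Ht (ht c) n) F :=
  if h : n < L then
    (normalForm ν (c ⟨n, h⟩) n (s ⟨n, h⟩)).submatrix (htEquiv c ⟨n, h⟩).symm (htEquiv c ⟨n, h⟩).symm
  else 0

theorem nf_fin (ν : F) (c : Fin L → ℕ) (s : Fin L → Bool) (j : Fin L) :
    nf ν c s (j : ℕ) = (normalForm ν (c j) j (s j)).submatrix (htEquiv c j).symm (htEquiv c j).symm := by
  rw [nf, dif_pos j.isLt]

/-- Signed partitions as multiplicities. -/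
structure Good (m : ℕ) (c : Fin (2 * m + 1) → ℕ) (s : Fin (2 * m + 1) → Bool) : Prop where
  zero : c 0 = 0
  odd : ∀ j : Fin (2 * m + 1), Odd (j : ℕ) → Even (c j)
  sign : ∀ j : Fin (2 * m + 1), s j = true → Even (j : ℕ) ∧ 0 < c j
  sum : ∑ j, c j * (j : ℕ) = 2 * m

variable {ν : F}

theorem nf_det_ne (hν : ν ≠ 0) {c : Fin L → ℕ} (s : Fin L → Bool)
    (hodd : ∀ j : Fin L, Odd (j : ℕ) → Even (c j)) (n : ℕ) : (nf ν c s n).det ≠ 0 := by
  rcases Nat.lt_or_ge n L with hn | hn
  · rw [show n = ((⟨n, hn⟩ : Fin L) : ℕ) from rfl, nf_fin, Matrix.det_submatrix_equiv_self]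
    exact normalForm_det_ne hν _ _ _ (hodd ⟨n, hn⟩)
  · haveI := isEmpty_ht c hn
    rw [Matrix.det_isEmpty]; exact one_ne_zero

theorem nf_transpose (c : Fin L → ℕ) (s : Fin L → Bool) (n : ℕ) :
    (nf ν c s n)ᵀ = (-1 : F) ^ n • nf ν c s n := by
  rcases Nat.lt_or_ge n L with hn | hn
  · rw [show n = ((⟨n, hn⟩ : Fin L) : ℕ) from rfl, nf_fin, Matrix.transpose_submatrix, normalForm_transpose]
    rfl
  · haveI := isEmpty_ht c hn
    exact Subsingleton.elim _ _

/-- `X` has the signed partition `(c, s)`. -/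
def HasData (ν : F) (X : SMat F m) (c : Fin (2 * m + 1) → ℕ) (s : Fin (2 * m + 1) → Bool) : Prop :=
  ∃ v, IsGen (stdB F m) (Matrix.toLin' X) (ht c) v ∧
    ∀ n, gram (stdB F m) (Matrix.toLin' X) (ht c) v n = nf ν c s n

variable [Finite F] (h2 : (2 : F) ≠ 0) (hν : ¬IsSquare ν)

theorem finrank_std : finrank F (Fin m ⊕ Fin m → F) = 2 * m := by
  rw [Module.finrank_pi, Fintype.card_sum, Fintype.card_fin]; omega

include h2 hν in
/-- Every nilpotent skew matrix has a signed partition. -/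
theorem exists_data {X : SMat F m} (hX : adj X = -X) (hn : IsNilpotent X) :
    ∃ c s, Good m c s ∧ HasData ν X c s := by
  classical
  have hS := skew_of_adj hX
  obtain ⟨r, k, v, g⟩ := exists_gen hS (hn.map (Matrix.toLinAlgEquiv' : SMat F m ≃ₐ[F] _))
  have hk : ∀ i, k i < 2 * m + 1 := fun i => by
    have h1 := Finset.single_le_sum (fun b _ => Nat.zero_le (k b)) (Finset.mem_univ i)
    rw [g.card, finrank_std] at h1
    omega
  let c : Fin (2 * m + 1) → ℕ := fun j => Fintype.card (Ht k (j : ℕ))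
  have hcard : ∀ n, Fintype.card (Ht (ht c) n) = Fintype.card (Ht k n) := fun n => by
    rcases Nat.lt_or_ge n (2 * m + 1) with h | h
    · exact card_ht_idx c ⟨n, h⟩
    · haveI := isEmpty_ht c h
      haveI : IsEmpty (Ht k n) := ⟨fun p => by have := hk p.1; have := p.2; omega⟩
      rw [Fintype.card_eq_zero, Fintype.card_eq_zero]
  have hnf : ∀ j : Fin (2 * m + 1), (Odd (j : ℕ) → Even (c j)) ∧ ∃ σ : Bool,
      (σ = true → Even (j : ℕ) ∧ 0 < c j) ∧ (1 ≤ (j : ℕ) → ∃ P : Matrix (Ht k (j : ℕ)) (Fin (c j)) F,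
        Pᵀ * gram (stdB F m) (Matrix.toLin' X) k v j * P = normalForm ν (c j) j σ) := by
    intro j
    rcases Nat.eq_zero_or_pos (j : ℕ) with hj | hj
    · exact ⟨fun h => absurd h (by rw [hj]; decide), false, by simp, fun h => absurd h (by omega)⟩
    let e : Fin (c j) ≃ Ht k (j : ℕ) := (Fintype.equivFin _).symm
    obtain ⟨ho, P, σ, hσ, hP⟩ := exists_normalForm h2 hν (c j) j
      ((gram (stdB F m) (Matrix.toLin' X) k v j).submatrix e e)
      (by rw [Matrix.transpose_submatrix, gram_transpose hS hj, neg_one_mul, neg_neg]; rfl)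
      (by rw [Matrix.det_submatrix_equiv_self]; exact g.det _)
    refine ⟨ho, σ, hσ, fun _ => ⟨P.submatrix e.symm id, ?_⟩⟩
    rw [← hP]
    conv_lhs => rw [← Matrix.submatrix_id_id (gram (stdB F m) (Matrix.toLin' X) k v j)]
    rw [Matrix.transpose_submatrix, show (gram (stdB F m) (Matrix.toLin' X) k v j).submatrix id id =
      ((gram (stdB F m) (Matrix.toLin' X) k v j).submatrix e e).submatrix e.symm e.symm by
        rw [Matrix.submatrix_submatrix, Equiv.self_comp_symm],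
      Matrix.submatrix_mul_equiv, Matrix.submatrix_mul_equiv, Matrix.submatrix_id_id]
  choose hodd σ hσ hP using hnf
  obtain ⟨w, gw, hw⟩ := exists_change g (k' := ht c) hcard (nf ν c σ)
    (nf_det_ne (fun h => hν (by rw [h]; exact IsSquare.zero)) σ hodd) (by
      intro n hn
      rcases Nat.lt_or_ge n (2 * m + 1) with h | h
      · obtain ⟨P, hP'⟩ := hP ⟨n, h⟩ hn
        refine ⟨P.submatrix id (htEquiv c ⟨n, h⟩).symm, ?_⟩
        rw [show nf ν c σ n = nf ν c σ ((⟨n, h⟩ : Fin (2 * m + 1)) : ℕ) from rfl, nf_fin, ← hP']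
        rw [Matrix.transpose_submatrix]
        conv_lhs => rw [← Matrix.submatrix_id_id (gram (stdB F m) (Matrix.toLin' X) k v n)]
        rw [← Matrix.submatrix_mul _ _ _ id id Function.bijective_id,
          ← Matrix.submatrix_mul _ _ _ id _ Function.bijective_id]
      · haveI := isEmpty_ht c h
        exact ⟨0, Subsingleton.elim _ _⟩)
  refine ⟨c, σ, ⟨?_, hodd, hσ, ?_⟩, w, gw, hw⟩
  · exact Fintype.card_eq_zero_iff.2 ⟨fun p => by
      have := g.pos p.1; have h : k p.1 = ((0 : Fin (2 * m + 1)) : ℕ) := p.2; simp at h; omega⟩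
  · refine Eq.trans ?_ (gw.card.trans finrank_std)
    rw [Fintype.sum_sigma]
    simp [ht, mul_comm]

include hν in
/-- The signed partition is unique. -/
theorem data_unique {X : SMat F m} (hX : adj X = -X) {c c' : Fin (2 * m + 1) → ℕ}
    {s s' : Fin (2 * m + 1) → Bool} (hg : Good m c s) (hg' : Good m c' s') (hd : HasData ν X c s)
    (hd' : HasData ν X c' s') : c = c' ∧ s = s' := by
  classical
  have hν0 : ν ≠ 0 := fun h => hν (by rw [h]; exact IsSquare.zero)
  have hS := skew_of_adj hX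
  obtain ⟨v, g, hv⟩ := hd
  obtain ⟨v', g', hv'⟩ := hd'
  have hc : c = c' := funext fun j => by
    rw [← card_ht_idx c, ← card_ht_idx c', card_ht_eq hS g g']
  subst hc
  refine ⟨rfl, funext fun j => ?_⟩
  by_contra hne
  have hev : Even (j : ℕ) ∧ 0 < c j := by
    cases hs : s j with
    | true => exact hg.sign j hs
    | false =>
      cases hs' : s' j with
      | true => exact hg'.sign j hs'
      | false => exact absurd (hs.trans hs'.symm) hne
  have hj : 1 ≤ (j : ℕ) := by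
    rcases Nat.eq_zero_or_pos (j : ℕ) with h | h
    · have := hev.2; rw [show j = 0 from Fin.ext h, hg.zero] at this; omega
    · exact h
  obtain ⟨P, hP⟩ := exists_congr hS g g' hj
  rw [hv, hv'] at hP
  have hdet := congrArg Matrix.det hP
  rw [Matrix.det_mul, Matrix.det_mul, Matrix.det_transpose, nf_fin, nf_fin, Matrix.det_submatrix_equiv_self,
    Matrix.det_submatrix_equiv_self, normalForm_det_even _ _ hev.1 _ fun _ => hev.2,
    normalForm_det_even _ _ hev.1 _ fun _ => hev.2] at hdet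
  cases hs : s j <;> cases hs' : s' j <;> simp [hs, hs'] at hne hdet
  · exact hν ⟨P.det, hdet⟩
  · refine hν ⟨(P.det)⁻¹, ?_⟩
    have hP0 : P.det ≠ 0 := by intro h; rw [h] at hdet; simp at hdet
    field_simp
    linear_combination -hdet

include h2 hν in
/-- Every signed partition occurs. -/
theorem exists_matrix {c : Fin (2 * m + 1) → ℕ} {s : Fin (2 * m + 1) → Bool} (hg : Good m c s) :
    ∃ X : SMat F m, adj X = -X ∧ IsNilpotent X ∧ HasData ν X c s := by
  classical
  have hν0 : ν ≠ 0 := fun h => hν (by rw [h]; exact IsSquare.zero)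
  have hpos : ∀ i : Idx c, 0 < ht c i := fun i => by
    rcases Nat.eq_zero_or_pos (i.1 : ℕ) with h | h
    · have hlt := i.2.isLt
      have h0 : c i.1 = 0 := by rw [show i.1 = 0 from Fin.ext h, hg.zero]
      omega
    · exact h
  obtain ⟨N, v, hS, g, hv⟩ := exists_model (F := F) (ht c) (η := -1) (by ring) (nf ν c s) hpos
    (fun n => by rw [neg_one_mul, neg_neg]; exact nf_transpose c s n) (nf_det_ne hν0 s hg.odd)
  obtain ⟨e, he⟩ := exists_std_iso (m := m) h2 _ (fun x y => (hS.swap x y).trans (neg_one_mul _)) hS.nd (by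
    refine g.card.symm.trans (Eq.trans ?_ hg.sum)
    rw [Fintype.sum_sigma]; simp [ht, mul_comm])
  let N' : (Fin m ⊕ Fin m → F) →ₗ[F] (Fin m ⊕ Fin m → F) := e.toLinearMap.comp (N.comp e.symm.toLinearMap)
  have heN : ∀ x, e (N x) = N' (e x) := fun x => by simp [N']
  have hS' := hS.map e heN he
  obtain ⟨g', hv'⟩ := g.map e heN he
  refine ⟨LinearMap.toMatrix' N', adj_of_skew (by rwa [Matrix.toLin'_toMatrix']), ?_, ?_⟩
  · exact (isNilpotent_of_gen hS' g').map
      ((Matrix.toLinAlgEquiv' : SMat F m ≃ₐ[F] _).symm : _ ≃ₐ[F] SMat F m)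
  · refine ⟨_, by rw [Matrix.toLin'_toMatrix']; exact g', fun n => ?_⟩
    rw [Matrix.toLin'_toMatrix', hv', hv]

include h2 in
/-- Equal signed partitions give conjugate matrices. -/
theorem conj_of_data {X Y : SMat F m} (hX : adj X = -X) (hY : adj Y = -Y)
    {c : Fin (2 * m + 1) → ℕ} {s : Fin (2 * m + 1) → Bool} (hd : HasData ν X c s) (hd' : HasData ν Y c s) :
    ∃ g ∈ Matrix.symplecticGroup (Fin m) F, g * X = Y * g := by
  classical
  obtain ⟨v, g, hv⟩ := hd
  obtain ⟨v', g', hv'⟩ := hd'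
  obtain ⟨e, h1, h2'⟩ := exists_isometry h2 (skew_of_adj hX) (skew_of_adj hY) g g'
    fun n => by rw [hv, hv']
  refine ⟨LinearMap.toMatrix' e.toLinearMap, mem_sp_of_preserves fun x y => ?_, ?_⟩
  · rw [← Matrix.toLin'_apply, ← Matrix.toLin'_apply, Matrix.toLin'_toMatrix']
    exact h2' x y
  · apply Matrix.toLin'.injective
    rw [Matrix.toLin'_mul, Matrix.toLin'_mul, Matrix.toLin'_toMatrix']
    exact LinearMap.ext h1

theorem data_conj {X Y : SMat F m} {g : SMat F m} (hg : g ∈ Matrix.symplecticGroup (Fin m) F)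
    (h : g * X = Y * g) {c : Fin (2 * m + 1) → ℕ} {s : Fin (2 * m + 1) → Bool} (hd : HasData ν X c s) :
    HasData ν Y c s := by
  obtain ⟨v, gv, hv⟩ := hd
  have hg' : adj g * g = 1 := mem_sp_iff.1 hg
  let e : (Fin m ⊕ Fin m → F) ≃ₗ[F] (Fin m ⊕ Fin m → F) :=
    Matrix.toLin'OfInv (M := adj g) (M' := g) hg' (mul_eq_one_comm.1 hg')
  have he : ∀ x, e x = g *ᵥ x := fun x => rfl
  obtain ⟨g', hv'⟩ := gv.map (B' := stdB F m) (N' := Matrix.toLin' Y) e
    (fun x => by rw [he, he, Matrix.toLin'_apply, Matrix.toLin'_apply, mulVec_mulVec, mulVec_mulVec, h])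
    (fun x y => by rw [he, he, preserves_of_mem hg])
  exact ⟨_, g', fun n => by rw [hv', hv]⟩

/-- Bound on the parts from vanishing powers. -/
theorem pow_eq_zero_iff_data {X : SMat F m} (hX : adj X = -X) {c : Fin (2 * m + 1) → ℕ}
    {s : Fin (2 * m + 1) → Bool} (hd : HasData ν X c s) (p : ℕ) :
    X ^ p = 0 ↔ ∀ j, 0 < c j → (j : ℕ) ≤ p := by
  obtain ⟨v, g, -⟩ := hd
  rw [← map_eq_zero_iff (Matrix.toLinAlgEquiv' : SMat F m ≃ₐ[F] _) (AlgEquiv.injective _), map_pow]
  refine (pow_eq_zero_iff_le (skew_of_adj hX) g p).trans ⟨fun h j hj => h ⟨j, ⟨0, hj⟩⟩, fun h i => ?_⟩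
  exact h i.1 (lt_of_le_of_lt (Nat.zero_le _) i.2.isLt)

include h2 hν in
/-- The classes of elements with `u ^ p = 1` counted by signed partitions. -/
theorem exists_classes_equiv (p : ℕ) [Fact p.Prime] [CharP F p] :
    Nonempty ({d : (Fin (2 * m + 1) → ℕ) × (Fin (2 * m + 1) → Bool) //
        Good m d.1 d.2 ∧ ∀ j, 0 < d.1 j → (j : ℕ) ≤ p} ≃
      {C : ConjClasses ↥(Matrix.symplecticGroup (Fin m) F) //
        ∃ g : Matrix.symplecticGroup (Fin m) F, ConjClasses.mk g = C ∧ g ^ p = 1}) := by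
  classical
  have hpow : ∀ g : Matrix.symplecticGroup (Fin m) F, g ^ p = 1 ↔ ((g : SMat F m) - 1) ^ p = 0 := by
    intro g
    rcases isEmpty_or_nonempty (Fin m ⊕ Fin m) with h | h
    · exact ⟨fun _ => Subsingleton.elim _ _, fun _ => Subsingleton.elim _ _⟩
    · rw [sub_pow_char_of_commute p (Commute.one_right _), one_pow, sub_eq_zero, Subtype.ext_iff]
      simp
  have hex : ∀ d : {d : (Fin (2 * m + 1) → ℕ) × (Fin (2 * m + 1) → Bool) //
      Good m d.1 d.2 ∧ ∀ j, 0 < d.1 j → (j : ℕ) ≤ p}, ∃ (u : Matrix.symplecticGroup (Fin m) F) (X : SMat F m),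
      Rel (u : SMat F m) X ∧ adj X = -X ∧ IsNilpotent X ∧ HasData ν X d.1.1 d.1.2 ∧ u ^ p = 1 := by
    intro d
    obtain ⟨X, hX, hn, hd⟩ := exists_matrix h2 hν d.2.1
    obtain ⟨u, hu, hr, hp⟩ := exists_of_skew h2 hX ((pow_eq_zero_iff_data hX hd p).2 d.2.2)
    exact ⟨⟨u, hu⟩, X, hr, hX, hn, hd, (hpow _).2 hp⟩
  choose u X hrel hX hn hd hp using hex
  refine ⟨Equiv.ofBijective (fun d => ⟨ConjClasses.mk (u d), u d, rfl, hp d⟩) ⟨fun a b hab => ?_, ?_⟩⟩
  · obtain ⟨g, hg⟩ := ConjClasses.mk_eq_mk_iff_isConj.1 (congrArg Subtype.val hab)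
    have hg' := congrArg Subtype.val hg.eq
    have h1 := (Rel.conj h2 (hrel a) (hrel b) (hn a)).1 hg'
    have h3 := data_unique hν (hX b) a.2.1 b.2.1 (data_conj (g : Matrix.symplecticGroup (Fin m) F).2 h1 (hd a))
      (hd b)
    exact Subtype.ext (Prod.ext h3.1 h3.2)
  · rintro ⟨_, g, rfl, hg⟩
    obtain ⟨Y, hY, hYa, hYp⟩ := exists_cayley h2 g.2 ((hpow g).1 hg)
    obtain ⟨c, s, hgood, hdY⟩ := exists_data h2 hν hYa ⟨p, hYp⟩
    let d : {d : (Fin (2 * m + 1) → ℕ) × (Fin (2 * m + 1) → Bool) //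
        Good m d.1 d.2 ∧ ∀ j, 0 < d.1 j → (j : ℕ) ≤ p} :=
      ⟨(c, s), hgood, (pow_eq_zero_iff_data hYa hdY p).1 hYp⟩
    refine ⟨d, Subtype.ext (ConjClasses.mk_eq_mk_iff_isConj.2 ?_)⟩
    obtain ⟨h, hh, hhX⟩ := conj_of_data h2 (hX d) hYa (hd d) hdY
    refine isConj_iff.2 ⟨⟨h, hh⟩, ?_⟩
    rw [mul_inv_eq_iff_eq_mul]
    exact Subtype.ext ((Rel.conj h2 (hrel d) hY (hn d)).2 hhX)

end CfsgLib.Geo.SpUnipClasses
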