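import Cfsg.Agent.GLClass.Unipotent
import Cfsg.Agent.Unitary.ConjugacyGL

/-!
Unipotent classes of `GU n`: every unipotent class of `GL n` meets it in exactly one class.
-/

set_option autoImplicit false
set_option linter.style.haveILetI false

namespace CfsgLib.Geo.GUUnipotent

open Matrix Polynomial Module CfsgLib.GLClass

section Linear

variable {F : Type*} [Field F] [Finite F] {n : ℕ}

theorem card_range_pow {A : Matrix (Fin n) (Fin n) F} (hA : (A - 1) ^ n = 0) (k : ℕ) :
    Nat.card (Set.range fun v : Fin n → F => (A - 1) ^ k *ᵥ v) =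
      Nat.card F ^ ((partOf hA).parts.map fun x => x - k).sum := by
  classical
  obtain ⟨N, p, e, hd, hpe, ⟨ψ⟩⟩ := exists_data_eq A
  have hp : p = fun _ => X - C (1 : F) := funext fun i =>
    elemDiv_unipotent hA (x := (p i, e i)) (by rw [hd]; exact Multiset.mem_map_of_mem _ (Finset.mem_univ i))
  subst hp
  have hparts : (partOf hA).parts = Finset.univ.val.map e := by
    show (elemDiv A).map Prod.snd = _
    rw [hd, Multiset.map_map]; rfl
  have hev : ∀ v : Fin n → F, ((X - C (1 : F)) ^ k) • AEval'.of (Matrix.toLin' A) v =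
      AEval'.of (Matrix.toLin' A) ((A - 1) ^ k *ᵥ v) := by
    intro v
    have e : aeval A ((X - C (1 : F)) ^ k) = (A - 1) ^ k := by simp
    rw [← Module.AEval.of_aeval_smul, aeval_toLin', e]
    rfl
  have himg : ((AEval'.of (Matrix.toLin' A)).toEquiv.trans ψ.toEquiv) ''
      (Set.range fun v : Fin n → F => (A - 1) ^ k *ᵥ v) =
        Set.range fun x : Model (fun _ : Fin N => X - C (1 : F)) e => (X - C (1 : F)) ^ k • x := by
    ext y
    constructor
    · rintro ⟨_, ⟨v, rfl⟩, rfl⟩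
      exact ⟨ψ (AEval'.of (Matrix.toLin' A) v), (map_smul ψ _ _).symm.trans (congrArg ψ (hev v))⟩
    · rintro ⟨z, rfl⟩
      obtain ⟨x, rfl⟩ := ψ.surjective z
      obtain ⟨v, rfl⟩ := (AEval'.of (Matrix.toLin' A)).surjective x
      exact ⟨_, ⟨v, rfl⟩, (congrArg ψ (hev v)).symm.trans (map_smul ψ _ _)⟩
  rw [Nat.card_congr ((((AEval'.of (Matrix.toLin' A)).toEquiv.trans ψ.toEquiv).image _).trans
    (Equiv.setCongr himg)), card_smul_image_model (X_sub_C_ne_zero 1), hparts, Multiset.map_map]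
  simp only [natDegree_X_sub_C, mul_one]
  rfl

theorem isConj_of_rank {g h : GL (Fin n) F} (hg : ((g : Matrix (Fin n) (Fin n) F) - 1) ^ n = 0)
    (hh : ((h : Matrix (Fin n) (Fin n) F) - 1) ^ n = 0)
    (he : ∀ k, (((g : Matrix (Fin n) (Fin n) F) - 1) ^ k).rank =
      (((h : Matrix (Fin n) (Fin n) F) - 1) ^ k).rank) : IsConj g h := by
  refine isConj_of_elemDiv_eq ?_
  rw [elemDiv_eq_partOf hg, elemDiv_eq_partOf hh]
  congr 1
  refine multiset_eq_of_sums (fun x hx => (partOf hg).parts_pos hx)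
    (fun x hx => (partOf hh).parts_pos hx) fun k => ?_
  refine Nat.pow_right_injective (Finite.one_lt_card (α := F)) ?_
  show Nat.card F ^ _ = Nat.card F ^ _
  rw [← card_range_pow hg, ← card_range_pow hh]
  have hc : ∀ M : Matrix (Fin n) (Fin n) F,
      Nat.card (Set.range fun v : Fin n → F => M *ᵥ v) = Nat.card F ^ M.rank := fun M =>
    Module.natCard_eq_pow_finrank (K := F) (V := LinearMap.range M.mulVecLin)
  rw [hc, hc, he]

theorem rank_map {σ : F →+* F} (hσ : Function.Bijective σ) (M : Matrix (Fin n) (Fin n) F) :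
    (M.map σ).rank = M.rank := by
  refine Nat.pow_right_injective (Finite.one_lt_card (α := F)) ?_
  show Nat.card F ^ _ = Nat.card F ^ _
  have hc : ∀ M : Matrix (Fin n) (Fin n) F,
      Nat.card (Set.range fun v : Fin n → F => M *ᵥ v) = Nat.card F ^ M.rank := fun M =>
    Module.natCard_eq_pow_finrank (K := F) (V := LinearMap.range M.mulVecLin)
  rw [← hc, ← hc]
  have key : ∀ v : Fin n → F, (fun i => σ ((M *ᵥ v) i)) = M.map σ *ᵥ fun i => σ (v i) := fun v =>
    funext fun i => by simp [Matrix.mulVec, dotProduct]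
  let s := Equiv.arrowCongr (Equiv.refl (Fin n)) (Equiv.ofBijective σ hσ)
  have himg : s '' (Set.range fun v : Fin n → F => M *ᵥ v) =
      Set.range fun v : Fin n → F => M.map σ *ᵥ v := by
    ext y
    constructor
    · rintro ⟨_, ⟨v, rfl⟩, rfl⟩
      exact ⟨_, (key v).symm⟩
    · rintro ⟨w, rfl⟩
      obtain ⟨v, rfl⟩ := s.surjective w
      exact ⟨_, ⟨v, rfl⟩, key v⟩
  exact (Nat.card_congr ((s.image _).trans (Equiv.setCongr himg))).symm

end Linear

open CfsgLib.Forms CfsgLib.Unitary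

variable {K : Type*} [Field K] [Finite K] {q n : ℕ} (hK : Nat.card K = q ^ 2)
include hK

/-- Every unipotent element of `GL n` is conjugate to one of `GU n`. -/
theorem exists_GU_conj (A : GL (Fin n) K) (hA : ((A : Matrix (Fin n) (Fin n) K) - 1) ^ n = 0) :
    ∃ B : Cfsg.GU n K q, IsConj A (B : GL (Fin n) K) := by
  rw [exists_GU_conj_iff hK]
  set σ := frobQ hK
  set M := (A : Matrix (Fin n) (Fin n) K)
  have hσ : Function.Bijective σ := Function.Involutive.bijective (frobQ_invol hK)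
  have hM : IsUnit (adj σ M) :=
    ⟨⟨adj σ M, adj σ (↑A⁻¹ : Matrix (Fin n) (Fin n) K), by rw [← adj_mul, Units.inv_mul, adj_one],
      by rw [← adj_mul, Units.mul_inv, adj_one]⟩, rfl⟩
  obtain ⟨u, hu⟩ := hM
  rw [← hu, ← Matrix.coe_units_inv]
  have hadj : ∀ N : Matrix (Fin n) (Fin n) K, adj σ (N - 1) = adj σ N - 1 := fun N => by
    have := adj_add σ (N - 1) 1
    rw [sub_add_cancel, adj_one] at this
    exact eq_sub_of_add_eq this.symm
  have hpow : ∀ (N : Matrix (Fin n) (Fin n) K) (k : ℕ), adj σ (N ^ k) = adj σ N ^ k := fun N k => by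
    induction k with
    | zero => simp [adj_one]
    | succ k ih => rw [pow_succ, adj_mul, ih, ← pow_succ']
  have hzero : adj σ (0 : Matrix (Fin n) (Fin n) K) = 0 := by ext i j; simp [adj]
  have key : ∀ k, ((↑u⁻¹ : Matrix (Fin n) (Fin n) K) - 1) ^ k =
      (-(↑u⁻¹ : Matrix (Fin n) (Fin n) K)) ^ k * adj σ ((M - 1) ^ k) := fun k => by
    rw [hpow, hadj, ← hu]
    have e : (↑u⁻¹ : Matrix (Fin n) (Fin n) K) - 1 = -(↑u⁻¹ : Matrix (Fin n) (Fin n) K) * (↑u - 1) := by
      rw [mul_sub, neg_mul, Units.inv_mul, mul_one]; abel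
    rw [e, Commute.mul_pow]
    exact ((Units.commute_coe_inv u).symm.sub_right (Commute.one_right _)).neg_left
  have hB : ((↑u⁻¹ : Matrix (Fin n) (Fin n) K) - 1) ^ n = 0 := by
    rw [key, hA, hzero, mul_zero]
  refine (Units.coeHom _).map_isConj (isConj_of_rank (h := u⁻¹) hA hB fun k => ?_)
  rw [key, Matrix.rank_mul_eq_right_of_isUnit_det _ _
    ((Matrix.isUnit_iff_isUnit_det _).mp (u⁻¹.isUnit.neg.pow k)), adj, Matrix.rank_transpose, rank_map hσ]

end CfsgLib.Geo.GUUnipotent
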