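/-
The tensor product space `F^α ⊗ F^β = F^(α × β)`: pure tensors, contractions, elementary elements.
-/
import Cfsg.Agent.Geo.Transvection

set_option autoImplicit false

namespace CfsgLib.Geo.Tensor

open Matrix Cfsg Cfsg.Geo CfsgLib.Geo
open scoped Kronecker

variable {α β : Type} [Fintype α] [DecidableEq α] [Fintype β] [DecidableEq β] {F : Type*} [Field F]

/-- A pure tensor. -/
def ten (u : α → F) (w : β → F) : α × β → F := fun p => u p.1 * w p.2

/-- `u ↦ u ⊗ w`. -/
def tenR (w : β → F) : (α → F) →ₗ[F] (α × β → F) where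
  toFun u := ten u w
  map_add' u u' := by funext p; simp [ten, add_mul]
  map_smul' c u := by funext p; simp [ten, mul_assoc]

/-- `v ↦ u ⊗ v`. -/
def tenL (u : α → F) : (β → F) →ₗ[F] (α × β → F) where
  toFun w := ten u w
  map_add' u u' := by funext p; simp [ten, mul_add]
  map_smul' c u := by funext p; simp [ten, mul_left_comm]

omit [Fintype α] [DecidableEq α] [Fintype β] [DecidableEq β] in
@[simp] lemma tenR_apply (w : β → F) (u : α → F) : tenR w u = ten u w := rfl

omit [Fintype α] [DecidableEq α] [Fintype β] [DecidableEq β] in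
@[simp] lemma tenL_apply (u : α → F) (w : β → F) : tenL u w = ten u w := rfl

/-- Contraction of the second factor against a covector. -/
def cL (ψ : β → F) : (α × β → F) →ₗ[F] (α → F) where
  toFun x a := ∑ b, ψ b * x (a, b)
  map_add' x y := by funext a; simp [mul_add, Finset.sum_add_distrib]
  map_smul' c x := by funext a; simp [Finset.mul_sum, mul_left_comm]

/-- Contraction of the first factor against a covector. -/
def cR (f : α → F) : (α × β → F) →ₗ[F] (β → F) where
  toFun x b := ∑ a, f a * x (a, b)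
  map_add' x y := by funext a; simp [mul_add, Finset.sum_add_distrib]
  map_smul' c x := by funext a; simp [Finset.mul_sum, mul_left_comm]

omit [Fintype α] [DecidableEq α] [DecidableEq β] in
lemma cL_apply (ψ : β → F) (x : α × β → F) (a : α) : cL ψ x a = ∑ b, ψ b * x (a, b) := rfl

omit [DecidableEq α] [Fintype β] [DecidableEq β] in
lemma cR_apply (f : α → F) (x : α × β → F) (b : β) : cR f x b = ∑ a, f a * x (a, b) := rfl

omit [Fintype α] [DecidableEq α] [DecidableEq β] in
@[simp] lemma cL_ten (ψ : β → F) (u : α → F) (w : β → F) : cL ψ (ten u w) = (ψ ⬝ᵥ w) • u := by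
  funext a
  simp only [cL_apply, ten, dotProduct, Pi.smul_apply, smul_eq_mul, Finset.sum_mul]
  exact Finset.sum_congr rfl fun b _ => by ring

omit [DecidableEq α] [Fintype β] [DecidableEq β] in
@[simp] lemma cR_ten (f : α → F) (u : α → F) (w : β → F) : cR f (ten u w) = (f ⬝ᵥ u) • w := by
  funext b
  simp only [cR_apply, ten, dotProduct, Pi.smul_apply, smul_eq_mul, Finset.sum_mul]
  exact Finset.sum_congr rfl fun a _ => by ring

omit [Fintype α] [DecidableEq α] [DecidableEq β] in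
lemma cL_add (ψ ψ' : β → F) (x : α × β → F) : cL (ψ + ψ') x = cL ψ x + cL ψ' x := by
  funext a; simp [cL_apply, add_mul, Finset.sum_add_distrib]

omit [Fintype α] [DecidableEq α] [DecidableEq β] in
lemma cL_smul (c : F) (ψ : β → F) (x : α × β → F) : cL (c • ψ) x = c • cL ψ x := by
  funext a; simp [cL_apply, Finset.mul_sum, mul_assoc]

omit [Fintype α] [DecidableEq α] [DecidableEq β] in
lemma cL_neg (ψ : β → F) (x : α × β → F) : cL (-ψ) x = -cL ψ x := by
  rw [← neg_one_smul F ψ, cL_smul, neg_one_smul]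

omit [DecidableEq α] [DecidableEq β] in
lemma ten_dot (f : α → F) (φ : β → F) (x : α × β → F) : ten f φ ⬝ᵥ x = f ⬝ᵥ cL φ x := by
  simp only [dotProduct, cL_apply, ten, Finset.mul_sum, Fintype.sum_prod_type, mul_assoc]

omit [DecidableEq α] [DecidableEq β] in
lemma dot_cR (f : α → F) (φ : β → F) (x : α × β → F) : φ ⬝ᵥ cR f x = f ⬝ᵥ cL φ x := by
  simp only [dotProduct, cR_apply, cL_apply, Finset.mul_sum]
  rw [Finset.sum_comm]
  exact Finset.sum_congr rfl fun a _ => Finset.sum_congr rfl fun b _ => by ring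

omit [DecidableEq α] [DecidableEq β] in
lemma dot_ten (x : α × β → F) (u : α → F) (w : β → F) : x ⬝ᵥ ten u w = u ⬝ᵥ cL w x := by
  rw [dotProduct_comm, ten_dot]

omit [DecidableEq α] [DecidableEq β] in
lemma ten_dot_ten (f u : α → F) (φ w : β → F) : ten f φ ⬝ᵥ ten u w = (f ⬝ᵥ u) * (φ ⬝ᵥ w) := by
  rw [ten_dot, cL_ten, dotProduct_smul, smul_eq_mul, mul_comm]

omit [Fintype α] [DecidableEq α] [Fintype β] [DecidableEq β] in
lemma ten_eq_zero {u : α → F} {w : β → F} (h : ten u w = 0) (hw : w ≠ 0) : u = 0 := by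
  obtain ⟨b, hb⟩ : ∃ b, w b ≠ 0 := Function.ne_iff.1 hw
  funext a
  exact (mul_eq_zero.1 (congrFun h (a, b))).resolve_right hb

omit [Fintype α] [DecidableEq α] [Fintype β] [DecidableEq β] in
lemma ten_smul_left (c : F) (u : α → F) (w : β → F) : ten (c • u) w = c • ten u w :=
  (tenR w).map_smul c u

omit [Fintype α] [DecidableEq α] [Fintype β] [DecidableEq β] in
lemma ten_smul_right (c : F) (u : α → F) (w : β → F) : ten u (c • w) = c • ten u w :=
  (tenL u).map_smul c w

omit [Fintype α] [DecidableEq α] [Fintype β] [DecidableEq β] in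
lemma ten_add_left (u u' : α → F) (w : β → F) : ten (u + u') w = ten u w + ten u' w :=
  (tenR w).map_add u u'

omit [Fintype α] [DecidableEq α] [Fintype β] [DecidableEq β] in
lemma ten_add_right (u : α → F) (w w' : β → F) : ten u (w + w') = ten u w + ten u w' :=
  (tenL u).map_add w w'

omit [Fintype α] [DecidableEq α] [Fintype β] [DecidableEq β] in
lemma ten_injective {w : β → F} (hw : w ≠ 0) : Function.Injective fun u : α → F => ten u w := by
  intro u u' h
  refine sub_eq_zero.1 (ten_eq_zero ?_ hw)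
  have := (tenR (α := α) w).map_sub u u'
  simp only [tenR_apply] at this
  rw [this, sub_eq_zero]; exact h

omit [Fintype α] [Fintype β] in
lemma ten_single (a : α) (b : β) :
    ten (Pi.single a (1 : F)) (Pi.single b 1) = Pi.single (a, b) 1 := by
  funext ⟨a', b'⟩
  simp only [ten, Pi.single_apply, Prod.ext_iff]
  split_ifs <;> simp_all

lemma map_ext {N : Type*} [AddCommGroup N] [Module F N] {S T : (α × β → F) →ₗ[F] N}
    (h : ∀ u w, S (ten u w) = T (ten u w)) : S = T :=
  (Pi.basisFun F (α × β)).ext fun ⟨a, b⟩ => by rw [Pi.basisFun_apply, ← ten_single]; exact h _ _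

lemma gl_ext_ten {g h : GL (α × β) F}
    (H : ∀ u w, (g : Matrix (α × β) (α × β) F) *ᵥ ten u w = (h : Matrix _ _ F) *ᵥ ten u w) : g = h :=
  gl_ext_mulVec fun x => LinearMap.congr_fun
    (map_ext (S := Matrix.mulVecLin (g : Matrix (α × β) (α × β) F))
      (T := Matrix.mulVecLin (h : Matrix (α × β) (α × β) F)) H) x

/-- A covector taking value one at a given non-zero vector. -/
lemma exists_dot_one {κ : Type} [Fintype κ] [DecidableEq κ] {w : κ → F} (hw : w ≠ 0) :
    ∃ ξ : κ → F, ξ ⬝ᵥ w = 1 := by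
  obtain ⟨b, hb⟩ : ∃ b, w b ≠ 0 := Function.ne_iff.1 hw
  exact ⟨Pi.single b (w b)⁻¹, by rw [single_dotProduct, inv_mul_cancel₀ hb]⟩

omit [Fintype α] [DecidableEq α] in
/-- Tensors killed by all covectors orthogonal to `w` are multiples of `w`. -/
lemma eq_ten_of_forall_cL {w ξ : β → F} (hξ : ξ ⬝ᵥ w = 1) {z : α × β → F}
    (h : ∀ ψ : β → F, ψ ⬝ᵥ w = 0 → cL ψ z = 0) : z = ten (cL ξ z) w := by
  funext ⟨a, b⟩
  have h1 := congrFun (h (Pi.single b 1 - (w b) • ξ)
    (by rw [sub_dotProduct, smul_dotProduct, hξ, single_dotProduct]; simp)) a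
  rw [sub_eq_add_neg, ← neg_smul, cL_add, cL_smul] at h1
  simp only [Pi.add_apply, Pi.smul_apply, smul_eq_mul, Pi.zero_apply, cL_apply, Pi.single_apply,
    ite_mul, one_mul, zero_mul, Finset.sum_ite_eq', Finset.mem_univ, if_true] at h1
  simp only [ten, cL_apply]
  linear_combination h1

/-- A non-zero vector killed by few linear conditions. -/
lemma exists_ne_zero_ker {κ : Type} [Fintype κ] {N : Type*} [AddCommGroup N] [Module F N]
    [FiniteDimensional F N] (T : (κ → F) →ₗ[F] N) (h : Module.finrank F N < Fintype.card κ) :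
    ∃ v, v ≠ 0 ∧ T v = 0 := by
  obtain ⟨v, hv, hv0⟩ := Submodule.exists_mem_ne_zero_of_ne_bot
    (LinearMap.ker_ne_bot_of_finrank_lt (f := T) (by rwa [Module.finrank_fintype_fun_eq_card]))
  exact ⟨v, hv0, hv⟩

/-- The dot product against a fixed vector. -/
def dotL {κ : Type} [Fintype κ] (w : κ → F) : (κ → F) →ₗ[F] F where
  toFun x := w ⬝ᵥ x
  map_add' := dotProduct_add w
  map_smul' c x := by simp [dotProduct_smul]

omit [DecidableEq α] in
@[simp] lemma dotL_apply (w x : α → F) : dotL w x = w ⬝ᵥ x := rfl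

/-- A non-zero covector killing two vectors, in dimension at least three. -/
lemma exists_orth_two {κ : Type} [Fintype κ] (h3 : 3 ≤ Fintype.card κ) (v v' : κ → F) :
    ∃ ψ : κ → F, ψ ≠ 0 ∧ ψ ⬝ᵥ v = 0 ∧ ψ ⬝ᵥ v' = 0 := by
  obtain ⟨ψ, h0, h⟩ := exists_ne_zero_ker ((dotL v).prod (dotL v')) (by simp; omega)
  exact ⟨ψ, h0, (dotProduct_comm ψ v).trans (congrArg Prod.fst h),
    (dotProduct_comm ψ v').trans (congrArg Prod.snd h)⟩

/-- A non-zero covector killing one vector, in dimension at least two. -/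
lemma exists_orth_one {κ : Type} [Fintype κ] (h2 : 2 ≤ Fintype.card κ) (v : κ → F) :
    ∃ ψ : κ → F, ψ ≠ 0 ∧ ψ ⬝ᵥ v = 0 := by
  obtain ⟨ψ, h0, h⟩ := exists_ne_zero_ker (dotL v) (by simp; omega)
  exact ⟨ψ, h0, (dotProduct_comm ψ v).trans h⟩

/-! ### Elements -/

/-- A Kronecker product of two invertible matrices. -/
def kr (a : GL α F) (b : GL β F) : GL (α × β) F :=
  ⟨(a : Matrix α α F) ⊗ₖ (b : Matrix β β F),
    ((a⁻¹ : GL α F) : Matrix α α F) ⊗ₖ ((b⁻¹ : GL β F) : Matrix β β F),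
    by rw [← Matrix.mul_kronecker_mul, ← Units.val_mul, ← Units.val_mul, mul_inv_cancel,
      mul_inv_cancel, Units.val_one, Units.val_one, Matrix.one_kronecker_one],
    by rw [← Matrix.mul_kronecker_mul, ← Units.val_mul, ← Units.val_mul, inv_mul_cancel,
      inv_mul_cancel, Units.val_one, Units.val_one, Matrix.one_kronecker_one]⟩

lemma kr_ten (a : GL α F) (b : GL β F) (u : α → F) (w : β → F) :
    (kr a b : Matrix (α × β) (α × β) F) *ᵥ ten u w
      = ten ((a : Matrix α α F) *ᵥ u) ((b : Matrix β β F) *ᵥ w) := by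
  funext ⟨i, j⟩
  show ∑ p : α × β, ((a : Matrix α α F) ⊗ₖ (b : Matrix β β F)) (i, j) p * ten u w p = _
  simp only [Matrix.mulVec, dotProduct, Matrix.kroneckerMap_apply, ten, Fintype.sum_prod_type,
    Finset.sum_mul_sum]
  exact Finset.sum_congr rfl fun _ _ => Finset.sum_congr rfl fun _ _ => by ring

lemma cL_kr (a : GL α F) (b : GL β F) (ψ : β → F) (x : α × β → F) :
    cL ψ ((kr a b : Matrix (α × β) (α × β) F) *ᵥ x)
      = (a : Matrix α α F) *ᵥ cL (ψ ᵥ* (b : Matrix β β F)) x := by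
  have := map_ext (S := (cL ψ) ∘ₗ Matrix.mulVecLin (kr a b : Matrix (α × β) (α × β) F))
    (T := Matrix.mulVecLin (a : Matrix α α F) ∘ₗ cL (ψ ᵥ* (b : Matrix β β F))) fun u w => by
      simp [kr_ten, Matrix.mulVec_smul, Matrix.dotProduct_mulVec]
  exact LinearMap.congr_fun this x

lemma kr_mul (a a' : GL α F) (b b' : GL β F) : kr a b * kr a' b' = kr (a * a') (b * b') :=
  Units.ext (Matrix.mul_kronecker_mul _ _ _ _).symm

lemma kr_one : kr (1 : GL α F) (1 : GL β F) = 1 := Units.ext Matrix.one_kronecker_one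

lemma kr_inv (a : GL α F) (b : GL β F) : (kr a b)⁻¹ = kr a⁻¹ b⁻¹ :=
  inv_eq_of_mul_eq_one_right (by rw [kr_mul, mul_inv_cancel, mul_inv_cancel, kr_one])

lemma kr_det (a : GL α F) (b : GL β F) (ha : a ∈ specialLinear α F) (hb : b ∈ specialLinear β F) :
    kr a b ∈ specialLinear (α × β) F := by
  rw [mem_specialLinear] at *
  show Matrix.det ((a : Matrix α α F) ⊗ₖ (b : Matrix β β F)) = 1
  rw [Matrix.det_kronecker, ha, hb, one_pow, one_pow, one_mul]

lemma one_sl : (1 : GL α F) ∈ specialLinear α F := Subgroup.one_mem _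

/-- The element `1 + (· ⊗ w) ∘ L`, for `L` killing `F^α ⊗ w`. -/
def uel (w : β → F) (L : (α × β → F) →ₗ[F] (α → F)) (h : ∀ u, L (ten u w) = 0) : GL (α × β) F :=
  have h2 : (tenR w ∘ₗ L) ∘ₗ (tenR w ∘ₗ L) = 0 := LinearMap.ext fun x => by simp [h, show ten (0 : α → F) w = 0 from (tenR w).map_zero]
  have h3 : LinearMap.toMatrix' (tenR w ∘ₗ L) * LinearMap.toMatrix' (tenR w ∘ₗ L) = 0 := by
    rw [← LinearMap.toMatrix'_comp, h2, map_zero]
  ⟨1 + LinearMap.toMatrix' (tenR w ∘ₗ L), 1 - LinearMap.toMatrix' (tenR w ∘ₗ L),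
    by noncomm_ring; simp [h3], by noncomm_ring; simp [h3]⟩

lemma uel_mulVec (w : β → F) (L : (α × β → F) →ₗ[F] (α → F)) (h : ∀ u, L (ten u w) = 0)
    (x : α × β → F) : (uel w L h : Matrix (α × β) (α × β) F) *ᵥ x = x + ten (L x) w := by
  show (1 + LinearMap.toMatrix' (tenR w ∘ₗ L)) *ᵥ x = _
  rw [Matrix.add_mulVec, Matrix.one_mulVec, LinearMap.toMatrix'_mulVec]
  rfl

lemma uel_sl (w : β → F) (L : (α × β → F) →ₗ[F] (α → F)) (h : ∀ u, L (ten u w) = 0) :
    uel w L h ∈ specialLinear (α × β) F := by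
  rw [mem_specialLinear]
  show Matrix.det (1 + LinearMap.toMatrix' (tenR w ∘ₗ L)) = 1
  rw [LinearMap.toMatrix'_comp, Matrix.det_one_add_mul_comm, ← LinearMap.toMatrix'_comp,
    show L ∘ₗ tenR w = 0 from LinearMap.ext h, map_zero, add_zero, Matrix.det_one]

lemma uel_inv_mulVec (w : β → F) (L : (α × β → F) →ₗ[F] (α → F)) (h : ∀ u, L (ten u w) = 0)
    (x : α × β → F) : (((uel w L h)⁻¹ : GL (α × β) F) : Matrix (α × β) (α × β) F) *ᵥ x = x - ten (L x) w := by
  have h1 : (uel w L h : Matrix (α × β) (α × β) F) *ᵥ (x - ten (L x) w) = x := by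
    rw [uel_mulVec, map_sub, h, sub_zero, sub_add_cancel]
  conv_lhs => rw [← h1]
  rw [inv_mulVec_mulVec]

lemma tvec_inv_mulVec {κ : Type} [Fintype κ] [DecidableEq κ] (a φ : κ → F) (h : φ ⬝ᵥ a = 0)
    (x : κ → F) : (((tvec a φ h)⁻¹ : GL κ F) : Matrix κ κ F) *ᵥ x = x - (φ ⬝ᵥ x) • a := by
  have h1 : (tvec a φ h : Matrix κ κ F) *ᵥ (x - (φ ⬝ᵥ x) • a) = x := by
    rw [tvec_mulVec, dotProduct_sub, dotProduct_smul, h, smul_zero, sub_zero, sub_add_cancel]
  conv_lhs => rw [← h1]
  rw [inv_mulVec_mulVec]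

/-- An injective endomorphism as an element of GL. -/
lemma exists_gl {κ : Type} [Fintype κ] [DecidableEq κ] (f : (κ → F) →ₗ[F] (κ → F))
    (hf : Function.Injective f) : ∃ g : GL κ F, ∀ x, (g : Matrix κ κ F) *ᵥ x = f x := by
  have hu : IsUnit (LinearMap.toMatrix' f) :=
    Matrix.mulVec_injective_iff_isUnit.1 fun x y h => hf (by
      simpa [LinearMap.toMatrix'_mulVec] using h)
  exact ⟨hu.unit, fun x => by rw [IsUnit.unit_spec, LinearMap.toMatrix'_mulVec]⟩

/-! ### Inverse transpose -/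

/-- The inverse transpose automorphism. -/
def tinv {κ : Type} [Fintype κ] [DecidableEq κ] : GL κ F →* GL κ F where
  toFun g := ⟨(((g⁻¹ : GL κ F) : Matrix κ κ F))ᵀ, (g : Matrix κ κ F)ᵀ,
    by rw [← Matrix.transpose_mul, ← Units.val_mul, mul_inv_cancel, Units.val_one, Matrix.transpose_one],
    by rw [← Matrix.transpose_mul, ← Units.val_mul, inv_mul_cancel, Units.val_one, Matrix.transpose_one]⟩
  map_one' := Units.ext (by simp)
  map_mul' g h := Units.ext (by
    show (((g * h)⁻¹ : GL κ F) : Matrix κ κ F)ᵀ = _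
    rw [_root_.mul_inv_rev, Units.val_mul, Matrix.transpose_mul]
    rfl)

lemma tinv_tinv {κ : Type} [Fintype κ] [DecidableEq κ] (g : GL κ F) : tinv (tinv g) = g :=
  Units.ext (Matrix.transpose_transpose _)

lemma tinv_mulVec {κ : Type} [Fintype κ] [DecidableEq κ] (g : GL κ F) (x : κ → F) :
    (tinv g : Matrix κ κ F) *ᵥ x = x ᵥ* ((g⁻¹ : GL κ F) : Matrix κ κ F) :=
  Matrix.mulVec_transpose _ _

lemma tinv_sl {κ : Type} [Fintype κ] [DecidableEq κ] {g : GL κ F} (h : g ∈ specialLinear κ F) :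
    tinv g ∈ specialLinear κ F := by
  have h' := (specialLinear κ F).inv_mem h
  rw [mem_specialLinear] at h' ⊢
  show Matrix.det (((g⁻¹ : GL κ F) : Matrix κ κ F))ᵀ = 1
  rw [Matrix.det_transpose, h']

lemma tinv_kr (a : GL α F) (b : GL β F) : tinv (kr a b) = kr (tinv a) (tinv b) :=
  Units.ext (Matrix.kroneckerMap_transpose _ _ _).symm

end CfsgLib.Geo.Tensor
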