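/-
Overgroups of a tensor product `SL(U) ⊗ SL(W)` in `SL(U ⊗ W)`: one element `1 + (· ⊗ w) ∘ L` outside
the tensor stabiliser gives a transvection, and that gives everything.
-/
import Cfsg.Agent.Geo.TensorLinearBasic

set_option autoImplicit false

namespace CfsgLib.Geo.Tensor

open Matrix Cfsg Cfsg.Geo CfsgLib.Geo
open scoped Kronecker

variable {α β : Type} [Fintype α] [DecidableEq α] [Fintype β] [DecidableEq β] {F : Type*} [Field F]

lemma vecMul_tvec {κ : Type} [Fintype κ] [DecidableEq κ] (a φ : κ → F) (h : φ ⬝ᵥ a = 0) (x : κ → F) :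
    x ᵥ* (tvec a φ h : Matrix κ κ F) = x + (x ⬝ᵥ a) • φ := by
  rw [tvec_val, Matrix.vecMul_add, Matrix.vecMul_one, Matrix.vecMul_vecMulVec]

lemma vecMul_tvec_inv {κ : Type} [Fintype κ] [DecidableEq κ] (a φ : κ → F) (h : φ ⬝ᵥ a = 0)
    (x : κ → F) : x ᵥ* (((tvec a φ h)⁻¹ : GL κ F) : Matrix κ κ F) = x - (x ⬝ᵥ a) • φ := by
  have h1 : (x - (x ⬝ᵥ a) • φ) ᵥ* (tvec a φ h : Matrix κ κ F) = x := by
    rw [vecMul_tvec, sub_dotProduct, smul_dotProduct, h, smul_zero, sub_zero, sub_add_cancel]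
  conv_lhs => rw [← h1, Matrix.vecMul_vecMul, ← Units.val_mul, mul_inv_cancel, Units.val_one,
    Matrix.vecMul_one]

omit [DecidableEq α] in
lemma exists_orth_not_mem_span (h3 : 3 ≤ Fintype.card α) (u x : α → F) :
    ∃ y, y ⬝ᵥ u = 0 ∧ y ∉ F ∙ x := by
  by_contra hc
  push Not at hc
  have h1 := Submodule.finrank_mono (show LinearMap.ker (dotL u) ≤ F ∙ x from
    fun y hy => hc y (by rw [dotProduct_comm]; exact hy))
  have h2 := (dotL (F := F) u).finrank_range_add_finrank_ker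
  have h3' : Module.finrank F (LinearMap.range (dotL u)) ≤ 1 :=
    (Submodule.finrank_le _).trans (by simp)
  have h4 := finrank_span_le_card (R := F) ({x} : Set (α → F))
  rw [Module.finrank_fintype_fun_eq_card] at h2
  simp at h4
  omega

lemma move_vec (h2 : 2 ≤ Fintype.card α) {v v' : α → F} (hv : v ≠ 0) (hv' : v' ≠ 0) :
    ∃ g ∈ specialLinear α F, (g : Matrix α α F) *ᵥ v = v' := by
  have key : ∀ x y : α → F, x ∉ F ∙ (y - x) →
      ∃ g ∈ specialLinear α F, (g : Matrix α α F) *ᵥ x = y := by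
    intro x y hxy
    obtain ⟨φ, hφ, hφx⟩ := exists_covector _ hxy
    exact ⟨tvec (y - x) φ (hφ _ (Submodule.mem_span_singleton_self _)),
      tvec_mem_specialLinear _ _ _, by rw [tvec_mulVec, hφx, one_smul, add_sub_cancel]⟩
  by_cases h : v ∈ F ∙ (v' - v)
  · obtain ⟨z, hz⟩ : ∃ z, z ∉ F ∙ v := by
      by_contra hc
      push Not at hc
      have h1 := Submodule.finrank_mono (show (⊤ : Submodule F (α → F)) ≤ F ∙ v from
        fun x _ => hc x)
      rw [finrank_top, Module.finrank_fintype_fun_eq_card] at h1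
      have h4 := finrank_span_le_card (R := F) ({v} : Set (α → F))
      simp at h4
      omega
    have hvv : v' ∈ F ∙ v := by
      obtain ⟨c, hc⟩ := Submodule.mem_span_singleton.1 h
      rcases eq_or_ne c 0 with rfl | hc0
      · exact absurd (by simpa using hc.symm) hv
      · refine Submodule.mem_span_singleton.2 ⟨c⁻¹ + 1, ?_⟩
        have e : v' - v = c⁻¹ • v := by
          conv_rhs => arg 2; rw [← hc]
          rw [smul_smul, inv_mul_cancel₀ hc0, one_smul]
        rw [add_smul, one_smul, ← e, sub_add_cancel]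
    obtain ⟨g1, h1, e1⟩ := key v z fun hm => by
      obtain ⟨c, hc⟩ := Submodule.mem_span_singleton.1 hm
      rcases eq_or_ne c 0 with rfl | hc0
      · exact hv (by simpa using hc.symm)
      · refine hz (Submodule.mem_span_singleton.2 ⟨c⁻¹ + 1, ?_⟩)
        have e : z - v = c⁻¹ • v := by
          conv_rhs => arg 2; rw [← hc]
          rw [smul_smul, inv_mul_cancel₀ hc0, one_smul]
        rw [add_smul, one_smul, ← e, sub_add_cancel]
    obtain ⟨d, hd⟩ := Submodule.mem_span_singleton.1 hvv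
    have hd0 : d ≠ 0 := fun h0 => hv' (by rw [← hd, h0, zero_smul])
    obtain ⟨g2, h2, e2⟩ := key z v' fun hm => by
      obtain ⟨c, hc⟩ := Submodule.mem_span_singleton.1 hm
      have e : (1 + c) • z = (c * d) • v := by
        rw [add_smul, one_smul, mul_smul, hd]
        linear_combination (norm := module) -hc
      rcases eq_or_ne (1 + c) 0 with h0 | h0
      · rw [h0, zero_smul] at e
        rcases smul_eq_zero.1 e.symm with h' | h'
        · rcases mul_eq_zero.1 h' with h'' | h''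
          · exact one_ne_zero (by rwa [h'', add_zero] at h0)
          · exact hd0 h''
        · exact hv h'
      · exact hz (Submodule.mem_span_singleton.2 ⟨(1 + c)⁻¹ * (c * d), by
          rw [mul_smul, ← e, smul_smul, inv_mul_cancel₀ h0, one_smul]⟩)
    exact ⟨g2 * g1, mul_mem h2 h1, by rw [mul_mulVec, e1, e2]⟩
  · exact key v v' h

lemma move_covec (h3 : 3 ≤ Fintype.card α) {u f f' : α → F} (hf : f ≠ 0) (hf' : f' ≠ 0)
    (hfu : f ⬝ᵥ u = 0) (hfu' : f' ⬝ᵥ u = 0) :
    ∃ g ∈ specialLinear α F, (g : Matrix α α F) *ᵥ u = u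
      ∧ f ᵥ* ((g⁻¹ : GL α F) : Matrix α α F) = f' := by
  have key : ∀ x y : α → F, x ⬝ᵥ u = 0 → y ⬝ᵥ u = 0 → x ∉ F ∙ (x - y) →
      ∃ g ∈ specialLinear α F, (g : Matrix α α F) *ᵥ u = u
        ∧ x ᵥ* ((g⁻¹ : GL α F) : Matrix α α F) = y := by
    intro x y hx hy hxy
    obtain ⟨a, ha, hax⟩ := exists_covector _ hxy
    have hd : (x - y) ⬝ᵥ a = 0 := by
      rw [dotProduct_comm]; exact ha _ (Submodule.mem_span_singleton_self _)
    refine ⟨tvec a (x - y) hd, tvec_mem_specialLinear _ _ _, ?_, ?_⟩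
    · rw [tvec_mulVec, sub_dotProduct, hx, hy, sub_zero, zero_smul, add_zero]
    · rw [vecMul_tvec_inv, dotProduct_comm x a, hax, one_smul, sub_sub_cancel]
  by_cases h : f ∈ F ∙ (f - f')
  · obtain ⟨z, hzu, hz⟩ := exists_orth_not_mem_span h3 u f
    have hff : f' ∈ F ∙ f := by
      obtain ⟨c, hc⟩ := Submodule.mem_span_singleton.1 h
      rcases eq_or_ne c 0 with rfl | hc0
      · exact absurd (by simpa using hc.symm) hf
      · refine Submodule.mem_span_singleton.2 ⟨1 - c⁻¹, ?_⟩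
        have e : f - f' = c⁻¹ • f := by
          conv_rhs => arg 2; rw [← hc]
          rw [smul_smul, inv_mul_cancel₀ hc0, one_smul]
        rw [sub_smul, one_smul, ← e, sub_sub_cancel]
    obtain ⟨g1, h1, u1, e1⟩ := key f z hfu hzu fun hm => by
      obtain ⟨c, hc⟩ := Submodule.mem_span_singleton.1 hm
      rcases eq_or_ne c 0 with rfl | hc0
      · exact hf (by simpa using hc.symm)
      · refine hz (Submodule.mem_span_singleton.2 ⟨1 - c⁻¹, ?_⟩)
        have e : f - z = c⁻¹ • f := by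
          conv_rhs => arg 2; rw [← hc]
          rw [smul_smul, inv_mul_cancel₀ hc0, one_smul]
        rw [sub_smul, one_smul, ← e, sub_sub_cancel]
    obtain ⟨d, hd⟩ := Submodule.mem_span_singleton.1 hff
    have hd0 : d ≠ 0 := fun h0 => hf' (by rw [← hd, h0, zero_smul])
    obtain ⟨g2, h2, u2, e2⟩ := key z f' hzu hfu' fun hm => by
      obtain ⟨c, hc⟩ := Submodule.mem_span_singleton.1 hm
      have e : (c - 1) • z = (c * d) • f := by
        rw [sub_smul, one_smul, mul_smul, hd]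
        linear_combination (norm := module) hc
      rcases eq_or_ne (c - 1) 0 with h0 | h0
      · rw [h0, zero_smul] at e
        rcases smul_eq_zero.1 e.symm with h' | h'
        · rcases mul_eq_zero.1 h' with h'' | h''
          · rw [h'', zero_sub, neg_eq_zero] at h0; exact one_ne_zero h0
          · exact hd0 h''
        · exact hf h'
      · exact hz (Submodule.mem_span_singleton.2 ⟨(c - 1)⁻¹ * (c * d), by
          rw [mul_smul, ← e, smul_smul, inv_mul_cancel₀ h0, one_smul]⟩)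
    refine ⟨g2 * g1, mul_mem h2 h1, by rw [mul_mulVec, u1, u2], ?_⟩
    rw [_root_.mul_inv_rev, Units.val_mul, ← Matrix.vecMul_vecMul, e1, e2]
  · exact key f f' hfu hfu' h

lemma vecMul_kr_inv (a : GL α F) (b : GL β F) (f : α → F) (χ : β → F) :
    ten f χ ᵥ* (((kr a b)⁻¹ : GL (α × β) F) : Matrix (α × β) (α × β) F)
      = ten (f ᵥ* ((a⁻¹ : GL α F) : Matrix α α F)) (χ ᵥ* ((b⁻¹ : GL β F) : Matrix β β F)) := by
  rw [← tinv_mulVec, tinv_kr, kr_ten, tinv_mulVec, tinv_mulVec]

variable {M : Subgroup (GL (α × β) F)}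
  (hM : ∀ a ∈ specialLinear α F, ∀ b ∈ specialLinear β F, kr a b ∈ M)
  (h2 : 2 ≤ Fintype.card α) (h3 : 3 ≤ Fintype.card β)
include hM h2 h3

/-- One transvection of tensor type gives all of `SL`. -/
theorem specialLinear_le_of_tensor_tv {u₀ f₀ : α → F} {w₀ χ₀ : β → F} (hu₀ : u₀ ≠ 0) (hf₀ : f₀ ≠ 0)
    (hw₀ : w₀ ≠ 0) (hχ₀ : χ₀ ≠ 0) (hfu₀ : f₀ ⬝ᵥ u₀ = 0) (hχw₀ : χ₀ ⬝ᵥ w₀ = 0)
    (h : HasTv M (ten u₀ w₀) (ten f₀ χ₀)) : specialLinear (α × β) F ≤ M := by
  have hA : ∀ u w f χ, f ⬝ᵥ u = 0 → χ ⬝ᵥ w = 0 → HasTv M (ten u w) (ten f χ) := by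
    intro u w f χ hfu hχw
    rcases eq_or_ne u 0 with rfl | hu
    · rw [show ten (0 : α → F) w = 0 from (tenR w).map_zero]; exact hasTv_zero_left M _
    rcases eq_or_ne w 0 with rfl | hw
    · rw [show ten u (0 : β → F) = 0 from (tenL u).map_zero]; exact hasTv_zero_left M _
    rcases eq_or_ne f 0 with rfl | hf
    · rw [show ten (0 : α → F) χ = 0 from (tenR χ).map_zero]; exact hasTv_zero_right M _
    rcases eq_or_ne χ 0 with rfl | hχ
    · rw [show ten f (0 : β → F) = 0 from (tenL f).map_zero]; exact hasTv_zero_right M _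
    obtain ⟨a, ha, hau⟩ := move_vec h2 hu₀ hu
    obtain ⟨b, hb, hbw⟩ := move_vec (by omega) hw₀ hw
    have h1 := h.conj (hM a ha b hb)
    rw [kr_ten, hau, hbw, vecMul_kr_inv] at h1
    set f₁ := f₀ ᵥ* ((a⁻¹ : GL α F) : Matrix α α F) with hf₁
    set χ₁ := χ₀ ᵥ* ((b⁻¹ : GL β F) : Matrix β β F) with hχ₁
    have hf₁u : f₁ ⬝ᵥ u = 0 := by rw [hf₁, ← hau, vecMul_dotProduct_mulVec, hfu₀]
    have hχ₁w : χ₁ ⬝ᵥ w = 0 := by rw [hχ₁, ← hbw, vecMul_dotProduct_mulVec, hχw₀]
    have hf₁0 : f₁ ≠ 0 := fun h0 => hf₀ (by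
      have := congrArg (· ᵥ* (a : Matrix α α F)) h0
      simpa [hf₁, Matrix.vecMul_vecMul, ← Units.val_mul] using this)
    have hχ₁0 : χ₁ ≠ 0 := fun h0 => hχ₀ (by
      have := congrArg (· ᵥ* (b : Matrix β β F)) h0
      simpa [hχ₁, Matrix.vecMul_vecMul, ← Units.val_mul] using this)
    obtain ⟨c, hc, a', ha', hau', haf⟩ : ∃ c : F, c ≠ 0 ∧ ∃ a' ∈ specialLinear α F,
        (a' : Matrix α α F) *ᵥ u = u ∧ f₁ ᵥ* ((a'⁻¹ : GL α F) : Matrix α α F) = c • f := by
      by_cases hα : 3 ≤ Fintype.card α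
      · obtain ⟨a', h1, h2, h3⟩ := move_covec hα hf₁0 hf hf₁u hfu
        exact ⟨1, one_ne_zero, a', h1, h2, by rw [h3, one_smul]⟩
      · have hker : LinearMap.ker (dotL u) = F ∙ f := by
          have hle : F ∙ f ≤ LinearMap.ker (dotL u) :=
            (Submodule.span_singleton_le_iff_mem _ _).2 (by
              show u ⬝ᵥ f = 0
              rw [dotProduct_comm, hfu])
          refine (Submodule.eq_of_le_of_finrank_le hle ?_).symm
          have e1 := (dotL (F := F) u).finrank_range_add_finrank_ker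
          have e2 : (dotL (F := F) u).range ≠ ⊥ := by
            intro e
            obtain ⟨ξ, hξ⟩ := exists_dot_one hu
            have : dotL u ξ ∈ (dotL (F := F) u).range := ⟨ξ, rfl⟩
            rw [e, Submodule.mem_bot, dotL_apply, dotProduct_comm, hξ] at this
            exact one_ne_zero this
          have e3 := Submodule.one_le_finrank_iff.2 e2
          rw [Module.finrank_fintype_fun_eq_card] at e1
          rw [finrank_span_singleton hf]
          omega
        obtain ⟨c, hc⟩ := Submodule.mem_span_singleton.1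
          (hker ▸ (show f₁ ∈ LinearMap.ker (dotL u) by
            show u ⬝ᵥ f₁ = 0
            rw [dotProduct_comm, hf₁u]))
        refine ⟨c, fun h0 => hf₁0 (by rw [← hc, h0, zero_smul]), 1, Subgroup.one_mem _, by simp, ?_⟩
        simp [hc]
    obtain ⟨b', hb', hbw', hbχ⟩ := move_covec h3 hχ₁0 (smul_ne_zero (inv_ne_zero hc) hχ) hχ₁w
      (show (c⁻¹ • χ) ⬝ᵥ w = 0 by rw [smul_dotProduct, hχw, smul_zero])
    have h2' := h1.conj (hM a' ha' b' hb')
    rw [kr_ten, hau', hbw', vecMul_kr_inv, haf, hbχ, ten_smul_left, ten_smul_right, smul_smul,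
      mul_inv_cancel₀ hc, one_smul] at h2'
    exact h2'
  have hB : ∀ u w f χ, χ ⬝ᵥ w = 0 → HasTv M (ten u w) (ten f χ) := by
    intro U V f χ hχV
    by_cases hfU : f ⬝ᵥ U = 0
    · exact hA U V f χ hfU hχV
    obtain ⟨u, hu, huf⟩ := exists_orth_one h2 f
    obtain ⟨w, hwχ, hwV⟩ := exists_orth_not_mem_span h3 χ V
    obtain ⟨f', hf', hf'u⟩ := exists_covector (F ∙ U) (u := u) fun hm => by
      obtain ⟨c, hc⟩ := Submodule.mem_span_singleton.1 hm
      rw [← hc, smul_dotProduct, dotProduct_comm, smul_eq_mul] at huf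
      rcases mul_eq_zero.1 huf with h0 | h0
      · exact hu (by rw [← hc, h0, zero_smul])
      · exact hfU h0
    obtain ⟨χ', hχ', hχ'w⟩ := exists_covector _ hwV
    have h1 := hA U V f' χ' (hf' U (Submodule.mem_span_singleton_self _))
      (hχ' V (Submodule.mem_span_singleton_self _))
    have h2' := hA u w f χ ((dotProduct_comm f u).trans huf) ((dotProduct_comm χ w).trans hwχ)
    have := h1.comm h2' (by rw [ten_dot_ten, hχV, mul_zero])
    rwa [ten_dot_ten, hf'u, hχ'w, mul_one, one_smul] at this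
  have hC : ∀ u w f χ, f ⬝ᵥ u = 0 → HasTv M (ten u w) (ten f χ) := by
    intro U V f χ hfU
    by_cases hχV : χ ⬝ᵥ V = 0
    · exact hB U V f χ hχV
    rcases eq_or_ne U 0 with rfl | hU
    · rw [show ten (0 : α → F) V = 0 from (tenR V).map_zero]; exact hasTv_zero_left M _
    obtain ⟨w, hw, hwχ⟩ := exists_orth_one (show 2 ≤ Fintype.card β by omega) χ
    obtain ⟨f', hf'⟩ := exists_dot_one hU
    obtain ⟨χ', hχ', hχ'w⟩ := exists_covector (F ∙ V) (u := w) fun hm => by
      obtain ⟨c, hc⟩ := Submodule.mem_span_singleton.1 hm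
      rw [← hc, smul_dotProduct, dotProduct_comm, smul_eq_mul] at hwχ
      rcases mul_eq_zero.1 hwχ with h0 | h0
      · exact hw (by rw [← hc, h0, zero_smul])
      · exact hχV h0
    have h1 := hB U V f' χ' (hχ' V (Submodule.mem_span_singleton_self _))
    have h2' := hA U w f χ hfU ((dotProduct_comm χ w).trans hwχ)
    have := h1.comm h2' (by rw [ten_dot_ten, hfU, zero_mul])
    rwa [ten_dot_ten, hf', hχ'w, mul_one, one_smul] at this
  refine specialLinear_le_of_fullSubmodule (eq_top_iff.2 ?_)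
  rw [← (Pi.basisFun F (α × β)).span_eq, Submodule.span_le]
  rintro _ ⟨⟨i, j⟩, rfl⟩
  simp only [Pi.basisFun_apply, SetLike.mem_coe, mem_fullSubmodule, ← ten_single]
  set U : α → F := Pi.single i 1
  set V : β → F := Pi.single j 1
  obtain ⟨ξ, hξ⟩ := exists_dot_one (w := U) (by simp [U])
  intro φ hφ
  set χ₁ := cR U φ with hχ₁
  have hχ₁V : χ₁ ⬝ᵥ V = 0 := by
    rw [dotProduct_comm, hχ₁, dot_cR, ← ten_dot, dotProduct_comm, hφ]
  let fb : β → α → F := fun b a => φ (a, b) - ξ a * χ₁ b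
  have hsplit : φ = ten ξ χ₁ + ∑ b, ten (fb b) (Pi.single b 1) := by
    funext ⟨a, b⟩
    simp [Finset.sum_apply, ten, fb, Pi.single_apply]
  rw [hsplit]
  refine (hB U V ξ χ₁ hχ₁V).add_axis ?_
  refine Finset.sum_induction _ (fun x => HasTv M (ten U V) x) (fun _ _ => HasTv.add_axis)
    (hasTv_zero_right M _) fun b _ => hC U V (fb b) _ ?_
  show ∑ a, (φ (a, b) - ξ a * χ₁ b) * U a = 0
  simp only [sub_mul, Finset.sum_sub_distrib]
  rw [show (∑ a, φ (a, b) * U a) = χ₁ b from by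
      rw [hχ₁, cR_apply]; exact Finset.sum_congr rfl fun a _ => mul_comm _ _,
    show (∑ a, ξ a * χ₁ b * U a) = χ₁ b * (ξ ⬝ᵥ U) from by
      rw [dotProduct, Finset.mul_sum]; exact Finset.sum_congr rfl fun a _ => by ring,
    hξ, mul_one, sub_self]

omit hM h2 h3 in
lemma exists_scalar_of_eigen [Nonempty α] (N : (α → F) →ₗ[F] (α → F))
    (h : ∀ u, ∃ c : F, N u = c • u) : ∃ c : F, ∀ u, N u = c • u := by
  obtain ⟨i0⟩ := ‹Nonempty α›
  choose c hc using h
  refine ⟨c (Pi.single i0 1), fun u => ?_⟩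
  have key : ∀ i, c (Pi.single i 1) = c (Pi.single i0 1) := by
    intro i
    rcases eq_or_ne i i0 with rfl | hi
    · rfl
    have e := hc (Pi.single i 1 + Pi.single i0 1)
    rw [map_add, hc, hc] at e
    have e1 := congrFun e i
    have e2 := congrFun e i0
    simp [hi, hi.symm] at e1 e2
    rw [e1, e2]
  conv_lhs => rw [pi_eq_sum_univ' u]
  conv_rhs => rw [pi_eq_sum_univ' u]
  rw [map_sum, Finset.smul_sum]
  exact Finset.sum_congr rfl fun i _ => by rw [map_smul, hc, key, smul_comm]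

omit hM h2 h3 in
lemma kr_one_tvec_mulVec (w φ : β → F) (h : φ ⬝ᵥ w = 0) (x : α × β → F) :
    (kr (1 : GL α F) (tvec w φ h) : Matrix (α × β) (α × β) F) *ᵥ x = x + ten (cL φ x) w := by
  have := map_ext (S := Matrix.mulVecLin (kr (1 : GL α F) (tvec w φ h) : Matrix (α × β) (α × β) F))
    (T := LinearMap.id + tenR w ∘ₗ cL φ) fun u v => by
      simp [kr_ten, tvec_mulVec, ten_add_right, ten_smul_left, ten_smul_right]
  exact LinearMap.congr_fun this x

omit h2 h3 in
lemma root_mem (w φ : β → F) (h : φ ⬝ᵥ w = 0) : kr (1 : GL α F) (tvec w φ h) ∈ M :=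
  hM 1 (Subgroup.one_mem _) _ (tvec_mem_specialLinear _ _ _)

omit hM h2 h3 in
lemma conj_uel_mulVec (a : GL α F) (b : GL β F) (w : β → F) (L : (α × β → F) →ₗ[F] (α → F))
    (h : ∀ u, L (ten u w) = 0) (x : α × β → F) :
    ((kr a b * uel w L h * (kr a b)⁻¹ : GL (α × β) F) : Matrix (α × β) (α × β) F) *ᵥ x
      = x + ten ((a : Matrix α α F) *ᵥ
          L ((((kr a b)⁻¹ : GL (α × β) F) : Matrix (α × β) (α × β) F) *ᵥ x))
        ((b : Matrix β β F) *ᵥ w) := by
  rw [mul_mulVec, mul_mulVec, uel_mulVec, Matrix.mulVec_add, mulVec_inv_mulVec, kr_ten]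

variable [Finite F] (hex : ¬ (Fintype.card α = 2 ∧ Nat.card F = 2))
include hex

/-- An element `1 + (· ⊗ w) ∘ L` outside the tensor stabiliser gives all of `SL`. -/
theorem specialLinear_le_of_uel {w : β → F} (hw : w ≠ 0) (L : (α × β → F) →ₗ[F] (α → F))
    (hL : ∀ u, L (ten u w) = 0) (hmem : uel w L hL ∈ M) (hns : ¬ ∃ ψ : β → F, ∀ x, L x = cL ψ x) :
    specialLinear (α × β) F ≤ M := by
  haveI : Nonempty α := Fintype.card_pos_iff.1 (by omega)
  obtain ⟨v₀, hv₀⟩ : ∃ v₀, ¬ ∃ c : F, ∀ u, L (ten u v₀) = c • u := by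
    by_contra hc
    push Not at hc
    choose c hc using hc
    refine hns ⟨fun b => c (Pi.single b 1), fun x => LinearMap.congr_fun (?_ : L = cL _) x⟩
    refine (Pi.basisFun F (α × β)).ext fun ⟨a, b⟩ => ?_
    rw [Pi.basisFun_apply, ← ten_single, hc, cL_ten, dotProduct_single_one]
  obtain ⟨χ, hχ0, hχw, hχv⟩ := exists_orth_two h3 w v₀
  have hzero : ∀ (N : (α → F) →ₗ[F] (α → F)) (u : α → F), (N ∘ₗ cL χ) (ten u w) = 0 := fun N u => by
    simp [hχw]
  let E : ((α → F) →ₗ[F] (α → F)) → Prop := fun N => uel w (N ∘ₗ cL χ) (hzero N) ∈ M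
  have hEadd : ∀ N N', E N → E N' → E (N + N') := fun N N' h h' => by
    have : uel w ((N + N') ∘ₗ cL χ) (hzero _)
        = uel w (N ∘ₗ cL χ) (hzero N) * uel w (N' ∘ₗ cL χ) (hzero N') :=
      gl_ext_mulVec fun x => by
        rw [mul_mulVec, uel_mulVec, uel_mulVec, uel_mulVec, map_add, hzero, add_zero, LinearMap.add_comp,
          LinearMap.add_apply, ten_add_left]
        abel
    show uel w _ _ ∈ M
    rw [this]; exact M.mul_mem h h'
  have hEneg : ∀ N, E N → E (-N) := fun N h => by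
    have : uel w ((-N) ∘ₗ cL χ) (hzero _) = (uel w (N ∘ₗ cL χ) (hzero N))⁻¹ :=
      gl_ext_mulVec fun x => by
        rw [uel_mulVec, uel_inv_mulVec, LinearMap.neg_comp, LinearMap.neg_apply,
          show ten (-((N ∘ₗ cL χ) x)) w = -ten ((N ∘ₗ cL χ) x) w from (tenR w).map_neg _,
          sub_eq_add_neg]
    show uel w _ _ ∈ M
    rw [this]; exact M.inv_mem h
  have hEsub : ∀ N N', E N → E N' → E (N - N') := fun N N' h h' => by
    rw [sub_eq_add_neg]; exact hEadd _ _ h (hEneg _ h')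
  have hEscal : ∀ c : F, E (c • LinearMap.id) := fun c => by
    have hd : (c • χ) ⬝ᵥ w = 0 := by rw [smul_dotProduct, hχw, smul_zero]
    have : uel w ((c • LinearMap.id) ∘ₗ cL χ) (hzero _) = kr 1 (tvec w (c • χ) hd) :=
      gl_ext_mulVec fun x => by
        rw [uel_mulVec, kr_one_tvec_mulVec, cL_smul]
        rfl
    show uel w _ _ ∈ M
    rw [this]; exact root_mem hM _ _ hd
  have hEconj : ∀ N, E N → ∀ g ∈ specialLinear α F,
      E (Matrix.mulVecLin (g : Matrix α α F) ∘ₗ N ∘ₗ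
        Matrix.mulVecLin ((g⁻¹ : GL α F) : Matrix α α F)) := fun N h g hg => by
    have hk : kr g (1 : GL β F) ∈ M := hM g hg 1 (Subgroup.one_mem _)
    have : uel w ((Matrix.mulVecLin (g : Matrix α α F) ∘ₗ N ∘ₗ
        Matrix.mulVecLin ((g⁻¹ : GL α F) : Matrix α α F)) ∘ₗ cL χ) (hzero _)
          = kr g 1 * uel w (N ∘ₗ cL χ) (hzero N) * (kr g 1)⁻¹ :=
      gl_ext_mulVec fun x => by
        rw [conj_uel_mulVec, uel_mulVec, kr_inv, inv_one]
        simp [cL_kr]
    show uel w _ _ ∈ M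
    rw [this]; exact M.mul_mem (M.mul_mem hk h) (M.inv_mem hk)
  let N : (α → F) →ₗ[F] (α → F) := L ∘ₗ tenR v₀
  have hEN : E N := by
    have hk : kr (1 : GL α F) (tvec v₀ χ hχv) ∈ M := root_mem hM _ _ hχv
    have hk' : ∀ x, (((kr (1 : GL α F) (tvec v₀ χ hχv))⁻¹ : GL (α × β) F) :
        Matrix (α × β) (α × β) F) *ᵥ x = x - ten (cL χ x) v₀ := by
      intro x
      have h1 : (kr (1 : GL α F) (tvec v₀ χ hχv) : Matrix (α × β) (α × β) F) *ᵥ
          (x - ten (cL χ x) v₀) = x := by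
        rw [kr_one_tvec_mulVec, map_sub, cL_ten, hχv, zero_smul, sub_zero, sub_add_cancel]
      conv_lhs => rw [← h1]
      rw [inv_mulVec_mulVec]
    have : uel w ((-N) ∘ₗ cL χ) (hzero _)
        = kr 1 (tvec v₀ χ hχv) * uel w L hL * (kr 1 (tvec v₀ χ hχv))⁻¹ * (uel w L hL)⁻¹ :=
      gl_ext_mulVec fun x => by
        rw [mul_mulVec, uel_inv_mulVec, conj_uel_mulVec, hk', uel_mulVec, tvec_mulVec, hχw,
          zero_smul, add_zero]
        simp only [map_sub, cL_ten, hχw, zero_smul, sub_zero, hL]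
        simp only [Units.val_one, Matrix.one_mulVec, LinearMap.comp_apply, LinearMap.neg_apply, N,
          tenR_apply]
        rw [show ten (-(L (ten (cL χ x) v₀))) w = -ten (L (ten (cL χ x) v₀)) w from (tenR w).map_neg _,
          show ten (L x - L (ten (cL χ x) v₀)) w = ten (L x) w - ten (L (ten (cL χ x) v₀)) w from
            (tenR w).map_sub _ _]
        abel
    rw [← neg_neg N]
    refine hEneg _ ?_
    show uel w _ _ ∈ M
    rw [this]
    exact M.mul_mem (M.mul_mem (M.mul_mem hk hmem) (M.inv_mem hk)) (M.inv_mem hmem)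
  obtain ⟨u, hu⟩ : ∃ u, ¬ ∃ c : F, N u = c • u := by
    by_contra hc
    push Not at hc
    exact hv₀ (exists_scalar_of_eigen N hc)
  have hu0 : u ≠ 0 := fun h => hu ⟨0, by rw [h, map_zero, smul_zero]⟩
  set v := N u with hv
  obtain ⟨f', hf', hf'v⟩ := exists_covector (F ∙ u) (u := v) fun hm => by
    obtain ⟨c, hc⟩ := Submodule.mem_span_singleton.1 hm
    exact hu ⟨c, hc.symm⟩
  have hf'u : f' ⬝ᵥ u = 0 := hf' u (Submodule.mem_span_singleton_self _)
  -- the basic difference
  have hD : ∀ (N' : (α → F) →ₗ[F] (α → F)) (f : α → F) (hf : f ⬝ᵥ u = 0), E N' →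
      ∃ D, E D ∧ ∀ z, D z = (f ⬝ᵥ N' z) • u - (f ⬝ᵥ z) • N' u - ((f ⬝ᵥ z) * (f ⬝ᵥ N' u)) • u := by
    intro N' f hf hN'
    refine ⟨_, hEsub _ _ (hEconj N' hN' (tvec u f hf) (tvec_mem_specialLinear _ _ _)) hN',
      fun z => ?_⟩
    simp only [LinearMap.sub_apply, LinearMap.comp_apply, Matrix.mulVecLin_apply,
      tvec_inv_mulVec, tvec_mulVec, map_sub, map_smul, dotProduct_sub, dotProduct_smul, smul_eq_mul]
    module
  suffices h1 : ∃ f, f ≠ 0 ∧ f ⬝ᵥ u = 0 ∧ ∃ D, E D ∧ ∀ z, D z = (f ⬝ᵥ z) • u by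
    obtain ⟨f, hf0, hfu, D, hED, hDz⟩ := h1
    refine specialLinear_le_of_tensor_tv hM h2 h3 hu0 hf0 hw hχ0 hfu hχw
      ⟨by rw [ten_dot_ten, hfu, zero_mul], ?_⟩
    have hEtv : uel w (D ∘ₗ cL χ) (hzero D) ∈ M := hED
    rwa [show uel w (D ∘ₗ cL χ) (hzero D) = tvec (ten u w) (ten f χ)
        (by rw [ten_dot_ten, hfu, zero_mul]) from gl_ext_mulVec fun x => by
      rw [uel_mulVec, tvec_mulVec, ten_dot, LinearMap.comp_apply, hDz, ten_smul_left]] at hEtv
  by_cases hα : 3 ≤ Fintype.card α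
  · obtain ⟨f, hf0, hfu, hfv⟩ := exists_orth_two hα u v
    obtain ⟨D, hED, hDz⟩ := hD N f hfu hEN
    obtain ⟨D', hED', hD'z⟩ := hD D f' hf'u hED
    refine ⟨-f, neg_ne_zero.2 hf0, by rw [neg_dotProduct, hfu, neg_zero], D', hED', fun z => ?_⟩
    rw [hD'z, hDz, hDz]
    simp only [dotProduct_sub, dotProduct_smul, hf'u, hf'v, hfu, hfv, hf', ← hv, smul_eq_mul,
      neg_dotProduct]
    module
  · have hα2 : Fintype.card α = 2 := by omega
    have hq : Nat.card F ≠ 2 := fun h => hex ⟨hα2, h⟩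
    have hf'0 : f' ≠ 0 := fun h => by rw [h, zero_dotProduct] at hf'v; exact zero_ne_one hf'v
    by_cases h2F : (2 : F) = 0
    · set q := f' ⬝ᵥ N v with hq'
      obtain ⟨s, hs0, hsq⟩ : ∃ s : F, s ≠ 0 ∧ s ≠ q := by
        by_contra hc
        push Not at hc
        haveI := Fintype.ofFinite F
        classical
        have hcard : (Finset.univ : Finset F).card ≤ 2 :=
          (Finset.card_le_card (t := {0, q}) fun x _ => by
            by_cases hx : x = 0
            · simp [hx]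
            · simp [hc x hx]).trans Finset.card_le_two
        rw [Finset.card_univ, ← Nat.card_eq_fintype_card] at hcard
        have := Finite.one_lt_card (α := F)
        omega
      obtain ⟨D, hED, hDz⟩ := hD N (s • f') (by rw [smul_dotProduct, hf'u, smul_zero]) hEN
      refine ⟨(s * q - s * s) • f', smul_ne_zero ?_ hf'0, by
        rw [smul_dotProduct, hf'u, smul_zero], _, hEsub _ _ hED (hEscal s), fun z => ?_⟩
      · rw [← mul_sub]; exact mul_ne_zero hs0 (sub_ne_zero.2 hsq.symm)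
      obtain ⟨a, ha⟩ : ∃ a : F, z = a • u + (f' ⬝ᵥ z) • v := by
        have hle : F ∙ u ≤ LinearMap.ker (dotL f') :=
          (Submodule.span_singleton_le_iff_mem _ _).2 hf'u
        have hker : F ∙ u = LinearMap.ker (dotL f') := by
          refine Submodule.eq_of_le_of_finrank_le hle ?_
          have e1 := (dotL (F := F) f').finrank_range_add_finrank_ker
          have e2 : (dotL (F := F) f').range ≠ ⊥ := by
            intro e
            have : dotL f' v ∈ (dotL (F := F) f').range := ⟨v, rfl⟩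
            rw [e, Submodule.mem_bot, dotL_apply, hf'v] at this
            exact one_ne_zero this
          have e3 := Submodule.one_le_finrank_iff.2 e2
          rw [Module.finrank_fintype_fun_eq_card] at e1
          rw [finrank_span_singleton hu0]
          omega
        obtain ⟨a, ha⟩ := Submodule.mem_span_singleton.1 (hker ▸ (show z - (f' ⬝ᵥ z) • v ∈
            LinearMap.ker (dotL f') by
          show f' ⬝ᵥ (z - (f' ⬝ᵥ z) • v) = 0
          rw [dotProduct_sub, dotProduct_smul, hf'v, smul_eq_mul, mul_one, sub_self]))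
        exact ⟨a, by rw [ha]; abel⟩
      rw [LinearMap.sub_apply, hDz, LinearMap.smul_apply, LinearMap.id_apply]
      conv_lhs => rw [ha]
      conv_rhs => rw [ha]
      simp only [map_add, map_smul, dotProduct_add, dotProduct_smul, smul_dotProduct, ← hv, hf'u,
        hf'v, ← hq', smul_eq_mul]
      linear_combination (norm := module) (-(s * (f' ⬝ᵥ z))) • congrArg (· • v) h2F
    · obtain ⟨D, hED, hDz⟩ := hD N f' hf'u hEN
      obtain ⟨D', hED', hD'z⟩ := hD N (-f') (by rw [neg_dotProduct, hf'u, neg_zero]) hEN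
      refine ⟨(-2 : F) • f', smul_ne_zero (neg_ne_zero.2 h2F) hf'0, by
        rw [smul_dotProduct, hf'u, smul_zero], _, hEadd _ _ hED hED', fun z => ?_⟩
      rw [LinearMap.add_apply, hDz, hD'z]
      simp only [neg_dotProduct, smul_dotProduct, ← hv, hf'v, smul_eq_mul]
      module

end CfsgLib.Geo.Tensor
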