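/-
The stabiliser of a tensor decomposition `U ⊗ W`, `dim U < dim W`, is maximal in `SL(U ⊗ W)`.

An element outside the stabiliser maps no standard subspace `U ⊗ w` to a standard one, unless `SL`
is contained.  Conjugates of `1 ⊗ t` then increase the overlap of images of standard subspaces
with standard subspaces, alternately in the space and in its dual, up to a contradiction.
-/
import Cfsg.Agent.Geo.TensorLinearRoots
import Mathlib.LinearAlgebra.Dimension.Finite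

set_option autoImplicit false

namespace CfsgLib.Geo.Tensor

open Matrix Cfsg Cfsg.Geo CfsgLib.Geo
open scoped Kronecker

variable {n₁ n₂ : ℕ} {F : Type*} [Field F]

/-- A proper overgroup of the tensor stabiliser. -/
structure Bad (M : Subgroup (GL (Fin n₁ × Fin n₂) F)) : Prop where
  le : kroneckerSubgroup n₁ n₂ F ⊓ specialLinear (Fin n₁ × Fin n₂) F ≤ M
  sl : M ≤ specialLinear (Fin n₁ × Fin n₂) F
  nsl : ¬ specialLinear (Fin n₁ × Fin n₂) F ≤ M
  out : ¬ M ≤ kroneckerSubgroup n₁ n₂ F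

/-- An element outside the stabiliser whose image of a standard subspace meets a standard subspace
in dimension at least `k`. -/
def Ov (M : Subgroup (GL (Fin n₁ × Fin n₂) F)) (k : ℕ) : Prop :=
  ∃ g ∈ M, g ∉ kroneckerSubgroup n₁ n₂ F ∧ ∃ w₀ w : Fin n₂ → F, w₀ ≠ 0 ∧ w ≠ 0 ∧
    ∃ P : Submodule F (Fin n₁ → F), k ≤ Module.finrank F P ∧
      ∀ p ∈ P, ∃ u, (g : Matrix (Fin n₁ × Fin n₂) (Fin n₁ × Fin n₂) F) *ᵥ ten p w₀ = ten u w

lemma kr_mem (a : GL (Fin n₁) F) (b : GL (Fin n₂) F) : kr a b ∈ kroneckerSubgroup n₁ n₂ F :=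
  ⟨a, b, rfl⟩

lemma exists_kr {g : GL (Fin n₁ × Fin n₂) F} (h : g ∈ kroneckerSubgroup n₁ n₂ F) :
    ∃ a b, g = kr a b := by
  obtain ⟨a, b, h⟩ := h
  exact ⟨a, b, Units.ext h⟩

lemma finrank_le_annihilator {κ : Type} [Fintype κ] [DecidableEq κ] (Q R : Submodule F (κ → F))
    (h : ∀ f ∈ Q, ∀ x ∈ R, f ⬝ᵥ x = 0) :
    Module.finrank F Q + Module.finrank F R ≤ Fintype.card κ := by
  let T : (κ → F) →ₗ[F] Module.Dual F (κ → F) := (dotProductEquiv F κ).toLinearMap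
  have hle : R.map T ≤ Q.dualAnnihilator := by
    rintro _ ⟨x, hx, rfl⟩
    rw [Submodule.mem_dualAnnihilator]
    intro f hf
    show x ⬝ᵥ f = 0
    rw [dotProduct_comm, h f hf x hx]
  have h1 := Submodule.finrank_mono hle
  have h2 := Subspace.finrank_add_finrank_dualAnnihilator_eq Q
  rw [LinearEquiv.finrank_map_eq (dotProductEquiv F κ) R] at h1
  rw [Module.finrank_fintype_fun_eq_card] at h2
  omega

lemma exists_not_mem_of_finrank_lt {κ : Type} [Fintype κ] (S : Submodule F (κ → F))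
    (h : Module.finrank F S < Fintype.card κ) : ∃ x, x ∉ S := by
  by_contra hc
  push Not at hc
  rw [Submodule.eq_top_iff'.2 hc, finrank_top, Module.finrank_fintype_fun_eq_card] at h
  exact lt_irrefl _ h

lemma finrank_sup_span_le {κ : Type} [Fintype κ] (S : Submodule F (κ → F)) (x : κ → F) :
    Module.finrank F (S ⊔ (F ∙ x) : Submodule F (κ → F)) ≤ Module.finrank F S + 1 := by
  have := Submodule.finrank_add_le_finrank_add_finrank S (F ∙ x)
  have h1 := finrank_span_le_card (R := F) ({x} : Set (κ → F))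
  simp at h1
  omega

variable {M : Subgroup (GL (Fin n₁ × Fin n₂) F)}

lemma Bad.kr_sl (hB : Bad M) : ∀ a ∈ specialLinear (Fin n₁) F, ∀ b ∈ specialLinear (Fin n₂) F,
    kr a b ∈ M :=
  fun a ha b hb => hB.le ⟨kr_mem a b, kr_det a b ha hb⟩

lemma Bad.tr (hB : Bad M) : Bad (M.comap tinv) := by
  refine ⟨fun g hg => ?_, fun g hg => ?_, fun h => hB.nsl fun g hg => ?_, fun h => hB.out fun g hg => ?_⟩
  · obtain ⟨a, b, rfl⟩ := exists_kr hg.1
    exact hB.le ⟨by rw [tinv_kr]; exact kr_mem _ _, tinv_sl hg.2⟩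
  · have := tinv_sl (hB.sl (show tinv g ∈ M from hg))
    rwa [tinv_tinv] at this
  · have := h (tinv_sl hg)
    rwa [Subgroup.mem_comap, tinv_tinv] at this
  · obtain ⟨a, b, hab⟩ := exists_kr (h (show tinv g ∈ M.comap tinv by
      rw [Subgroup.mem_comap, tinv_tinv]; exact hg))
    rw [← tinv_tinv g, hab, tinv_kr]
    exact kr_mem _ _

variable [Finite F] (h1 : 2 ≤ n₁) (h12 : n₁ < n₂) (hex : ¬ (n₁ = 2 ∧ Nat.card F = 2))
include h1 h12 hex

lemma Bad.scalarType (hB : Bad M) {w : Fin n₂ → F} (hw : w ≠ 0)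
    (L : (Fin n₁ × Fin n₂ → F) →ₗ[F] (Fin n₁ → F)) (hL : ∀ u, L (ten u w) = 0)
    (hmem : uel w L hL ∈ M) : ∃ ψ : Fin n₂ → F, ∀ x, L x = cL ψ x := by
  by_contra hc
  exact hB.nsl (specialLinear_le_of_uel hB.kr_sl (by simpa using h1) (by simp; omega)
    (by simpa using hex) hw L hL hmem hc)

/-- An element mapping a standard subspace to a standard subspace stabilises the decomposition. -/
theorem Bad.fix_mem (hB : Bad M) {g : GL (Fin n₁ × Fin n₂) F} (hg : g ∈ M) {w w' : Fin n₂ → F}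
    (hw : w ≠ 0) (hw' : w' ≠ 0)
    (hA : ∀ u, ∃ u', (g : Matrix (Fin n₁ × Fin n₂) (Fin n₁ × Fin n₂) F) *ᵥ ten u w = ten u' w') :
    g ∈ kroneckerSubgroup n₁ n₂ F := by
  haveI : NeZero n₁ := ⟨by omega⟩
  let gi := ((g⁻¹ : GL (Fin n₁ × Fin n₂) F) : Matrix (Fin n₁ × Fin n₂) (Fin n₁ × Fin n₂) F)
  obtain ⟨ξ', hξ'⟩ := exists_dot_one hw'
  obtain ⟨ξ, hξ⟩ := exists_dot_one hw
  let af : (Fin n₁ → F) →ₗ[F] (Fin n₁ → F) :=
    cL ξ' ∘ₗ Matrix.mulVecLin (g : Matrix (Fin n₁ × Fin n₂) (Fin n₁ × Fin n₂) F) ∘ₗ tenR w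
  have haf : ∀ u, (g : Matrix (Fin n₁ × Fin n₂) (Fin n₁ × Fin n₂) F) *ᵥ ten u w = ten (af u) w' := by
    intro u
    obtain ⟨u', hu'⟩ := hA u
    simp [af, hu', hξ']
  have hinj : Function.Injective af := by
    intro u u' h
    have h2 := (haf u).trans ((congrArg (ten · w') h).trans (haf u').symm)
    have h3 := congrArg (gi *ᵥ ·) h2
    simp only [gi, inv_mulVec_mulVec] at h3
    exact ten_injective hw h3
  obtain ⟨a, ha⟩ := exists_gl af hinj
  have hai : ∀ u, gi *ᵥ ten u w' = ten (((a⁻¹ : GL (Fin n₁) F) : Matrix (Fin n₁) (Fin n₁) F) *ᵥ u) w := by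
    intro u
    have h2 := haf (((a⁻¹ : GL (Fin n₁) F) : Matrix (Fin n₁) (Fin n₁) F) *ᵥ u)
    rw [← ha, mulVec_inv_mulVec] at h2
    rw [← h2]
    exact inv_mulVec_mulVec _ _
  -- conjugates of `1 ⊗ t`
  have hroot : ∀ ψ : Fin n₂ → F, ψ ⬝ᵥ w = 0 → ∃ ψ' : Fin n₂ → F, ∀ x,
      (a : Matrix (Fin n₁) (Fin n₁) F) *ᵥ cL ψ (gi *ᵥ x) = cL ψ' x := by
    intro ψ hψ
    let L : (Fin n₁ × Fin n₂ → F) →ₗ[F] (Fin n₁ → F) :=
      Matrix.mulVecLin (a : Matrix (Fin n₁) (Fin n₁) F) ∘ₗ cL ψ ∘ₗ Matrix.mulVecLin gi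
    have hL : ∀ u, L (ten u w') = 0 := fun u => by simp [L, hai, hψ]
    have hk : kr (1 : GL (Fin n₁) F) (tvec w ψ hψ) ∈ M :=
      root_mem hB.kr_sl w ψ hψ
    have : uel w' L hL = g * kr 1 (tvec w ψ hψ) * g⁻¹ := gl_ext_mulVec fun x => by
      rw [mul_mulVec, mul_mulVec, kr_one_tvec_mulVec, uel_mulVec, Matrix.mulVec_add,
        mulVec_inv_mulVec, haf, ← ha]
      rfl
    exact hB.scalarType h1 h12 hex hw' L hL (this ▸ M.mul_mem (M.mul_mem hg hk) (M.inv_mem hg))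
  obtain ⟨f₀, hf₀⟩ := exists_dot_one (w := (Pi.single (0 : Fin n₁) 1 : Fin n₁ → F)) (by simp)
  set u₀ : Fin n₁ → F := Pi.single (0 : Fin n₁) 1 with hu₀
  let B' : (Fin n₂ → F) →ₗ[F] (Fin n₂ → F) :=
    cR (f₀ ᵥ* (a : Matrix (Fin n₁) (Fin n₁) F)) ∘ₗ Matrix.mulVecLin gi ∘ₗ tenL u₀
  have hkey : ∀ ψ : Fin n₂ → F, ψ ⬝ᵥ w = 0 → ∀ u v, cL ψ (gi *ᵥ ten u v)
      = (ψ ⬝ᵥ B' v) • (((a⁻¹ : GL (Fin n₁) F) : Matrix (Fin n₁) (Fin n₁) F) *ᵥ u) := by
    intro ψ hψ u v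
    obtain ⟨ψ', hψ'⟩ := hroot ψ hψ
    have e : ψ ⬝ᵥ B' v = ψ' ⬝ᵥ v := by
      simp only [B', LinearMap.comp_apply, tenL_apply, Matrix.mulVecLin_apply]
      rw [dot_cR, ← Matrix.dotProduct_mulVec, hψ', cL_ten, dotProduct_smul, hf₀, smul_eq_mul, mul_one]
    have h2 := congrArg (((a⁻¹ : GL (Fin n₁) F) : Matrix (Fin n₁) (Fin n₁) F) *ᵥ ·) (hψ' (ten u v))
    simp only [inv_mulVec_mulVec, cL_ten, Matrix.mulVec_smul] at h2
    rw [h2, e]
  obtain ⟨η, hη⟩ := exists_dot_one hw'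
  let B : (Fin n₂ → F) →ₗ[F] (Fin n₂ → F) :=
    B' + (dotL η).smulRight ((1 - ξ ⬝ᵥ B' w') • w)
  have hBψ : ∀ ψ : Fin n₂ → F, ψ ⬝ᵥ w = 0 → ∀ v, ψ ⬝ᵥ B v = ψ ⬝ᵥ B' v := fun ψ hψ v => by
    simp [B, dotProduct_add, dotProduct_smul, hψ]
  have hBw : B w' = w := by
    have h2 : ∀ ψ : Fin n₂ → F, ψ ⬝ᵥ w = 0 → ψ ⬝ᵥ B' w' = 0 := by
      intro ψ hψ
      have h3 := hkey ψ hψ u₀ w'
      rw [hai, cL_ten, hψ, zero_smul, eq_comm, smul_eq_zero] at h3
      refine h3.resolve_right fun h0 => ?_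
      have h6 : u₀ = 0 := by rw [← mulVec_inv_mulVec a u₀, h0, Matrix.mulVec_zero]
      simp [hu₀] at h6
    have h4 : B' w' = (ξ ⬝ᵥ B' w') • w := by
      funext b
      have := h2 (Pi.single b 1 - (w b) • ξ)
        (by rw [sub_dotProduct, smul_dotProduct, hξ, single_dotProduct]; simp)
      rw [sub_dotProduct, smul_dotProduct, single_dotProduct, one_mul, sub_eq_zero] at this
      rw [this, Pi.smul_apply, smul_eq_mul, smul_eq_mul, mul_comm]
    simp only [B, LinearMap.add_apply, LinearMap.smulRight_apply, dotL_apply, hη, one_smul]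
    conv_lhs => arg 1; rw [h4]
    rw [← add_smul, add_sub_cancel, one_smul]
  have hBinj : Function.Injective B := by
    refine LinearMap.ker_eq_bot.1 (LinearMap.ker_eq_bot'.2 fun v hv => ?_)
    have h2 : ∀ ψ : Fin n₂ → F, ψ ⬝ᵥ w = 0 → cL ψ (gi *ᵥ ten u₀ v) = 0 := fun ψ hψ => by
      rw [hkey ψ hψ, ← hBψ ψ hψ, hv, dotProduct_zero, zero_smul]
    have h3 := congrArg ((g : Matrix (Fin n₁ × Fin n₂) (Fin n₁ × Fin n₂) F) *ᵥ ·)
      (eq_ten_of_forall_cL hξ h2)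
    simp only [gi, mulVec_inv_mulVec, haf] at h3
    have h4 := congrArg (cR f₀) h3
    rw [cR_ten, cR_ten, hf₀, one_smul] at h4
    rw [h4, map_smul, hBw, smul_eq_zero] at hv
    rcases hv with h5 | h5
    · rw [h4, h5, zero_smul]
    · exact absurd h5 hw
  obtain ⟨b, hb⟩ := exists_gl B hBinj
  set k₀ : GL (Fin n₁ × Fin n₂) F := kr a b⁻¹ with hk₀
  let L : (Fin n₁ × Fin n₂ → F) →ₗ[F] (Fin n₁ → F) :=
    cL ξ' ∘ₗ (Matrix.mulVecLin ((k₀ * g⁻¹ : GL (Fin n₁ × Fin n₂) F) : Matrix _ _ F) - LinearMap.id)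
  have hcomp : ∀ u v, ((k₀ * g⁻¹ : GL (Fin n₁ × Fin n₂) F) : Matrix _ _ F) *ᵥ ten u v
      = ten u v + ten (L (ten u v)) w' := by
    intro u v
    have hz : gi *ᵥ ten u v - ten (((a⁻¹ : GL (Fin n₁) F) : Matrix (Fin n₁) (Fin n₁) F) *ᵥ u) (B v)
        = ten (cL ξ (gi *ᵥ ten u v
          - ten (((a⁻¹ : GL (Fin n₁) F) : Matrix (Fin n₁) (Fin n₁) F) *ᵥ u) (B v))) w :=
      eq_ten_of_forall_cL hξ fun ψ hψ => by rw [map_sub, hkey ψ hψ, cL_ten, hBψ ψ hψ, sub_self]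
    generalize cL ξ (gi *ᵥ ten u v
          - ten (((a⁻¹ : GL (Fin n₁) F) : Matrix (Fin n₁) (Fin n₁) F) *ᵥ u) (B v)) = z at hz
    have hk : ((k₀ * g⁻¹ : GL (Fin n₁ × Fin n₂) F) : Matrix _ _ F) *ᵥ ten u v
        = ten u v + ten ((a : Matrix (Fin n₁) (Fin n₁) F) *ᵥ z) w' := by
      rw [mul_mulVec, sub_eq_iff_eq_add'.1 hz, Matrix.mulVec_add, kr_ten, kr_ten, mulVec_inv_mulVec]
      have hbv : ((b⁻¹ : GL (Fin n₂) F) : Matrix (Fin n₂) (Fin n₂) F) *ᵥ B v = v := by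
        rw [← hb, inv_mulVec_mulVec]
      have hbw : ((b⁻¹ : GL (Fin n₂) F) : Matrix (Fin n₂) (Fin n₂) F) *ᵥ w = w' := by
        conv_lhs => rw [← hBw, ← hb]
        rw [inv_mulVec_mulVec]
      rw [hbv, hbw]
    simp only [L, LinearMap.comp_apply, LinearMap.sub_apply, Matrix.mulVecLin_apply,
      LinearMap.id_apply, hk, add_sub_cancel_left, cL_ten, hξ', one_smul]
  have hL : ∀ u, L (ten u w') = 0 := by
    intro u
    simp only [L, LinearMap.comp_apply, LinearMap.sub_apply, Matrix.mulVecLin_apply, LinearMap.id_apply]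
    rw [mul_mulVec, hai, kr_ten, mulVec_inv_mulVec]
    have hbw : ((b⁻¹ : GL (Fin n₂) F) : Matrix (Fin n₂) (Fin n₂) F) *ᵥ w = w' := by
      conv_lhs => rw [← hBw, ← hb]
      rw [inv_mulVec_mulVec]
    rw [hbw, sub_self, map_zero]
  have heq : k₀ * g⁻¹ = uel w' L hL := gl_ext_ten fun u v => by rw [hcomp, uel_mulVec]
  have hk₀sl : k₀ ∈ specialLinear (Fin n₁ × Fin n₂) F := by
    rw [show k₀ = uel w' L hL * g by rw [← heq, inv_mul_cancel_right]]
    exact mul_mem (uel_sl _ _ _) (hB.sl hg)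
  have hu : uel w' L hL ∈ M :=
    heq ▸ M.mul_mem (hB.le ⟨kr_mem _ _, hk₀sl⟩) (M.inv_mem hg)
  obtain ⟨ψ, hψ⟩ := hB.scalarType h1 h12 hex hw' L hL hu
  have hψw : ψ ⬝ᵥ w' = 0 := by
    have h2 := hL u₀
    rw [hψ, cL_ten, smul_eq_zero] at h2
    exact h2.resolve_right (by simp [hu₀])
  rw [show g = (kr (1 : GL (Fin n₁) F) (tvec w' ψ hψw))⁻¹ * k₀ by
    rw [show kr (1 : GL (Fin n₁) F) (tvec w' ψ hψw) = uel w' L hL from gl_ext_mulVec fun x => by
      rw [kr_one_tvec_mulVec, uel_mulVec, hψ], ← heq]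
    group]
  exact mul_mem ((kroneckerSubgroup n₁ n₂ F).inv_mem (kr_mem _ _)) (kr_mem _ _)

/-- Conjugates of `1 ⊗ t` by elements outside the stabiliser are outside. -/
theorem Bad.root_notMem (hB : Bad M) {g : GL (Fin n₁ × Fin n₂) F} (hg : g ∈ M)
    (hgK : g ∉ kroneckerSubgroup n₁ n₂ F) {w₀ φ : Fin n₂ → F} (hw₀ : w₀ ≠ 0) (hφ : φ ≠ 0)
    (h : φ ⬝ᵥ w₀ = 0) :
    g * kr (1 : GL (Fin n₁) F) (tvec w₀ φ h) * g⁻¹ ∉ kroneckerSubgroup n₁ n₂ F := by
  haveI : NeZero n₁ := ⟨by omega⟩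
  intro hy
  obtain ⟨a, b, hab⟩ := exists_kr hy
  let gi := ((g⁻¹ : GL (Fin n₁ × Fin n₂) F) : Matrix (Fin n₁ × Fin n₂) (Fin n₁ × Fin n₂) F)
  have hdiff : ∀ x, (kr a b : Matrix (Fin n₁ × Fin n₂) (Fin n₁ × Fin n₂) F) *ᵥ x
      = x + (g : Matrix (Fin n₁ × Fin n₂) (Fin n₁ × Fin n₂) F) *ᵥ ten (cL φ (gi *ᵥ x)) w₀ := by
    intro x
    rw [← hab, mul_mulVec, mul_mulVec, kr_one_tvec_mulVec, Matrix.mulVec_add, mulVec_inv_mulVec]
  by_cases hsc : ∀ u, ∃ c : F, (a : Matrix (Fin n₁) (Fin n₁) F) *ᵥ u = c • u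
  · obtain ⟨c, hc⟩ := exists_scalar_of_eigen (Matrix.mulVecLin (a : Matrix (Fin n₁) (Fin n₁) F)) hsc
    simp only [Matrix.mulVecLin_apply] at hc
    obtain ⟨v, hv⟩ : ∃ v, c • ((b : Matrix (Fin n₂) (Fin n₂) F) *ᵥ v) - v ≠ 0 := by
      by_contra hn
      push Not at hn
      obtain ⟨ξ, hξ⟩ := exists_dot_one hφ
      set u₀ : Fin n₁ → F := Pi.single (0 : Fin n₁) 1 with hu₀
      have h2 := hdiff ((g : Matrix (Fin n₁ × Fin n₂) (Fin n₁ × Fin n₂) F) *ᵥ ten u₀ ξ)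
      have hone : ∀ x, (kr a b : Matrix (Fin n₁ × Fin n₂) (Fin n₁ × Fin n₂) F) *ᵥ x = x := by
        intro x
        have := map_ext (S := Matrix.mulVecLin (kr a b : Matrix (Fin n₁ × Fin n₂) (Fin n₁ × Fin n₂) F))
          (T := LinearMap.id) fun u v => by
            simp [kr_ten, hc, ten_smul_left, ← ten_smul_right, sub_eq_zero.1 (hn v)]
        exact LinearMap.congr_fun this x
      rw [hone, left_eq_add, inv_mulVec_mulVec, cL_ten, dotProduct_comm, hξ, one_smul] at h2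
      have h3 := congrArg (gi *ᵥ ·) h2
      simp only [gi, inv_mulVec_mulVec, Matrix.mulVec_zero] at h3
      have := ten_eq_zero h3 hw₀
      simp [hu₀] at this
    refine hgK ((kroneckerSubgroup n₁ n₂ F).inv_mem_iff.1
      (hB.fix_mem h1 h12 hex (M.inv_mem hg) hv hw₀ fun u => ⟨cL φ (gi *ᵥ ten u v), ?_⟩))
    have h2 := hdiff (ten u v)
    rw [kr_ten, hc, ten_smul_left, ← ten_smul_right] at h2
    have h3 : (g : Matrix (Fin n₁ × Fin n₂) (Fin n₁ × Fin n₂) F) *ᵥ ten (cL φ (gi *ᵥ ten u v)) w₀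
        = ten u (c • ((b : Matrix (Fin n₂) (Fin n₂) F) *ᵥ v) - v) := by
      rw [show ten u (c • ((b : Matrix (Fin n₂) (Fin n₂) F) *ᵥ v) - v)
        = ten u (c • ((b : Matrix (Fin n₂) (Fin n₂) F) *ᵥ v)) - ten u v from (tenL u).map_sub _ _,
        h2, add_sub_cancel_left]
    rw [← h3, inv_mulVec_mulVec]
  · push Not at hsc
    obtain ⟨u, hu⟩ := hsc
    obtain ⟨v, hv0, hv⟩ := exists_ne_zero_ker (cL φ ∘ₗ Matrix.mulVecLin gi ∘ₗ tenL u)
      (by rw [Module.finrank_fintype_fun_eq_card, Fintype.card_fin, Fintype.card_fin]; exact h12)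
    simp only [LinearMap.comp_apply, tenL_apply, Matrix.mulVecLin_apply] at hv
    have h2 := hdiff (ten u v)
    rw [hv, show ten (0 : Fin n₁ → F) w₀ = 0 from (tenR w₀).map_zero, Matrix.mulVec_zero, add_zero,
      kr_ten] at h2
    obtain ⟨f, hf, hfu⟩ := exists_covector (F ∙ u) (u := (a : Matrix (Fin n₁) (Fin n₁) F) *ᵥ u)
      fun hm => by
        obtain ⟨c, hc⟩ := Submodule.mem_span_singleton.1 hm
        exact hu c hc.symm
    have h3 := congrArg (cR f) h2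
    rw [cR_ten, cR_ten, hfu, hf u (Submodule.mem_span_singleton_self _), one_smul, zero_smul] at h3
    have h4 := congrArg (((b⁻¹ : GL (Fin n₂) F) : Matrix (Fin n₂) (Fin n₂) F) *ᵥ ·) h3
    simp only [inv_mulVec_mulVec, Matrix.mulVec_zero] at h4
    exact hv0 h4

/-- Covectors killing `L` on a standard subspace give overlap. -/
theorem Bad.ov_of_ann (hB : Bad M) {g : GL (Fin n₁ × Fin n₂) F} (hg : g ∈ M)
    (hgK : g ∉ kroneckerSubgroup n₁ n₂ F) {φ₀ : Fin n₂ → F} (hφ₀ : φ₀ ≠ 0) {w : Fin n₂ → F}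
    (hw : w ≠ 0) (Q : Submodule F (Fin n₁ → F))
    (hQ : ∀ f ∈ Q, ∀ u, f ⬝ᵥ cL φ₀ (((g⁻¹ : GL (Fin n₁ × Fin n₂) F) :
      Matrix (Fin n₁ × Fin n₂) (Fin n₁ × Fin n₂) F) *ᵥ ten u w) = 0) :
    Ov M (Module.finrank F Q) := by
  obtain ⟨w₀, hw₀, hw₀φ⟩ := exists_orth_one (show 2 ≤ Fintype.card (Fin n₂) by simp; omega) φ₀
  have hd : φ₀ ⬝ᵥ w₀ = 0 := (dotProduct_comm φ₀ w₀).trans hw₀φ
  let T : (Fin n₁ → F) →ₗ[F] (Fin n₁ → F) := cL φ₀ ∘ₗ Matrix.mulVecLin
    ((g⁻¹ : GL (Fin n₁ × Fin n₂) F) : Matrix (Fin n₁ × Fin n₂) (Fin n₁ × Fin n₂) F) ∘ₗ tenR w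
  refine ⟨_, M.mul_mem (M.mul_mem hg (root_mem hB.kr_sl w₀ φ₀ hd)) (M.inv_mem hg),
    hB.root_notMem h1 h12 hex hg hgK hw₀ hφ₀ hd, w, w, hw, hw, LinearMap.ker T, ?_, fun p hp => ⟨p, ?_⟩⟩
  · have e1 := T.finrank_range_add_finrank_ker
    have e2 := finrank_le_annihilator Q (LinearMap.range T) (by
      rintro f hf _ ⟨u, rfl⟩; exact hQ f hf u)
    rw [Module.finrank_fintype_fun_eq_card] at e1
    omega
  · rw [mul_mulVec, mul_mulVec, kr_one_tvec_mulVec]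
    rw [show cL φ₀ (((g⁻¹ : GL (Fin n₁ × Fin n₂) F) :
      Matrix (Fin n₁ × Fin n₂) (Fin n₁ × Fin n₂) F) *ᵥ ten p w) = 0 from hp,
      show ten (0 : Fin n₁ → F) w₀ = 0 from (tenR w₀).map_zero, add_zero, mulVec_inv_mulVec]

omit [Finite F] h1 h12 hex in
lemma dot_inv_mulVec_tinv (g : GL (Fin n₁ × Fin n₂) F) (f : Fin n₁ → F) (φ : Fin n₂ → F)
    (x : Fin n₁ × Fin n₂ → F) :
    f ⬝ᵥ cL φ ((((tinv g)⁻¹ : GL (Fin n₁ × Fin n₂) F) : Matrix _ _ F) *ᵥ x)
      = ((g : Matrix (Fin n₁ × Fin n₂) (Fin n₁ × Fin n₂) F) *ᵥ ten f φ) ⬝ᵥ x := by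
  rw [← ten_dot, Matrix.dotProduct_mulVec, ← tinv_mulVec, tinv_tinv]

/-- Overlap in the dual gives overlap. -/
theorem Bad.ov_tr (hB : Bad M) {k : ℕ} (hov : Ov (M.comap tinv) k) : Ov M k := by
  obtain ⟨g, hg, hgK, φ₀, φ, hφ₀, hφ, P, hP, hmap⟩ := hov
  obtain ⟨w, hw, hwφ⟩ := exists_orth_one (show 2 ≤ Fintype.card (Fin n₂) by simp; omega) φ
  have hnK : tinv g ∉ kroneckerSubgroup n₁ n₂ F := fun h => hgK (by
    obtain ⟨a, b, hab⟩ := exists_kr h
    rw [← tinv_tinv g, hab, tinv_kr]; exact kr_mem _ _)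
  obtain ⟨g', hg', hgK', r⟩ := hB.ov_of_ann h1 h12 hex (g := tinv g) hg hnK hφ₀ hw P fun f hf u => by
    obtain ⟨u', hu'⟩ := hmap f hf
    rw [dot_inv_mulVec_tinv, hu', ten_dot_ten, dotProduct_comm φ w, hwφ, mul_zero]
  obtain ⟨w₁, w₂, h₁, h₂, P', hP', hm'⟩ := r
  exact ⟨g', hg', hgK', w₁, w₂, h₁, h₂, P', hP.trans hP', hm'⟩

/-- The inductive step. -/
theorem Bad.ov_step (hB : Bad M) {k : ℕ} (hk : k + 2 ≤ n₁) (hov : Ov (M.comap tinv) k) :
    Ov M (k + 1) := by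
  haveI : NeZero n₁ := ⟨by omega⟩
  obtain ⟨g, hg, hgK, φ₀, φ, hφ₀, hφ, P, hP, hmap⟩ := hov
  have hnK : tinv g ∉ kroneckerSubgroup n₁ n₂ F := fun h => hgK (by
    obtain ⟨a, b, hab⟩ := exists_kr h
    rw [← tinv_tinv g, hab, tinv_kr]; exact kr_mem _ _)
  let G : (Fin n₁ → F) →ₗ[F] (Fin n₁ × Fin n₂ → F) :=
    Matrix.mulVecLin (g : Matrix (Fin n₁ × Fin n₂) (Fin n₁ × Fin n₂) F) ∘ₗ tenR φ₀
  have hG : ∀ f, G f = (g : Matrix (Fin n₁ × Fin n₂) (Fin n₁ × Fin n₂) F) *ᵥ ten f φ₀ := fun f => rfl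
  let P₁ : Submodule F (Fin n₁ → F) := (LinearMap.range (tenR φ)).comap G
  have hPle : P ≤ P₁ := fun p hp => by
    obtain ⟨u, hu⟩ := hmap p hp
    exact ⟨u, hu.symm⟩
  have hP₁ : ∀ p ∈ P₁, ∃ u, (g : Matrix (Fin n₁ × Fin n₂) (Fin n₁ × Fin n₂) F) *ᵥ ten p φ₀ = ten u φ :=
    fun p ⟨u, hu⟩ => ⟨u, hu.symm⟩
  by_cases hbig : k + 1 ≤ Module.finrank F P₁
  · obtain ⟨g', hg', hgK', w₁, w₂, h₁, h₂, P', hP', hm'⟩ :=
      hB.ov_tr h1 h12 hex ⟨g, hg, hgK, φ₀, φ, hφ₀, hφ, P₁, le_rfl, hP₁⟩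
    exact ⟨g', hg', hgK', w₁, w₂, h₁, h₂, P', hbig.trans hP', hm'⟩
  obtain ⟨f₀, hf₀⟩ := exists_not_mem_of_finrank_lt P₁ (by simp; omega)
  have hP₁k : k ≤ Module.finrank F P₁ := hP.trans (Submodule.finrank_mono hPle)
  have hgrow : ∀ f, f ∉ P₁ → k + 1 ≤ Module.finrank F (P₁ ⊔ (F ∙ f) : Submodule F (Fin n₁ → F)) := by
    intro f hf
    have : P₁ < P₁ ⊔ (F ∙ f) := lt_of_le_of_ne le_sup_left fun h => hf (by
      rw [h]; exact Submodule.mem_sup_right (Submodule.mem_span_singleton_self f))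
    have := Submodule.finrank_lt_finrank_of_lt this
    omega
  by_cases hkill : ∃ f, f ∉ P₁ ∧ ∃ w, w ≠ 0 ∧ φ ⬝ᵥ w = 0 ∧ cL w (G f) = 0
  · obtain ⟨f, hf, w, hw, hwφ, hwf⟩ := hkill
    obtain ⟨g', hg', hgK', w₁, w₂, h₁, h₂, P', hP', hm'⟩ :=
      hB.ov_of_ann h1 h12 hex (g := tinv g) hg hnK hφ₀ hw (P₁ ⊔ (F ∙ f)) fun x hx u => by
        obtain ⟨p, hp, y, hy, rfl⟩ := Submodule.mem_sup.1 hx
        obtain ⟨c, rfl⟩ := Submodule.mem_span_singleton.1 hy
        obtain ⟨u', hu'⟩ := hP₁ p hp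
        rw [dot_inv_mulVec_tinv, ten_add_left, ten_smul_left, Matrix.mulVec_add, Matrix.mulVec_smul,
          hu', ← hG, add_dotProduct, smul_dotProduct, ten_dot_ten, hwφ, mul_zero, zero_add, dot_ten,
          hwf, dotProduct_zero, smul_zero]
    exact ⟨g', hg', hgK', w₁, w₂, h₁, h₂, P', (hgrow f hf).trans hP', hm'⟩
  push Not at hkill
  have hfail : ∀ f, f ∉ P₁ → ∀ w, φ ⬝ᵥ w = 0 → cL w (G f) = 0 → w = 0 := fun f hf w hwφ hwf => by
    by_contra hw
    exact hkill f hf w hw hwφ hwf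
  set c := G f₀ with hc
  let cLc : (Fin n₂ → F) →ₗ[F] (Fin n₁ → F) :=
    { toFun := fun w => cL w c
      map_add' := fun x y => cL_add x y c
      map_smul' := fun r x => cL_smul r x c }
  let T := cLc.prod (dotL φ)
  have hTinj : Function.Injective T := by
    refine LinearMap.ker_eq_bot.1 (LinearMap.ker_eq_bot'.2 fun w hw => ?_)
    exact hfail f₀ hf₀ w (congrArg Prod.snd hw) (congrArg Prod.fst hw)
  have hfr : Module.finrank F (Fin n₂ → F) = Module.finrank F ((Fin n₁ → F) × F) := by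
    have := LinearMap.finrank_le_finrank_of_injective hTinj
    simp at this ⊢
    omega
  let TE := LinearMap.linearEquivOfInjective T hTinj hfr
  let S : (Fin n₁ → F) →ₗ[F] (Fin n₂ → F) := TE.symm.toLinearMap ∘ₗ LinearMap.inl F (Fin n₁ → F) F
  have hS : ∀ z, cL (S z) c = z ∧ φ ⬝ᵥ S z = 0 := fun z => by
    have h2 : T (S z) = (z, 0) := TE.apply_symm_apply (z, 0)
    exact ⟨congrArg Prod.fst h2, congrArg Prod.snd h2⟩
  let U₀ : Submodule F (Fin n₁ → F) := (P₁.map G).comap (tenR φ)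
  have hU₀ : Module.finrank F U₀ ≤ k := by
    have h2 : U₀.map (tenR φ) ≤ P₁.map G := Submodule.map_comap_le _ _
    have h3 := (Submodule.equivMapOfInjective (tenR φ)
      (show Function.Injective (tenR (α := Fin n₁) φ) from ten_injective hφ) U₀).finrank_eq
    have h4 := Submodule.finrank_mono h2
    have h5 := Submodule.finrank_map_le G P₁
    omega
  by_cases houter : ∃ h ∈ kroneckerSubgroup n₁ n₂ F ⊓ specialLinear (Fin n₁ × Fin n₂) F,
      (∀ p ∈ P₁, (h : Matrix (Fin n₁ × Fin n₂) (Fin n₁ × Fin n₂) F) *ᵥ G p = G p) ∧ (h : Matrix (Fin n₁ × Fin n₂) (Fin n₁ × Fin n₂) F) *ᵥ c = c ∧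
        g⁻¹ * h * g ∉ kroneckerSubgroup n₁ n₂ F
  · obtain ⟨h, hh, hhP, hhc, hhK⟩ := houter
    refine hB.ov_tr h1 h12 hex ⟨g⁻¹ * h * g, mul_mem (mul_mem ((M.comap tinv).inv_mem hg)
      (hB.tr.le hh)) hg, hhK, φ₀, φ₀, hφ₀, hφ₀, P₁ ⊔ (F ∙ f₀), hgrow f₀ hf₀, fun x hx => ⟨x, ?_⟩⟩
    obtain ⟨p, hp, y, hy, rfl⟩ := Submodule.mem_sup.1 hx
    obtain ⟨r, rfl⟩ := Submodule.mem_span_singleton.1 hy
    rw [mul_mulVec, mul_mulVec, ← hG, map_add, map_smul, Matrix.mulVec_add, Matrix.mulVec_smul,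
      hhP p hp, ← hc, hhc, hc, ← map_smul, ← map_add, hG, inv_mulVec_mulVec]
  push Not at houter
  -- every vector is an eigenvector of every contraction
  have heig : ∀ f u, ∃ lam : F, cL (S u) (G f) = lam • u := by
    intro f u
    obtain ⟨z, hz⟩ := exists_not_mem_of_finrank_lt (U₀ ⊔ (F ∙ u)) (by
      have := finrank_sup_span_le U₀ u
      simp; omega)
    obtain ⟨t₀, ht₀, htz⟩ := exists_covector _ hz
    have ht₀0 : t₀ ≠ 0 := fun h => by rw [h, zero_dotProduct] at htz; exact zero_ne_one htz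
    let X : (Fin n₁ → F) →ₗ[F] (Fin n₁ → F) :=
      { toFun := fun z => cL (S z) (G f)
        map_add' := fun x y => by rw [map_add, cL_add]
        map_smul' := fun r x => by rw [map_smul, cL_smul]; rfl }
    have step : ∀ t : Fin n₁ → F, (∀ x ∈ U₀ ⊔ (F ∙ u), t ⬝ᵥ x = 0) → ∃ f'' : Fin n₁ → F, ∀ z,
        cL (S z) (G f'') = X z - (t ⬝ᵥ z) • X u + (t ⬝ᵥ X z - (t ⬝ᵥ z) * (t ⬝ᵥ X u)) • u - X z := by
      intro t ht
      have htu : t ⬝ᵥ u = 0 := ht u (Submodule.mem_sup_right (Submodule.mem_span_singleton_self u))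
      set a : GL (Fin n₁) F := tvec u t htu with ha
      have hd : (-S u) ⬝ᵥ cR t c = 0 := by
        rw [neg_dotProduct, dot_cR, (hS u).1, htu, neg_zero]
      set b : GL (Fin n₂) F := tvec (cR t c) (-S u) hd with hb
      have hab : kr a b ∈ kroneckerSubgroup n₁ n₂ F ⊓ specialLinear (Fin n₁ × Fin n₂) F :=
        ⟨kr_mem _ _, kr_det _ _ (tvec_mem_specialLinear _ _ _) (tvec_mem_specialLinear _ _ _)⟩
      have hhP : ∀ p ∈ P₁, (kr a b : Matrix (Fin n₁ × Fin n₂) (Fin n₁ × Fin n₂) F) *ᵥ G p = G p := by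
        intro p hp
        obtain ⟨y, hy⟩ := hP₁ p hp
        have hyU : y ∈ U₀ := ⟨p, hp, hy⟩
        rw [hG, hy, kr_ten, ha, hb, tvec_mulVec, tvec_mulVec, ht y (Submodule.mem_sup_left hyU),
          zero_smul, add_zero, neg_dotProduct, dotProduct_comm, (hS u).2, neg_zero, zero_smul, add_zero]
      have hhc : (kr a b : Matrix (Fin n₁ × Fin n₂) (Fin n₁ × Fin n₂) F) *ᵥ c = c := by
        funext ⟨i, j⟩
        have key : ∀ w, cL w ((kr a b : Matrix (Fin n₁ × Fin n₂) (Fin n₁ × Fin n₂) F) *ᵥ c) = cL w c := by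
          intro w
          rw [cL_kr, hb, vecMul_tvec, cL_add, cL_smul, cL_neg, (hS u).1, dot_cR, ha, tvec_mulVec]
          simp only [dotProduct_add, dotProduct_smul, dotProduct_neg, htu, smul_eq_mul]
          module
        have h2 := congrFun (key (Pi.single j 1)) i
        simpa [cL_apply, Pi.single_apply] using h2
      obtain ⟨a', b', hab'⟩ := exists_kr (houter _ hab hhP hhc)
      have hc' : ∀ f, (kr a b : Matrix (Fin n₁ × Fin n₂) (Fin n₁ × Fin n₂) F) *ᵥ G f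
          = (g : Matrix (Fin n₁ × Fin n₂) (Fin n₁ × Fin n₂) F) *ᵥ ten ((a' : Matrix (Fin n₁) (Fin n₁) F) *ᵥ f) ((b' : Matrix (Fin n₂) (Fin n₂) F) *ᵥ φ₀) := by
        intro f
        rw [hG, ← kr_ten, ← hab', mul_mulVec, mul_mulVec, mulVec_inv_mulVec]
      obtain ⟨lam, hlam⟩ : ∃ lam : F, (b' : Matrix (Fin n₂) (Fin n₂) F) *ᵥ φ₀ = lam • φ₀ := by
        have h2 := hc' f₀
        rw [← hc, hhc, hc, hG] at h2
        have h3 := congrArg (((g⁻¹ : GL (Fin n₁ × Fin n₂) F) :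
          Matrix (Fin n₁ × Fin n₂) (Fin n₁ × Fin n₂) F) *ᵥ ·) h2
        simp only [inv_mulVec_mulVec] at h3
        obtain ⟨ξ, hξ⟩ := exists_dot_one (w := (a' : Matrix (Fin n₁) (Fin n₁) F) *ᵥ f₀) fun h0 => hf₀ (by
          have := congrArg (((a'⁻¹ : GL (Fin n₁) F) : Matrix (Fin n₁) (Fin n₁) F) *ᵥ ·) h0
          simp only [inv_mulVec_mulVec, Matrix.mulVec_zero] at this
          rw [this]; exact P₁.zero_mem)
        have h4 := congrArg (cR ξ) h3
        rw [cR_ten, cR_ten, hξ, one_smul] at h4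
        exact ⟨_, h4.symm⟩
      set f'' := lam • ((a' : Matrix (Fin n₁) (Fin n₁) F) *ᵥ f) - f with hf''
      have hG'' : G f'' = (kr a b : Matrix (Fin n₁ × Fin n₂) (Fin n₁ × Fin n₂) F) *ᵥ G f - G f := by
        rw [hc', hlam, ten_smul_right, ← ten_smul_left, ← hG, hf'', map_sub]
      refine ⟨f'', ?_⟩
      intro z
      rw [hG'', map_sub, cL_kr, hb, vecMul_tvec, cL_add, cL_smul, cL_neg, dot_cR, (hS z).1, ha,
        tvec_mulVec]
      show X z + (t ⬝ᵥ z) • -(X u) + (t ⬝ᵥ (X z + (t ⬝ᵥ z) • -(X u))) • u - X z = _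
      simp only [dotProduct_add, dotProduct_smul, dotProduct_neg, smul_eq_mul]
      module
    obtain ⟨f'', hX⟩ := step t₀ ht₀
    by_cases hn1 : 3 ≤ n₁
    · have hmem : f'' ∈ P₁ := by
        by_contra hn'
        obtain ⟨z, hz0, hz⟩ := exists_ne_zero_ker ((dotL t₀).prod (dotL t₀ ∘ₗ X))
          (by simp; omega)
        have z1 : t₀ ⬝ᵥ z = 0 := congrArg Prod.fst hz
        have z2 : t₀ ⬝ᵥ X z = 0 := congrArg Prod.snd hz
        have h0 := hfail f'' hn' (S z) (hS z).2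
          (by rw [hX, z1, z2]; simp)
        exact hz0 (by rw [← (hS z).1, h0]; funext i; simp [cL_apply])
      obtain ⟨y, hy⟩ := hP₁ f'' hmem
      obtain ⟨z, hz⟩ := exists_dot_one ht₀0
      have h2 := hX z
      rw [hG, hy, cL_ten, dotProduct_comm (S z), (hS z).2, zero_smul, dotProduct_comm t₀ z, hz,
        one_smul, one_mul] at h2
      refine ⟨t₀ ⬝ᵥ X z - t₀ ⬝ᵥ X u, ?_⟩
      show X u = _
      linear_combination (norm := module) h2
    -- dimension two: the contractions form a space of invertible maps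
    rcases eq_or_ne u 0 with rfl | hu0
    · exact ⟨0, show X 0 = _ by simp⟩
    have hbot : ∀ x ∈ P₁, x = 0 := by
      have : P₁ = ⊥ := Submodule.finrank_eq_zero.1 (by omega)
      intro x hx
      rwa [this, Submodule.mem_bot] at hx
    obtain ⟨z, hz⟩ := exists_dot_one ht₀0
    have hz' : t₀ ⬝ᵥ z = 1 := (dotProduct_comm t₀ z).trans hz
    have eig : ∀ t : Fin n₁ → F, (∀ x ∈ U₀ ⊔ (F ∙ u), t ⬝ᵥ x = 0) → ∀ y,
        - (t ⬝ᵥ y) • X u + (t ⬝ᵥ X y - (t ⬝ᵥ y) * (t ⬝ᵥ X u)) • u = (t ⬝ᵥ X u) • y := by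
      intro t ht y
      obtain ⟨f', hf'⟩ := step t ht
      have htu : t ⬝ᵥ u = 0 := ht u (Submodule.mem_sup_right (Submodule.mem_span_singleton_self u))
      have heq : f' - (t ⬝ᵥ X u) • f₀ = 0 := by
        refine hbot _ (by_contra fun hn' => hu0 ?_)
        have h0 := hfail _ hn' (S u) (hS u).2 (by
          rw [map_sub, map_smul, map_sub, map_smul, ← hc, (hS u).1, hf' u, htu]
          module)
        rw [← (hS u).1, h0]; funext i; simp [cL_apply]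
      have h2 := hf' y
      rw [sub_eq_zero.1 heq, map_smul, map_smul, ← hc, (hS y).1] at h2
      linear_combination (norm := module) -h2
    obtain ⟨r, hr0, hr1⟩ : ∃ r : F, r ≠ 0 ∧ r ≠ 1 := by
      haveI := Fintype.ofFinite F
      have hn2 : n₁ = 2 := by omega
      have hq : 2 < Fintype.card F := by
        have := Fintype.one_lt_card (α := F)
        have : Nat.card F ≠ 2 := fun h => hex ⟨hn2, h⟩
        rw [Nat.card_eq_fintype_card] at this
        omega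
      classical
      obtain ⟨r, -, hr⟩ := Finset.exists_mem_notMem_of_card_lt_card (s := ({0, 1} : Finset F))
        (t := Finset.univ) (by rw [Finset.card_univ]; exact lt_of_le_of_lt Finset.card_le_two hq)
      simp only [Finset.mem_insert, Finset.mem_singleton, not_or] at hr
      exact ⟨r, hr.1, hr.2⟩
    have e1 := eig t₀ ht₀ z
    have e2 := eig (r • t₀) (fun x hx => by rw [smul_dotProduct, ht₀ x hx, smul_zero]) z
    simp only [smul_dotProduct, smul_eq_mul, hz'] at e1 e2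
    have e3 : (r * (r - 1) * (t₀ ⬝ᵥ X u)) • u = (0 : Fin n₁ → F) := by
      linear_combination (norm := module) (r • e1 - e2)
    have hlam : t₀ ⬝ᵥ X u = 0 := by
      rcases smul_eq_zero.1 e3 with h | h
      · exact (mul_eq_zero.1 h).resolve_left (mul_ne_zero hr0 (sub_ne_zero.2 hr1))
      · exact absurd h hu0
    rw [hlam] at e1
    refine ⟨t₀ ⬝ᵥ X z, ?_⟩
    show X u = _
    linear_combination (norm := module) -e1
  -- so all contractions are scalar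
  have hall : ∀ f, f ∈ P₁ ⊔ (F ∙ f₀) := by
    intro f
    let X : (Fin n₁ → F) →ₗ[F] (Fin n₁ → F) :=
      { toFun := fun z => cL (S z) (G f)
        map_add' := fun x y => by rw [map_add, cL_add]
        map_smul' := fun r x => by rw [map_smul, cL_smul]; rfl }
    obtain ⟨lam, hlam⟩ := exists_scalar_of_eigen X (fun u => heig f u)
    have hmem : f - lam • f₀ ∈ P₁ := by
      by_contra hn
      set z : Fin n₁ → F := Pi.single (0 : Fin n₁) 1 with hz
      have h0 := hfail _ hn (S z) (hS z).2 (by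
        rw [map_sub, map_smul, map_sub, map_smul, ← hc, (hS z).1]
        show X z - lam • z = 0
        rw [hlam, sub_self])
      have : z = 0 := by rw [← (hS z).1, h0]; funext i; simp [cL_apply]
      simp [hz] at this
    rw [← sub_add_cancel f (lam • f₀)]
    exact Submodule.add_mem_sup hmem (Submodule.mem_span_singleton.2 ⟨lam, rfl⟩)
  have h2 := finrank_sup_span_le P₁ f₀
  rw [Submodule.eq_top_iff'.2 hall, finrank_top, Module.finrank_fintype_fun_eq_card, Fintype.card_fin] at h2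
  omega

/-- There is no proper overgroup. -/
theorem Bad.false (hB : Bad M) : False := by
  haveI : NeZero n₁ := ⟨by omega⟩
  haveI : NeZero n₂ := ⟨by omega⟩
  have key : ∀ k, k + 1 ≤ n₁ → ∀ M : Subgroup (GL (Fin n₁ × Fin n₂) F), Bad M → Ov M k := by
    intro k
    induction k with
    | zero =>
      intro _ M hB
      obtain ⟨g, hg, hgK⟩ := SetLike.not_le_iff_exists.1 hB.out
      exact ⟨g, hg, hgK, Pi.single (0 : Fin n₂) 1, Pi.single (0 : Fin n₂) 1, by simp, by simp, ⊥,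
        Nat.zero_le _, fun p hp => ⟨0, by
          rw [(Submodule.mem_bot F).1 hp, show ten (0 : Fin n₁ → F) (Pi.single (0 : Fin n₂) (1 : F)) = 0
            from (tenR _).map_zero, Matrix.mulVec_zero]⟩⟩
    | succ k ih =>
      intro hk M hB
      exact hB.ov_step h1 h12 hex (by omega) (ih (by omega) _ hB.tr)
  obtain ⟨g, hg, hgK, w₀, w, hw₀, hw, P, hP, hmap⟩ := key (n₁ - 1) (by omega) M hB
  let gi := ((g⁻¹ : GL (Fin n₁ × Fin n₂) F) : Matrix (Fin n₁ × Fin n₂) (Fin n₁ × Fin n₂) F)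
  let P₁ : Submodule F (Fin n₁ → F) := (LinearMap.range (tenR w)).comap
    (Matrix.mulVecLin (g : Matrix (Fin n₁ × Fin n₂) (Fin n₁ × Fin n₂) F) ∘ₗ tenR w₀)
  have hPle : P ≤ P₁ := fun p hp => by
    obtain ⟨u, hu⟩ := hmap p hp
    exact ⟨u, hu.symm⟩
  obtain ⟨p₁, hp₁⟩ : ∃ p, p ∉ P₁ := by
    by_contra hn
    push Not at hn
    exact hgK (hB.fix_mem h1 h12 hex hg hw₀ hw fun u => by
      obtain ⟨u', hu'⟩ := hn u
      exact ⟨u', hu'.symm⟩)
  obtain ⟨f, hf, hfp⟩ := exists_covector P₁ hp₁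
  have hf0 : f ≠ 0 := fun h => by rw [h, zero_dotProduct] at hfp; exact zero_ne_one hfp
  have hP₁d : n₁ - 1 ≤ Module.finrank F P₁ := hP.trans (Submodule.finrank_mono hPle)
  let Lam : (Fin n₁ → F) →ₗ[F] (Fin n₂ → F) := cR f ∘ₗ Matrix.mulVecLin gi ∘ₗ tenR w
  obtain ⟨ξ, hξ⟩ := exists_dot_one hw
  let Up : (Fin n₁ → F) →ₗ[F] (Fin n₁ → F) :=
    cL ξ ∘ₗ Matrix.mulVecLin (g : Matrix (Fin n₁ × Fin n₂) (Fin n₁ × Fin n₂) F) ∘ₗ tenR w₀
  have hUp : ∀ p ∈ P₁, (g : Matrix (Fin n₁ × Fin n₂) (Fin n₁ × Fin n₂) F) *ᵥ ten p w₀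
      = ten (Up p) w := by
    rintro p ⟨u, hu⟩
    simp only [LinearMap.comp_apply, tenR_apply, Matrix.mulVecLin_apply] at hu
    simp [Up, ← hu, hξ]
  have hker : P₁.map Up ≤ LinearMap.ker Lam := by
    rintro _ ⟨p, hp, rfl⟩
    show cR f (gi *ᵥ ten (Up p) w) = 0
    rw [← hUp p hp]
    simp [gi, inv_mulVec_mulVec, hf p hp]
  have hdim : Module.finrank F P₁ ≤ Module.finrank F (P₁.map Up) := by
    refine LinearMap.finrank_le_finrank_of_injective (f := Up.submoduleMap P₁) fun p q h => ?_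
    have h2 : Up p = Up q := congrArg Subtype.val h
    have h3 := (hUp p p.2).trans ((congrArg (ten · w) h2).trans (hUp q q.2).symm)
    have h4 := congrArg (gi *ᵥ ·) h3
    simp only [gi, inv_mulVec_mulVec] at h4
    exact Subtype.ext (ten_injective hw₀ h4)
  have hrange : Module.finrank F (LinearMap.range Lam) ≤ 1 := by
    have e1 := Lam.finrank_range_add_finrank_ker
    have e2 := Submodule.finrank_mono hker
    rw [Module.finrank_fintype_fun_eq_card, Fintype.card_fin] at e1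
    omega
  obtain ⟨r, hr⟩ := finrank_le_one_iff.1 hrange
  obtain ⟨φ₀, hφ₀, hφw, hφr⟩ := exists_orth_two (show 3 ≤ Fintype.card (Fin n₂) by simp; omega) w₀
    (r : Fin n₂ → F)
  refine hB.root_notMem h1 h12 hex hg hgK hw₀ hφ₀ hφw (hB.fix_mem h1 h12 hex
    (M.mul_mem (M.mul_mem hg (root_mem hB.kr_sl w₀ φ₀ hφw)) (M.inv_mem hg)) hw hw fun u => ?_)
  set z := cL φ₀ (gi *ᵥ ten u w) with hz
  have hzf : f ⬝ᵥ z = 0 := by
    rw [hz, ← dot_cR]
    obtain ⟨s, hs⟩ := hr ⟨Lam u, u, rfl⟩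
    have h2 : s • (r : Fin n₂ → F) = Lam u := congrArg Subtype.val hs
    show φ₀ ⬝ᵥ Lam u = 0
    rw [← h2, dotProduct_smul, hφr, smul_zero]
  have hzP : z ∈ P₁ := by
    by_contra hn
    have hle : P₁ ⊔ (F ∙ z) ≤ LinearMap.ker (dotL f) :=
      sup_le (fun p hp => hf p hp) ((Submodule.span_singleton_le_iff_mem _ _).2 hzf)
    have h2 : P₁ < P₁ ⊔ (F ∙ z) := lt_of_le_of_ne le_sup_left fun h => hn (by
      rw [h]; exact Submodule.mem_sup_right (Submodule.mem_span_singleton_self z))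
    have h3 := Submodule.finrank_lt_finrank_of_lt h2
    have h4 := Submodule.finrank_mono hle
    have h5 : LinearMap.ker (dotL (F := F) f) < ⊤ := lt_top_iff_ne_top.2 fun h => by
      have := LinearMap.congr_fun (LinearMap.ker_eq_top.1 h) p₁
      simp [hfp] at this
    have h6 := Submodule.finrank_lt_finrank_of_lt h5
    rw [finrank_top, Module.finrank_fintype_fun_eq_card, Fintype.card_fin] at h6
    omega
  refine ⟨u + Up z, ?_⟩
  rw [mul_mulVec, mul_mulVec, kr_one_tvec_mulVec, Matrix.mulVec_add, mulVec_inv_mulVec, ← hz,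
    hUp z hzP, ten_add_left]

omit [Finite F] hex in
lemma exists_sl_notMem : ∃ g ∈ specialLinear (Fin n₁ × Fin n₂) F, g ∉ kroneckerSubgroup n₁ n₂ F := by
  let i₀ : Fin n₁ := ⟨0, by omega⟩
  let i₁ : Fin n₁ := ⟨1, by omega⟩
  let j₀ : Fin n₂ := ⟨0, by omega⟩
  let j₁ : Fin n₂ := ⟨1, by omega⟩
  let A : Fin n₁ × Fin n₂ → F := ten (Pi.single i₀ 1) (Pi.single j₀ 1)
  let B : Fin n₁ × Fin n₂ → F := ten (Pi.single i₁ 1) (Pi.single j₁ 1)
  have hd : B ⬝ᵥ A = 0 := by simp [A, B, ten_dot_ten, i₀, i₁, j₀, j₁]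
  refine ⟨tvec A B hd, tvec_mem_specialLinear _ _ _, fun h => ?_⟩
  obtain ⟨a, b, hab⟩ := exists_kr h
  have h2 := congrArg (fun x : GL (Fin n₁ × Fin n₂) F =>
    (x : Matrix (Fin n₁ × Fin n₂) (Fin n₁ × Fin n₂) F) *ᵥ B) hab
  simp only [tvec_mulVec] at h2
  rw [show B ⬝ᵥ B = 1 by simp [B, ten_dot_ten], one_smul,
    show B = ten (Pi.single i₁ 1) (Pi.single j₁ 1) from rfl, kr_ten] at h2
  have e00 := congrFun h2 (i₀, j₀)
  have e11 := congrFun h2 (i₁, j₁)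
  have e01 := congrFun h2 (i₀, j₁)
  simp [A, ten, i₀, i₁, j₀, j₁] at e00 e11 e01
  rcases e01 with e | e
  · simp [e] at e00
  · simp [e] at e11

/-- The tensor product stabiliser is maximal in `SL`. -/
theorem tensor_maximal :
    IsMaximalIn (specialLinear (Fin n₁ × Fin n₂) F)
      (kroneckerSubgroup n₁ n₂ F ⊓ specialLinear (Fin n₁ × Fin n₂) F) := by
  refine isMaximalIn_of_key (fun h => ?_) fun M hM hMI hX => ?_
  · obtain ⟨g, hg, hgK⟩ := exists_sl_notMem (F := F) h1 h12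
    exact hgK (h hg)
  · by_contra hn'
    exact Bad.false h1 h12 hex ⟨hM, hMI, hn', hX⟩

end CfsgLib.Geo.Tensor

namespace CfsgLib.Geo.Tensor

open Matrix Cfsg Cfsg.Geo CfsgLib.Geo

/-- Maximality is transported by isomorphisms. -/
lemma isMaximalIn_map {G G' : Type*} [Group G] [Group G'] (e : G ≃* G') {K H : Subgroup G}
    (h : IsMaximalIn K H) : IsMaximalIn (K.map e.toMonoidHom) (H.map e.toMonoidHom) := by
  refine ⟨(Subgroup.map_lt_map_iff_of_injective (f := e.toMonoidHom) e.injective).2 h.1, fun M hM hMK => ?_⟩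
  have hM' : M = (M.comap e.toMonoidHom).map e.toMonoidHom :=
    (Subgroup.map_comap_eq_self_of_surjective (f := e.toMonoidHom) e.surjective M).symm
  rcases h.2 (M.comap e.toMonoidHom) (Subgroup.map_le_iff_le_comap.1 hM)
    (by
      rw [← Subgroup.comap_map_eq_self_of_injective (f := e.toMonoidHom) e.injective K]
      exact Subgroup.comap_mono hMK) with h1 | h1
  · exact Or.inl (by rw [hM', h1])
  · exact Or.inr (by rw [hM', h1])

/-- The isomorphism transporting the Kronecker subgroup to a tensor product subgroup. -/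
def glTransport {ι κ : Type} [Fintype ι] [DecidableEq ι] [Fintype κ] [DecidableEq κ] {F : Type*} [Field F]
    (e : ι ≃ κ) (P : GL ι F) : GL κ F ≃* GL ι F :=
  (glReindex e.symm).trans (MulAut.conj P)

lemma specialLinear_map_glTransport {ι κ : Type} [Fintype ι] [DecidableEq ι] [Fintype κ] [DecidableEq κ]
    {F : Type*} [Field F] (e : ι ≃ κ) (P : GL ι F) :
    (specialLinear κ F).map (glTransport e P).toMonoidHom = specialLinear ι F := by
  have key : ∀ g : GL κ F, ((glTransport e P g : GL ι F) : Matrix ι ι F).det = (g : Matrix κ κ F).det := by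
    intro g
    show ((P * glReindex e.symm g * P⁻¹ : GL ι F) : Matrix ι ι F).det = _
    rw [Units.val_mul, Units.val_mul, Matrix.det_units_conj]
    exact Matrix.det_reindex_self e.symm _
  ext g
  constructor
  · rintro ⟨x, hx, rfl⟩
    rw [mem_specialLinear]
    exact (key x).trans (mem_specialLinear.1 hx)
  · intro hg
    obtain ⟨x, rfl⟩ := (glTransport e P).surjective g
    exact ⟨x, mem_specialLinear.2 ((key x).symm.trans (mem_specialLinear.1 hg)), rfl⟩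

theorem tensorProductSubgroup_maximal {F : Type*} [Field F] [Finite F] {n₁ n₂ : ℕ} {ι : Type} [Fintype ι]
    [DecidableEq ι] (h1 : 2 ≤ n₁) (h12 : n₁ < n₂) (hex : ¬ (n₁ = 2 ∧ Nat.card F = 2)) 
    (e : ι ≃ Fin n₁ × Fin n₂) (P : GL ι F) :
    IsMaximalIn (specialLinear ι F) (tensorProductSubgroup n₁ n₂ e P ⊓ specialLinear ι F) := by
  have h := isMaximalIn_map (glTransport e P) (tensor_maximal (F := F) h1 h12 hex)
  have hK : (kroneckerSubgroup n₁ n₂ F).map (glTransport e P).toMonoidHom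
      = tensorProductSubgroup n₁ n₂ e P := by
    rw [tensorProductSubgroup, Subgroup.map_map]
    rfl
  rwa [Subgroup.map_inf_eq _ _ (glTransport e P).toMonoidHom (glTransport e P).injective, hK, specialLinear_map_glTransport] at h

end CfsgLib.Geo.Tensor
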