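/-
Symmetric bilinear forms in odd characteristic given as functions: anisotropic vectors, hyperbolic pairs, root
elements.
-/
import Cfsg.Agent.Geo.SymplecticOvergroup
import Cfsg.Agent.Geo.Transvection
import Cfsg.Agent.Forms.Classify

set_option autoImplicit false

namespace CfsgLib.Geo.Orth

open Matrix Cfsg Cfsg.Geo CfsgLib.Geo

variable {ι : Type} [Fintype ι] [DecidableEq ι] {F : Type*} [Field F]

/-- A non-degenerate symmetric bilinear form in characteristic not two. -/
structure IsSymmForm (f : (ι → F) → (ι → F) → F) : Prop where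
  two : (2 : F) ≠ 0
  add_left : ∀ x y v, f (x + y) v = f x v + f y v
  smul_left : ∀ (c : F) (x v : ι → F), f (c • x) v = c * f x v
  symm : ∀ v w, f v w = f w v
  nondegenerate : IsNondegenerateForm f

variable {f : (ι → F) → (ι → F) → F} (hf : IsSymmForm f)
include hf

lemma linLeft : LinLeft f := ⟨hf.add_left, hf.smul_left⟩

lemma add_right (u x y : ι → F) : f u (x + y) = f u x + f u y := by
  rw [hf.symm, hf.add_left, hf.symm x, hf.symm y]

lemma smul_right (c : F) (u x : ι → F) : f u (c • x) = c * f u x := by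
  rw [hf.symm, hf.smul_left, hf.symm x]

lemma zero_left (u : ι → F) : f 0 u = 0 := (linLeft hf).zero_left u

lemma zero_right (u : ι → F) : f u 0 = 0 := by rw [hf.symm, zero_left hf]

/-- The linear functional `y ↦ f y v`. -/
def lin (v : ι → F) : (ι → F) →ₗ[F] F where
  toFun y := f y v
  map_add' a b := hf.add_left a b v
  map_smul' c a := hf.smul_left c a v

lemma axis_injective {u v : ι → F} (h : axisOf f u = axisOf f v) : u = v := by
  refine sub_eq_zero.1 (by_contra fun hne => ?_)
  obtain ⟨x, hx⟩ := (hf.nondegenerate _ hne).1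
  refine hx ?_
  rw [sub_eq_add_neg, ← neg_one_smul F v, add_right hf, smul_right hf, ← (linLeft hf).dot u x,
    ← (linLeft hf).dot v x, h]
  ring

variable [Finite F]

lemma exists_axis (φ : ι → F) : ∃ u, axisOf f u = φ :=
  Finite.surjective_of_injective (fun _ _ h => axis_injective hf h) φ

/-- Every vector outside a subspace has a dual vector orthogonal to the subspace. -/
lemma exists_dual (S : Submodule F (ι → F)) {w : ι → F} (hw : w ∉ S) :
    ∃ y, f w y = 1 ∧ ∀ s ∈ S, f y s = 0 := by
  obtain ⟨φ, hφ, hφw⟩ := exists_covector S hw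
  obtain ⟨y, hy⟩ := exists_axis hf φ
  exact ⟨y, by rw [← (linLeft hf).dot y w, hy, hφw],
    fun s hs => by rw [hf.symm, ← (linLeft hf).dot y s, hy, hφ s hs]⟩

lemma exists_dual_of_fn {k : ℕ} (us : Fin k → (ι → F)) {w : ι → F}
    (hw : w ∉ Submodule.span F (Set.range us)) : ∃ y, f w y = 1 ∧ ∀ j, f y (us j) = 0 := by
  obtain ⟨y, hy, hys⟩ := exists_dual hf _ hw
  exact ⟨y, hy, fun j => hys _ (Submodule.subset_span ⟨j, rfl⟩)⟩

/-- An anisotropic vector orthogonal to a few given vectors. -/
lemma exists_aniso {k : ℕ} (us : Fin k → (ι → F)) (hk : 2 * k < Fintype.card ι) :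
    ∃ x, f x x ≠ 0 ∧ ∀ j, f x (us j) = 0 := by
  classical
  let L : (ι → F) →ₗ[F] (Fin k → F) := LinearMap.pi fun j => lin hf (us j)
  by_contra hcon
  push Not at hcon
  have hiso : ∀ x ∈ LinearMap.ker L, f x x = 0 := fun x hx => by
    by_contra hne
    obtain ⟨j, hj⟩ := hcon x hne
    exact hj (congrFun (LinearMap.mem_ker.1 hx) j)
  have hzero : ∀ x ∈ LinearMap.ker L, ∀ y ∈ LinearMap.ker L, f x y = 0 := fun x hx y hy => by
    have h1 := hiso _ ((LinearMap.ker L).add_mem hx hy)
    rw [hf.add_left, add_right hf, add_right hf, hiso x hx, hiso y hy, hf.symm y x] at h1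
    exact (mul_eq_zero.1 (show 2 * f x y = 0 by linear_combination h1)).resolve_left hf.two
  let R : (ι → F) →ₗ[F] Module.Dual F (LinearMap.ker L) :=
    { toFun := fun a =>
        { toFun := fun t => f a (t : ι → F)
          map_add' := fun s t => add_right hf a _ _
          map_smul' := fun c t => smul_right hf c a _ }
      map_add' := fun a b => LinearMap.ext fun t => hf.add_left a b _
      map_smul' := fun c a => LinearMap.ext fun t => hf.smul_left c a _ }
  have hsurj : LinearMap.range R = ⊤ := by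
    refine LinearMap.range_eq_top.2 fun g => ?_
    obtain ⟨g', hg'⟩ := LinearMap.exists_extend g
    obtain ⟨u, hu⟩ := exists_axis hf (fun i => g' (Pi.single i 1))
    refine ⟨u, LinearMap.ext fun t => ?_⟩
    change f u (t : ι → F) = g t
    rw [← hg', hf.symm, ← (linLeft hf).dot u (t : ι → F), hu]
    change _ = g' (t : ι → F)
    conv_rhs => rw [pi_eq_sum_univ' (t : ι → F), map_sum]
    exact Finset.sum_congr rfl fun i _ => by rw [map_smul, smul_eq_mul, mul_comm]
  have h1 := R.finrank_range_add_finrank_ker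
  have h2 : LinearMap.ker L ≤ LinearMap.ker R := fun x hx =>
    LinearMap.mem_ker.2 (LinearMap.ext fun t => hzero x hx t t.2)
  have h3 := Submodule.finrank_mono h2
  rw [hsurj, finrank_top, Subspace.dual_finrank_eq, Module.finrank_fintype_fun_eq_card] at h1
  have h4 := L.finrank_range_add_finrank_ker
  have h5 : Module.finrank F (LinearMap.range L) ≤ k := by
    simpa using Submodule.finrank_le (LinearMap.range L)
  rw [Module.finrank_fintype_fun_eq_card] at h4
  omega

/-- A third anisotropic vector, when the complement of the radical is large enough. -/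
lemma exists_aniso_rad {k l : ℕ} (us : Fin k → (ι → F)) (xs : Fin l → (ι → F))
    (hxu : ∀ i j, f (xs i) (us j) = 0) (hxx : ∀ i, f (xs i) (xs i) ≠ 0)
    (hxo : ∀ i i', i ≠ i' → f (xs i) (xs i') = 0)
    (hd : Module.finrank F ↥(LinearMap.ker (LinearMap.pi fun j => lin hf (us j)) ⊓
        Submodule.span F (Set.range us)) + l <
      Module.finrank F ↥(LinearMap.ker (LinearMap.pi fun j => lin hf (us j)))) :
    ∃ x, f x x ≠ 0 ∧ (∀ j, f x (us j) = 0) ∧ ∀ i, f x (xs i) = 0 := by
  classical
  set P := LinearMap.ker (LinearMap.pi fun j => lin hf (us j)) with hP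
  have hmem : ∀ x, x ∈ P ↔ ∀ j, f x (us j) = 0 := fun x => by
    rw [hP, LinearMap.mem_ker]
    exact ⟨fun h j => congrFun h j, fun h => funext h⟩
  let L : (ι → F) →ₗ[F] (Fin l → F) := LinearMap.pi fun i => lin hf (xs i)
  by_contra hcon
  push Not at hcon
  have hiso : ∀ x ∈ P ⊓ LinearMap.ker L, f x x = 0 := fun x hx => by
    by_contra hne
    obtain ⟨i, hi⟩ := hcon x hne ((hmem x).1 hx.1)
    exact hi (congrFun (LinearMap.mem_ker.1 hx.2) i)
  have hzero : ∀ x ∈ P ⊓ LinearMap.ker L, ∀ y ∈ P ⊓ LinearMap.ker L, f x y = 0 := fun x hx y hy => by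
    have h1 := hiso _ ((P ⊓ LinearMap.ker L).add_mem hx hy)
    rw [hf.add_left, add_right hf, add_right hf, hiso x hx, hiso y hy, hf.symm y x] at h1
    exact (mul_eq_zero.1 (show 2 * f x y = 0 by linear_combination h1)).resolve_left hf.two
  have hsub : P ⊓ LinearMap.ker L ≤ P ⊓ Submodule.span F (Set.range us) := by
    intro x hx
    refine ⟨hx.1, ?_⟩
    by_contra hS
    obtain ⟨z, hxz, hzu⟩ := exists_dual_of_fn hf us hS
    set z' := z + ∑ i, (-(f z (xs i) / f (xs i) (xs i))) • xs i with hz'
    have hz'mem : z' ∈ P ⊓ LinearMap.ker L := by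
      constructor
      · exact P.add_mem ((hmem z).2 hzu) (P.sum_mem fun i _ => P.smul_mem _ ((hmem _).2 (hxu i)))
      · refine LinearMap.mem_ker.2 (funext fun i => ?_)
        change lin hf (xs i) z' = 0
        rw [hz', map_add, map_sum, Finset.sum_eq_single i]
        · rw [map_smul]
          change f z (xs i) + (-(f z (xs i) / f (xs i) (xs i))) * f (xs i) (xs i) = 0
          rw [neg_mul, div_mul_cancel₀ _ (hxx i), add_neg_cancel]
        · intro i' _ hne
          rw [map_smul]
          change _ * f (xs i') (xs i) = 0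
          rw [hxo i' i hne, mul_zero]
        · simp
    have h1 := hzero x hx z' hz'mem
    rw [hf.symm] at h1
    change lin hf x z' = 0 at h1
    rw [hz', map_add, map_sum, Finset.sum_eq_zero, add_zero] at h1
    · change f z x = 0 at h1
      rw [hf.symm, hxz] at h1
      exact one_ne_zero h1
    · intro i _
      rw [map_smul]
      change _ * f (xs i) x = 0
      rw [hf.symm (xs i) x, show f x (xs i) = 0 from congrFun (LinearMap.mem_ker.1 hx.2) i, mul_zero]
  have h1 := Submodule.finrank_mono hsub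
  have h2 := Submodule.finrank_sup_add_finrank_inf_eq P (LinearMap.ker L)
  have h3 := L.finrank_range_add_finrank_ker
  have h4 : Module.finrank F (LinearMap.range L) ≤ l := by
    simpa using Submodule.finrank_le (LinearMap.range L)
  have h5 := Submodule.finrank_le (P ⊔ LinearMap.ker L)
  omega

/-- Three orthogonal anisotropic vectors give a hyperbolic pair. -/
lemma pair_of_three {k : ℕ} (us : Fin k → (ι → F)) {x1 x2 x3 : ι → F} (hx10 : f x1 x1 ≠ 0)
    (hx20 : f x2 x2 ≠ 0) (hx30 : f x3 x3 ≠ 0) (h21 : f x2 x1 = 0) (h32 : f x3 x2 = 0) (h31 : f x3 x1 = 0)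
    (hx1u : ∀ j, f x1 (us j) = 0) (h2u : ∀ j, f x2 (us j) = 0) (h3u : ∀ j, f x3 (us j) = 0) :
    ∃ z w, f z z = 0 ∧ f w w = 0 ∧ f z w = 1 ∧ f w z = 1 ∧ (∀ j, f z (us j) = 0) ∧ ∀ j, f w (us j) = 0 := by
  obtain ⟨X, Y, hXY⟩ := CfsgLib.Forms.exists_binary hf.two hx10 hx20 (-f x3 x3)
  set z := X • x1 + Y • x2 + x3 with hz_def
  have hzu : ∀ j, f z (us j) = 0 := fun j => by
    rw [hz_def, hf.add_left, hf.add_left, hf.smul_left, hf.smul_left, hx1u, h2u, h3u]; ring
  have hzz : f z z = 0 := by
    rw [hz_def]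
    simp only [hf.add_left, add_right hf, hf.smul_left, smul_right hf, h21, h32, h31, hf.symm x1 x3,
      hf.symm x2 x3, hf.symm x1 x2]
    linear_combination hXY
  have hzx : f z x3 = f x3 x3 := by
    rw [hz_def, hf.add_left, hf.add_left, hf.smul_left, hf.smul_left, hf.symm x1 x3, hf.symm x2 x3, h31, h32]
    ring
  set p := (f x3 x3)⁻¹ • x3 with hp_def
  have hzp : f z p = 1 := by rw [hp_def, smul_right hf, hzx, inv_mul_cancel₀ hx30]
  set t := -f p p / 2 with ht
  have hzw : f z (p + t • z) = 1 := by rw [add_right hf, hzp, smul_right hf, hzz, mul_zero, add_zero]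
  refine ⟨z, p + t • z, hzz, ?_, hzw, by rw [hf.symm, hzw], hzu, fun j => ?_⟩
  · simp only [hf.add_left, add_right hf, hf.smul_left, smul_right hf, hzz, hzp, hf.symm p z]
    rw [ht]
    field_simp [hf.two]
    ring
  · rw [hf.add_left, hp_def, hf.smul_left, hf.smul_left, h3u, hzu]; ring

/-- A hyperbolic pair orthogonal to given vectors, from the size of the radical of their complement. -/
lemma exists_pair_rad {k : ℕ} (us : Fin k → (ι → F))
    (hd : Module.finrank F ↥(LinearMap.ker (LinearMap.pi fun j => lin hf (us j)) ⊓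
        Submodule.span F (Set.range us)) + 2 <
      Module.finrank F ↥(LinearMap.ker (LinearMap.pi fun j => lin hf (us j)))) :
    ∃ z w, f z z = 0 ∧ f w w = 0 ∧ f z w = 1 ∧ f w z = 1 ∧ (∀ j, f z (us j) = 0) ∧ ∀ j, f w (us j) = 0 := by
  obtain ⟨x1, h10, h1u, -⟩ := exists_aniso_rad hf us (Fin.elim0 : Fin 0 → (ι → F)) (fun i => i.elim0)
    (fun i => i.elim0) (fun i => i.elim0) (by omega)
  obtain ⟨x2, h20, h2u, h2x⟩ := exists_aniso_rad hf us ![x1] (fun i j => by fin_cases i; exact h1u j)
    (fun i => by fin_cases i; exact h10) (fun i i' h => (h (Subsingleton.elim i i')).elim) (by omega)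
  have h21 : f x2 x1 = 0 := by simpa using h2x 0
  obtain ⟨x3, h30, h3u, h3x⟩ := exists_aniso_rad hf us ![x1, x2]
    (fun i j => by fin_cases i <;> [exact h1u j; exact h2u j])
    (fun i => by fin_cases i <;> [exact h10; exact h20])
    (fun i i' h => by
      fin_cases i <;> fin_cases i' <;> first
        | exact absurd rfl h
        | exact h21
        | (show f x1 x2 = 0; rw [hf.symm, h21])) (by omega)
  exact pair_of_three hf us h10 h20 h30 h21 (by simpa using h3x 1) (by simpa using h3x 0) h1u h2u h3u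

/-- A hyperbolic pair orthogonal to a few given vectors. -/
lemma exists_pair {k : ℕ} (us : Fin k → (ι → F)) (hk : 2 * k + 2 < Fintype.card ι) :
    ∃ z w, f z z = 0 ∧ f w w = 0 ∧ f z w = 1 ∧ f w z = 1 ∧ (∀ j, f z (us j) = 0) ∧ ∀ j, f w (us j) = 0 := by
  refine exists_pair_rad hf us ?_
  have h1 := (LinearMap.pi fun j => lin hf (us j)).finrank_range_add_finrank_ker
  have h2 : Module.finrank F (LinearMap.range (LinearMap.pi fun j => lin hf (us j))) ≤ k := by
    simpa using Submodule.finrank_le (LinearMap.range (LinearMap.pi fun j => lin hf (us j)))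
  have h3 : Module.finrank F (Submodule.span F (Set.range us)) ≤ k :=
    (finrank_range_le_card us).trans (by simp)
  have h4 := Submodule.finrank_mono (inf_le_right :
    LinearMap.ker (LinearMap.pi fun j => lin hf (us j)) ⊓ Submodule.span F (Set.range us) ≤ _)
  rw [Module.finrank_fintype_fun_eq_card] at h1
  omega

omit [Finite F] in
/-- Next to a hyperbolic pair every vector is a sum of singular ones. -/
lemma sing_of_pair {k : ℕ} (us : Fin k → (ι → F)) {z w : ι → F} (hzz : f z z = 0) (hww : f w w = 0)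
    (hzw : f z w = 1) (hwz : f w z = 1) (hzu : ∀ j, f z (us j) = 0) (hwu : ∀ j, f w (us j) = 0)
    {p : (ι → F) → Prop} (hadd : ∀ x y, p x → p y → p (x + y))
    (hsing : ∀ a, f a a = 0 → (∀ j, f a (us j) = 0) → p a) {x : ι → F} (hxu : ∀ j, f x (us j) = 0) : p x := by
  have h2 := hf.two
  obtain ⟨x', hx'⟩ : ∃ x', x' = x + (-f x w) • z + (-f x z) • w := ⟨_, rfl⟩
  have hx'z : f x' z = 0 := by
    rw [hx', hf.add_left, hf.add_left, hf.smul_left, hf.smul_left, hzz, hwz]; ring
  have hx'w : f x' w = 0 := by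
    rw [hx', hf.add_left, hf.add_left, hf.smul_left, hf.smul_left, hzw, hww]; ring
  have hx'u : ∀ j, f x' (us j) = 0 := fun j => by
    rw [hx', hf.add_left, hf.add_left, hf.smul_left, hf.smul_left, hxu, hzu, hwu]; ring
  obtain ⟨t, ht⟩ : ∃ t, t = -f x' x' / 2 := ⟨_, rfl⟩
  have e : x = x' + z + t • w + (f x w - 1) • z + (f x z - t) • w := by rw [hx']; module
  rw [e]
  refine hadd _ _ (hadd _ _ (hsing _ ?_ fun j => ?_) (hsing _ ?_ fun j => ?_)) (hsing _ ?_ fun j => ?_)
  · simp only [hf.add_left, add_right hf, hf.smul_left, smul_right hf, hzz, hww, hzw, hwz, hx'z, hx'w,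
      hf.symm z x', hf.symm w x']
    rw [ht]
    field_simp
    ring
  · rw [hf.add_left, hf.add_left, hf.smul_left, hx'u, hzu, hwu]; ring
  · rw [hf.smul_left, smul_right hf, hzz, mul_zero, mul_zero]
  · rw [hf.smul_left, hzu, mul_zero]
  · rw [hf.smul_left, smul_right hf, hww, mul_zero, mul_zero]
  · rw [hf.smul_left, hwu, mul_zero]

/-- Vectors orthogonal to `us` are sums of singular ones. -/
lemma sing_induction {k : ℕ} (us : Fin k → (ι → F)) (hk : 2 * k + 2 < Fintype.card ι) {p : (ι → F) → Prop}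
    (hadd : ∀ x y, p x → p y → p (x + y)) (hsing : ∀ a, f a a = 0 → (∀ j, f a (us j) = 0) → p a)
    {x : ι → F} (hxu : ∀ j, f x (us j) = 0) : p x := by
  obtain ⟨z, w, hzz, hww, hzw, hwz, hzu, hwu⟩ := exists_pair hf us hk
  exact sing_of_pair hf us hzz hww hzw hwz hzu hwu hadd hsing hxu

/-- Two pairs each killing the other's singular complement span totally singular lines. -/
lemma totally_singular_of_pairs {a b c d : ι → F} (hn : 6 ≤ Fintype.card ι)
    (hcd : LinearIndependent F ![c, d]) (hca : f c a = 0) (hcb : f c b = 0) (hda : f d a = 0) (hdb : f d b = 0)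
    (hs : ∀ v, f v v = 0 → f v a = 0 → f v b = 0 → f v c = 0 ∧ f v d = 0) :
    f a a = 0 ∧ f a b = 0 ∧ f b b = 0 := by
  set us : Fin 2 → (ι → F) := ![a, b] with hus
  set P := LinearMap.ker (LinearMap.pi fun j => lin hf (us j)) with hP
  have hmem : ∀ x, x ∈ P ↔ f x a = 0 ∧ f x b = 0 := fun x => by
    rw [hP, LinearMap.mem_ker]
    exact ⟨fun h => ⟨congrFun h 0, congrFun h 1⟩, fun h => funext fun j => by
      fin_cases j; exacts [h.1, h.2]⟩
  suffices hSP : Submodule.span F (Set.range us) ≤ P by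
    have h1 := (hmem a).1 (hSP (Submodule.subset_span ⟨0, rfl⟩))
    have h2 := (hmem b).1 (hSP (Submodule.subset_span ⟨1, rfl⟩))
    exact ⟨h1.1, h1.2, h2.2⟩
  by_contra hSP
  have hlt : P ⊓ Submodule.span F (Set.range us) < Submodule.span F (Set.range us) :=
    lt_of_le_of_ne inf_le_right fun e => hSP (inf_eq_right.1 e)
  have h1 := Submodule.finrank_lt_finrank_of_lt hlt
  have h2 : Module.finrank F (Submodule.span F (Set.range us)) ≤ 2 := (finrank_range_le_card us).trans (by simp)
  have h3 := (LinearMap.pi fun j => lin hf (us j)).finrank_range_add_finrank_ker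
  have h4 : Module.finrank F (LinearMap.range (LinearMap.pi fun j => lin hf (us j))) ≤ 2 := by
    simpa using Submodule.finrank_le (LinearMap.range (LinearMap.pi fun j => lin hf (us j)))
  rw [Module.finrank_fintype_fun_eq_card, ← hP] at h3
  obtain ⟨z, w, hzz, hww, hzw, hwz, hzu, hwu⟩ := exists_pair_rad hf us (by rw [← hP]; omega)
  have hall : ∀ x, (∀ j, f x (us j) = 0) → f x c = 0 ∧ f x d = 0 := fun x hx =>
    sing_of_pair hf us hzz hww hzw hwz hzu hwu (p := fun x => f x c = 0 ∧ f x d = 0)
      (fun x y hx hy => by rw [hf.add_left, hf.add_left, hx.1, hx.2, hy.1, hy.2]; simp)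
      (fun v hv hvu => hs v hv (hvu 0) (hvu 1)) hx
  have hin : Submodule.span F (Set.range ![c, d]) ≤ Submodule.span F (Set.range us) := by
    refine Submodule.span_le.2 ?_
    rintro _ ⟨i, rfl⟩
    by_contra hS
    obtain ⟨y, hy, hyu⟩ := exists_dual_of_fn hf us hS
    fin_cases i
    · have h : f y c = 0 := (hall y hyu).1
      change f c y = 1 at hy
      rw [hf.symm, h] at hy; exact zero_ne_one hy
    · have h : f y d = 0 := (hall y hyu).2
      change f d y = 1 at hy
      rw [hf.symm, h] at hy; exact zero_ne_one hy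
  have heq := Submodule.eq_of_le_of_finrank_le hin (by rw [finrank_span_eq_card hcd]; simpa using h2)
  refine hSP (heq ▸ Submodule.span_le.2 ?_)
  rintro _ ⟨i, rfl⟩
  fin_cases i
  exacts [(hmem c).2 ⟨hca, hcb⟩, (hmem d).2 ⟨hda, hdb⟩]

/-- A singular vector killing the singular complement of two vectors is spanned by them. -/
lemma mem_span_of_sing {a b c : ι → F} (hc : f c c = 0) (hca : f c a = 0) (hcb : f c b = 0)
    (hs : ∀ v, f v v = 0 → f v a = 0 → f v b = 0 → f v c = 0) : ∃ x y : F, c = x • a + y • b := by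
  have h2 := hf.two
  suffices c ∈ Submodule.span F (Set.range ![a, b]) by
    obtain ⟨r, hr⟩ := Submodule.mem_span_range_iff_exists_fun F |>.1 this
    exact ⟨r 0, r 1, by rw [← hr, Fin.sum_univ_two]; rfl⟩
  by_contra hS
  obtain ⟨p, hcp, hp⟩ := exists_dual_of_fn hf ![a, b] hS
  have hpa : f p a = 0 := hp 0
  have hpb : f p b = 0 := hp 1
  obtain ⟨w, hw⟩ : ∃ w, w = p + (-f p p / 2) • c := ⟨_, rfl⟩
  have hww : f w w = 0 := by
    simp only [hw, hf.add_left, add_right hf, hf.smul_left, smul_right hf, hc, hcp, hf.symm p c]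
    field_simp
    ring
  have h1 := hs w hww (by rw [hw, hf.add_left, hf.smul_left, hpa, hca]; ring)
    (by rw [hw, hf.add_left, hf.smul_left, hpb, hcb]; ring)
  rw [hw, hf.add_left, hf.smul_left, hc, hf.symm, hcp] at h1
  simp at h1

omit [Finite F] hf in
/-- `A` is the map `y ↦ y + f(y,v) p + (s f(y,v) - f(y,w)) v`. -/
def IsH (f : (ι → F) → (ι → F) → F) (A : GL ι F) (v p w : ι → F) (s : F) : Prop :=
  ∀ y : ι → F, (A : Matrix ι ι F) *ᵥ y = y + f y v • p + (s * f y v - f y w) • v

omit [Finite F] in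
lemma exists_isH {v p w : ι → F} (hv : f v v = 0) (hpv : f p v = 0) (hwv : f w v = 0) (s : F) :
    ∃ A ∈ specialLinear ι F, IsH f A v p w s := by
  have L := linLeft hf
  have h1 : axisOf f v ⬝ᵥ p = 0 := by rw [L.dot, hpv]
  have h2 : (s • axisOf f v - axisOf f w) ⬝ᵥ v = 0 := by
    rw [sub_dotProduct, smul_dotProduct, L.dot, L.dot, hv, hf.symm v w, hwv, smul_zero, sub_zero]
  refine ⟨tvec p _ h1 * tvec v _ h2,
    Subgroup.mul_mem _ (tvec_mem_specialLinear _ _ _) (tvec_mem_specialLinear _ _ _), fun y => ?_⟩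
  simp only [mul_mulVec, tvec_mulVec, sub_dotProduct, smul_dotProduct, L.dot, hf.add_left, hf.smul_left, hv,
    smul_eq_mul, mul_zero, add_zero]
  module

omit [Finite F] in
lemma IsH.mul {A A' : GL ι F} {v p p' w w' : ι → F} {s s' : F} (hv : f v v = 0) (hp' : f p' v = 0)
    (hwv : f w v = 0) (hA : IsH f A v p w s) (hA' : IsH f A' v p' w' s') :
    IsH f (A * A') v (p + p') (w + w') (s + s' - f p' w) := by
  intro y
  rw [mul_mulVec, hA' y, hA]
  simp only [hf.add_left, hf.smul_left, add_right hf, hv, hp', hf.symm v w, hwv, mul_zero, add_zero]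
  module

omit [Finite F] in
/-- Root elements preserve the form. -/
lemma isH_preserves {A : GL ι F} {v x : ι → F} (hv : f v v = 0) (hxv : f x v = 0)
    (hA : IsH f A v x x (-f x x / 2)) (y z : ι → F) :
    f ((A : Matrix ι ι F) *ᵥ y) ((A : Matrix ι ι F) *ᵥ z) = f y z := by
  have h2 := hf.two
  rw [hA y, hA z]
  simp only [hf.add_left, add_right hf, hf.smul_left, smul_right hf, hv, hxv, hf.symm v x]
  rw [hf.symm v z, hf.symm x z]
  field_simp
  ring

omit [Finite F] hf in
/-- The polar form of a non-degenerate quadratic form in odd characteristic. -/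
theorem isSymmForm_polar {Q : (ι → F) → F} (h2 : (2 : F) ≠ 0) (hQ : IsNondegenerateQuadraticForm Q) :
    IsSymmForm (QuadraticMap.polar Q) where
  two := h2
  add_left := hQ.polar_bilinear.add_left
  smul_left := hQ.polar_bilinear.smul_left
  symm v w := QuadraticMap.polar_comm Q v w
  nondegenerate := hQ.nondegenerate

omit [Finite F] hf in
theorem similarity_polar {Q : (ι → F) → F} (h2 : (2 : F) ≠ 0) (hQ : IsNondegenerateQuadraticForm Q) :
    similarityGroup (QuadraticMap.polar Q) = quadSimilarityGroup Q := by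
  have hpol : ∀ v, QuadraticMap.polar Q v v = 2 * Q v := fun v => by
    rw [QuadraticMap.polar, ← two_smul F v, hQ.smul]
    ring
  ext g
  constructor
  · rintro ⟨c, hc⟩
    refine ⟨c, fun v => ?_⟩
    have h1 := hc v v
    rw [hpol, hpol] at h1
    exact mul_left_cancel₀ h2 (by linear_combination h1)
  · rintro ⟨c, hc⟩
    refine ⟨c, fun u v => ?_⟩
    simp only [QuadraticMap.polar, ← Matrix.mulVec_add, hc]
    ring

end CfsgLib.Geo.Orth
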