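/-
Overgroups of the orthogonal similarity group in SL contain every transvection, odd characteristic.
-/
import Cfsg.Agent.Geo.OrthogonalBasic

set_option autoImplicit false

namespace CfsgLib.Geo.Orth

open Matrix Cfsg Cfsg.Geo CfsgLib.Geo

variable {ι : Type} [Fintype ι] [DecidableEq ι] {F : Type*} [Field F] [Finite F]
  {f : (ι → F) → (ι → F) → F} (hf : IsSymmForm f)
  {M : Subgroup (GL ι F)} (hM : similarityGroup f ⊓ specialLinear ι F ≤ M)

include hf hM

omit [Finite F] in
/-- Root elements lie in `M`. -/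
lemma exists_root {v x : ι → F} (hv : f v v = 0) (hxv : f x v = 0) :
    ∃ A ∈ M, IsH f A v x x (-f x x / 2) := by
  obtain ⟨A, hA, hE⟩ := exists_isH hf hv hxv hxv (-f x x / 2)
  exact ⟨A, hM ⟨⟨1, fun y z => by rw [isH_preserves hf hv hxv hE, Units.val_one, one_mul]⟩, hA⟩, hE⟩

omit [Finite F] in
/-- The centre and axis of a transvection moved by an isometry in `M`. -/
lemma hasTv_moved {h : GL ι F} (hh : h ∈ M)
    (hiso : ∀ y z, f ((h : Matrix ι ι F) *ᵥ y) ((h : Matrix ι ι F) *ᵥ z) = f y z) {a u : ι → F}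
    (hu : HasTv M a (axisOf f u)) :
    HasTv M ((h : Matrix ι ι F) *ᵥ a) (axisOf f ((h : Matrix ι ι F) *ᵥ u)) := by
  have e : axisOf f ((h : Matrix ι ι F) *ᵥ u) = axisOf f u ᵥ* ((h⁻¹ : GL ι F) : Matrix ι ι F) := by
    refine dotProduct_eq _ _ fun y => ?_
    rw [← Matrix.dotProduct_mulVec, (linLeft hf).dot, (linLeft hf).dot]
    conv_lhs => rw [← mulVec_inv_mulVec h y, hiso]
  rw [e]
  exact hu.conj hh

variable (hn : 6 ≤ Fintype.card ι)
include hn

/-- A transvection with singular axis and centre off that line gives all transvections on the line. -/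
lemma line_of_hasTv {v d : ι → F} (hv : f v v = 0) (hd : d ∉ F ∙ v) (h : HasTv M d (axisOf f v)) (c : F) :
    HasTv M (c • v) (axisOf f v) := by
  have hdv : f d v = 0 := by rw [← (linLeft hf).dot v d]; exact h.dot
  obtain ⟨x0, hdx, hx0⟩ := exists_dual_of_fn hf ![v] (by simpa [Matrix.range_cons, Matrix.range_empty] using hd)
  obtain ⟨E, hE, hEe⟩ := exists_root hf hM hv (x := (-c) • x0)
    (by rw [hf.smul_left, show f x0 v = 0 by simpa using hx0 0, mul_zero])
  have hiso := isH_preserves hf hv (by rw [hf.smul_left, show f x0 v = 0 by simpa using hx0 0, mul_zero]) hEe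
  have hEv : (E : Matrix ι ι F) *ᵥ v = v := by
    rw [hEe v, hv]
    simp only [smul_right hf, hf.symm v x0, show f x0 v = 0 by simpa using hx0 0]
    module
  have hEd : (E : Matrix ι ι F) *ᵥ d = d + c • v := by
    rw [hEe d, hdv]
    simp only [smul_right hf, hdx]
    module
  have h1 := hasTv_moved hf hM hE hiso h
  rw [hEd, hEv] at h1
  have h2 := h1.sub_center h
  rwa [add_sub_cancel_left] at h2

/-- A transvection on a singular line gives transvections from it to orthogonal singular lines. -/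
lemma cross_of_line {v w : ι → F} {k : F} (hv : f v v = 0) (hw : f w w = 0) (hwv : f w v = 0)
    (hnot : v ∉ F ∙ w) (h : HasTv M (k • v) (axisOf f v)) : HasTv M ((4 * k) • v) (axisOf f w) := by
  rcases eq_or_ne k 0 with rfl | hk
  · rw [mul_zero, zero_smul]; exact hasTv_zero_left M _
  have L := linLeft hf
  obtain ⟨x0, hvx0, hx0⟩ := exists_dual_of_fn hf ![w] (by simpa [Matrix.range_cons, Matrix.range_empty] using hnot)
  have hx0w : f x0 w = 0 := by simpa using hx0 0
  have hvw : f v w = 0 := by rw [hf.symm, hwv]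
  -- the images `v ± w`
  have hmove : ∀ ε : F, HasTv M (k • (v + ε • w)) (axisOf f (v + ε • w)) := by
    intro ε
    obtain ⟨E, hE, hEe⟩ := exists_root hf hM hw (x := (-ε) • x0) (by rw [hf.smul_left, hx0w, mul_zero])
    have hiso := isH_preserves hf hw (by rw [hf.smul_left, hx0w, mul_zero]) hEe
    have hEv : (E : Matrix ι ι F) *ᵥ v = v + ε • w := by
      rw [hEe v, hvw]
      simp only [smul_right hf, hvx0]
      module
    have h1 := hasTv_moved hf hM hE hiso h
    rwa [Matrix.mulVec_smul, hEv] at h1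
  obtain ⟨hd1, hm1⟩ := hmove 1
  obtain ⟨hd2, hm2⟩ := hmove (-1)
  -- a root element with centre `w`
  obtain ⟨R, hR, hRe⟩ := exists_root hf hM hw (x := (2 * k) • v) (by rw [hf.smul_left, hvw, mul_zero])
  have hd : axisOf f w ⬝ᵥ ((4 * k) • v) = 0 := by rw [L.dot, hf.smul_left, hvw, mul_zero]
  refine ⟨hd, ?_⟩
  have hprod := M.mul_mem (M.mul_mem hm1 (M.inv_mem hm2)) hR
  suffices tvec _ _ hd1 * (tvec _ _ hd2)⁻¹ * R = tvec _ _ hd by rwa [this] at hprod
  rw [show (tvec _ _ hd2)⁻¹ = tvec (-(k • (v + (-1 : F) • w))) (axisOf f (v + (-1 : F) • w))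
    (by rw [dotProduct_neg, hd2, neg_zero]) from inv_eq_of_mul_eq_one_right (gl_ext_mulVec fun y => by
      simp only [mul_mulVec, tvec_mulVec, dotProduct_add, dotProduct_smul, dotProduct_neg, hd2, smul_zero,
        neg_zero, add_zero, Units.val_one, Matrix.one_mulVec]
      module)]
  refine gl_ext_mulVec fun y => ?_
  rw [mul_mulVec, mul_mulVec, hRe y]
  simp only [tvec_mulVec, L.dot, ← neg_one_smul F (k • (v + (-1 : F) • w)), hf.add_left, hf.smul_left,
    add_right hf, smul_right hf, hv, hw, hwv, hvw, mul_zero, add_zero]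
  module

/-- All transvections on a singular line make its centre full. -/
lemma fullAt_of_line {v : ι → F} (hv : f v v = 0) (h : ∀ c : F, HasTv M (c • v) (axisOf f v)) :
    FullAt M v := by
  have h2 := hf.two
  intro φ hφ
  obtain ⟨u, rfl⟩ := exists_axis hf φ
  rw [(linLeft hf).dot, hf.symm] at hφ
  have hkey : ∀ w, f w w = 0 → f w v = 0 → HasTv M v (axisOf f w) := by
    intro w hw hwv
    by_cases hmem : w ∈ F ∙ v
    · obtain ⟨c, rfl⟩ := Submodule.mem_span_singleton.1 hmem
      rcases eq_or_ne c 0 with rfl | hc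
      · rw [zero_smul, show axisOf f (0 : ι → F) = 0 from funext fun i => zero_right hf _]
        exact hasTv_zero_right M v
      · rw [show axisOf f (c • v) = c • axisOf f v from funext fun i => smul_right hf c _ v]
        exact (hasTv_smul_iff c hc).1 (h c)
    by_cases hv0 : v = 0
    · subst hv0; exact hasTv_zero_left M _
    have hnot : v ∉ F ∙ w := fun hm => by
      obtain ⟨c, hc⟩ := Submodule.mem_span_singleton.1 hm
      rcases eq_or_ne c 0 with rfl | hc0
      · exact hv0 (by rw [← hc, zero_smul])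
      · exact hmem (Submodule.mem_span_singleton.2 ⟨c⁻¹, by rw [← hc, smul_smul, inv_mul_cancel₀ hc0, one_smul]⟩)
    have h1 := cross_of_line hf hM hn hv hw hwv hnot (h (4⁻¹ : F))
    have h4 : (4 : F) ≠ 0 := by
      rw [show (4 : F) = 2 * 2 by norm_num]; exact mul_ne_zero h2 h2
    rwa [mul_inv_cancel₀ h4, one_smul] at h1
  refine sing_induction hf ![v] (by omega) (p := fun w => HasTv M v (axisOf f w)) (fun a b ha hb => ?_)
    (fun a ha hau => hkey a ha (by simpa using hau 0)) (fun j => by simpa using hφ)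
  rw [show axisOf f (a + b) = axisOf f a + axisOf f b from funext fun i => add_right hf _ a b]
  exact ha.add_axis hb

/-- One singular transvection gives all. -/
lemma exists_fullAt {v d : ι → F} (hv : f v v = 0) (hv0 : v ≠ 0) (hd0 : d ≠ 0) (h : HasTv M d (axisOf f v)) :
    ∃ w, f w w = 0 ∧ w ≠ 0 ∧ FullAt M w := by
  by_cases hd : d ∈ F ∙ v
  · obtain ⟨k, rfl⟩ := Submodule.mem_span_singleton.1 hd
    obtain ⟨z, z', hz, -, hzz', -, hzu, hz'u⟩ := exists_pair hf ![v] (by omega)
    have hzv : f z v = 0 := by simpa using hzu 0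
    have hnot : v ∉ F ∙ z := fun hm => by
      obtain ⟨c, hc⟩ := Submodule.mem_span_singleton.1 hm
      have h1 : f z' v = 0 := by simpa using hz'u 0
      rw [← hc, smul_right hf, hf.symm, hzz', mul_one] at h1
      exact hv0 (by rw [← hc, h1, zero_smul])
    have hz0 : z ≠ 0 := fun e => by rw [e, zero_left hf] at hzz'; exact zero_ne_one hzz'
    have hk : k ≠ 0 := fun e => hd0 (by rw [e, zero_smul])
    have h4 : (4 : F) ≠ 0 := by
      rw [show (4 : F) = 2 * 2 by norm_num]; exact mul_ne_zero hf.two hf.two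
    have h1 := cross_of_line hf hM hn hv hz hzv hnot h
    have hout : (4 * k) • v ∉ F ∙ z := fun hm =>
      hnot ((Submodule.smul_mem_iff _ (mul_ne_zero h4 hk)).1 hm)
    exact ⟨z, hz, hz0, fullAt_of_line hf hM hn hz (line_of_hasTv hf hM hn hz hout h1)⟩
  · exact ⟨v, hv, hv0, fullAt_of_line hf hM hn hv (line_of_hasTv hf hM hn hv hd h)⟩

/-- A full singular centre gives SL. -/
lemma specialLinear_le_of_fullAt {w : ι → F} (hw : f w w = 0) (hw0 : w ≠ 0) (h : FullAt M w) :
    specialLinear ι F ≤ M := by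
  have h2 := hf.two
  refine specialLinear_le_of_fullSubmodule (eq_top_iff.2 ?_)
  obtain ⟨p, hwp, -⟩ := exists_dual_of_fn hf (Fin.elim0 : Fin 0 → (ι → F)) (w := w) (by simpa using hw0)
  set u := p + (-f p p / 2) • w with hu_def
  have huu : f u u = 0 := by
    simp only [hu_def, hf.add_left, add_right hf, hf.smul_left, smul_right hf, hw, hwp, hf.symm p w]
    field_simp
    ring
  have hwu : f w u = 1 := by rw [hu_def, add_right hf, smul_right hf, hw, hwp, mul_zero, add_zero]
  have hwF : w ∈ fullSubmodule M := h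
  have himg : ∀ x, f x u = 0 → w + x + (-f x x / 2 - f w x) • u ∈ fullSubmodule M := by
    intro x hx
    obtain ⟨E, hE, hEe⟩ := exists_root hf hM huu hx
    have h1 := fullSubmodule_invariant hwF hE
    rwa [hEe w, hwu, one_smul, mul_one] at h1
  have hneg : ∀ x, f x u = 0 → w - x + (-f x x / 2 + f w x) • u ∈ fullSubmodule M := by
    intro x hx
    have h1 := himg ((-1 : F) • x) (by rw [hf.smul_left, hx, mul_zero])
    simp only [hf.smul_left, smul_right hf] at h1
    convert h1 using 1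
    match_scalars <;> ring
  have huF : u ∈ fullSubmodule M := by
    obtain ⟨x, hxx, hxu⟩ := exists_aniso hf ![u] (by omega)
    have hxu' : f x u = 0 := by simpa using hxu 0
    have h1 := (fullSubmodule M).sub_mem ((fullSubmodule M).add_mem (himg x hxu') (hneg x hxu'))
      ((fullSubmodule M).smul_mem (2 : F) hwF)
    have e : w + x + (-f x x / 2 - f w x) • u + (w - x + (-f x x / 2 + f w x) • u) - (2 : F) • w =
        (-f x x) • u := by
      match_scalars <;> field_simp <;> ring
    rw [e] at h1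
    exact ((fullSubmodule M).smul_mem_iff (neg_ne_zero.2 hxx)).1 h1
  intro y _
  have hx : f (y - f y u • w) u = 0 := by
    rw [sub_eq_add_neg, ← neg_smul, hf.add_left, hf.smul_left, hwu]; ring
  set x := y - f y u • w
  have h1 := (fullSubmodule M).sub_mem ((fullSubmodule M).sub_mem (himg x hx) hwF)
    ((fullSubmodule M).smul_mem (-f x x / 2 - f w x) huF)
  have e : w + x + (-f x x / 2 - f w x) • u - w - (-f x x / 2 - f w x) • u = x := by module
  rw [e] at h1
  have h3 := (fullSubmodule M).add_mem h1 ((fullSubmodule M).smul_mem (f y u) hwF)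
  rwa [sub_add_cancel] at h3

omit hM in
/-- Commuting with every root element forces a similarity. -/
lemma similarity_of_roots {g : GL ι F}
    (h : ∀ a b, f a a = 0 → f b b = 0 → f a b = 0 → (∃ y, f y b = 1 ∧ f y a = 0) → a ≠ 0 → ∀ R : GL ι F, IsH f R b a a (-f a a / 2) → ∀ y z,
      f ((g : Matrix ι ι F) *ᵥ ((R : Matrix ι ι F) *ᵥ y)) ((g : Matrix ι ι F) *ᵥ ((R : Matrix ι ι F) *ᵥ z)) =
        f ((g : Matrix ι ι F) *ᵥ y) ((g : Matrix ι ι F) *ᵥ z)) :
    g ∈ similarityGroup f := by
  have h2 := hf.two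
  let B' : (ι → F) → (ι → F) → F := fun y z => f ((g : Matrix ι ι F) *ᵥ y) ((g : Matrix ι ι F) *ᵥ z)
  have hB'l : ∀ c d y z x, B' (c • y + d • z) x = c * B' y x + d * B' z x := fun c d y z x => by
    simp only [B', Matrix.mulVec_add, Matrix.mulVec_smul, hf.add_left, hf.smul_left]
  have hB'r : ∀ c d y z x, B' x (c • y + d • z) = c * B' x y + d * B' x z := fun c d y z x => by
    simp only [B', Matrix.mulVec_add, Matrix.mulVec_smul, add_right hf, smul_right hf]
  -- orthogonality to `a` and `b` passes to the pulled back form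
  have hker : ∀ a b, f a a = 0 → f b b = 0 → f a b = 0 → (∃ y, f y b = 1 ∧ f y a = 0) →
      ∀ z, f z a = 0 → f z b = 0 → B' a z = 0 := by
    rintro a b ha hb hab ⟨y, hyb, hya⟩ z hza hzb
    rcases eq_or_ne a 0 with rfl | ha0
    · simp only [B', Matrix.mulVec_zero, zero_left hf]
    obtain ⟨R, -, hR⟩ := exists_isH hf hb hab hab (-f a a / 2)
    have h1 := h a b ha hb hab ⟨y, hyb, hya⟩ ha0 R hR y z
    have eRy : (R : Matrix ι ι F) *ᵥ y = (1 : F) • y + (1 : F) • a := by
      rw [hR y, hyb, hya, ha]; module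
    have eRz : (R : Matrix ι ι F) *ᵥ z = z := by rw [hR z, hzb, hza]; module
    rw [eRy, eRz] at h1
    change B' ((1 : F) • y + (1 : F) • a) z = B' y z at h1
    rw [hB'l] at h1
    linear_combination h1
  have hline : ∀ a, f a a = 0 → ∃ μ, ∀ z, B' a z = μ * f a z := by
    intro a ha
    rcases eq_or_ne a 0 with rfl | ha0
    · exact ⟨0, fun z => by simp only [B', Matrix.mulVec_zero, zero_left hf, mul_zero]⟩
    obtain ⟨b, b', hb, hb', hbb', hb'b, hbu, hb'u⟩ := exists_pair hf ![a] (by omega)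
    have hba : f b a = 0 := by simpa using hbu 0
    have hb'a : f b' a = 0 := by simpa using hb'u 0
    have hab : f a b = 0 := by rw [hf.symm, hba]
    have hab' : f a b' = 0 := by rw [hf.symm, hb'a]
    obtain ⟨p, hap, hp⟩ := exists_dual_of_fn hf ![b, b'] (w := a) (fun hc => by
      rw [Submodule.mem_span_range_iff_exists_fun] at hc
      obtain ⟨c, hc⟩ := hc
      simp only [Fin.sum_univ_two, Matrix.cons_val_zero, Matrix.cons_val_one] at hc
      have h1 := congrArg (fun y => f y b') hc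
      have h2 := congrArg (fun y => f y b) hc
      simp only [hf.add_left, hf.smul_left, hbb', hb'b, hb, hb', hab, hab', mul_zero, add_zero, zero_add,
        mul_one] at h1 h2
      exact ha0 (by rw [← hc, h1, h2, zero_smul, zero_smul, add_zero]))
    have hpb : f p b = 0 := by simpa using hp 0
    have hpb' : f p b' = 0 := by simpa using hp 1
    refine ⟨B' a p, fun z => ?_⟩
    set c := f z b
    set c' := f z b'
    set d := f z a
    have k1 : B' a b' = 0 := hker a b' ha hb' hab' ⟨b, hbb', hba⟩ b' (by rw [hb'a]) hb'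
    have k2 : B' a b = 0 := hker a b ha hb hab ⟨b', hb'b, hb'a⟩ b (by rw [hba]) hb
    -- strip the components along `p`, `b` and `b'`
    set z1 := (1 : F) • ((1 : F) • z + (-d) • p) + (-c) • b'
    have hz1a : f z1 a = 0 := by
      simp only [z1, hf.add_left, hf.smul_left, hb'a, hf.symm p a, hap]
      ring
    have hz1b : f z1 b = 0 := by
      simp only [z1, hf.add_left, hf.smul_left, hb'b, hpb]
      ring
    have h1 := hker a b ha hb hab ⟨b', hb'b, hb'a⟩ z1 hz1a hz1b
    simp only [z1, hB'r, k1] at h1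
    rw [hf.symm a z]
    linear_combination h1
  choose μ hμ using hline
  have hsame : ∀ a b (ha : f a a = 0) (hb : f b b = 0), a ≠ 0 → b ≠ 0 → f a b = 0 → μ a ha = μ b hb := by
    intro a b ha hb ha0 hb0 hab
    by_cases hmem : b ∈ F ∙ a
    · obtain ⟨c, rfl⟩ := Submodule.mem_span_singleton.1 hmem
      obtain ⟨p, hap, -⟩ := exists_dual_of_fn hf (Fin.elim0 : Fin 0 → (ι → F)) (w := a) (by simpa using ha0)
      have h1 := hμ (c • a) hb p
      rw [hf.smul_left, hap, mul_one, show B' (c • a) p = c * B' a p by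
        simp only [B', Matrix.mulVec_smul, hf.smul_left], hμ a ha p, hap, mul_one] at h1
      exact mul_right_cancel₀ (fun e : c = 0 => hb0 (by rw [e, zero_smul]))
        (by linear_combination h1)
    · have hs : f (a + b) (a + b) = 0 := by
        rw [hf.add_left, add_right hf, add_right hf, ha, hb, hab, hf.symm b a, hab]; ring
      obtain ⟨p, hbp, hp⟩ := exists_dual_of_fn hf ![a] (w := b)
        (by simpa [Matrix.range_cons, Matrix.range_empty] using hmem)
      obtain ⟨r, har, hr⟩ := exists_dual_of_fn hf ![b] (w := a) (fun hc => hmem (by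
        rw [Matrix.range_cons, Matrix.range_empty, Set.union_empty] at hc
        obtain ⟨c, hc⟩ := Submodule.mem_span_singleton.1 hc
        rcases eq_or_ne c 0 with rfl | hc0
        · exact absurd (by rw [← hc, zero_smul]) ha0
        · exact Submodule.mem_span_singleton.2 ⟨c⁻¹, by rw [← hc, smul_smul, inv_mul_cancel₀ hc0, one_smul]⟩))
      have hsum : ∀ z, μ (a + b) hs * f (a + b) z = μ a ha * f a z + μ b hb * f b z := fun z => by
        rw [← hμ, ← hμ, ← hμ]
        have := hB'l 1 1 a b z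
        simpa using this
      have h1 := hsum r
      have h2 := hsum p
      rw [hf.add_left, har, show f b r = 0 by rw [hf.symm]; simpa using hr 0] at h1
      rw [hf.add_left, hbp, show f a p = 0 by rw [hf.symm]; simpa using hp 0] at h2
      linear_combination h2 - h1
  obtain ⟨a0, a0', ha0, -, ha00', -, -, -⟩ := exists_pair hf (Fin.elim0 : Fin 0 → (ι → F)) (by omega)
  have ha00 : a0 ≠ 0 := fun e => by rw [e, zero_left hf] at ha00'; exact zero_ne_one ha00'
  set m := μ a0 ha0
  have hall : ∀ y z, B' y z = m * f y z := fun y => by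
    refine sing_induction hf (Fin.elim0 : Fin 0 → (ι → F)) (by omega) (p := fun y => ∀ z, B' y z = m * f y z)
      (fun a b ha hb z => by
        have := hB'l 1 1 a b z
        simp only [one_smul, one_mul] at this
        rw [this, ha, hb, hf.add_left]; ring)
      (fun a ha _ z => ?_) (x := y) (fun j => j.elim0)
    rcases eq_or_ne a 0 with rfl | ha1
    · simp only [B', Matrix.mulVec_zero, zero_left hf, mul_zero]
    rcases em (f a a0 = 0) with haa0 | haa0
    · rw [hμ a ha z, hsame a a0 ha ha0 ha1 ha00 haa0]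
    obtain ⟨w, w', hw, -, hww', -, hwu, -⟩ := exists_pair_rad hf ![a0, a] (by
      have h1 := (LinearMap.pi fun j => lin hf (![a0, a] j)).finrank_range_add_finrank_ker
      have h2 : Module.finrank F (LinearMap.range (LinearMap.pi fun j => lin hf (![a0, a] j))) ≤ 2 := by
        simpa using Submodule.finrank_le (LinearMap.range (LinearMap.pi fun j => lin hf (![a0, a] j)))
      rw [Module.finrank_fintype_fun_eq_card] at h1
      have h3 : LinearMap.ker (LinearMap.pi fun j => lin hf (![a0, a] j)) ⊓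
          Submodule.span F (Set.range ![a0, a]) = ⊥ := by
        rw [Submodule.eq_bot_iff]
        rintro x ⟨hx, hxS⟩
        obtain ⟨r, rfl⟩ := Submodule.mem_span_range_iff_exists_fun F |>.1 hxS
        have e0 : f (∑ i, r i • ![a0, a] i) a0 = 0 := congrFun (LinearMap.mem_ker.1 hx) 0
        have e1 : f (∑ i, r i • ![a0, a] i) a = 0 := congrFun (LinearMap.mem_ker.1 hx) 1
        simp only [Fin.sum_univ_two, Matrix.cons_val_zero, Matrix.cons_val_one, hf.add_left, hf.smul_left, ha0,
          ha, hf.symm a0 a, mul_zero, zero_add, add_zero] at e0 e1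
        rw [Fin.sum_univ_two, (mul_eq_zero.1 e1).resolve_right haa0, (mul_eq_zero.1 e0).resolve_right haa0,
          zero_smul, zero_smul, add_zero]
      rw [h3, finrank_bot]
      omega)
    have hw0 : w ≠ 0 := fun e => by rw [e, zero_left hf] at hww'; exact zero_ne_one hww'
    rw [hμ a ha z, ← hsame w a hw ha hw0 ha1 (by simpa using hwu 1),
      hsame w a0 hw ha0 hw0 ha00 (by simpa using hwu 0)]
  refine ⟨Units.mk0 m fun hm => ?_, hall⟩
  have hga : (g : Matrix ι ι F) *ᵥ a0 ≠ 0 := fun e => ha00 (by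
    rw [← inv_mulVec_mulVec g a0, e, Matrix.mulVec_zero])
  obtain ⟨z, hz⟩ := (hf.nondegenerate _ hga).2
  have h1 := hall a0 (((g⁻¹ : GL ι F) : Matrix ι ι F) *ᵥ z)
  simp only [B', mulVec_inv_mulVec] at h1
  exact hz (by rw [h1, hm, zero_mul])

/-- Any transvection gives one with singular axis. -/
lemma exists_singular_axis {d u : ι → F} (hd0 : d ≠ 0) (hu0 : u ≠ 0) (h : HasTv M d (axisOf f u)) :
    ∃ v e, f v v = 0 ∧ v ≠ 0 ∧ e ≠ 0 ∧ HasTv M e (axisOf f v) := by
  by_cases huu : f u u = 0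
  · exact ⟨u, d, huu, hu0, hd0, h⟩
  have hdu : f d u = 0 := by rw [← (linLeft hf).dot u d]; exact h.dot
  obtain ⟨v, hv, hvd, huv⟩ : ∃ v, f v v = 0 ∧ f v d = 0 ∧ f u v ≠ 0 := by
    by_contra hcon
    push Not at hcon
    exact huu (sing_induction hf ![d] (by omega) (p := fun y => f u y = 0)
      (fun x y hx hy => by rw [add_right hf, hx, hy, add_zero])
      (fun a ha had => hcon a ha (had 0)) (x := u)
      (fun j => by fin_cases j; show f u d = 0; rw [hf.symm]; exact hdu))
  have hdv : f d v = 0 := by rw [hf.symm, hvd]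
  obtain ⟨x, hxx, hxu⟩ := exists_aniso hf ![d, v] (by omega)
  have hxd : f x d = 0 := hxu 0
  have hxv : f x v = 0 := hxu 1
  have hmove : ∀ ε : F, HasTv M d (axisOf f (u + (ε * f u v) • x + (-(ε * ε * f x x) / 2 * f u v - ε * f u x) • v)) := by
    intro ε
    have hεv : f (ε • x) v = 0 := by rw [hf.smul_left, hxv, mul_zero]
    obtain ⟨E, hE, hEe⟩ := exists_root hf hM hv hεv
    have h1 := hasTv_moved hf hM hE (isH_preserves hf hv hεv hEe) h
    rw [hEe u, hEe d, hdv] at h1
    simp only [hf.smul_left, smul_right hf, hf.symm d x, hxd, mul_zero, sub_zero, zero_smul, add_zero] at h1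
    convert h1 using 2
    module
  set k := -(f x x) * f u v
  have hk : k ≠ 0 := mul_ne_zero (neg_ne_zero.2 hxx) huv
  have h2 := hf.two
  have hax : axisOf f (u + ((1 : F) * f u v) • x + (-(1 * 1 * f x x) / 2 * f u v - 1 * f u x) • v) +
      axisOf f (u + ((-1 : F) * f u v) • x + (-((-1) * (-1) * f x x) / 2 * f u v - (-1) * f u x) • v) -
      axisOf f u - axisOf f u = k • axisOf f v := by
    funext i
    simp only [Pi.add_apply, Pi.sub_apply, Pi.smul_apply, smul_eq_mul, axisOf, add_right hf, smul_right hf, k]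
    field_simp
    ring
  have h3 := (((hmove 1).add_axis (hmove (-1))).sub_axis h).sub_axis h
  rw [hax] at h3
  have hv0 : v ≠ 0 := fun e => huv (by rw [e, zero_right hf])
  exact ⟨v, k • d, hv, hv0, smul_ne_zero hk hd0, (hasTv_smul_iff k hk).2 h3⟩

/-- Overgroups of the similarity group not inside it contain SL. -/
theorem key (hMX : ¬ M ≤ similarityGroup f) : specialLinear ι F ≤ M := by
  have h2 := hf.two
  have L := linLeft hf
  obtain ⟨g, hgM, hgX⟩ := SetLike.not_le_iff_exists.1 hMX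
  suffices ∃ d u, d ≠ 0 ∧ u ≠ 0 ∧ HasTv M d (axisOf f u) by
    obtain ⟨d, u, hd0, hu0, h⟩ := this
    obtain ⟨v, e, hv, hv0, he0, he⟩ := exists_singular_axis hf hM hn hd0 hu0 h
    obtain ⟨w, hw, hw0, hfull⟩ := exists_fullAt hf hM hn hv hv0 he0 he
    exact specialLinear_le_of_fullAt hf hM hn hw hw0 hfull
  by_contra hcon
  push Not at hcon
  refine hgX (similarity_of_roots hf hn fun a b ha hb hab hyp ha0 R hR y z => ?_)
  obtain ⟨y0, hy0b, hy0a⟩ := hyp
  have hRM : R ∈ M := by
    obtain ⟨R', hR', hR'e⟩ := exists_root hf hM hb hab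
    rwa [show R = R' from gl_ext_mulVec fun y => by rw [hR, hR'e]]
  set t := g * R * g⁻¹ with ht
  have htM : t ∈ M := M.mul_mem (M.mul_mem hgM hRM) (M.inv_mem hgM)
  set a' := (g : Matrix ι ι F) *ᵥ a with ha'
  set b' := (g : Matrix ι ι F) *ᵥ b with hb'
  have hrepr : ∀ c : ι → F, ∃ c', ∀ y, f (((g⁻¹ : GL ι F) : Matrix ι ι F) *ᵥ y) c = f y c' := fun c => by
    obtain ⟨u, hu⟩ := exists_axis hf (axisOf f c ᵥ* ((g⁻¹ : GL ι F) : Matrix ι ι F))
    exact ⟨u, fun y => by rw [← L.dot u y, hu, ← Matrix.dotProduct_mulVec, L.dot]⟩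
  obtain ⟨as, has⟩ := hrepr a
  obtain ⟨bs, hbs⟩ := hrepr b
  have hte : ∀ y, (t : Matrix ι ι F) *ᵥ y = y + f y bs • a' + (- f y as) • b' := fun y => by
    rw [ht, mul_mulVec, mul_mulVec, hR, Matrix.mulVec_add, Matrix.mulVec_add, Matrix.mulVec_smul,
      Matrix.mulVec_smul, mulVec_inv_mulVec, ha, ← has, ← hbs]
    module
  have hind : ∀ c d : F, c • a + d • b = 0 → c = 0 ∧ d = 0 := fun c d hcd => by
    have h1 := congrArg (fun x => f x y0) hcd
    simp only [hf.add_left, hf.smul_left, hf.symm a y0, hy0a, hf.symm b y0, hy0b, zero_left hf, mul_zero, mul_one,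
      zero_add] at h1
    subst h1
    rw [zero_smul, add_zero] at hcd
    exact ⟨(smul_eq_zero.1 hcd).resolve_right ha0, rfl⟩
  have hI' : LinearIndependent F ![a', b'] := LinearIndependent.pair_iff.2 fun c d hcd => hind c d (by
    have h1 := congrArg (fun x => ((g⁻¹ : GL ι F) : Matrix ι ι F) *ᵥ x) hcd
    simpa only [ha', hb', Matrix.mulVec_add, Matrix.mulVec_smul, inv_mulVec_mulVec, Matrix.mulVec_zero] using h1)
  have hIs : LinearIndependent F ![as, bs] := LinearIndependent.pair_iff.2 fun c d hcd => hind c d (by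
    by_contra hne
    obtain ⟨x, hx⟩ := (hf.nondegenerate _ hne).1
    refine hx ?_
    have h1 := has ((g : Matrix ι ι F) *ᵥ x)
    have h2 := hbs ((g : Matrix ι ι F) *ᵥ x)
    rw [inv_mulVec_mulVec] at h1 h2
    rw [add_right hf, smul_right hf, smul_right hf, h1, h2, ← smul_right hf, ← smul_right hf, ← add_right hf,
      hcd, zero_right hf])
  have hpair : ∀ {u v : ι → F}, LinearIndependent F ![u, v] → ∀ c d : F, c • u + d • v = 0 → c = 0 ∧ d = 0 :=
    fun h => LinearIndependent.pair_iff.1 h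
  have hdual : ∀ {u v : ι → F}, LinearIndependent F ![u, v] → ∃ p, f p u = 1 ∧ f p v = 0 := fun {u v} h => by
    obtain ⟨p, hp, hpv⟩ := exists_dual_of_fn hf ![v] (w := u) (fun hm => by
      obtain ⟨r, hr⟩ := Submodule.mem_span_range_iff_exists_fun F |>.1 hm
      simp only [Fin.sum_univ_one, Matrix.cons_val_fin_one] at hr
      exact one_ne_zero (neg_eq_zero.1 (hpair h (-1) (r 0) (by rw [hr]; module)).1))
    exact ⟨p, by rw [hf.symm, hp], hpv 0⟩
  have o1 : f a' as = 0 := by rw [← has, ha', inv_mulVec_mulVec, ha]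
  have o2 : f a' bs = 0 := by rw [← hbs, ha', inv_mulVec_mulVec, hab]
  have o3 : f b' as = 0 := by rw [← has, hb', inv_mulVec_mulVec, hf.symm, hab]
  have o4 : f b' bs = 0 := by rw [← hbs, hb', inv_mulVec_mulVec, hb]
  have hadj : ∀ x, f x a' = 0 → f x b' = 0 → ∀ y, f ((t : Matrix ι ι F) *ᵥ y) x = f y x := fun x h1 h2 y => by
    rw [hte, hf.add_left, hf.add_left, hf.smul_left, hf.smul_left, hf.symm a' x, hf.symm b' x, h1, h2]
    ring
  have hfixt : ∀ x, f x as = 0 → f x bs = 0 → (t : Matrix ι ι F) *ᵥ x = x := fun x h1 h2 => by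
    rw [hte, h1, h2]; module
  have hx5 : ∀ v, ∃ x, x ≠ 0 ∧ f x a' = 0 ∧ f x b' = 0 ∧ f x as = 0 ∧ f x bs = 0 ∧ f x v = 0 := fun v => by
    let K : (ι → F) →ₗ[F] (Fin 5 → F) := LinearMap.pi fun j => lin hf (![a', b', as, bs, v] j)
    have hK : LinearMap.ker K ≠ ⊥ := LinearMap.ker_ne_bot_of_finrank_lt
      (by rw [Module.finrank_fintype_fun_eq_card, Module.finrank_fintype_fun_eq_card, Fintype.card_fin]; omega)
    obtain ⟨x, hx, hx0⟩ := Submodule.exists_mem_ne_zero_of_ne_bot hK
    exact ⟨x, hx0, congrFun (LinearMap.mem_ker.1 hx) 0, congrFun (LinearMap.mem_ker.1 hx) 1,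
      congrFun (LinearMap.mem_ker.1 hx) 2, congrFun (LinearMap.mem_ker.1 hx) 3,
      congrFun (LinearMap.mem_ker.1 hx) 4⟩
  -- singular vectors orthogonal to one pair are orthogonal to the other
  have hPf : ∀ v, f v v = 0 → f v as = 0 → f v bs = 0 → f v a' = 0 ∧ f v b' = 0 := by
    intro v hv hvas hvbs
    obtain ⟨x, hx0, hxa, hxb, hxas, hxbs, hxv⟩ := hx5 v
    by_cases hxF : x ∈ F ∙ v
    · obtain ⟨c, rfl⟩ := Submodule.mem_span_singleton.1 hxF
      have hc : c ≠ 0 := fun e => hx0 (by rw [e, zero_smul])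
      rw [hf.smul_left] at hxa hxb
      exact ⟨(mul_eq_zero.1 hxa).resolve_left hc, (mul_eq_zero.1 hxb).resolve_left hc⟩
    obtain ⟨w, hw⟩ := exists_axis hf (axisOf f v ᵥ* ((t⁻¹ : GL ι F) : Matrix ι ι F))
    have hwy : ∀ y, f y w = f (((t⁻¹ : GL ι F) : Matrix ι ι F) *ᵥ y) v := fun y => by
      rw [← L.dot w y, hw, ← Matrix.dotProduct_mulVec, L.dot]
    have hinv : ∀ x, f x as = 0 → f x bs = 0 → ((t⁻¹ : GL ι F) : Matrix ι ι F) *ᵥ x = x := fun x h1 h2 => by
      conv_lhs => rw [← hfixt x h1 h2, inv_mulVec_mulVec]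
    have hxw : f x w = 0 := by rw [hwy, hinv x hxas hxbs, hxv]
    have hvw : f v w = 0 := by rw [hwy, hinv v hvas hvbs, hv]
    have hxv' : f ((-1 : F) • x) v = 0 := by rw [hf.smul_left, hxv, mul_zero]
    obtain ⟨A, hA, hAe⟩ := exists_root hf hM hv hxv
    obtain ⟨B, hB, hBe⟩ := exists_root hf hM hv hxv'
    set s := -f x x / 2 with hs
    have hd : axisOf f (w - v) ⬝ᵥ (x + s • v) = 0 := by
      rw [L.dot, sub_eq_add_neg, ← neg_one_smul F v]
      simp only [hf.add_left, hf.smul_left, add_right hf, smul_right hf, hxw, hvw, hxv, hv]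
      ring
    have htv : HasTv M (x + s • v) (axisOf f (w - v)) := ⟨hd, by
      suffices tvec (x + s • v) (axisOf f (w - v)) hd = t * A * t⁻¹ * B by
        rw [this]; exact M.mul_mem (M.mul_mem (M.mul_mem htM hA) (M.inv_mem htM)) hB
      refine gl_ext_mulVec fun y => ?_
      have hxadj := hadj x hxa hxb
      have hinvx : ∀ z, f (((t⁻¹ : GL ι F) : Matrix ι ι F) *ᵥ z) x = f z x := fun z => by
        conv_rhs => rw [← mulVec_inv_mulVec t z, hxadj]
      simp only [mul_mulVec, hAe _, Matrix.mulVec_add, Matrix.mulVec_smul, mulVec_inv_mulVec,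
        hfixt x hxas hxbs, hfixt v hvas hvbs, ← hwy, hinvx, hBe _, tvec_mulVec, L.dot, sub_eq_add_neg,
        ← neg_one_smul F v, add_right hf, smul_right hf, hf.add_left, hf.smul_left, hxw, hvw, hxv,
        hf.symm v x, hs]
      match_scalars <;> field_simp <;> ring⟩
    have hd0 : x + s • v ≠ 0 := fun e => hxF (Submodule.mem_span_singleton.2 ⟨-s, by
      rw [neg_smul, ← eq_neg_of_add_eq_zero_left e]⟩)
    have hwv : w = v := by
      by_contra hne
      exact hcon _ _ hd0 (sub_ne_zero.2 hne) htv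
    have hall : ∀ y, f y bs * f a' v - f y as * f b' v = 0 := fun y => by
      have h1 := hwy ((t : Matrix ι ι F) *ᵥ y)
      rw [hwv, inv_mulVec_mulVec, hte, hf.add_left, hf.add_left, hf.smul_left, hf.smul_left] at h1
      linear_combination h1
    obtain ⟨p, hp1, hp2⟩ := hdual hIs
    obtain ⟨p', hp1', hp2'⟩ := hdual (LinearIndependent.pair_symm_iff.1 hIs)
    have e1 := hall p
    have e2 := hall p'
    rw [hp1, hp2] at e1
    rw [hp1', hp2'] at e2
    exact ⟨by rw [hf.symm]; linear_combination e2, by rw [hf.symm]; linear_combination -e1⟩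
  have hPa : ∀ v, f v v = 0 → f v a' = 0 → f v b' = 0 → f v as = 0 ∧ f v bs = 0 := by
    intro v hv hva hvb
    obtain ⟨x, hx0, hxa, hxb, hxas, hxbs, hxv⟩ := hx5 v
    by_cases hxF : x ∈ F ∙ v
    · obtain ⟨c, rfl⟩ := Submodule.mem_span_singleton.1 hxF
      have hc : c ≠ 0 := fun e => hx0 (by rw [e, zero_smul])
      rw [hf.smul_left] at hxas hxbs
      exact ⟨(mul_eq_zero.1 hxas).resolve_left hc, (mul_eq_zero.1 hxbs).resolve_left hc⟩
    have hxv' : f ((-1 : F) • x) v = 0 := by rw [hf.smul_left, hxv, mul_zero]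
    obtain ⟨A, hA, hAe⟩ := exists_root hf hM hv hxv
    obtain ⟨B, hB, hBe⟩ := exists_root hf hM hv hxv'
    set s := -f x x / 2 with hs
    set tv := (t : Matrix ι ι F) *ᵥ v with htv_def
    have htvx : f tv x = 0 := by rw [htv_def, hadj x hxa hxb, hf.symm, hxv]
    have htvv : f tv v = 0 := by rw [htv_def, hadj v hva hvb, hv]
    have hd : axisOf f (x + s • v) ⬝ᵥ (v - tv) = 0 := by
      rw [L.dot, sub_eq_add_neg, ← neg_one_smul F tv]
      simp only [hf.add_left, hf.smul_left, add_right hf, smul_right hf, htvx, htvv, hf.symm v x, hxv, hv]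
      ring
    have htv : HasTv M (v - tv) (axisOf f (x + s • v)) := ⟨hd, by
      suffices tvec (v - tv) (axisOf f (x + s • v)) hd = t * A * t⁻¹ * B by
        rw [this]; exact M.mul_mem (M.mul_mem (M.mul_mem htM hA) (M.inv_mem htM)) hB
      refine gl_ext_mulVec fun y => ?_
      have hinvu : ∀ u, f u a' = 0 → f u b' = 0 → ∀ z, f (((t⁻¹ : GL ι F) : Matrix ι ι F) *ᵥ z) u = f z u :=
        fun u h1 h2 z => by conv_rhs => rw [← mulVec_inv_mulVec t z, hadj u h1 h2]
      simp only [mul_mulVec, hAe _, Matrix.mulVec_add, Matrix.mulVec_smul, mulVec_inv_mulVec,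
        hfixt x hxas hxbs, ← htv_def, hinvu v hva hvb, hinvu x hxa hxb, hBe _, tvec_mulVec, L.dot,
        add_right hf, smul_right hf, hf.add_left, hf.smul_left, hxv, hv, hf.symm v x, hs]
      match_scalars <;> field_simp <;> ring⟩
    have hu0 : x + s • v ≠ 0 := fun e => hxF (Submodule.mem_span_singleton.2 ⟨-s, by
      rw [neg_smul, ← eq_neg_of_add_eq_zero_left e]⟩)
    have hfix : v = tv := by
      by_contra hne
      exact hcon _ _ (sub_ne_zero.2 hne) hu0 htv
    rw [htv_def, hte, add_assoc, left_eq_add] at hfix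
    obtain ⟨h1, h3⟩ := hpair hI' _ _ hfix
    exact ⟨neg_eq_zero.1 h3, h1⟩
  obtain ⟨haa, hasbs, hbb⟩ := totally_singular_of_pairs hf hn hI' o1 o2 o3 o4 hPf
  obtain ⟨hAA, -, hBB⟩ := totally_singular_of_pairs hf hn hIs (by rw [hf.symm]; exact o1) (by rw [hf.symm]; exact o3)
    (by rw [hf.symm]; exact o2) (by rw [hf.symm]; exact o4) hPa
  obtain ⟨α, β, ea⟩ := mem_span_of_sing hf hAA o1 o2 (fun v hv h1 h2 => (hPf v hv h1 h2).1)
  obtain ⟨γ, δ, eb⟩ := mem_span_of_sing hf hBB o3 o4 (fun v hv h1 h2 => (hPf v hv h1 h2).2)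
  have hbsas : f bs as = 0 := by rw [hf.symm, hasbs]
  -- the elements of `M` moving vectors into the line pair
  let Nm : F → F → F → F → Prop := fun α β γ δ => ∃ m ∈ M, ∀ y, (m : Matrix ι ι F) *ᵥ y =
    y + f y bs • (α • as + β • bs) + (- f y as) • (γ • as + δ • bs)
  have hadd : ∀ {α β γ δ α' β' γ' δ'}, Nm α β γ δ → Nm α' β' γ' δ' → Nm (α + α') (β + β') (γ + γ') (δ + δ') := by
    rintro α β γ δ α' β' γ' δ' ⟨m, hm, hme⟩ ⟨m', hm', hme'⟩
    refine ⟨m * m', M.mul_mem hm hm', fun y => ?_⟩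
    rw [mul_mulVec, hme' y, hme]
    simp only [hf.add_left, hf.smul_left, haa, hasbs, hbsas, hbb]
    module
  have hneg : ∀ {α β γ δ}, Nm α β γ δ → Nm (-α) (-β) (-γ) (-δ) := by
    rintro α β γ δ ⟨m, hm, hme⟩
    refine ⟨m⁻¹, M.inv_mem hm, fun y => ?_⟩
    obtain ⟨z, hz⟩ : ∃ z, z = ((m⁻¹ : GL ι F) : Matrix ι ι F) *ᵥ y := ⟨_, rfl⟩
    have hy : y = (m : Matrix ι ι F) *ᵥ z := by rw [hz, mulVec_inv_mulVec]
    rw [← hz, hy, hme]
    simp only [hf.add_left, hf.smul_left, haa, hasbs, hbsas, hbb]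
    module
  have hzero : ∀ c, Nm 0 0 c 0 → c = 0 := by
    rintro c ⟨m, hm, hme⟩
    by_contra hc
    have has0 : as ≠ 0 := hIs.ne_zero 0
    refine hcon ((-c) • as) as (smul_ne_zero (neg_ne_zero.2 hc) has0) has0
      ⟨by rw [L.dot, hf.smul_left, haa, mul_zero], ?_⟩
    suffices tvec ((-c) • as) (axisOf f as) _ = m by rw [this]; exact hm
    refine gl_ext_mulVec fun y => ?_
    rw [tvec_mulVec, L.dot, hme]
    module
  have hroot : ∀ c, Nm c 0 0 c := fun c => by
    obtain ⟨A, hA, hAe⟩ := exists_root hf hM hbb (x := c • as) (by rw [hf.smul_left, hasbs, mul_zero])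
    refine ⟨A, hA, fun y => ?_⟩
    rw [hAe y]
    simp only [hf.smul_left, smul_right hf, haa]
    module
  have hconj : ∀ {α β γ δ} (τ : F), Nm α β γ δ →
      Nm (α + β * τ) β (γ + δ * τ - τ * (α + β * τ)) (δ - τ * β) := by
    rintro α β γ δ τ ⟨m, hm, hme⟩
    obtain ⟨p, hp1, hp2⟩ := hdual (LinearIndependent.pair_symm_iff.1 hIs)
    have hpas : f ((-τ) • p) as = 0 := by rw [hf.smul_left, hp2, mul_zero]
    obtain ⟨E, hE, hEe⟩ := exists_root hf hM haa hpas
    have hiso := isH_preserves hf haa hpas hEe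
    have e1 : (E : Matrix ι ι F) *ᵥ as = as := by
      rw [hEe as, haa, hf.symm as ((-τ) • p), hpas]; module
    have e2 : (E : Matrix ι ι F) *ᵥ bs = bs + τ • as := by
      rw [hEe bs, hbsas, hf.symm bs ((-τ) • p), hf.smul_left (-τ) p bs, hp1]; module
    have f1 : ∀ y, f (((E⁻¹ : GL ι F) : Matrix ι ι F) *ᵥ y) as = f y as := fun y => by
      rw [← hiso, mulVec_inv_mulVec, e1]
    have f2 : ∀ y, f (((E⁻¹ : GL ι F) : Matrix ι ι F) *ᵥ y) bs = f y bs + τ * f y as := fun y => by
      rw [← hiso, mulVec_inv_mulVec, e2, add_right hf, smul_right hf]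
    refine ⟨E * m * E⁻¹, M.mul_mem (M.mul_mem hE hm) (M.inv_mem hE), fun y => ?_⟩
    simp only [mul_mulVec, hme, Matrix.mulVec_add, Matrix.mulVec_smul, mulVec_inv_mulVec, e1, e2, f1, f2]
    module
  have h0 : Nm α β γ δ := ⟨t, htM, fun y => by rw [hte, ea, eb]⟩
  have hβ : β = 0 := by
    have h1 := hzero ((-2) * β) (by
      convert hadd (hadd (hconj 1 h0) (hconj (-1) h0)) (hadd (hneg h0) (hneg h0)) using 1 <;> ring)
    exact (mul_eq_zero.1 h1).resolve_left (neg_ne_zero.2 h2)
  have hδ : δ - α = 0 := hzero _ (by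
    convert hadd (hconj 1 h0) (hneg h0) using 1 <;> rw [hβ] <;> ring)
  have hδ' : δ = α := sub_eq_zero.1 hδ
  have hγ : γ = 0 := hzero _ (by
    convert hadd h0 (hneg (hroot α)) using 1 <;> simp [hβ, hδ'])
  have hiso : ∀ y x, f ((t : Matrix ι ι F) *ᵥ y) ((t : Matrix ι ι F) *ᵥ x) = f y x := fun y x => by
    rw [hte, hte, ea, eb, hβ, hγ, hδ']
    simp only [hf.add_left, add_right hf, hf.smul_left, smul_right hf, haa, hbb, hasbs, hbsas, hf.symm as x,
      hf.symm bs x]
    ring
  have h4 := hiso ((g : Matrix ι ι F) *ᵥ y) ((g : Matrix ι ι F) *ᵥ z)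
  rwa [ht, mul_mulVec, mul_mulVec, mul_mulVec, mul_mulVec, inv_mulVec_mulVec, inv_mulVec_mulVec] at h4

omit hM in
theorem proper : ¬ specialLinear ι F ≤ similarityGroup f := by
  intro hle
  have L := linLeft hf
  obtain ⟨a, ha, -⟩ := exists_aniso hf (Fin.elim0 : Fin 0 → (ι → F)) (by omega)
  obtain ⟨v, hv, hv'⟩ := exists_aniso hf ![a] (by omega)
  have hva : f v a = 0 := by simpa using hv' 0
  have hav : f a v = 0 := by rw [hf.symm, hva]
  have hφ : axisOf f v ⬝ᵥ a = 0 := by rw [L.dot, hav]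
  obtain ⟨e, he⟩ := hle (tvec_mem_specialLinear a (axisOf f v) hφ)
  have h2 := he v a
  simp only [tvec_mulVec, L.dot, hav, zero_smul, add_zero] at h2
  rw [hf.add_left, hf.smul_left, hva, zero_add, mul_zero] at h2
  exact mul_ne_zero hv ha h2

end CfsgLib.Geo.Orth
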