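/-
Eichler (Siegel) transformations of a unitary space in the standard coordinates.
-/
import Cfsg.Agent.Geo.UnitTv

set_option autoImplicit false

namespace CfsgLib.Geo.UTv

open Matrix Cfsg Cfsg.Geo CfsgLib.Geo

variable {n q : ℕ} {F : Type*} [Field F]

local notation "hh" => Cfsg.hermForm n F q

/-- `A` is the map `y ↦ y + h(y,v) x + (s h(y,v) - h(y,x)) v`. -/
def IsEich (q : ℕ) (A : GL (Fin n) F) (v x : Fin n → F) (s : F) : Prop :=
  ∀ y : Fin n → F, (A : Matrix (Fin n) (Fin n) F) *ᵥ y =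
    y + Cfsg.hermForm n F q y v • x + (s * Cfsg.hermForm n F q y v - Cfsg.hermForm n F q y x) • v

lemma IsEich.eq {A B : GL (Fin n) F} {v x : Fin n → F} {s : F} (hA : IsEich q A v x s)
    (hB : IsEich q B v x s) : A = B :=
  gl_ext_mulVec fun y => by rw [hA, hB]

lemma IsEich.conj {A g : GL (Fin n) F} {v x : Fin n → F} {s : F} (hg : g ∈ suGL n F q)
    (hA : IsEich q A v x s) :
    IsEich q (g * A * g⁻¹) ((g : Matrix (Fin n) (Fin n) F) *ᵥ v) ((g : Matrix (Fin n) (Fin n) F) *ᵥ x) s := by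
  intro y
  simp only [mul_mulVec, hA _, Matrix.mulVec_add, Matrix.mulVec_smul, mulVec_inv_mulVec]
  rw [← herm_mulVec hg _ v, ← herm_mulVec hg _ x, mulVec_inv_mulVec]

variable [Finite F] (hF : Nat.card F = q ^ 2)
include hF

lemma exists_eich {v x : Fin n → F} (hv : hh v v = 0) (hxv : hh x v = 0) {s : F}
    (hs : s + s ^ q + hh x x = 0) : ∃ A ∈ suGL n F q, IsEich q A v x s := by
  have hf := isUnitaryForm hF (n := n)
  have hvx : hh v x = 0 := by rw [hf.herm, hxv, map_zero]
  have h1 : axisOf hh v ⬝ᵥ x = 0 := by rw [axisOf_dot, hxv]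
  have h2 : (s • axisOf hh v - axisOf hh x) ⬝ᵥ v = 0 := by
    rw [sub_dotProduct, smul_dotProduct, axisOf_dot, axisOf_dot, hv, hvx, smul_zero, sub_zero]
  have hA : IsEich q (tvec x _ h1 * tvec v _ h2) v x s := fun y => by
    simp only [mul_mulVec, tvec_mulVec, sub_dotProduct, smul_dotProduct, axisOf_dot, hf.add_left, hf.smul_left,
      hv, smul_eq_mul, mul_zero, add_zero]
    module
  refine ⟨_, ⟨fun u w => ?_, Subgroup.mul_mem _ (tvec_mem_specialLinear _ _ _) (tvec_mem_specialLinear _ _ _)⟩, hA⟩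
  change hh (Units.val (tvec x _ h1 * tvec v _ h2) *ᵥ u) _ = _
  rw [hA u, Units.coeHom_apply, hA w]
  simp only [hf.add_left, Unit.add_right hf, hf.smul_left, Unit.smul_right hf, hv, hxv, hvx, map_sub, map_mul,
    ← hf.herm v w, ← hf.herm x w, frobEquiv_apply hF s]
  linear_combination (hh u v * hh v w) * hs

lemma IsEich.mul {A A' : GL (Fin n) F} {v x x' : Fin n → F} {s s' : F} (hv : hh v v = 0) (hx' : hh x' v = 0)
    (hxv : hh x v = 0) (hA : IsEich q A v x s) (hA' : IsEich q A' v x' s') :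
    IsEich q (A * A') v (x + x') (s + s' - hh x' x) := by
  have hf := isUnitaryForm hF (n := n)
  have hvx : hh v x = 0 := by rw [hf.herm, hxv, map_zero]
  intro y
  rw [mul_mulVec, hA' y, hA]
  simp only [hf.add_left, hf.smul_left, Unit.add_right hf, hv, hx', hvx, mul_zero, add_zero]
  module

lemma IsEich.inv {A : GL (Fin n) F} {v x : Fin n → F} {s : F} (hv : hh v v = 0) (hxv : hh x v = 0)
    (hA : IsEich q A v x s) : IsEich q A⁻¹ v (-x) (-s - hh x x) := by
  have hf := isUnitaryForm hF (n := n)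
  have hvx : hh v x = 0 := by rw [hf.herm, hxv, map_zero]
  intro y
  set z := ((A⁻¹ : GL (Fin n) F) : Matrix (Fin n) (Fin n) F) *ᵥ y with hz
  have hy : y = (A : Matrix (Fin n) (Fin n) F) *ᵥ z := by rw [hz, mulVec_inv_mulVec]
  rw [hy, hA z]
  simp only [← neg_one_smul F x, hf.add_left, hf.smul_left, Unit.smul_right hf, hv, hxv, hvx, map_neg, map_one,
    mul_zero, add_zero]
  module

/-- Changing the vector part by a multiple of the centre. -/
lemma IsEich.shift {A : GL (Fin n) F} {v x : Fin n → F} {s : F} (hA : IsEich q A v x s) (c : F) :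
    IsEich q A v (x + c • v) (s - c + c ^ q) := by
  have hf := isUnitaryForm hF (n := n)
  intro y
  rw [hA y, Unit.add_right hf, Unit.smul_right hf, frobEquiv_apply hF]
  module

/-- The vector parts of the Eichler transformations with centre `v` inside `M`. -/
def VP (q : ℕ) (M : Subgroup (GL (Fin n) F)) (v x : Fin n → F) : Prop :=
  Cfsg.hermForm n F q x v = 0 ∧ ∃ A ∈ M, ∃ s, IsEich q A v x s

variable {M : Subgroup (GL (Fin n) F)}

lemma VP.add {v x x' : Fin n → F} (hv : hh v v = 0) (h : VP q M v x) (h' : VP q M v x') : VP q M v (x + x') := by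
  obtain ⟨hx, A, hA, s, hs⟩ := h
  obtain ⟨hx', A', hA', s', hs'⟩ := h'
  exact ⟨by rw [(isUnitaryForm hF).add_left, hx, hx', add_zero], _, M.mul_mem hA hA', _,
    hs.mul hF hv hx' hx hs'⟩

lemma VP.neg {v x : Fin n → F} (hv : hh v v = 0) (h : VP q M v x) : VP q M v (-x) := by
  obtain ⟨hx, A, hA, s, hs⟩ := h
  exact ⟨by rw [← neg_one_smul F x, (isUnitaryForm hF).smul_left, hx, mul_zero], _, M.inv_mem hA, _,
    hs.inv hF hv hx⟩

lemma VP.sub {v x x' : Fin n → F} (hv : hh v v = 0) (h : VP q M v x) (h' : VP q M v x') : VP q M v (x - x') := by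
  rw [sub_eq_add_neg]; exact h.add hF hv (h'.neg hF hv)

lemma VP.shift {v x : Fin n → F} (hv : hh v v = 0) (h : VP q M v x) (c : F) : VP q M v (x + c • v) := by
  obtain ⟨hx, A, hA, s, hs⟩ := h
  exact ⟨by rw [(isUnitaryForm hF).add_left, (isUnitaryForm hF).smul_left, hx, hv, mul_zero, add_zero],
    A, hA, _, hs.shift hF c⟩

lemma VP.centre {v : Fin n → F} (hv : hh v v = 0) (c : F) : VP q M v (c • v) := by
  have h0 : VP q M v 0 :=
    ⟨(LinLeft.zero_left ⟨CfsgLib.Unitary.herm_add_left n, CfsgLib.Unitary.herm_smul_left n⟩ v), 1, M.one_mem, 0,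
      fun y => by
        rw [Units.val_one, Matrix.one_mulVec, Unit.zero_right (isUnitaryForm hF)]
        module⟩
  simpa using h0.shift hF hv c

omit hF [Finite F] in
lemma VP.conj {v x : Fin n → F} (hMI : M ≤ suGL n F q) {g : GL (Fin n) F} (hg : g ∈ M) (h : VP q M v x) :
    VP q M ((g : Matrix (Fin n) (Fin n) F) *ᵥ v) ((g : Matrix (Fin n) (Fin n) F) *ᵥ x) := by
  obtain ⟨hx, A, hA, s, hs⟩ := h
  exact ⟨by rw [herm_mulVec (hMI hg)]; exact hx, _, M.mul_mem (M.mul_mem hg hA) (M.inv_mem hg), s,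
    hs.conj (hMI hg)⟩

/-- All transvections with centre `v` come from commutators of Eichler transformations. -/
lemma full_of_vp {v : Fin n → F} (hv : hh v v = 0)
    (h : ∀ x, hh x v = 0 → VP q M v x) {z w : Fin n → F} (hz : hh z v = 0) (hw : hh w v = 0)
    (hzw : hh z w = 1) : Full q M v := by
  have hf := isUnitaryForm hF (n := n)
  refine full_of_mem hF hv fun c hc => ?_
  obtain ⟨t, ht⟩ := Unit.exists_trace_one hf.ne_refl hf.involutive
  set l := -c * t with hl
  have hcl : frobEquiv hF l - l = c := by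
    have h1 : frobEquiv hF c = -c := by rw [frobEquiv_apply]; linear_combination hc
    rw [hl, map_mul, map_neg, h1]
    linear_combination c * ht
  clear_value l
  obtain ⟨-, A, hA, s, hs⟩ := h z hz
  obtain ⟨hwv, A', hA', s', hs'⟩ := h (l • w) (by rw [hf.smul_left, hw, mul_zero])
  have h1 := hs.mul hF hv hwv hz hs'
  have h3 := hs'.mul hF hv hz hwv hs
  rw [Unit.smul_right hf, hzw, mul_one] at h3
  rw [hf.smul_left, hf.herm w z, hzw, map_one, mul_one] at h1
  have hm := M.mul_mem (M.mul_mem hA hA') (M.inv_mem (M.mul_mem hA' hA))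
  suffices A * A' * (A' * A)⁻¹ = tvec v (uax q v c) (uax_dot_self hv c) by rwa [this] at hm
  rw [mul_inv_eq_iff_eq_mul]
  refine gl_ext_mulVec fun y => ?_
  rw [h1, mul_mulVec (tvec v _ _), utv_mulVec hF hv, h3, ← hcl]
  simp only [hf.add_left, hf.smul_left, hv, hw, hz, mul_zero, add_zero, Unit.add_right hf]
  module

omit hF [Finite F] in
/-- Equality up to the centre of transvection centres. -/
private lemma aux_line {v y : Fin n → F} (c : F) : y + c • v + (-c) • v = y := by module

/-- All isotropic vectors are full once a centre with all Eichler transformations and a full vector not orthogonal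
to it are present. -/
theorem full_all_of_vp (hMI : M ≤ suGL n F q) {v u : Fin n → F} (hvF : Full q M v)
    (huF : Full q M u) (huv : hh u v ≠ 0) (h : ∀ x, hh x v = 0 → VP q M v x) :
    ∀ y, hh y y = 0 → Full q M y := by
  have hf := isUnitaryForm hF (n := n)
  set β := hh u v
  have hfar : ∀ y, hh y y = 0 → hh y v ≠ 0 → Full q M y := by
    intro y hy hyv
    set c := β / hh y v
    set x := β⁻¹ • (c • y - u) with hx
    have hxv : hh x v = 0 := by
      rw [hx, hf.smul_left, sub_eq_add_neg, ← neg_one_smul F u, hf.add_left, hf.smul_left, hf.smul_left,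
        div_mul_cancel₀ _ hyv]
      ring
    obtain ⟨-, A, hA, s, hs⟩ := h x hxv
    have h1 := full_conj hF hMI huF hA
    rw [hs u, show hh u v = β from rfl, show u + β • x = c • y by
      rw [hx, smul_smul, mul_inv_cancel₀ huv, one_smul, add_sub_cancel]] at h1
    set d := s * β - hh u x
    have hcy : Full q M (c • y) := by
      have h2 := full_add_smul hF hMI hvF h1
        (by rw [hf.add_left, hf.smul_left, hf.smul_left, hvF.1, mul_zero, add_zero]
            exact mul_ne_zero (div_ne_zero huv hyv) hyv)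
        (-d) (by rw [aux_line, hf.smul_left, Unit.smul_right hf, hy, mul_zero, mul_zero])
      rwa [aux_line] at h2
    have h3 := full_smul hF hcy c⁻¹
    rwa [smul_smul, inv_mul_cancel₀ (div_ne_zero huv hyv), one_smul] at h3
  intro y hy
  by_cases hyv : hh y v = 0
  swap
  · exact hfar y hy hyv
  have hv0 : v ≠ 0 := fun e => huv (by simp only [β, e, Unit.zero_right hf])
  by_cases hmem : y ∈ F ∙ v
  · obtain ⟨c, rfl⟩ := Submodule.mem_span_singleton.1 hmem
    exact full_smul hF hvF c
  obtain ⟨p, hpv, hpy⟩ := Unit.exists_f_eq hf hmem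
  obtain ⟨r, hr⟩ : ∃ r, hh v r = 1 := by
    obtain ⟨r, hr⟩ := (hf.nondegenerate v hv0).2
    exact ⟨(frobEquiv hF).symm (hh v r)⁻¹ • r, by
      rw [Unit.smul_right hf, RingEquiv.apply_symm_apply, inv_mul_cancel₀ hr]⟩
  -- a vector meeting both
  set p' := p + ((frobEquiv hF).symm (1 - hh v p)) • r with hp'
  have hp'v : hh v p' = 1 := by
    rw [hp', Unit.add_right hf, Unit.smul_right hf, hr, RingEquiv.apply_symm_apply, hpv]; ring
  obtain ⟨p'', hp''v, hp''y⟩ : ∃ p'', hh v p'' ≠ 0 ∧ hh y p'' ≠ 0 := by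
    by_cases h0 : hh y p' = 0
    · refine ⟨p' + p, ?_, ?_⟩
      · rw [Unit.add_right hf, hp'v, hpv, add_zero]; exact one_ne_zero
      · rw [Unit.add_right hf, h0, hpy, zero_add]; exact one_ne_zero
    · exact ⟨p', by rw [hp'v]; exact one_ne_zero, h0⟩
  obtain ⟨t, ht⟩ := Unit.exists_isotropic_add hf hvF.1 (v := p'') hp''v
  set y0 := p'' + t • v with hy0
  have h0v : hh y0 v ≠ 0 := by
    rw [hy0, hf.add_left, hf.smul_left, hvF.1, mul_zero, add_zero, hf.herm, Ne, map_eq_zero]
    exact hp''v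
  have h0y : hh y0 y ≠ 0 := by
    rw [hy0, hf.add_left, hf.smul_left, hf.herm v y, hyv, map_zero, mul_zero, add_zero, hf.herm, Ne, map_eq_zero]
    exact hp''y
  obtain ⟨cc, hcc0, hcc⟩ := Unit.exists_skew hf.ne_refl hf.involutive
  set c := cc / hh y0 y with hc
  have hz : hh (y + c • y0) (y + c • y0) = 0 := by
    simp only [hf.add_left, Unit.add_right hf, hf.smul_left, Unit.smul_right hf, hy, ht]
    rw [hf.herm y y0, ← map_mul, hc, div_mul_cancel₀ _ h0y, hcc]
    ring
  have hzv : hh (y + c • y0) v ≠ 0 := by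
    rw [hf.add_left, hf.smul_left, hyv, zero_add]
    exact mul_ne_zero (div_ne_zero hcc0 h0y) h0v
  have h2 := full_add_smul hF hMI (hfar y0 ht h0v) (hfar _ hz hzv)
    (by rw [hf.add_left, hf.smul_left, ht, mul_zero, add_zero, hf.herm, Ne, map_eq_zero]; exact h0y)
    (-c) (by rw [aux_line]; exact hy)
  rwa [aux_line] at h2

theorem suGL_le_of_vp (hn : 4 ≤ n) (hMI : M ≤ suGL n F q) {v u : Fin n → F} (hvF : Full q M v)
    (huF : Full q M u) (huv : hh u v ≠ 0) (h : ∀ x, hh x v = 0 → VP q M v x) : suGL n F q ≤ M :=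
  suGL_le_of_full hF hn (full_all_of_vp hF hMI hvF huF huv h)

end CfsgLib.Geo.UTv
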