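/-
Monomial matrices, and groups containing all monomial matrices over a field with at least five elements: one
element outside the monomial group yields an elementary transvection.
-/
import Cfsg.Agent.Geo.Transvection

set_option autoImplicit false

namespace CfsgLib.Geo.Mono

open Matrix Cfsg Cfsg.Geo

variable {κ : Type} [Fintype κ] [DecidableEq κ] {F : Type*} [Field F]


/-- Column `j` has its only non-zero entry in row `π j`. -/
def IsMonoAt (g : GL κ F) (π : Equiv.Perm κ) : Prop :=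
  ∀ i j, i ≠ π j → (g : Matrix κ κ F) i j = 0

/-- The monomial group. -/
def monomialGroup (κ : Type) [Fintype κ] [DecidableEq κ] (F : Type*) [Field F] : Subgroup (GL κ F) where
  carrier := {g | ∃ π, IsMonoAt g π}
  mul_mem' {a b} := by
    rintro ⟨σ, hσ⟩ ⟨τ, hτ⟩
    refine ⟨τ.trans σ, fun i j hij => ?_⟩
    rw [Units.val_mul, Matrix.mul_apply, Finset.sum_eq_single (τ j) (fun k _ hk => by rw [hτ k j hk, mul_zero])
      (by simp), hσ i (τ j) hij, zero_mul]
  one_mem' := ⟨1, fun i j hij => by simpa [Matrix.one_apply] using hij⟩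
  inv_mem' {a} := by
    rintro ⟨σ, hσ⟩
    refine ⟨σ.symm, fun i j hij => ?_⟩
    have h : ((a : Matrix κ κ F) * ((a⁻¹ : GL κ F) : Matrix κ κ F)) (σ i) j = (1 : Matrix κ κ F) (σ i) j := by
      rw [← Units.val_mul, mul_inv_cancel, Units.val_one]
    rw [Matrix.mul_apply, Finset.sum_eq_single i
      (fun k _ hk => by rw [hσ (σ i) k (fun e => hk (σ.injective e).symm), zero_mul]) (by simp),
      Matrix.one_apply_ne (fun e => hij (by rw [← e, Equiv.symm_apply_apply]))] at h
    refine (mul_eq_zero.1 h).resolve_left fun h0 => ?_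
    have hcol : (a : Matrix κ κ F) *ᵥ Pi.single i 1 = 0 := by
      funext k
      rw [Matrix.mulVec_single_one]
      by_cases hk : k = σ i
      · rw [hk]; exact h0
      · exact hσ k i hk
    have := congrArg (fun x => ((a⁻¹ : GL κ F) : Matrix κ κ F) *ᵥ x) hcol
    simp only [inv_mulVec_mulVec, Matrix.mulVec_zero] at this
    exact one_ne_zero (Pi.single_eq_zero_iff.1 this)

lemma mem_monomialGroup {g : GL κ F} : g ∈ monomialGroup κ F ↔ ∃ π, IsMonoAt g π := Iff.rfl

/-- Columns with at most one non-zero entry make a monomial matrix. -/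
lemma mem_of_columns {g : GL κ F} (h : ∀ j i k, (g : Matrix κ κ F) i j ≠ 0 → (g : Matrix κ κ F) k j ≠ 0 → i = k) :
    g ∈ monomialGroup κ F := by
  have hne : ∀ j, ∃ i, (g : Matrix κ κ F) i j ≠ 0 := by
    intro j
    by_contra hall
    push Not at hall
    have h0 : (g : Matrix κ κ F) *ᵥ Pi.single j 1 = 0 := funext fun i => by
      rw [Matrix.mulVec_single_one]; exact hall i
    have := congrArg (fun x => ((g⁻¹ : GL κ F) : Matrix κ κ F) *ᵥ x) h0
    simp only [inv_mulVec_mulVec, Matrix.mulVec_zero] at this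
    exact one_ne_zero (Pi.single_eq_zero_iff.1 this)
  choose π hπ using hne
  have hz : ∀ i j, i ≠ π j → (g : Matrix κ κ F) i j = 0 := fun i j hij => by
    by_contra hc
    exact hij (h j i _ hc (hπ j))
  have hinj : Function.Injective π := by
    intro j k hjk
    by_contra hne
    have e : ∀ l, (g : Matrix κ κ F) *ᵥ Pi.single l 1 = (g : Matrix κ κ F) (π l) l • Pi.single (π l) 1 := fun l => by
      funext i
      rw [Matrix.mulVec_single_one]
      by_cases hi : i = π l
      · subst hi; simp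
      · simp [hz i l hi, hi]
    have h1 : (g : Matrix κ κ F) *ᵥ ((g : Matrix κ κ F) (π k) k • Pi.single j 1) =
        (g : Matrix κ κ F) *ᵥ ((g : Matrix κ κ F) (π j) j • Pi.single k 1) := by
      rw [Matrix.mulVec_smul, Matrix.mulVec_smul, e, e, smul_smul, smul_smul, hjk, mul_comm]
    have h2 := congrFun (congrArg (fun x => ((g⁻¹ : GL κ F) : Matrix κ κ F) *ᵥ x) h1) j
    simp [inv_mulVec_mulVec, hne, hπ k] at h2
  exact ⟨Equiv.ofBijective π (Finite.injective_iff_bijective.1 hinj), hz⟩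

lemma exists_two_of_notMem {g : GL κ F} (h : g ∉ monomialGroup κ F) :
    ∃ j i k, i ≠ k ∧ (g : Matrix κ κ F) i j ≠ 0 ∧ (g : Matrix κ κ F) k j ≠ 0 := by
  by_contra hc
  push Not at hc
  exact h (mem_of_columns fun j i k hi hk => by_contra fun hik => hk (hc j i k hik hi))

/-- The monomial matrix `e_j ↦ c_j e_{π j}`. -/
def mon (π : Equiv.Perm κ) (c : κ → Fˣ) : GL κ F where
  val := Matrix.of fun i j => if i = π j then (c j : F) else 0
  inv := Matrix.of fun i j => if π i = j then ((c i)⁻¹ : Fˣ).val else 0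
  val_inv := by
    ext i j
    rw [Matrix.mul_apply, Finset.sum_eq_single (π.symm i) (fun k _ hk => by
      rw [Matrix.of_apply, if_neg (fun e => hk (by rw [e, Equiv.symm_apply_apply])), zero_mul]) (by simp)]
    by_cases hij : i = j
    · subst hij; simp
    · simp [hij]
  inv_val := by
    ext i j
    rw [Matrix.mul_apply, Finset.sum_eq_single (π i) (fun k _ hk => by
      rw [Matrix.of_apply, if_neg (Ne.symm hk), zero_mul]) (by simp)]
    by_cases hij : i = j
    · subst hij; simp
    · simp [π.injective.eq_iff, hij]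

lemma mon_apply (π : Equiv.Perm κ) (c : κ → Fˣ) (i j : κ) :
    (mon π c : Matrix κ κ F) i j = if i = π j then (c j : F) else 0 := rfl

lemma mon_mem (π : Equiv.Perm κ) (c : κ → Fˣ) : mon π c ∈ monomialGroup κ F :=
  ⟨π, fun i j h => by rw [mon_apply, if_neg h]⟩

lemma mon_mulVec (π : Equiv.Perm κ) (c : κ → Fˣ) (x : κ → F) (j : κ) :
    ((mon π c : Matrix κ κ F) *ᵥ x) (π j) = (c j : F) * x j := by
  rw [Matrix.mulVec, dotProduct, Finset.sum_eq_single j (fun k _ hk => by
    rw [mon_apply, if_neg (fun e => hk (π.injective e).symm), zero_mul]) (by simp), mon_apply, if_pos rfl]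

lemma vecMul_mon (π : Equiv.Perm κ) (c : κ → Fˣ) (φ : κ → F) (j : κ) :
    (φ ᵥ* (mon π c : Matrix κ κ F)) j = φ (π j) * (c j : F) := by
  rw [Matrix.vecMul, dotProduct, Finset.sum_eq_single (π j) (fun k _ hk => by
    rw [mon_apply, if_neg hk, mul_zero]) (by simp), mon_apply, if_pos rfl]

lemma det_mon (π : Equiv.Perm κ) (c : κ → Fˣ) :
    (mon π c : Matrix κ κ F).det = ((Equiv.Perm.sign π : ℤ) : F) * ∏ j, (c j : F) := by
  have : (mon π c : Matrix κ κ F) = π⁻¹.permMatrix F * Matrix.diagonal (fun j => (c j : F)) := by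
    ext i j
    rw [Matrix.mul_diagonal, mon_apply]
    by_cases h : i = π j
    · subst h; simp [Equiv.Perm.permMatrix, PEquiv.toMatrix_apply, Equiv.Perm.inv_def]
    · have h' : π.symm i ≠ j := fun e => h (by rw [← e, Equiv.apply_symm_apply])
      simp [Equiv.Perm.permMatrix, PEquiv.toMatrix_apply, Equiv.Perm.inv_def, h, h']
  rw [this, Matrix.det_mul, Matrix.det_permutation, Matrix.det_diagonal, Equiv.Perm.sign_inv]

/-- The diagonal matrix with entries `c`. -/
def torus (c : κ → Fˣ) : GL κ F := mon 1 c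

lemma torus_mulVec (c : κ → Fˣ) (x : κ → F) (j : κ) :
    ((torus c : Matrix κ κ F) *ᵥ x) j = (c j : F) * x j := mon_mulVec 1 c x j

lemma vecMul_torus (c : κ → Fˣ) (φ : κ → F) (j : κ) :
    (φ ᵥ* (torus c : Matrix κ κ F)) j = φ j * (c j : F) := vecMul_mon 1 c φ j

lemma torus_mem (c : κ → Fˣ) : torus c ∈ monomialGroup κ F := mon_mem 1 c

lemma mul_torus_apply (c : κ → Fˣ) (g : GL κ F) (i j : κ) :
    ((g * torus c : GL κ F) : Matrix κ κ F) i j = (g : Matrix κ κ F) i j * (c j : F) := by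
  rw [Units.val_mul]; exact vecMul_torus c ((g : Matrix κ κ F) i) j

lemma torus_mul_apply (c : κ → Fˣ) (g : GL κ F) (i j : κ) :
    ((torus c * g : GL κ F) : Matrix κ κ F) i j = (c i : F) * (g : Matrix κ κ F) i j := by
  rw [Units.val_mul]; exact torus_mulVec c (fun l => (g : Matrix κ κ F) l j) i

lemma torus_inv (c : κ → Fˣ) : (torus c)⁻¹ = torus c⁻¹ := by
  refine inv_eq_of_mul_eq_one_right (Units.ext ?_)
  ext i j
  rw [torus_mul_apply, torus, mon_apply, Equiv.Perm.one_apply]
  by_cases hij : i = j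
  · subst hij; simp
  · simp [hij]

/-- The pseudo-reflection scaling coordinate `i` by `s`. -/
def scaleAt (i : κ) (s : Fˣ) : GL κ F := torus (Function.update 1 i s)

lemma scaleAt_apply (i : κ) (s : Fˣ) (a b : κ) :
    (scaleAt i s : Matrix κ κ F) a b = (1 : Matrix κ κ F) a b + ((s : F) - 1) * (Pi.single i 1 : κ → F) a *
      (Pi.single i 1 : κ → F) b := by
  rw [scaleAt, torus, mon_apply, Equiv.Perm.one_apply, Matrix.one_apply]
  by_cases hab : a = b
  · subst hab
    by_cases hai : a = i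
    · subst hai; simp
    · simp [Function.update_of_ne hai, hai]
  · by_cases hai : a = i
    · subst hai; simp [hab, Ne.symm hab]
    · simp [hab, hai]

/-- A conjugate of a pseudo-reflection. -/
lemma conj_scaleAt_apply (z : GL κ F) (i : κ) (s : Fˣ) (a b : κ) :
    ((z⁻¹ * scaleAt i s * z : GL κ F) : Matrix κ κ F) a b = (1 : Matrix κ κ F) a b +
      ((s : F) - 1) * ((z⁻¹ : GL κ F) : Matrix κ κ F) a i * (z : Matrix κ κ F) i b := by
  have hP : (scaleAt i s : Matrix κ κ F) =
      1 + ((s : F) - 1) • vecMulVec (Pi.single i 1) (Pi.single i 1) := by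
    ext a b
    simp [scaleAt_apply, vecMulVec_apply, mul_assoc]
  rw [Units.val_mul, Units.val_mul, hP, mul_add, mul_one, add_mul, ← Units.val_mul, inv_mul_cancel,
    Units.val_one, Matrix.mul_smul, Matrix.smul_mul, Matrix.mul_vecMulVec, Matrix.vecMulVec_mul,
    Matrix.add_apply, Matrix.smul_apply, vecMulVec_apply, Matrix.mulVec_single_one, Matrix.single_one_vecMul]
  simp [Matrix.row, Matrix.col, mul_assoc]

lemma rank_one_refl (z : GL κ F) (i : κ) :
    ∑ j, ((z⁻¹ : GL κ F) : Matrix κ κ F) j i * (z : Matrix κ κ F) i j = 1 := by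
  have : ((z : Matrix κ κ F) * ((z⁻¹ : GL κ F) : Matrix κ κ F)) i i = 1 := by
    rw [← Units.val_mul, mul_inv_cancel, Units.val_one, Matrix.one_apply_eq]
  rw [← this, Matrix.mul_apply]
  exact Finset.sum_congr rfl fun j _ => mul_comm _ _

/-- A field with five elements or more has a unit with square not one. -/
lemma exists_sq_ne_one [Fintype F] (hq : 5 ≤ Fintype.card F) : ∃ s : Fˣ, (s : F) ^ 2 ≠ 1 ∧ (s : F) ≠ 1 := by
  classical
  by_contra h
  push Not at h
  have hsub : (Finset.univ : Finset F) ⊆ {0, 1, -1} := fun x _ => by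
    rcases eq_or_ne x 0 with rfl | h0
    · simp
    · by_cases h2 : x ^ 2 = 1
      · rcases sq_eq_one_iff.1 h2 with e | e <;> simp [e]
      · have := h (Units.mk0 x h0) h2; simp at this; simp [this]
  have := (Finset.card_le_card hsub).trans Finset.card_le_three
  rw [Finset.card_univ] at this
  omega

variable {N : Subgroup (GL κ F)}

/-- Inside a group containing the monomial group, rows follow fixed columns unless a root element is present. -/
lemma row_eq_of_noRoot (hN : monomialGroup κ F ≤ N) {s : Fˣ} (hs : (s : F) ≠ 1)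
    (hroot : ∀ b j (c : F), b ≠ j → c ≠ 0 → ¬ HasTv N (Pi.single b 1) (Pi.single j c))
    {y : GL κ F} (hy : y ∈ N) {b : κ} (hb : ∀ i, (y : Matrix κ κ F) i b = (1 : Matrix κ κ F) i b)
    {j : κ} (hj : j ≠ b) : (y : Matrix κ κ F) b j = 0 := by
  by_contra hne
  set ψ : κ → F := fun i => if i = b then 0 else ((s : F) - 1) * (y : Matrix κ κ F) b i with hψ
  set P := scaleAt b s with hPdef
  have hP : P ∈ N := hN (torus_mem _)
  have hPy : ((P * y * P⁻¹ : GL κ F) : Matrix κ κ F) = (y : Matrix κ κ F) + vecMulVec (Pi.single b 1) ψ := by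
    ext i k
    rw [hPdef, scaleAt, torus_inv, mul_torus_apply, torus_mul_apply, Matrix.add_apply, vecMulVec_apply]
    by_cases hi : i = b <;> by_cases hk : k = b
    · subst hi hk
      simp [hψ, hb]
    · subst hi
      simp [hψ, hk, Function.update_of_ne hk]
      ring
    · subst hk
      simp [hψ, hi, hb, Function.update_of_ne hi]
    · simp [hi, hk, Function.update_of_ne hi, Function.update_of_ne hk]
  set ψ' := ψ ᵥ* ((y⁻¹ : GL κ F) : Matrix κ κ F) with hψ'
  have hyb : (y : Matrix κ κ F) *ᵥ Pi.single b 1 = Pi.single b 1 := by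
    funext i
    rw [Matrix.mulVec_single_one]
    exact (hb i).trans (by by_cases h : i = b <;> simp [h, Matrix.one_apply])
  have hd : ψ' ⬝ᵥ (Pi.single b 1 : κ → F) = 0 := by
    conv_lhs => rw [← hyb]
    rw [hψ', ← Matrix.dotProduct_mulVec, inv_mulVec_mulVec, dotProduct_single_one]
    simp [hψ]
  have hu : HasTv N (Pi.single b 1) ψ' := by
    refine ⟨hd, ?_⟩
    have e : tvec (Pi.single b 1) ψ' hd = P * y * P⁻¹ * y⁻¹ := by
      refine Units.ext ?_
      rw [tvec_val, Units.val_mul, hPy, add_mul, ← Units.val_mul, mul_inv_cancel, Units.val_one,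
        Matrix.vecMulVec_mul]
    rw [e]; exact N.mul_mem (N.mul_mem (N.mul_mem hP hy) (N.inv_mem hP)) (N.inv_mem hy)
  have hψ'0 : ψ' ≠ 0 := fun h => by
    have h2 := congrArg (fun φ => (φ ᵥ* (y : Matrix κ κ F)) j) h
    simp only [hψ', Matrix.vecMul_vecMul, ← Units.val_mul, inv_mul_cancel, Units.val_one, Matrix.vecMul_one,
      Matrix.zero_vecMul, hψ, if_neg hj, Pi.zero_apply] at h2
    exact hne ((mul_eq_zero.1 h2).resolve_left (sub_ne_zero.2 hs))
  obtain ⟨k, hk⟩ := Function.ne_iff.1 hψ'0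
  have hkb : k ≠ b := by rintro rfl; exact hk (by rw [Pi.zero_apply, ← hd, dotProduct_single_one])
  have h2 := hu.conj (g := (scaleAt k s)⁻¹) (N.inv_mem (hN (torus_mem _)))
  rw [inv_inv] at h2
  have e1 : ((scaleAt k s)⁻¹ : GL κ F).val *ᵥ (Pi.single b 1 : κ → F) = Pi.single b 1 := by
    funext i
    rw [scaleAt, torus_inv, torus_mulVec]
    by_cases hi : i = b
    · subst hi; simp [Function.update_of_ne (Ne.symm hkb)]
    · simp [hi]
  rw [e1] at h2
  have e2 : ψ' ᵥ* (scaleAt k s : Matrix κ κ F) - ψ' = Pi.single k (ψ' k * ((s : F) - 1)) := by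
    funext i
    rw [Pi.sub_apply, scaleAt, vecMul_torus]
    by_cases hi : i = k
    · subst hi; simp; ring
    · simp [Function.update_of_ne hi, hi]
  exact hroot b k _ (Ne.symm hkb) (mul_ne_zero hk (sub_ne_zero.2 hs)) (e2 ▸ h2.sub_axis hu)

/-- Without root elements, the products of a column with the matching row of the inverse are constant. -/
lemma invariant (hN : monomialGroup κ F ≤ N) {s : Fˣ} (hs : (s : F) ≠ 1)
    (hroot : ∀ b j (c : F), b ≠ j → c ≠ 0 → ¬ HasTv N (Pi.single b 1) (Pi.single j c))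
    {z : GL κ F} (hz : z ∈ N) (b : κ) :
    (∀ k, (z : Matrix κ κ F) k b = 0 → ((z⁻¹ : GL κ F) : Matrix κ κ F) b k = 0) ∧
      ∀ i k, (z : Matrix κ κ F) i b ≠ 0 → (z : Matrix κ κ F) k b ≠ 0 →
        (z : Matrix κ κ F) i b * ((z⁻¹ : GL κ F) : Matrix κ κ F) b i =
          (z : Matrix κ κ F) k b * ((z⁻¹ : GL κ F) : Matrix κ κ F) b k := by
  set v := (z : Matrix κ κ F) *ᵥ Pi.single b 1 with hv
  set χ := ((z⁻¹ : GL κ F) : Matrix κ κ F) b with hχ
  have hv' : ∀ k, v k = (z : Matrix κ κ F) k b := fun k => by rw [hv, Matrix.mulVec_single_one]; rfl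
  have key : ∀ x ∈ monomialGroup κ F, (x : Matrix κ κ F) *ᵥ v = v → ∀ k, (χ ᵥ* (x : Matrix κ κ F)) k = χ k := by
    intro x hx hxv k
    have hy : z⁻¹ * x * z ∈ N := N.mul_mem (N.mul_mem (N.inv_mem hz) (hN hx)) hz
    have hyb : ∀ i, ((z⁻¹ * x * z : GL κ F) : Matrix κ κ F) i b = (1 : Matrix κ κ F) i b := by
      intro i
      have e : ((z⁻¹ * x * z : GL κ F) : Matrix κ κ F) *ᵥ Pi.single b 1 = Pi.single b 1 := by
        rw [mul_mulVec, mul_mulVec, ← hv, hxv, hv, inv_mulVec_mulVec]
      have := congrFun e i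
      rw [Matrix.mulVec_single_one] at this
      exact this.trans (by by_cases h : i = b <;> simp [h, Matrix.one_apply])
    have hrow : ∀ j, ((z⁻¹ * x * z : GL κ F) : Matrix κ κ F) b j = (1 : Matrix κ κ F) b j := fun j => by
      by_cases hj : j = b
      · rw [hj]; exact hyb b
      · rw [row_eq_of_noRoot hN hs hroot hy hyb hj, Matrix.one_apply_ne (Ne.symm hj)]
    have h2 : ((z⁻¹ * x * z : GL κ F) : Matrix κ κ F) b ᵥ* ((z⁻¹ : GL κ F) : Matrix κ κ F) =
        (1 : Matrix κ κ F) b ᵥ* ((z⁻¹ : GL κ F) : Matrix κ κ F) := by rw [show _ = (1 : Matrix κ κ F) b from funext hrow]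
    have h3 := congrFun h2 k
    change (((z⁻¹ * x * z : GL κ F) : Matrix κ κ F) * ((z⁻¹ : GL κ F) : Matrix κ κ F)) b k =
      ((1 : Matrix κ κ F) * ((z⁻¹ : GL κ F) : Matrix κ κ F)) b k at h3
    rw [← Units.val_mul, mul_assoc, mul_inv_cancel, mul_one, one_mul, Units.val_mul] at h3
    exact h3
  constructor
  · intro k hk
    have hfix : (scaleAt k s : Matrix κ κ F) *ᵥ v = v := funext fun i => by
      rw [scaleAt, torus_mulVec]
      by_cases hi : i = k
      · subst hi; rw [hv', hk, mul_zero]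
      · simp [Function.update_of_ne hi]
    have := key _ (torus_mem _) hfix k
    rw [vecMul_torus, Function.update_self] at this
    have h0 : χ k * ((s : F) - 1) = 0 := by rw [mul_sub, this, mul_one, sub_self]
    exact (mul_eq_zero.1 h0).resolve_right (sub_ne_zero.2 hs)
  · intro i k hi hk
    rcases eq_or_ne i k with rfl | hik
    · rfl
    rw [← hv'] at hi hk
    let c : κ → Fˣ := fun j => if j = i then Units.mk0 (v k / v i) (div_ne_zero hk hi)
      else if j = k then Units.mk0 (v i / v k) (div_ne_zero hi hk) else 1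
    have hci : (c i : F) = v k / v i := by simp [c]
    have hck : (c k : F) = v i / v k := by simp [c, Ne.symm hik]
    have hfix : (mon (Equiv.swap i k) c : Matrix κ κ F) *ᵥ v = v := funext fun l => by
      conv_lhs => rw [← Equiv.apply_symm_apply (Equiv.swap i k) l]
      rw [mon_mulVec, Equiv.symm_swap]
      rcases eq_or_ne l i with rfl | hli
      · rw [Equiv.swap_apply_left, hck, div_mul_cancel₀ _ hk]
      rcases eq_or_ne l k with rfl | hlk
      · rw [Equiv.swap_apply_right, hci, div_mul_cancel₀ _ hi]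
      rw [Equiv.swap_apply_of_ne_of_ne hli hlk]
      simp [c, hli, hlk]
    have := key _ (mon_mem _ _) hfix i
    rw [vecMul_mon, Equiv.swap_apply_left, hci, ← mul_div_assoc, div_eq_iff hi] at this
    rw [← hv', ← hv']
    change v i * χ i = v k * χ k
    rw [mul_comm (v i), mul_comm (v k), this]

lemma invariant_ne_zero (hN : monomialGroup κ F ≤ N) {s : Fˣ} (hs : (s : F) ≠ 1)
    (hroot : ∀ b j (c : F), b ≠ j → c ≠ 0 → ¬ HasTv N (Pi.single b 1) (Pi.single j c))
    {z : GL κ F} (hz : z ∈ N) {b k : κ} (hk : (z : Matrix κ κ F) k b ≠ 0) :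
    ((z⁻¹ : GL κ F) : Matrix κ κ F) b k ≠ 0 := by
  intro h0
  obtain ⟨hsupp, hprod⟩ := invariant hN hs hroot hz b
  have h1 : (((z⁻¹ : GL κ F) : Matrix κ κ F) * (z : Matrix κ κ F)) b b = 1 := by
    rw [← Units.val_mul, inv_mul_cancel, Units.val_one, Matrix.one_apply_eq]
  rw [Matrix.mul_apply, Finset.sum_eq_zero] at h1
  · exact zero_ne_one h1
  intro i _
  by_cases hi : (z : Matrix κ κ F) i b = 0
  · rw [hi, mul_zero]
  · rw [mul_comm, hprod i k hi hk, h0, mul_zero]

/-- The equations left when a conjugated pseudo-reflection has two coordinates. -/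
lemma refl_equation (hN : monomialGroup κ F ≤ N) {s : Fˣ} (hs : (s : F) ≠ 1)
    (hroot : ∀ b j (c : F), b ≠ j → c ≠ 0 → ¬ HasTv N (Pi.single b 1) (Pi.single j c))
    {z : GL κ F} (hz : z ∈ N) {i b k : κ} (hbk : b ≠ k) {ρ : F}
    (hb : ((z⁻¹ : GL κ F) : Matrix κ κ F) b i * (z : Matrix κ κ F) i b = ρ)
    (hk : ((z⁻¹ : GL κ F) : Matrix κ κ F) k i * (z : Matrix κ κ F) i k = ρ) (hρ : ρ ≠ 0) (t : Fˣ)
    (ht : (t : F) ≠ 1) :
    1 + ((t : F) - 1) * ρ = 0 ∨ ((t : F) - 1) * ((t : F)⁻¹ - 1) * ρ = 1 := by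
  rw [or_iff_not_imp_left]
  intro hne
  set y := z⁻¹ * scaleAt i t * z with hy
  have hyN : y ∈ N := N.mul_mem (N.mul_mem (N.inv_mem hz) (hN (torus_mem _))) hz
  have hyinv : y⁻¹ = z⁻¹ * scaleAt i t⁻¹ * z := by
    have e : (scaleAt i t : GL κ F)⁻¹ = scaleAt i t⁻¹ := by
      rw [scaleAt, torus_inv, scaleAt]
      congr 1
      funext j
      by_cases hj : j = i
      · subst hj; simp
      · simp [Function.update_of_ne hj]
    rw [hy, _root_.mul_inv_rev, _root_.mul_inv_rev, inv_inv, e, mul_assoc]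
  obtain ⟨-, hprod⟩ := invariant hN hs hroot hyN b
  have hpk : ((z⁻¹ : GL κ F) : Matrix κ κ F) k i ≠ 0 := fun h => hρ (by rw [← hk, h, zero_mul])
  have hfb : (z : Matrix κ κ F) i b ≠ 0 := fun h => hρ (by rw [← hb, h, mul_zero])
  have e := hprod b k
    (by rw [hy, conj_scaleAt_apply, Matrix.one_apply_eq, mul_assoc, hb]; exact hne)
    (by rw [hy, conj_scaleAt_apply, Matrix.one_apply_ne (Ne.symm hbk), zero_add]
        exact mul_ne_zero (mul_ne_zero (sub_ne_zero.2 ht) hpk) hfb)
  rw [hyinv, hy, conj_scaleAt_apply, conj_scaleAt_apply, conj_scaleAt_apply, conj_scaleAt_apply,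
    Matrix.one_apply_eq, Matrix.one_apply_ne hbk, Matrix.one_apply_ne (Ne.symm hbk), zero_add, zero_add,
    mul_assoc, hb, mul_assoc ((t⁻¹ : Fˣ) - 1 : F), hb, Units.val_inv_eq_inv_val] at e
  have ht0 : (t : F) * (t : F)⁻¹ = 1 := mul_inv_cancel₀ t.ne_zero
  have e' : (1 + ((t : F) - 1) * ρ) * (1 + ((t : F)⁻¹ - 1) * ρ) =
      ((t : F) - 1) * ((t : F)⁻¹ - 1) * ρ * ρ := by
    rw [e]
    linear_combination (((t : F) - 1) * ((t : F)⁻¹ - 1) * ρ) * hb +
      (((t : F) - 1) * ((t : F)⁻¹ - 1) * ((z⁻¹ : GL κ F) : Matrix κ κ F) b i * (z : Matrix κ κ F) i b) * hk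
  linear_combination (-1 : F) * e' + ρ * ht0

/-- The product of two conjugated pseudo-reflections. -/
lemma two_refl (p φ p' φ' : κ → F) (σ τ : F) (i j : κ) :
    ((1 + σ • vecMulVec p φ) * (1 + τ • vecMulVec p' φ') : Matrix κ κ F) i j =
      (1 : Matrix κ κ F) i j + σ * p i * φ j + τ * p' i * φ' j + σ * τ * (φ ⬝ᵥ p') * p i * φ' j := by
  rw [add_mul, one_mul, mul_add, mul_one, Matrix.smul_mul, Matrix.mul_smul, Matrix.vecMulVec_mul_vecMulVec]
  simp only [Matrix.add_apply, Matrix.smul_apply, vecMulVec_apply, Pi.smul_apply, smul_eq_mul]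
  ring

variable [Fintype F]

/-- Over at least five elements, a group properly containing the monomial group contains a root element. -/
theorem exists_root (hq : 5 ≤ Fintype.card F) (hκ : 3 ≤ Fintype.card κ) (hN : monomialGroup κ F ≤ N)
    {g : GL κ F} (hg : g ∈ N) (hgM : g ∉ monomialGroup κ F) :
    ∃ b j, b ≠ j ∧ ∃ c : F, c ≠ 0 ∧ HasTv N (Pi.single b 1) (Pi.single j c) := by
  classical
  by_contra hcon
  push Not at hcon
  have hroot : ∀ b j (c : F), b ≠ j → c ≠ 0 → ¬ HasTv N (Pi.single b 1) (Pi.single j c) :=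
    fun b j c hbj hc => hcon b j hbj c hc
  obtain ⟨s, -, hs⟩ := exists_sq_ne_one hq
  obtain ⟨i, b, k, hbk, hb0, hk0⟩ := exists_two_of_notMem (fun h => hgM (inv_inv g ▸ inv_mem h) :
    g⁻¹ ∉ monomialGroup κ F)
  set z := g
  have hzi : z⁻¹ ∈ N := N.inv_mem hg
  obtain ⟨hsupp, hprod⟩ := invariant hN hs hroot hzi i
  rw [inv_inv] at hsupp hprod
  set p : κ → F := fun l => ((z⁻¹ : GL κ F) : Matrix κ κ F) l i with hp
  set φ : κ → F := fun l => (z : Matrix κ κ F) i l with hφ
  set ρ := p b * φ b with hρdef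
  have hρk : ∀ l, p l ≠ 0 → p l * φ l = ρ := fun l hl => hprod l b hl hb0
  have hρ : ρ ≠ 0 := by
    have := invariant_ne_zero hN hs hroot hzi hb0
    rw [inv_inv] at this
    exact mul_ne_zero hb0 this
  have heq := fun t ht => refl_equation hN hs hroot hg hbk (rfl : p b * φ b = ρ) (hρk k hk0) hρ t ht
  by_cases h7 : 6 ≤ Fintype.card F
  · let S1 : Finset F := Finset.univ.filter fun x => x ≠ 0 ∧ x ≠ 1 ∧ (x - 1) * (x⁻¹ - 1) * ρ = 1
    have hsub : (Finset.univ : Finset F) ⊆ {0, 1, 1 - ρ⁻¹} ∪ S1 := by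
      intro x _
      rcases eq_or_ne x 0 with rfl | h0
      · simp
      rcases eq_or_ne x 1 with rfl | h1
      · simp
      rcases heq (Units.mk0 x h0) h1 with h | h <;> simp only [Units.val_mk0] at h
      · have : x = 1 - ρ⁻¹ := mul_right_cancel₀ hρ (by rw [sub_mul, inv_mul_cancel₀ hρ]; linear_combination h)
        simp [this]
      · simp [S1, hρdef, h0, h1, h]
    have hS1 : S1.card ≤ 2 := by
      rcases S1.eq_empty_or_nonempty with he | ⟨x, hx⟩
      · rw [he]; simp
      · refine (Finset.card_le_card (t := {x, x⁻¹}) fun y hy => ?_).trans Finset.card_le_two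
        simp only [S1, Finset.mem_filter, Finset.mem_univ, true_and] at hx hy
        have hxy : (y - x) * (y * x - 1) = 0 := by
          have h1 := mul_inv_cancel₀ hx.1
          have h2 := mul_inv_cancel₀ hy.1
          have e : ((x - 1) * (x⁻¹ - 1) - (y - 1) * (y⁻¹ - 1)) * ρ = 0 := by linear_combination hx.2.2 - hy.2.2
          have e' := (mul_eq_zero.1 e).resolve_right hρ
          linear_combination (x * y) * e' + (y - x * y) * h1 - (x - x * y) * h2
        rcases mul_eq_zero.1 hxy with h | h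
        · simp [sub_eq_zero.1 h]
        · simp [eq_inv_of_mul_eq_one_left (sub_eq_zero.1 h)]
    have h4 := Finset.card_le_card hsub
    rw [Finset.card_univ] at h4
    have h5 := Finset.card_union_le ({0, 1, 1 - ρ⁻¹} : Finset F) S1
    have h6 := Finset.card_le_three (a := (0 : F)) (b := 1) (c := 1 - ρ⁻¹)
    omega
  have hq5 : Fintype.card F = 5 := by omega
  have h5 : (5 : F) = 0 := by
    have := FiniteField.cast_card_eq_zero F
    rw [hq5] at this; exact_mod_cast this
  have h20 : (2 : F) ≠ 0 := fun h => one_ne_zero (α := F) (by linear_combination h5 - 2 * h)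
  have h30 : (3 : F) ≠ 0 := fun h => h20 (by linear_combination h5 - h)
  have h21 : (2 : F) ≠ 1 := fun h => one_ne_zero (α := F) (by linear_combination h)
  have h31 : (3 : F) ≠ 1 := fun h => h20 (by linear_combination h)
  have i2 : (2 : F)⁻¹ = 3 := inv_eq_of_mul_eq_one_right (by linear_combination h5)
  have i3 : (3 : F)⁻¹ = 2 := inv_eq_of_mul_eq_one_right (by linear_combination h5)
  have hρ3 : ρ = 3 := by
    have e2 := heq (Units.mk0 2 h20) h21
    have e3 := heq (Units.mk0 3 h30) h31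
    simp only [Units.val_mk0, i2, i3] at e2 e3
    rcases e2 with a | a
    · rcases e3 with a' | a'
      · exact absurd (show (1 : F) = 0 by linear_combination (2 : F) * a - a') one_ne_zero
      · linear_combination (3 : F) * a' - ρ * h5
    · linear_combination (3 : F) * a - ρ * h5
  -- the two available conjugates
  have hy : ∀ t : Fˣ, ((z⁻¹ * scaleAt i t * z : GL κ F) : Matrix κ κ F) =
      1 + ((t : F) - 1) • vecMulVec p φ := fun t => by
    ext a c
    rw [conj_scaleAt_apply, Matrix.add_apply, Matrix.smul_apply, vecMulVec_apply]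
    simp [p, φ, mul_assoc]
  have hy' : ∀ (D : GL κ F) (t : Fˣ), ((D * (z⁻¹ * scaleAt i t * z) * D⁻¹ : GL κ F) : Matrix κ κ F) =
      1 + ((t : F) - 1) • vecMulVec ((D : Matrix κ κ F) *ᵥ p) (φ ᵥ* ((D⁻¹ : GL κ F) : Matrix κ κ F)) :=
    fun D t => by
      rw [Units.val_mul, Units.val_mul, hy, mul_add, mul_one, add_mul, ← Units.val_mul, mul_inv_cancel,
        Units.val_one, Matrix.mul_smul, Matrix.smul_mul, Matrix.mul_vecMulVec, Matrix.vecMulVec_mul]
  have hyN : ∀ t : Fˣ, z⁻¹ * scaleAt i t * z ∈ N := fun t =>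
    N.mul_mem (N.mul_mem hzi (hN (torus_mem _))) hg
  have hpφ : φ ⬝ᵥ p = 1 := by
    rw [dotProduct, ← rank_one_refl z i]
    exact Finset.sum_congr rfl fun l _ => mul_comm _ _
  have inv2 : ∀ (t : Fˣ), (z⁻¹ * scaleAt i t * z)⁻¹ = z⁻¹ * scaleAt i t⁻¹ * z := fun t => by
    have e : (scaleAt i t : GL κ F)⁻¹ = scaleAt i t⁻¹ := by
      rw [scaleAt, torus_inv, scaleAt]
      congr 1
      funext j
      by_cases hj : j = i
      · subst hj; simp
      · simp [Function.update_of_ne hj]
    rw [_root_.mul_inv_rev, _root_.mul_inv_rev, inv_inv, e, mul_assoc]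
  by_cases hz0 : ∃ j, p j = 0
  · -- move one coordinate outside
    obtain ⟨j, hj⟩ := hz0
    have hjb : j ≠ b := fun h => hb0 (by rw [← h]; exact hj)
    have hjk : j ≠ k := fun h => hk0 (by rw [← h]; exact hj)
    set D : GL κ F := mon (Equiv.swap k j) 1 with hD
    have hDinv : D⁻¹ = mon (Equiv.swap k j) 1 := by
      refine inv_eq_of_mul_eq_one_right (gl_ext_mulVec fun x => funext fun l => ?_)
      rw [hD, mul_mulVec]
      conv_lhs => rw [← Equiv.apply_symm_apply (Equiv.swap k j) l]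
      rw [mon_mulVec]
      conv_lhs => rw [← Equiv.apply_symm_apply (Equiv.swap k j) ((Equiv.swap k j).symm l)]
      rw [mon_mulVec]
      simp [Equiv.symm_swap]
    set p' := (D : Matrix κ κ F) *ᵥ p with hp'
    set φ' := φ ᵥ* ((D⁻¹ : GL κ F) : Matrix κ κ F) with hφ'
    have hp'v : ∀ l, p' l = p (Equiv.swap k j l) := fun l => by
      rw [hp', hD]
      conv_lhs => rw [← Equiv.apply_symm_apply (Equiv.swap k j) l]
      rw [mon_mulVec]; simp [Equiv.symm_swap]
    have hφ'v : ∀ l, φ' l = φ (Equiv.swap k j l) := fun l => by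
      rw [hφ', hDinv, vecMul_mon]; simp
    have hφj : φ j = 0 := hsupp j hj
    have hd1 : φ ⬝ᵥ p' = 1 - ρ := by
      have : φ ⬝ᵥ p' - φ ⬝ᵥ p = -ρ := by
        rw [dotProduct, dotProduct, ← Finset.sum_sub_distrib, Finset.sum_eq_single k]
        · rw [hp'v, Equiv.swap_apply_left, hj, mul_zero, zero_sub, mul_comm, hρk k hk0]
        · intro l _ hl
          rcases eq_or_ne l j with rfl | hlj
          · rw [hφj]; ring
          · rw [hp'v, Equiv.swap_apply_of_ne_of_ne hl hlj]; ring
        · simp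
      linear_combination this + hpφ
    have hd2 : φ' ⬝ᵥ p = 1 - ρ := by
      rw [← hd1, dotProduct, dotProduct, ← Equiv.sum_comp (Equiv.swap k j)]
      exact Finset.sum_congr rfl fun l _ => by rw [hφ'v, hp'v, Equiv.swap_apply_self]
    set u := (z⁻¹ * scaleAt i (Units.mk0 2 h20) * z) * (D * (z⁻¹ * scaleAt i (Units.mk0 3 h30) * z) * D⁻¹)
      with hu
    have huN : u ∈ N := N.mul_mem (hyN _) (N.mul_mem (N.mul_mem (hN (mon_mem _ _)) (hyN _))
      (N.inv_mem (hN (mon_mem _ _))))
    have huval : ∀ a c, (u : Matrix κ κ F) a c = (1 : Matrix κ κ F) a c + 1 * p a * φ c + 2 * p' a * φ' c +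
        1 * 2 * (1 - ρ) * p a * φ' c := fun a c => by
      rw [hu, Units.val_mul, hy, hy', two_refl, ← hp', ← hφ', hd1, Units.val_mk0, Units.val_mk0]
      ring
    have huinv : ∀ a c, ((u⁻¹ : GL κ F) : Matrix κ κ F) a c = (1 : Matrix κ κ F) a c + 1 * p' a * φ' c +
        2 * p a * φ c + 1 * 2 * (1 - ρ) * p' a * φ c := fun a c => by
      rw [hu, _root_.mul_inv_rev, _root_.mul_inv_rev (D * _), _root_.mul_inv_rev D, inv_inv, inv2, inv2, ← mul_assoc D, Units.val_mul, hy', hy,
        two_refl, ← hp', ← hφ', hd2]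
      simp only [Units.val_inv_eq_inv_val, Units.val_mk0, i2, i3]
      ring
    have hbb : p' b = p b ∧ φ' b = φ b := by
      rw [hp'v, hφ'v, Equiv.swap_apply_of_ne_of_ne hbk (Ne.symm hjb)]; exact ⟨rfl, rfl⟩
    have hjj : p' j = p k ∧ φ' j = φ k := by
      rw [hp'v, hφ'v, Equiv.swap_apply_right]; exact ⟨rfl, rfl⟩
    obtain ⟨-, hpr⟩ := invariant hN hs hroot huN b
    have hub : (u : Matrix κ κ F) b b = 3 := by
      rw [huval, Matrix.one_apply_eq, hbb.1, hbb.2]
      linear_combination (3 + 2 * (1 - ρ)) * hρdef.symm + (-2 * ρ - 1) * hρ3 + (-1 : F) * h5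
    have huj : (u : Matrix κ κ F) j b = 2 * p k * φ b := by
      rw [huval, Matrix.one_apply_ne hjb, hj, hjj.1, hbb.2]; ring
    have huib : ((u⁻¹ : GL κ F) : Matrix κ κ F) b b = 3 := by
      rw [huinv, Matrix.one_apply_eq, hbb.1, hbb.2]
      linear_combination (3 + 2 * (1 - ρ)) * hρdef.symm + (-2 * ρ - 1) * hρ3 + (-1 : F) * h5
    have huij : ((u⁻¹ : GL κ F) : Matrix κ κ F) b j = p b * φ k := by
      rw [huinv, Matrix.one_apply_ne (Ne.symm hjb), hφj, hbb.1, hjj.2]; ring
    have h2 := hpr b j (by rw [hub]; exact h30)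
      (by rw [huj]; exact mul_ne_zero (mul_ne_zero h20 hk0) (fun h => hρ (by rw [hρdef, h, mul_zero])))
    rw [hub, huib, huj, huij] at h2
    refine one_ne_zero (α := F) ?_
    linear_combination h2 + 2 * (p b * φ b) * hρk k hk0 + 2 * ρ * hρdef.symm + 2 * (ρ + 3) * hρ3 +
      2 * h5
  · -- rescale one coordinate
    push Not at hz0
    obtain ⟨l, hlb, hlk⟩ : ∃ l, l ≠ b ∧ l ≠ k := by
      by_contra h
      push Not at h
      have : (Finset.univ : Finset κ) ⊆ {b, k} := fun l _ => by
        by_cases hl : l = b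
        · simp [hl]
        · simp [h l hl]
      have := (Finset.card_le_card this).trans Finset.card_le_two
      rw [Finset.card_univ] at this
      omega
    set D : GL κ F := scaleAt k (-1) with hD
    have hDinv : D⁻¹ = scaleAt k (-1) := by
      rw [hD, scaleAt, torus_inv]
      congr 1
      funext j'
      by_cases h : j' = k
      · subst h; simp
      · simp [Function.update_of_ne h]
    set p' := (D : Matrix κ κ F) *ᵥ p with hp'
    set φ' := φ ᵥ* ((D⁻¹ : GL κ F) : Matrix κ κ F) with hφ'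
    have hp'v : ∀ l, p' l = if l = k then -p l else p l := fun l => by
      rw [hp', hD, scaleAt, torus_mulVec]
      by_cases h : l = k
      · subst h; simp
      · simp [Function.update_of_ne h, h]
    have hφ'v : ∀ l, φ' l = if l = k then -φ l else φ l := fun l => by
      rw [hφ', hDinv, scaleAt, vecMul_torus]
      by_cases h : l = k
      · subst h; simp
      · simp [Function.update_of_ne h, h]
    have hd1 : φ ⬝ᵥ p' = 0 := by
      have : φ ⬝ᵥ p' - φ ⬝ᵥ p = -2 * ρ := by
        rw [dotProduct, dotProduct, ← Finset.sum_sub_distrib, Finset.sum_eq_single k]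
        · rw [hp'v, if_pos rfl]; linear_combination (-2 : F) * hρk k hk0
        · intro m _ hm; rw [hp'v, if_neg hm]; ring
        · simp
      linear_combination this + hpφ + (-2 : F) * hρ3 + (-1 : F) * h5
    have hd2 : φ' ⬝ᵥ p = 0 := by
      rw [← hd1, dotProduct, dotProduct]
      exact Finset.sum_congr rfl fun m _ => by rw [hφ'v, hp'v]; split_ifs <;> ring
    set u := (z⁻¹ * scaleAt i (Units.mk0 2 h20) * z) * (D * (z⁻¹ * scaleAt i (Units.mk0 2 h20) * z) * D⁻¹)
      with hu
    have huN : u ∈ N := N.mul_mem (hyN _) (N.mul_mem (N.mul_mem (hN (torus_mem _)) (hyN _))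
      (N.inv_mem (hN (torus_mem _))))
    have huval : ∀ a c, (u : Matrix κ κ F) a c = (1 : Matrix κ κ F) a c + p a * φ c + p' a * φ' c :=
      fun a c => by
      rw [hu, Units.val_mul, hy, hy', two_refl, ← hp', ← hφ', hd1, Units.val_mk0]
      ring
    have huinv : ∀ a c, ((u⁻¹ : GL κ F) : Matrix κ κ F) a c = (1 : Matrix κ κ F) a c + 2 * p' a * φ' c +
        2 * p a * φ c := fun a c => by
      rw [hu, _root_.mul_inv_rev, _root_.mul_inv_rev (D * _), _root_.mul_inv_rev D, inv_inv, inv2, ← mul_assoc D, Units.val_mul, hy', hy,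
        two_refl, ← hp', ← hφ', hd2]
      simp only [Units.val_inv_eq_inv_val, Units.val_mk0, i2]
      ring
    obtain ⟨-, hpr⟩ := invariant hN hs hroot huN b
    have hub : (u : Matrix κ κ F) b b = 2 := by
      rw [huval, Matrix.one_apply_eq, hp'v, hφ'v, if_neg hbk, if_neg hbk]
      linear_combination (2 : F) * hρdef.symm + (2 : F) * hρ3 + h5
    have huib : ((u⁻¹ : GL κ F) : Matrix κ κ F) b b = 3 := by
      rw [huinv, Matrix.one_apply_eq, hp'v, hφ'v, if_neg hbk, if_neg hbk]
      linear_combination (4 : F) * hρdef.symm + (4 : F) * hρ3 + (2 : F) * h5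
    have hul : (u : Matrix κ κ F) l b = 2 * p l * φ b := by
      rw [huval, Matrix.one_apply_ne hlb, hp'v, hφ'v, if_neg hlk, if_neg hbk]; ring
    have huil : ((u⁻¹ : GL κ F) : Matrix κ κ F) b l = 4 * p b * φ l := by
      rw [huinv, Matrix.one_apply_ne (Ne.symm hlb), hp'v, hφ'v, if_neg hbk, if_neg hlk]; ring
    have h2 := hpr b l (by rw [hub]; exact h20)
      (by rw [hul]; exact mul_ne_zero (mul_ne_zero h20 (hz0 l)) fun h => hρ (by rw [hρdef, h, mul_zero]))
    rw [hub, huib, hul, huil] at h2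
    refine one_ne_zero (α := F) ?_
    linear_combination (-1 : F) * h2 + (-8 : F) * (p b * φ b) * hρk l (hz0 l) + (-8 : F) * ρ * hρdef.symm +
      (-8 : F) * (ρ + 3) * hρ3 + (-13 : F) * h5

end CfsgLib.Geo.Mono
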