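/-
Quasi-reflections of a unitary space and transitivity inside a non-degenerate subspace.
-/
import Cfsg.Agent.Geo.UnitTv
import Cfsg.Agent.Geo.UnitSubspace
import Cfsg.Agent.Unitary.Decompose

set_option autoImplicit false

namespace CfsgLib.Geo.UTv

open Matrix Cfsg Cfsg.Geo CfsgLib.Geo

variable {n q : ℕ} {F : Type*} [Field F] [Finite F] (hF : Nat.card F = q ^ 2)

local notation "⟪" x ", " y "⟫" => Cfsg.hermForm n F q x y

/-- The condition for `x ↦ x + k ⟪x, u⟫ u` to be an isometry. -/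
def IsQPair (n q : ℕ) (F : Type*) [Field F] (u : Fin n → F) (k : F) : Prop :=
  k + k ^ q + k * k ^ q * Cfsg.hermForm n F q u u = 0

lemma det_qref (u : Fin n → F) (k : F) :
    (1 + vecMulVec u (uax q u k)).det = 1 + k * ⟪u, u⟫ := by
  rw [det_one_add_vecMulVec, smul_dotProduct, axisOf_dot, smul_eq_mul]

include hF

lemma herm_self_pow (x : Fin n → F) : ⟪x, x⟫ ^ q = ⟪x, x⟫ :=
  (CfsgLib.Unitary.herm_swap hF x x).symm

lemma one_add_ne_zero {u : Fin n → F} {k : F} (hk : IsQPair n q F u k) : 1 + k * ⟪u, u⟫ ≠ 0 := by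
  intro h
  have h1 : (1 + k * ⟪u, u⟫) * (1 + k * ⟪u, u⟫) ^ q = 1 := by
    rw [CfsgLib.Forms.add_pow_q hF, one_pow, mul_pow, herm_self_pow hF]
    unfold IsQPair at hk
    linear_combination ⟪u, u⟫ * hk
  rw [h, zero_mul] at h1
  exact zero_ne_one h1

/-- The quasi-reflection `x ↦ x + k ⟪x, u⟫ u`. -/
noncomputable def qref (u : Fin n → F) (k : F) (hk : IsQPair n q F u k) : GL (Fin n) F :=
  Matrix.GeneralLinearGroup.mkOfDetNeZero (1 + vecMulVec u (uax q u k))
    (by rw [det_qref]; exact one_add_ne_zero hF hk)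

lemma qref_mulVec {u : Fin n → F} {k : F} (hk : IsQPair n q F u k) (x : Fin n → F) :
    (qref hF u k hk : Matrix (Fin n) (Fin n) F) *ᵥ x = x + (k * ⟪x, u⟫) • u := by
  change (1 + vecMulVec u (uax q u k)) *ᵥ x = _
  rw [Matrix.add_mulVec, Matrix.one_mulVec, Matrix.vecMulVec_mulVec, op_smul_eq_smul, smul_dotProduct,
    axisOf_dot, smul_eq_mul]

lemma qref_det {u : Fin n → F} {k : F} (hk : IsQPair n q F u k) :
    (qref hF u k hk : Matrix (Fin n) (Fin n) F).det = 1 + k * ⟪u, u⟫ :=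
  det_qref u k

lemma qref_mem {u : Fin n → F} {k : F} (hk : IsQPair n q F u k) : qref hF u k hk ∈ Cfsg.GU n F q := by
  rw [mem_GU]
  intro x y
  have hf := isUnitaryForm hF (n := n)
  simp only [qref_mulVec, hf.add_left, Unit.add_right hf, hf.smul_left, Unit.smul_right hf, frobEquiv_apply,
    mul_pow]
  rw [← CfsgLib.Unitary.herm_swap hF y u]
  unfold IsQPair at hk
  linear_combination (⟪x, u⟫ * ⟪u, y⟫) * hk

lemma qref_fix {u : Fin n → F} {k : F} (hk : IsQPair n q F u k) {x : Fin n → F} (hx : ⟪x, u⟫ = 0) :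
    (qref hF u k hk : Matrix (Fin n) (Fin n) F) *ᵥ x = x := by
  rw [qref_mulVec hF hk, hx, mul_zero, zero_smul, add_zero]

/-! ### Groups moving only one subspace -/

omit hF in
/-- Isometries fixing the orthogonal of `W` pointwise and mapping `W` to itself. -/
def blockGU (q : ℕ) (W : Submodule F (Fin n → F)) : Subgroup (GL (Fin n) F) where
  carrier := {g | g ∈ Cfsg.GU n F q ∧ ∀ x, (g : Matrix (Fin n) (Fin n) F) *ᵥ x - x ∈ W ∧
    (x ∈ perp q W → (g : Matrix (Fin n) (Fin n) F) *ᵥ x = x)}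
  one_mem' := ⟨one_mem _, fun x => by simp⟩
  mul_mem' {g k} hg hk := ⟨mul_mem hg.1 hk.1, fun x => by
    refine ⟨?_, fun hx => ?_⟩
    · rw [mul_mulVec]
      have := W.add_mem (hg.2 ((k : Matrix (Fin n) (Fin n) F) *ᵥ x)).1 (hk.2 x).1
      rwa [sub_add_sub_cancel] at this
    · rw [mul_mulVec, (hk.2 x).2 hx, (hg.2 x).2 hx]⟩
  inv_mem' {g} hg := ⟨inv_mem hg.1, fun x => by
    refine ⟨?_, fun hx => ?_⟩
    · have := W.neg_mem (hg.2 (((g⁻¹ : GL (Fin n) F) : Matrix (Fin n) (Fin n) F) *ᵥ x)).1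
      rwa [mulVec_inv_mulVec, neg_sub] at this
    · conv_lhs => rw [← (hg.2 x).2 hx]
      rw [inv_mulVec_mulVec]⟩

lemma qref_mem_block {W : Submodule F (Fin n → F)} {u : Fin n → F} (hu : u ∈ W) {k : F}
    (hk : IsQPair n q F u k) : qref hF u k hk ∈ blockGU q W :=
  ⟨qref_mem hF hk, fun x => ⟨by rw [qref_mulVec hF hk, add_sub_cancel_left]; exact W.smul_mem _ hu,
    fun hx => qref_fix hF hk (hx u hu)⟩⟩

omit hF in
lemma blockGU_mono {W V : Submodule F (Fin n → F)} (h : W ≤ V) : blockGU q W ≤ blockGU q V :=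
  fun _ hg => ⟨hg.1, fun x => ⟨h (hg.2 x).1, fun hx => (hg.2 x).2 fun w hw => hx w (h hw)⟩⟩

omit hF in
lemma block_mem_self {W : Submodule F (Fin n → F)} {g : GL (Fin n) F} (hg : g ∈ blockGU q W) {x : Fin n → F}
    (hx : x ∈ W) : (g : Matrix (Fin n) (Fin n) F) *ᵥ x ∈ W := by
  have := W.add_mem (hg.2 x).1 hx
  rwa [sub_add_cancel] at this

/-- A reflection with a prescribed multiplier on an anisotropic vector. -/
lemma exists_refl {W : Submodule F (Fin n → F)} {u : Fin n → F} (hu : u ∈ W) (hu0 : ⟪u, u⟫ ≠ 0) {l : F}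
    (hl : l * l ^ q = 1) : ∃ g ∈ blockGU q W, (g : Matrix (Fin n) (Fin n) F).det = l ∧
      ∀ x, (g : Matrix (Fin n) (Fin n) F) *ᵥ x = x + ((l - 1) / ⟪u, u⟫ * ⟪x, u⟫) • u := by
  have hk : IsQPair n q F u ((l - 1) / ⟪u, u⟫) := by
    rw [IsQPair, div_pow, herm_self_pow hF, ← frobEquiv_apply hF (l - 1), map_sub, map_one, frobEquiv_apply]
    field_simp
    linear_combination hl
  refine ⟨qref hF u _ hk, qref_mem_block hF hu hk, ?_, qref_mulVec hF hk⟩
  rw [qref_det hF hk, div_mul_cancel₀ _ hu0]; ring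

/-- A unit of norm one that is not real. -/
lemma exists_norm_one : ∃ l : F, l * l ^ q = 1 ∧ l ^ q ≠ l := by
  by_contra hcon
  push Not at hcon
  have hq := CfsgLib.Forms.two_le_q hF
  haveI := Fintype.ofFinite F
  classical
  have h1 := CfsgLib.Forms.card_norm_fiber hF (μ := 1) one_ne_zero (one_pow q)
  have h2 : ∀ x : {x : F // x ^ (q + 1) = 1}, (x : F) * x = 1 := fun x => by
    have h := x.2
    rw [pow_succ'] at h
    rwa [hcon _ h] at h
  have h3 : Nat.card {x : F // x ^ (q + 1) = 1} ≤ 2 := by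
    rw [Nat.card_eq_fintype_card, Fintype.card_subtype]
    refine (Finset.card_le_card (t := {1, -1}) fun x hx => ?_).trans Finset.card_le_two
    simp only [Finset.mem_filter, Finset.mem_univ, true_and] at hx
    rcases mul_self_eq_one_iff.1 (h2 ⟨x, hx⟩) with h | h
    · exact Finset.mem_insert.2 (Or.inl h)
    · exact Finset.mem_insert.2 (Or.inr (Finset.mem_singleton.2 h))
  omega

/-! ### Non-degenerate subspaces -/

section nondeg

variable {W : Submodule F (Fin n → F)} (hW : IsNondegenerateOn (Cfsg.hermForm n F q) W)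
include hW

/-- An anisotropic vector of `W` orthogonal to one vector. -/
lemma exists_aniso_perp {w : Fin n → F} (hw : w ∈ W)
    (hd : (3 ≤ Module.finrank F W) ∨ (⟪w, w⟫ ≠ 0 ∧ 2 ≤ Module.finrank F W)) :
    ∃ z ∈ W, ⟪z, w⟫ = 0 ∧ ⟪z, z⟫ ≠ 0 := by
  by_contra hcon
  push Not at hcon
  have hf := isUnitaryForm hF (n := n)
  let L : W →ₗ[F] F := ((Unit.linLeft hf).toLin w).comp W.subtype
  have hL : ∀ z : W, L z = ⟪(z : Fin n → F), w⟫ := fun z => rfl
  let T : Submodule F (Fin n → F) := (LinearMap.ker L).map W.subtype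
  have hTmem : ∀ x, x ∈ T ↔ x ∈ W ∧ ⟪x, w⟫ = 0 := fun x =>
    ⟨fun ⟨z, hz, e⟩ => e ▸ ⟨z.2, (hL z).symm.trans (LinearMap.mem_ker.1 hz)⟩,
      fun h => ⟨⟨x, h.1⟩, LinearMap.mem_ker.2 ((hL ⟨x, h.1⟩).trans h.2), rfl⟩⟩
  have hT1 : Module.finrank F W ≤ Module.finrank F T + 1 := by
    have h1 := L.finrank_range_add_finrank_ker
    have h2 := Submodule.finrank_le (LinearMap.range L)
    rw [Module.finrank_self] at h2
    rw [Submodule.finrank_map_subtype_eq]
    omega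
  have hzero := Unit.eq_zero_of_totally_isotropic hf (T := T) fun t ht =>
    hcon t ((hTmem t).1 ht).1 ((hTmem t).1 ht).2
  have hsub : T ≤ F ∙ w := by
    intro t ht
    by_contra htw
    obtain ⟨y, hy, hty⟩ := exists_form_of_notMem hF (F ∙ w) htw
    obtain ⟨a, ha, hya⟩ := exists_split hF hW y
    have h1 : ∀ z ∈ W, ⟪y - a, z⟫ = 0 := hya
    have haw : ⟪a, w⟫ = 0 := by
      have := h1 w hw
      rw [CfsgLib.Unitary.herm_sub_left hF, hy w (Submodule.mem_span_singleton_self w), zero_sub,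
        neg_eq_zero] at this
      exact this
    have h2 := hzero t ht a ((hTmem a).2 ⟨ha, haw⟩)
    have h3 : ⟪t, y - a⟫ = 0 := by rw [hf.herm, h1 t ((hTmem t).1 ht).1, map_zero]
    rw [CfsgLib.Unitary.herm_sub_right hF, hty, h2, sub_zero] at h3
    exact one_ne_zero h3
  rcases hd with hd | ⟨hw0, hd⟩
  · have h1 := Submodule.finrank_mono hsub
    have h2 : Module.finrank F (F ∙ w) ≤ 1 := (finrank_span_le_card ({w} : Set (Fin n → F))).trans (by simp)
    omega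
  · obtain ⟨t, ht, ht0⟩ := (Submodule.ne_bot_iff T).1 fun e => by rw [e, finrank_bot] at hT1; omega
    obtain ⟨c, rfl⟩ := Submodule.mem_span_singleton.1 (hsub ht)
    have h1 := ((hTmem _).1 ht).2
    rw [hf.smul_left] at h1
    exact hw0 ((mul_eq_zero.1 h1).resolve_left fun h => ht0 (by rw [h, zero_smul]))

/-- A vector with prescribed product with `x` and prescribed length. -/
lemma exists_prod_length (hd : 2 ≤ Module.finrank F W) {x : Fin n → F} (hx : x ∈ W) (hx0 : x ≠ 0)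
    (κ : F) {c : F} (hc : c ^ q = c) (h : κ ≠ 0 ∨ 3 ≤ Module.finrank F W) :
    ∃ u ∈ W, ⟪x, u⟫ = κ ∧ ⟪u, u⟫ = c := by
  have hf := isUnitaryForm hF (n := n)
  have hnorm : ∀ {z : Fin n → F}, z ∈ W → ⟪z, z⟫ ≠ 0 → ∀ d : F, d ^ q = d →
      ∃ a : F, ⟪a • z, a • z⟫ = d := by
    intro z _ hz d hd'
    obtain ⟨a, ha⟩ := Unit.exists_norm_eq hf.ne_refl hf.involutive (t := d / ⟪z, z⟫)
      (by rw [map_div₀, Unit.sigma_self hf, frobEquiv_apply, hd'])
    exact ⟨a, by rw [hf.smul_left, Unit.smul_right hf, ← mul_assoc, ha, div_mul_cancel₀ _ hz]⟩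
  by_cases hν : ⟪x, x⟫ = 0
  · rcases eq_or_ne κ 0 with rfl | hκ
    · obtain ⟨z, hz, hzx, hz0⟩ := exists_aniso_perp hF hW hx (Or.inl (h.resolve_left (by simp)))
      obtain ⟨a, ha⟩ := hnorm hz hz0 c hc
      exact ⟨a • z, W.smul_mem a hz, by rw [hf.herm, hf.smul_left, hzx, mul_zero, map_zero], ha⟩
    · obtain ⟨-, y, hy, hxy⟩ := hW x hx hx0
      obtain ⟨z, hz, hxz⟩ : ∃ z ∈ W, ⟪x, z⟫ = κ := ⟨(κ / ⟪x, y⟫) ^ q • y, W.smul_mem _ hy, by
        rw [Unit.smul_right hf, frobEquiv_apply, CfsgLib.Forms.pow_q_q hF, div_mul_cancel₀ _ hxy]⟩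
      have ht : (c - ⟪z, z⟫) ^ q = c - ⟪z, z⟫ := by
        rw [← frobEquiv_apply hF, map_sub, frobEquiv_apply, frobEquiv_apply, hc, herm_self_pow hF]
      obtain ⟨a, ha⟩ := CfsgLib.Unitary.exists_trace_eq hF ht
      refine ⟨z + (a / κ) • x, W.add_mem hz (W.smul_mem _ hx), ?_, ?_⟩
      · rw [Unit.add_right hf, Unit.smul_right hf, hxz, hν, mul_zero, add_zero]
      · simp only [hf.add_left, Unit.add_right hf, hf.smul_left, Unit.smul_right hf, frobEquiv_apply, hν, hxz,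
          mul_zero, add_zero]
        rw [CfsgLib.Unitary.herm_swap hF x z, hxz, div_pow, div_mul_cancel₀ _ hκ,
          div_mul_cancel₀ _ (pow_ne_zero _ hκ)]
        linear_combination ha
  · obtain ⟨z, hz, hzx, hz0⟩ := exists_aniso_perp hF hW hx (Or.inr ⟨hν, hd⟩)
    obtain ⟨a, ha⟩ := hnorm hz hz0 (c - κ * κ ^ q / ⟪x, x⟫) (by
      rw [← frobEquiv_apply hF, map_sub, map_div₀, map_mul]
      simp only [frobEquiv_apply, hc, herm_self_pow hF, CfsgLib.Forms.pow_q_q hF]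
      ring)
    have hxa : ⟪x, a • z⟫ = 0 := by rw [hf.herm, hf.smul_left, hzx, mul_zero, map_zero]
    refine ⟨(κ / ⟪x, x⟫) ^ q • x + a • z, W.add_mem (W.smul_mem _ hx) (W.smul_mem _ hz), ?_, ?_⟩
    · rw [Unit.add_right hf, Unit.smul_right hf, frobEquiv_apply, CfsgLib.Forms.pow_q_q hF, hxa, add_zero,
        div_mul_cancel₀ _ hν]
    · simp only [hf.add_left, Unit.add_right hf]
      have hax : ⟪a • z, x⟫ = 0 := by rw [hf.smul_left, hzx, mul_zero]
      rw [hf.smul_left ((κ / ⟪x, x⟫) ^ q) x ((κ / ⟪x, x⟫) ^ q • x), Unit.smul_right hf _ x x,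
        hf.smul_left ((κ / ⟪x, x⟫) ^ q) x (a • z), hxa, Unit.smul_right hf _ (a • z) x, hax, ha,
        frobEquiv_apply, CfsgLib.Forms.pow_q_q hF, div_pow, herm_self_pow hF]
      field_simp
      ring

/-- Vectors of equal non-zero length in `W` are joined by isometries of determinant one. -/
lemma exists_map_vec (hd : 2 ≤ Module.finrank F W) {w w' : Fin n → F} (hw : w ∈ W) (hw' : w' ∈ W)
    (he : ⟪w, w⟫ = ⟪w', w'⟫) (h0 : ⟪w, w⟫ ≠ 0) :
    ∃ g ∈ blockGU q W, (g : Matrix (Fin n) (Fin n) F).det = 1 ∧ (g : Matrix (Fin n) (Fin n) F) *ᵥ w = w' := by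
  have hf := isUnitaryForm hF (n := n)
  suffices H : ∃ g ∈ blockGU q W, (g : Matrix (Fin n) (Fin n) F) *ᵥ w = w' by
    obtain ⟨g, hg, hgw⟩ := H
    obtain ⟨z, hz, hzw, hz0⟩ := exists_aniso_perp hF hW hw' (Or.inr ⟨he ▸ h0, hd⟩)
    set e := (g : Matrix (Fin n) (Fin n) F).det
    have he1 : e * e ^ q = 1 := by
      have h1 := CfsgLib.Unitary.det_GU hF hg.1
      have h2 := congrArg Units.val h1
      rw [Units.val_pow_eq_pow_val, pow_succ'] at h2
      exact h2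
    have hi : e⁻¹ * e⁻¹ ^ q = 1 := by rw [inv_pow, ← mul_inv, he1, inv_one]
    obtain ⟨r, hr, hrd, hrx⟩ := exists_refl hF hz hz0 hi
    refine ⟨r * g, mul_mem hr hg, ?_, by
      rw [mul_mulVec, hgw, hrx, show ⟪w', z⟫ = 0 by rw [hf.herm, hzw, map_zero], mul_zero, zero_smul, add_zero]⟩
    rw [Units.val_mul, Matrix.det_mul, hrd]
    exact inv_mul_cancel₀ fun h => by rw [h, zero_mul] at he1; exact zero_ne_one he1
  have main : ∀ v ∈ W, ⟪v, v⟫ = ⟪w, w⟫ → ⟪w, v⟫ ≠ ⟪w, w⟫ →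
      ∃ g ∈ blockGU q W, (g : Matrix (Fin n) (Fin n) F) *ᵥ w = v := by
    intro v hv hvv hne
    set u := w - v with hu
    have hwu : ⟪w, u⟫ = ⟪w, w⟫ - ⟪w, v⟫ := CfsgLib.Unitary.herm_sub_right hF w w v
    have hwu0 : ⟪w, u⟫ ≠ 0 := by rw [hwu]; exact sub_ne_zero.2 (Ne.symm hne)
    have huu : ⟪u, u⟫ = ⟪w, u⟫ + ⟪w, u⟫ ^ q := by
      rw [hwu, ← frobEquiv_apply hF, map_sub, frobEquiv_apply, frobEquiv_apply, herm_self_pow hF, hu,
        CfsgLib.Unitary.herm_sub_left hF, CfsgLib.Unitary.herm_sub_right hF,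
        CfsgLib.Unitary.herm_sub_right hF, hvv, ← CfsgLib.Unitary.herm_swap hF w v]
      ring
    have hk : IsQPair n q F u (-1 / ⟪w, u⟫) := by
      have hqq : (-1 : F) ^ q = -1 := by rw [← frobEquiv_apply hF, map_neg, map_one]
      rw [IsQPair, huu, div_pow, hqq]
      field_simp
      ring
    refine ⟨qref hF u _ hk, qref_mem_block hF (W.sub_mem hw hv) hk, ?_⟩
    rw [qref_mulVec hF hk, div_mul_cancel₀ _ hwu0, hu]
    module
  by_cases hne : ⟪w, w'⟫ = ⟪w, w⟫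
  · obtain ⟨l, hl, hlr⟩ := exists_norm_one hF
    have hl0 : l ≠ 0 := fun h => by rw [h, zero_mul] at hl; exact zero_ne_one hl
    obtain ⟨g, hg, hgw⟩ := main (l • w') (W.smul_mem l hw')
      (by rw [hf.smul_left, Unit.smul_right hf, frobEquiv_apply, ← mul_assoc, hl, one_mul, he]) (by
        rw [Unit.smul_right hf, frobEquiv_apply, hne]
        intro h
        have h1 : l ^ q = 1 := mul_right_cancel₀ h0 (by rw [h, one_mul])
        rw [h1, mul_one] at hl
        exact hlr (by rw [hl, one_pow]))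
    have hli : l⁻¹ * l⁻¹ ^ q = 1 := by rw [inv_pow, ← mul_inv, hl, inv_one]
    obtain ⟨r, hr, -, hrx⟩ := exists_refl hF hw' (he ▸ h0) hli
    exact ⟨r * g, mul_mem hr hg, by
      rw [mul_mulVec, hgw, Matrix.mulVec_smul, hrx, div_mul_cancel₀ _ (he ▸ h0)]
      match_scalars
      field_simp
      ring⟩
  · exact main w' hw' he.symm hne

end nondeg

end CfsgLib.Geo.UTv
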