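/-
Vanishing sums with norm-one coefficients over the field with `q ^ 2` elements.
-/
import Cfsg.Agent.Geo.UnitRefl

set_option autoImplicit false

namespace CfsgLib.Geo.UTv

open Finset

variable {q : ℕ} {F : Type*} [Field F]

/-- An element of norm one. -/
def IsPhase (q : ℕ) (t : F) : Prop := t * t ^ q = 1

lemma IsPhase.one : IsPhase q (1 : F) := by simp [IsPhase]

lemma IsPhase.mul {s t : F} (hs : IsPhase q s) (ht : IsPhase q t) : IsPhase q (s * t) := by
  unfold IsPhase at *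
  rw [mul_pow, mul_mul_mul_comm, hs, ht, one_mul]

lemma IsPhase.inv {t : F} (ht : IsPhase q t) : IsPhase q t⁻¹ := by
  unfold IsPhase at *
  rw [inv_pow, ← mul_inv, ht, inv_one]

lemma IsPhase.ne_zero {t : F} (ht : IsPhase q t) : t ≠ 0 := fun h => by
  rw [IsPhase, h, zero_mul] at ht
  exact zero_ne_one ht

lemma IsPhase.pow {t : F} (ht : IsPhase q t) : ∀ m : ℕ, IsPhase q (t ^ m)
  | 0 => by rw [pow_zero]; exact IsPhase.one
  | m + 1 => by rw [pow_succ]; exact (ht.pow m).mul ht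

lemma IsPhase.zpow {t : F} (ht : IsPhase q t) : ∀ m : ℤ, IsPhase q (t ^ m)
  | (m : ℕ) => by rw [zpow_natCast]; exact ht.pow m
  | .negSucc m => by rw [zpow_negSucc]; exact (ht.pow _).inv

lemma IsPhase.div {s t : F} (hs : IsPhase q s) (ht : IsPhase q t) : IsPhase q (s / t) := by
  rw [div_eq_mul_inv]; exact hs.mul ht.inv

lemma IsPhase.prod {ι : Type*} (S : Finset ι) (t : ι → F) (ht : ∀ y, IsPhase q (t y)) :
    IsPhase q (∏ y ∈ S, t y) :=
  Finset.prod_induction t (IsPhase q) (fun _ _ => IsPhase.mul) IsPhase.one fun y _ => ht y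

/-- Two coprime exponents reach every element of norm one. -/
lemma exists_pow_mul_pow {a b : ℕ} (hab : Nat.Coprime a b) {ξ : F} (hξ : IsPhase q ξ) :
    ∃ c₁ c₂ : F, IsPhase q c₁ ∧ IsPhase q c₂ ∧ c₁ ^ a * c₂ ^ b = ξ := by
  refine ⟨ξ ^ (Nat.gcdA a b), ξ ^ (Nat.gcdB a b), hξ.zpow _, hξ.zpow _, ?_⟩
  have h := Nat.gcd_eq_gcd_ab a b
  rw [hab.gcd_eq_one] at h
  rw [← zpow_natCast, ← zpow_natCast, ← zpow_mul, ← zpow_mul, ← zpow_add₀ hξ.ne_zero,
    show Nat.gcdA a b * (a : ℤ) + Nat.gcdB a b * (b : ℤ) = 1 by push_cast at h; linarith, zpow_one]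

variable [Fintype F] [DecidableEq F] (hF : Nat.card F = q ^ 2)
include hF

lemma card_phase : (univ.filter fun t : F => t * t ^ q = 1).card = q + 1 := by
  have h1 := CfsgLib.Forms.card_norm_fiber hF (μ := 1) one_ne_zero (one_pow q)
  rw [Nat.card_eq_fintype_card, Fintype.card_subtype] at h1
  rw [← h1]; congr 1; ext x; simp [pow_succ']

/-- A phase avoiding two values. -/
lemma exists_phase_avoid (u v : F) : ∃ t : F, IsPhase q t ∧ t ≠ u ∧ t ≠ v := by
  by_contra h
  push Not at h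
  have hsub : (univ.filter fun t : F => t * t ^ q = 1) ⊆ {u, v} := fun t ht => by
    by_cases htu : t = u
    · simp [htu]
    · simp [h t (mem_filter.1 ht).2 htu]
  have := Finset.card_le_card hsub
  rw [card_phase hF] at this
  have := CfsgLib.Forms.two_le_q hF
  have : ({u, v} : Finset F).card ≤ 2 := Finset.card_le_two
  omega

lemma norm_fix (x : F) : (x * x ^ q) ^ q = x * x ^ q := by
  rw [mul_pow, CfsgLib.Forms.pow_q_q hF]; ring

lemma card_fixed_le : (univ.filter fun x : F => x ^ q = x).card ≤ q := by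
  have hq := CfsgLib.Forms.two_le_q hF
  have hsub : (univ.filter fun x : F => x ^ q = x).val ⊆ (Polynomial.X ^ q - Polynomial.X : Polynomial F).roots := by
    intro x hx
    rw [Polynomial.mem_roots (FiniteField.X_pow_card_sub_X_ne_zero F hq)]
    simp only [mem_val, mem_filter, mem_univ, true_and] at hx
    simp [hx]
  exact ((Multiset.card_le_card ((Multiset.le_iff_subset (Finset.nodup _)).2 hsub)).trans
    (Polynomial.card_roots' _)).trans (FiniteField.X_pow_card_sub_X_natDegree_eq F hq).le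

/-- The norms along a translated circle take each value at most twice. -/
lemma circle_fibre {R b : F} (hR : R ≠ 0) (hb : b ≠ 0) (T : F) :
    ((univ.filter fun t : F => t * t ^ q = 1).filter fun t => (R + t * b) * (R + t * b) ^ q = T).card ≤ 2 := by
  by_contra hgt
  obtain ⟨x, hx, y, hy, z, hz, hxy, hxz, hyz⟩ := Finset.two_lt_card.1 (not_le.1 hgt)
  have hquad : ∀ t ∈ ((univ.filter fun t : F => t * t ^ q = 1).filter fun t => (R + t * b) * (R + t * b) ^ q = T),
      t * t * (R ^ q * b) + t * (R * R ^ q + b * b ^ q - T) + R * b ^ q = 0 := by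
    intro t ht
    simp only [mem_filter, mem_univ, true_and] at ht
    obtain ⟨h1, h2⟩ := ht
    rw [CfsgLib.Forms.add_pow_q hF, mul_pow] at h2
    linear_combination t * h2 - (R * b ^ q + t * b * b ^ q) * h1
  have hdiff : ∀ {u v : F}, u ∈ _ → v ∈ _ → u ≠ v →
      (u + v) * (R ^ q * b) + (R * R ^ q + b * b ^ q - T) = 0 := fun {u v} hu hv huv =>
    (mul_eq_zero.1 (show (u - v) * ((u + v) * (R ^ q * b) + (R * R ^ q + b * b ^ q - T)) = 0 by
      linear_combination hquad u hu - hquad v hv)).resolve_left (sub_ne_zero.2 huv)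
  have : (y - z) * (R ^ q * b) = 0 := by linear_combination hdiff hx hy hxy - hdiff hx hz hxz
  exact hyz (sub_eq_zero.1 ((mul_eq_zero.1 this).resolve_right (mul_ne_zero (pow_ne_zero q hR) hb)))

/-- Four terms can be made to cancel. -/
lemma exists_align {R b c d : F} (hR : R ≠ 0) (hb : b ≠ 0) (hc : c ≠ 0) (hd : d ≠ 0) :
    ∃ t s r : F, IsPhase q t ∧ IsPhase q s ∧ IsPhase q r ∧ R + t * b + s * (c + r * d) = 0 := by
  set C := univ.filter fun t : F => t * t ^ q = 1 with hC
  let N1 : F → F := fun t => (R + t * b) * (R + t * b) ^ q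
  let N2 : F → F := fun r => (c + r * d) * (c + r * d) ^ q
  have hcap : ∀ {R b : F}, R ≠ 0 → b ≠ 0 →
      q + 1 ≤ 2 * (C.image fun t => (R + t * b) * (R + t * b) ^ q).card := fun {R b} hR hb => by
    rw [← card_phase hF]
    exact Finset.card_le_mul_card_image C 2 fun T _ => circle_fibre hF hR hb T
  obtain ⟨T, hT⟩ : ∃ T, T ∈ C.image N1 ∩ C.image N2 := by
    by_contra h
    push Not at h
    have hdis : Disjoint (C.image N1) (C.image N2) :=
      Finset.disjoint_left.2 fun T h1 h2 => h T (mem_inter.2 ⟨h1, h2⟩)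
    have hsub : C.image N1 ∪ C.image N2 ⊆ univ.filter fun x : F => x ^ q = x := fun T hT => by
      simp only [mem_union, mem_image] at hT
      refine mem_filter.2 ⟨mem_univ _, ?_⟩
      rcases hT with ⟨t, -, rfl⟩ | ⟨t, -, rfl⟩ <;> exact norm_fix hF _
    have h1 := (Finset.card_le_card hsub).trans (card_fixed_le hF)
    rw [Finset.card_union_of_disjoint hdis] at h1
    have h2 := hcap hR hb
    have h3 := hcap hc hd
    simp only [N1, N2] at h1
    omega
  simp only [mem_inter, mem_image, hC, mem_filter, mem_univ, true_and, N1, N2] at hT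
  obtain ⟨⟨t, ht, hT1⟩, r, hr, hT2⟩ := hT
  have hzero : ∀ x : F, x * x ^ q = 0 → x = 0 := fun x h =>
    (mul_eq_zero.1 h).elim id eq_zero_of_pow_eq_zero
  by_cases h0 : c + r * d = 0
  · rw [h0, zero_mul] at hT2
    exact ⟨t, 1, r, ht, IsPhase.one, hr, by rw [h0, mul_zero, add_zero, hzero _ (hT1.trans hT2.symm)]⟩
  · refine ⟨t, -(R + t * b) / (c + r * d), r, ht, ?_, hr, by rw [div_mul_cancel₀ _ h0, add_neg_cancel]⟩
    have hm : (-1 : F) ^ q = -1 := by rw [← CfsgLib.Geo.UTv.frobEquiv_apply hF, map_neg, map_one]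
    rw [IsPhase, div_pow, neg_pow (R + t * b), hm, div_mul_div_comm, div_eq_one_iff_eq
      (mul_ne_zero h0 (pow_ne_zero q h0))]
    linear_combination hT1 - hT2

variable {ι : Type*} [DecidableEq ι]

/-- A non-empty family has a non-vanishing sum. -/
lemma exists_fold (a : ι → F) (S : Finset ι) (hne : S.Nonempty) (ha : ∀ y ∈ S, a y ≠ 0) :
    ∃ t : ι → F, (∀ y, IsPhase q (t y)) ∧ ∑ y ∈ S, t y * a y ≠ 0 := by
  induction hne using Finset.Nonempty.cons_induction with
  | singleton y => exact ⟨fun _ => 1, fun _ => IsPhase.one, by simpa using ha y (by simp)⟩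
  | cons y S hy hS ih =>
    obtain ⟨t, ht, hsum⟩ := ih fun z hz => ha z (Finset.mem_cons_of_mem hz)
    obtain ⟨s, hs, hs1, -⟩ := exists_phase_avoid hF (-(∑ z ∈ S, t z * a z) / a y) 0
    refine ⟨Function.update t y s, fun z => by
      rcases eq_or_ne z y with rfl | h
      · simpa using hs
      · simpa [Function.update_of_ne h] using ht z, ?_⟩
    rw [Finset.sum_cons, Function.update_self,
      Finset.sum_congr rfl (g := fun z => t z * a z) fun z hz => by
        rw [Function.update_of_ne (show z ≠ y from fun e => hy (by rwa [e] at hz))]]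
    intro h0
    refine hs1 ?_
    rw [eq_div_iff (ha y (Finset.mem_cons_self y S))]
    linear_combination h0

/-- At least four non-zero terms can be made to cancel. -/
lemma exists_zero_sum (a : ι → F) (S : Finset ι) (hS : 4 ≤ S.card) (ha : ∀ y ∈ S, a y ≠ 0) :
    ∃ t : ι → F, (∀ y, IsPhase q (t y)) ∧ ∑ y ∈ S, t y * a y = 0 := by
  obtain ⟨b, hb⟩ := Finset.card_pos.1 (by omega : 0 < S.card)
  obtain ⟨c, hc⟩ := (Finset.card_pos (s := S.erase b)).1 (by rw [card_erase_of_mem hb]; omega)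
  obtain ⟨d, hd⟩ := (Finset.card_pos (s := (S.erase b).erase c)).1
    (by rw [card_erase_of_mem hc, card_erase_of_mem hb]; omega)
  set S0 := ((S.erase b).erase c).erase d
  have hS0 : S0.Nonempty := Finset.card_pos.1 (by
    rw [card_erase_of_mem hd, card_erase_of_mem hc, card_erase_of_mem hb]; omega)
  have hcb : c ≠ b := (mem_erase.1 hc).1
  have hdc : d ≠ c := (mem_erase.1 hd).1
  have hdb : d ≠ b := (mem_erase.1 (mem_erase.1 hd).2).1
  obtain ⟨t, ht, hsum⟩ := exists_fold hF a S0 hS0 fun y hy =>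
    ha y (erase_subset _ _ (erase_subset _ _ (erase_subset _ _ hy)))
  obtain ⟨u, s, r, hu, hs, hr, h0⟩ := exists_align hF hsum (ha b hb) (ha c (erase_subset _ _ hc))
    (ha d (erase_subset _ _ (erase_subset _ _ hd)))
  let t' : ι → F := fun y => if y = b then u else if y = c then s else if y = d then s * r else t y
  refine ⟨t', fun y => by
    simp only [t']; split_ifs <;> [exact hu; exact hs; exact hs.mul hr; exact ht y], ?_⟩
  rw [← Finset.add_sum_erase _ _ hb, ← Finset.add_sum_erase _ _ hc, ← Finset.add_sum_erase _ _ hd,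
    Finset.sum_congr rfl (g := fun y => t y * a y) fun y hy => by
      simp only [mem_erase] at hy; simp [t', hy.1, hy.2.1, hy.2.2.1]]
  simp only [t', if_true, hcb, hdb, hdc, if_false]
  linear_combination h0

/-- Five non-zero terms cancel with two prescribed terms having different coefficients. -/
lemma exists_zero_sum_ne (a : ι → F) (S : Finset ι) (hS : 5 ≤ S.card) (ha : ∀ y ∈ S, a y ≠ 0) {y₁ y₂ : ι}
    (h1 : y₁ ∈ S) (h2 : y₂ ∈ S) (h12 : y₁ ≠ y₂) :
    ∃ t : ι → F, (∀ y, IsPhase q (t y)) ∧ ∑ y ∈ S, t y * a y = 0 ∧ t y₁ ≠ t y₂ := by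
  obtain ⟨ρ, hρ, hρ1, hρ0⟩ := exists_phase_avoid hF (1 : F) (-(a y₁) / a y₂)
  -- merge the two prescribed terms
  set a' : ι → F := Function.update a y₁ (a y₁ + ρ * a y₂) with ha'
  have h12' : y₁ ∈ S.erase y₂ := mem_erase.2 ⟨h12, h1⟩
  obtain ⟨t, ht, hsum⟩ := exists_zero_sum hF a' (S.erase y₂) (by rw [card_erase_of_mem h2]; omega) fun y hy => by
    rcases eq_or_ne y y₁ with rfl | hy1
    · rw [ha', Function.update_self]
      intro h0
      refine hρ0 ?_
      rw [eq_div_iff (ha y₂ h2)]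
      linear_combination h0
    · rw [ha', Function.update_of_ne hy1]; exact ha y (mem_erase.1 hy).2
  refine ⟨Function.update t y₂ (t y₁ * ρ), fun y => ?_, ?_, ?_⟩
  · rcases eq_or_ne y y₂ with rfl | h
    · simpa using (ht y₁).mul hρ
    · simpa [Function.update_of_ne h] using ht y
  · rw [← Finset.add_sum_erase _ _ h2, ← Finset.add_sum_erase _ _ h12']
    rw [← Finset.add_sum_erase _ _ h12'] at hsum
    have hrest : ∑ y ∈ (S.erase y₂).erase y₁, Function.update t y₂ (t y₁ * ρ) y * a y =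
        ∑ y ∈ (S.erase y₂).erase y₁, t y * a' y := Finset.sum_congr rfl fun y hy => by
      simp only [mem_erase] at hy
      rw [ha', Function.update_of_ne hy.1, Function.update_of_ne hy.2.1]
    rw [hrest, Function.update_self, Function.update_of_ne h12]
    rw [ha', Function.update_self, ← ha'] at hsum
    linear_combination hsum
  · rw [Function.update_self, Function.update_of_ne h12]
    intro h0
    exact hρ1 (mul_left_cancel₀ (ht y₁).ne_zero (by rw [mul_one]; exact h0.symm))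

/-- In odd characteristic two cancelling families differ in the square class of their products. -/
lemma exists_zero_sum_class (hq : Odd q) (a : ι → F) (S : Finset ι) (hS : 6 ≤ S.card) (ha : ∀ y ∈ S, a y ≠ 0)
    {ξ : F} (hξ : IsPhase q ξ) :
    ∃ (t : ι → F) (η : F), (∀ y, IsPhase q (t y)) ∧ IsPhase q η ∧ ∑ y ∈ S, t y * a y = 0 ∧
      ∏ y ∈ S, t y = ξ * η ^ 2 := by
  obtain ⟨h, hh⟩ := hq
  have hq1 : q + 1 = 2 * (h + 1) := by omega
  have hsign : ∀ x : F, IsPhase q x → x ^ (h + 1) = 1 ∨ x ^ (h + 1) = -1 := fun x hx => by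
    refine mul_self_eq_one_iff.1 ?_
    rw [← pow_add, show h + 1 + (h + 1) = q + 1 by omega, pow_succ']
    exact hx
  have hsq : ∀ x : F, IsPhase q x → x ^ (h + 1) = 1 → ∃ η : F, IsPhase q η ∧ x = η ^ 2 := by
    intro x hx hx1
    set C := univ.filter fun t : F => t * t ^ q = 1 with hC
    have h1 : C.card ≤ 2 * (C.image fun t => t ^ 2).card := by
      refine Finset.card_le_mul_card_image C 2 fun y _ => ?_
      by_contra hgt
      obtain ⟨u, hu, v, hv, w, hw, huv, huw, hvw⟩ := Finset.two_lt_card.1 (not_le.1 hgt)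
      simp only [mem_filter] at hu hv hw
      have e1 := (sq_eq_sq_iff_eq_or_eq_neg.1 (hv.2.trans hu.2.symm)).resolve_left (Ne.symm huv)
      have e2 := (sq_eq_sq_iff_eq_or_eq_neg.1 (hw.2.trans hu.2.symm)).resolve_left (Ne.symm huw)
      exact hvw (e1.trans e2.symm)
    have hroots : (univ.filter fun y : F => y ^ (h + 1) = 1).card ≤ h + 1 := by
      have hsub : (univ.filter fun y : F => y ^ (h + 1) = 1).val ⊆ (Polynomial.nthRoots (h + 1) (1 : F)) :=
        fun y hy => by
          rw [Polynomial.mem_nthRoots (by omega)]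
          simpa using hy
      have hle := Multiset.card_le_card ((Multiset.le_iff_subset (Finset.nodup _)).2 hsub)
      exact hle.trans (Polynomial.card_nthRoots (h + 1) 1)
    have hsub : C.image (fun t => t ^ 2) ⊆ univ.filter fun y : F => y ^ (h + 1) = 1 := fun y hy => by
      obtain ⟨t, ht, rfl⟩ := mem_image.1 hy
      refine mem_filter.2 ⟨mem_univ _, ?_⟩
      rw [← pow_mul, ← hq1, pow_succ']
      exact (mem_filter.1 ht).2
    rw [show C.card = q + 1 from card_phase hF] at h1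
    have heq := Finset.eq_of_subset_of_card_le hsub (by omega)
    obtain ⟨t, ht, hte⟩ := mem_image.1 (heq ▸ mem_filter.2 ⟨mem_univ x, hx1⟩)
    exact ⟨t, (mem_filter.1 ht).2, hte.symm⟩
  -- names for five terms
  obtain ⟨y₂, hy₂⟩ := Finset.card_pos.1 (by omega : 0 < S.card)
  obtain ⟨y₃, hy₃⟩ := (Finset.card_pos (s := S.erase y₂)).1 (by rw [card_erase_of_mem hy₂]; omega)
  obtain ⟨y₄, hy₄⟩ := (Finset.card_pos (s := (S.erase y₂).erase y₃)).1
    (by rw [card_erase_of_mem hy₃, card_erase_of_mem hy₂]; omega)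
  obtain ⟨y₅, hy₅⟩ := (Finset.card_pos (s := ((S.erase y₂).erase y₃).erase y₄)).1
    (by rw [card_erase_of_mem hy₄, card_erase_of_mem hy₃, card_erase_of_mem hy₂]; omega)
  set S0 := (((S.erase y₂).erase y₃).erase y₄).erase y₅ with hS0def
  have hS0 : S0.Nonempty := Finset.card_pos.1 (by
    rw [card_erase_of_mem hy₅, card_erase_of_mem hy₄, card_erase_of_mem hy₃, card_erase_of_mem hy₂]; omega)
  have h3 : a y₃ ≠ 0 := ha _ (erase_subset _ _ hy₃)
  have h4 : a y₄ ≠ 0 := ha _ (erase_subset _ _ (erase_subset _ _ hy₄))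
  have h5 : a y₅ ≠ 0 := ha _ (erase_subset _ _ (erase_subset _ _ (erase_subset _ _ hy₅)))
  obtain ⟨t0, ht0, hR0⟩ := exists_fold hF a S0 hS0 fun y hy => ha y
    (erase_subset _ _ (erase_subset _ _ (erase_subset _ _ (erase_subset _ _ hy))))
  set R0 := ∑ y ∈ S0, t0 y * a y
  -- a partial sum in the non-square class
  obtain ⟨τ, hτ, hR, hRκ⟩ : ∃ τ : F, IsPhase q τ ∧ R0 + τ * a y₂ ≠ 0 ∧
      ((R0 + τ * a y₂) * a y₃ ^ q / ((R0 + τ * a y₂) ^ q * a y₃)) ^ (h + 1) ≠ 1 := by
    by_contra hcon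
    push Not at hcon
    set C := univ.filter fun t : F => t * t ^ q = 1 with hC
    set e := ((a y₃ * a y₃ ^ q) ^ h)⁻¹ with he
    have h33 : a y₃ * a y₃ ^ q ≠ 0 := mul_ne_zero h3 (pow_ne_zero _ h3)
    -- good norms satisfy one equation of degree `h`
    have hdeg : (univ.filter fun x : F => x ^ h = e).card ≤ h := by
      rcases Nat.eq_zero_or_pos h with h0 | h0
      · exfalso
        have := CfsgLib.Forms.two_le_q hF
        omega
      have hsub : (univ.filter fun y : F => y ^ h = e).val ⊆ (Polynomial.nthRoots h e) := fun y hy => by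
        rw [Polynomial.mem_nthRoots h0]
        simpa using hy
      exact (Multiset.card_le_card ((Multiset.le_iff_subset (Finset.nodup _)).2 hsub)).trans
        (Polynomial.card_nthRoots h e)
    have h1 : C.card ≤ 2 * (C.image fun t => (R0 + t * a y₂) * (R0 + t * a y₂) ^ q).card :=
      Finset.card_le_mul_card_image C 2 fun T _ => circle_fibre hF hR0 (ha y₂ hy₂) T
    have hsub : C.image (fun t => (R0 + t * a y₂) * (R0 + t * a y₂) ^ q) ⊆
        insert 0 (univ.filter fun x : F => x ^ h = e) := fun T hT => by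
      obtain ⟨t, ht, rfl⟩ := mem_image.1 hT
      by_cases h0 : R0 + t * a y₂ = 0
      · simp [h0]
      refine mem_insert_of_mem (mem_filter.2 ⟨mem_univ _, ?_⟩)
      have hk := hcon t (mem_filter.1 ht).2 h0
      set R := R0 + t * a y₂ with hRdef
      -- the power of the quotient inverts the power of the norms
      have hRq : R ^ q ≠ 0 := pow_ne_zero _ h0
      have key : ((R * a y₃ ^ q) / (R ^ q * a y₃)) ^ (h + 1) *
          ((R * R ^ q) ^ h * (a y₃ * a y₃ ^ q) ^ h) = 1 := by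
        set z := R * a y₃ ^ q with hz
        have hzq : R ^ q * a y₃ = z ^ q := by rw [hz, mul_pow, CfsgLib.Forms.pow_q_q hF]
        have hz0 : z ≠ 0 := mul_ne_zero h0 (pow_ne_zero _ h3)
        have hnn : (R * R ^ q) ^ h * (a y₃ * a y₃ ^ q) ^ h = (z * z ^ q) ^ h := by
          rw [← mul_pow, ← hzq, hz]; ring
        have hzord : (z ^ q) ^ q = z := CfsgLib.Forms.pow_q_q hF z
        have hzq1 : z ^ (q * q - 1) = 1 := by
          have h2 : q * q = Fintype.card F := by rw [← sq, ← hF, Nat.card_eq_fintype_card]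
          rw [h2]; exact FiniteField.pow_card_sub_one_eq_one z hz0
        rw [hzq, hnn, div_pow, div_mul_eq_mul_div, div_eq_one_iff_eq (pow_ne_zero _ (pow_ne_zero _ hz0)),
          ← pow_succ', ← pow_mul, ← pow_add, ← pow_mul]
        congr 1
        subst hh; ring
      rw [hk, one_mul] at key
      exact eq_inv_of_mul_eq_one_left key
    have h2 := Finset.card_le_card hsub
    have h3' := Finset.card_insert_le (0 : F) (univ.filter fun x : F => x ^ h = e)
    rw [hC, card_phase hF] at h1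
    -- only the value zero is left over
    have hz1 : ((univ.filter fun t : F => t * t ^ q = 1).filter fun t =>
        (R0 + t * a y₂) * (R0 + t * a y₂) ^ q = 0).card ≤ 1 := by
      refine Finset.card_le_one.2 fun u hu v hv => ?_
      simp only [mem_filter, mem_univ, true_and] at hu hv
      have hu' := (mul_eq_zero.1 hu.2).elim id eq_zero_of_pow_eq_zero
      have hv' := (mul_eq_zero.1 hv.2).elim id eq_zero_of_pow_eq_zero
      exact mul_right_cancel₀ (ha y₂ hy₂) (by linear_combination hu' - hv')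
    have hsplit := Finset.card_filter_add_card_filter_not
      (s := univ.filter fun t : F => t * t ^ q = 1) (fun t => (R0 + t * a y₂) * (R0 + t * a y₂) ^ q = 0)
    rw [card_phase hF] at hsplit
    have h4' : ((univ.filter fun t : F => t * t ^ q = 1).filter fun t =>
        ¬ (R0 + t * a y₂) * (R0 + t * a y₂) ^ q = 0).card ≤ 2 * h := by
      refine (Finset.card_le_mul_card_image (f := fun t => (R0 + t * a y₂) * (R0 + t * a y₂) ^ q) _ 2 fun T _ => (Finset.card_le_card ?_).trans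
        (circle_fibre hF hR0 (ha y₂ hy₂) T)).trans (Nat.mul_le_mul_left 2 ((Finset.card_le_card ?_).trans hdeg))
      · exact Finset.filter_subset_filter _ (Finset.filter_subset _ _)
      · intro T hT
        obtain ⟨t, ht, rfl⟩ := mem_image.1 hT
        obtain ⟨ht1, ht2⟩ := mem_filter.1 ht
        exact (mem_insert.1 (hsub (mem_image_of_mem _ (by rw [hC]; exact ht1)))).resolve_left ht2
    omega
  set R := R0 + τ * a y₂ with hRdef
  obtain ⟨u, s, r, hu, hs, hr, hz⟩ := exists_align hF hR h3 h4 h5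
  set κ := R * a y₃ ^ q / (R ^ q * a y₃) with hκ
  have hκp : IsPhase q κ := by
    rw [IsPhase, hκ, div_pow, mul_pow, mul_pow, CfsgLib.Forms.pow_q_q hF, CfsgLib.Forms.pow_q_q hF,
      div_mul_div_comm, div_eq_one_iff_eq]
    · ring
    · exact mul_ne_zero (mul_ne_zero (pow_ne_zero _ hR) h3) (mul_ne_zero hR (pow_ne_zero _ h3))
  -- the mirrored solution
  set u' := κ / u with hu'
  have hu'p : IsPhase q u' := hκp.div hu
  have hnorm : (R + u' * a y₃) * (R + u' * a y₃) ^ q = (R + u * a y₃) * (R + u * a y₃) ^ q := by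
    have e1 : u ^ q = u⁻¹ := eq_inv_of_mul_eq_one_right hu
    have e2 : u' ^ q = u'⁻¹ := eq_inv_of_mul_eq_one_right hu'p
    rw [CfsgLib.Forms.add_pow_q hF R (u' * a y₃), CfsgLib.Forms.add_pow_q hF R (u * a y₃), mul_pow, mul_pow,
      e1, e2, hu', hκ]
    have := hu.ne_zero
    have := pow_ne_zero q hR
    have := pow_ne_zero q h3
    field_simp
  obtain ⟨s', hs', hz'⟩ : ∃ s' : F, IsPhase q s' ∧ R + u' * a y₃ + s' * (a y₄ + r * a y₅) = 0 := by
    have hzero : ∀ x : F, x * x ^ q = 0 → x = 0 := fun x hx =>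
      (mul_eq_zero.1 hx).elim id eq_zero_of_pow_eq_zero
    by_cases h0 : R + u * a y₃ = 0
    · refine ⟨s, hs, ?_⟩
      have h00 : R + u' * a y₃ = 0 := hzero _ (by rw [hnorm, h0, zero_mul])
      rw [h0, zero_add] at hz
      rw [h00, zero_add, hz]
    · refine ⟨s * ((R + u' * a y₃) / (R + u * a y₃)), hs.mul ?_, ?_⟩
      · rw [IsPhase, div_pow, div_mul_div_comm, hnorm, div_self (mul_ne_zero h0 (pow_ne_zero _ h0))]
      · have hw : s * (a y₄ + r * a y₅) = -(R + u * a y₃) := by linear_combination hz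
        rw [mul_right_comm, hw, neg_mul, mul_div_cancel₀ _ h0, add_neg_cancel]
  let mk : F → F → ι → F := fun u s y =>
    if y = y₂ then τ else if y = y₃ then u else if y = y₄ then s else if y = y₅ then s * r else t0 y
  have hmk : ∀ u s, IsPhase q u → IsPhase q s → R + u * a y₃ + s * (a y₄ + r * a y₅) = 0 →
      (∀ y, IsPhase q (mk u s y)) ∧ ∑ y ∈ S, mk u s y * a y = 0 ∧
      ∏ y ∈ S, mk u s y = (∏ y ∈ S0, t0 y) * τ * r * u * s ^ 2 := by
    intro u s hu hs hz
    simp only [mem_erase] at hy₃ hy₄ hy₅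
    refine ⟨fun y => by
      simp only [mk]; split_ifs <;> [exact hτ; exact hu; exact hs; exact hs.mul hr; exact ht0 y], ?_, ?_⟩
    · rw [← Finset.add_sum_erase _ _ hy₂, ← Finset.add_sum_erase _ _ (mem_erase.2 hy₃),
        ← Finset.add_sum_erase _ _ (mem_erase.2 ⟨hy₄.1, mem_erase.2 hy₄.2⟩),
        ← Finset.add_sum_erase _ _ (mem_erase.2 ⟨hy₅.1, mem_erase.2 ⟨hy₅.2.1, mem_erase.2 hy₅.2.2⟩⟩),
        Finset.sum_congr rfl (g := fun y => t0 y * a y) fun y hy => by
          simp only [mem_erase] at hy; simp [mk, hy.1, hy.2.1, hy.2.2.1, hy.2.2.2.1]]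
      simp only [mk, if_true, hy₃.1, hy₄.1, hy₄.2.1, hy₅.1, hy₅.2.1, hy₅.2.2.1, if_false]
      linear_combination hz
    · rw [← Finset.mul_prod_erase _ _ hy₂, ← Finset.mul_prod_erase _ _ (mem_erase.2 hy₃),
        ← Finset.mul_prod_erase _ _ (mem_erase.2 ⟨hy₄.1, mem_erase.2 hy₄.2⟩),
        ← Finset.mul_prod_erase _ _ (mem_erase.2 ⟨hy₅.1, mem_erase.2 ⟨hy₅.2.1, mem_erase.2 hy₅.2.2⟩⟩),
        Finset.prod_congr rfl (g := t0) fun y hy => by
          simp only [mem_erase] at hy; simp [mk, hy.1, hy.2.1, hy.2.2.1, hy.2.2.2.1]]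
      simp only [mk, if_true, hy₃.1, hy₄.1, hy₄.2.1, hy₅.1, hy₅.2.1, hy₅.2.2.1, if_false]
      ring
  set K := (∏ y ∈ S0, t0 y) * τ * r
  have hK : IsPhase q K := ((IsPhase.prod _ _ ht0).mul hτ).mul hr
  obtain ⟨a1, a2, a3⟩ := hmk u s hu hs hz
  by_cases hcl : (K * u / ξ) ^ (h + 1) = 1
  · obtain ⟨η, hη, he⟩ := hsq _ ((hK.mul hu).div hξ) hcl
    refine ⟨mk u s, η * s, a1, hη.mul hs, a2, ?_⟩
    rw [a3, mul_pow, ← he]
    field_simp [hξ.ne_zero]
  · obtain ⟨b1, b2, b3⟩ := hmk u' s' hu'p hs' hz'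
    have hneg : (K * u' / ξ) ^ (h + 1) = 1 := by
      have e : K * u' / ξ = κ / (u ^ 2) * (K * u / ξ) := by
        rw [hu']; field_simp [hu.ne_zero, hξ.ne_zero]
      rw [e, mul_pow, (hsign _ ((hK.mul hu).div hξ)).resolve_left hcl, div_pow,
        (hsign _ hκp).resolve_left hRκ, ← pow_mul, ← hq1, pow_succ', hu]
      ring
    obtain ⟨η, hη, he⟩ := hsq _ ((hK.mul hu'p).div hξ) hneg
    refine ⟨mk u' s', η * s', b1, hη.mul hs', b2, ?_⟩
    rw [b3, mul_pow, ← he]
    field_simp [hξ.ne_zero]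

/-- In even characteristic every element of norm one is a square. -/
lemma exists_sqrt (hq : Even q) {ξ : F} (hξ : IsPhase q ξ) : ∃ η : F, IsPhase q η ∧ ξ = η ^ 2 := by
  obtain ⟨h, hh⟩ := hq
  refine ⟨ξ ^ (h + 1), hξ.pow _, ?_⟩
  rw [← pow_mul, show (h + 1) * 2 = q + 1 + 1 by omega, pow_succ, pow_succ', hξ, one_mul]

omit [Fintype F] [DecidableEq F] hF in
/-- Rescaling the two parts of a cancelling family adjusts the product. -/
lemma glue [Fintype ι] (a : ι → F) (A : Finset ι) (t₁ t₂ : ι → F) (h₁ : ∀ y, IsPhase q (t₁ y))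
    (h₂ : ∀ y, IsPhase q (t₂ y)) (s₁ : ∑ y ∈ A, t₁ y * a y = 0) (s₂ : ∑ y ∈ Aᶜ, t₂ y * a y = 0) {Pr c₁ c₂ : F}
    (hc₁ : IsPhase q c₁) (hc₂ : IsPhase q c₂)
    (hp : (∏ y ∈ A, t₁ y) * c₁ ^ A.card * ((∏ y ∈ Aᶜ, t₂ y) * c₂ ^ Aᶜ.card) = Pr) :
    let t : ι → F := fun y => if y ∈ A then c₁ * t₁ y else c₂ * t₂ y
    (∀ y, IsPhase q (t y)) ∧ ∑ y, t y * a y = 0 ∧ ∏ y, t y = Pr := by
  intro t
  refine ⟨fun y => ?_, ?_, ?_⟩
  · simp only [t]; split_ifs <;> [exact hc₁.mul (h₁ y); exact hc₂.mul (h₂ y)]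
  · rw [← Finset.sum_add_sum_compl A,
      Finset.sum_congr rfl (g := fun y => c₁ * (t₁ y * a y)) fun y hy => by simp [t, hy, mul_assoc],
      Finset.sum_congr rfl (s₁ := Aᶜ) (g := fun y => c₂ * (t₂ y * a y)) fun y hy => by
        simp [t, Finset.mem_compl.1 hy, mul_assoc],
      ← Finset.mul_sum, ← Finset.mul_sum, s₁, s₂, mul_zero, mul_zero, add_zero]
  · rw [← Finset.prod_mul_prod_compl A,
      Finset.prod_congr rfl (g := fun y => c₁ * t₁ y) fun y hy => by simp [t, hy],
      Finset.prod_congr rfl (s₁ := Aᶜ) (g := fun y => c₂ * t₂ y) fun y hy => by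
        simp [t, Finset.mem_compl.1 hy],
      Finset.prod_mul_distrib, Finset.prod_mul_distrib, Finset.prod_const, Finset.prod_const, ← hp]
    ring

omit [Fintype F] [DecidableEq F] hF in
/-- Coprime part sizes. -/
lemma exists_sizes {n : ℕ} (hn : 11 ≤ n) : ∃ a b, a + b = n ∧ Nat.Coprime a b ∧ 5 ≤ a ∧ 5 ≤ b := by
  rcases Nat.even_or_odd n with ⟨m, hm⟩ | ⟨m, hm⟩
  · have hco : ∀ a b e : ℕ, a + e = b → Odd a → (∀ d, d ∣ e → Odd d → d = 1) → Nat.Coprime a b := by
      intro a b e hab ha he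
      have h1 := Nat.gcd_dvd_left a b
      have h2 := Nat.dvd_sub (Nat.gcd_dvd_right a b) h1
      rw [show b - a = e by omega] at h2
      exact he _ h2 (ha.of_dvd_nat h1)
    have htwo : ∀ d, d ∣ 4 → Odd d → d = 1 := fun d hd hodd => by
      have := Nat.le_of_dvd (by norm_num) hd
      interval_cases d <;> simp_all (config := { decide := true })
    rcases Nat.even_or_odd m with hm' | hm'
    · refine ⟨m - 1, m + 1, by omega, hco _ _ 2 (by omega) (Nat.Even.sub_odd (by omega) hm' odd_one)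
        (fun d hd => htwo d (hd.trans (by norm_num))), by omega, by obtain ⟨k, hk⟩ := hm'; omega⟩
    · obtain ⟨k, hk⟩ := hm'
      exact ⟨m - 2, m + 2, by omega, hco _ _ 4 (by omega) ⟨k - 1, by omega⟩ htwo, by omega, by omega⟩
  · exact ⟨m, m + 1, by omega, by simp, by omega, by omega⟩

/-- At least nine non-zero terms cancel with any product of the coefficients. -/
theorem exists_zero_sum_prod [Fintype ι] (a : ι → F) (hn : 9 ≤ Fintype.card ι) (ha : ∀ y, a y ≠ 0) {Pr : F}
    (hPr : IsPhase q Pr) : ∃ t : ι → F, (∀ y, IsPhase q (t y)) ∧ ∑ y, t y * a y = 0 ∧ ∏ y, t y = Pr := by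
  have hpick : ∀ m, m ≤ Fintype.card ι → ∃ A : Finset ι, A.card = m ∧ Aᶜ.card = Fintype.card ι - m :=
    fun m hm => by
      obtain ⟨A, -, hA⟩ := Finset.exists_subset_card_eq (s := (univ : Finset ι)) (by simpa using hm)
      exact ⟨A, hA, by rw [card_compl, hA]⟩
  rcases Nat.lt_or_ge (Fintype.card ι) 10 with h9 | h10'
  · obtain ⟨A, hA, hA'⟩ := hpick 4 (by omega)
    have hA5 : Aᶜ.card = 5 := by omega
    obtain ⟨t₁, h₁, s₁⟩ := exists_zero_sum hF a A (by omega) fun y _ => ha y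
    obtain ⟨t₂, h₂, s₂⟩ := exists_zero_sum hF a Aᶜ (by omega) fun y _ => ha y
    have hp := (IsPhase.prod A t₁ h₁).mul (IsPhase.prod Aᶜ t₂ h₂)
    obtain ⟨c₁, c₂, hc₁, hc₂, hc⟩ := exists_pow_mul_pow (show Nat.Coprime 4 5 by norm_num) (hPr.div hp)
    refine ⟨_, glue a A t₁ t₂ h₁ h₂ s₁ s₂ hc₁ hc₂ ?_⟩
    rw [hA, hA5]
    rw [eq_div_iff hp.ne_zero] at hc
    linear_combination hc
  rcases Nat.lt_or_ge (Fintype.card ι) 11 with h10 | h11
  · obtain ⟨A, hA, hA'⟩ := hpick 4 (by omega)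
    have hA6 : Aᶜ.card = 6 := by omega
    obtain ⟨t₁, h₁, s₁⟩ := exists_zero_sum hF a A (by omega) fun y _ => ha y
    have hp1 := IsPhase.prod A t₁ h₁
    obtain ⟨t₂, η, h₂, hη, s₂, hp2⟩ : ∃ (t : ι → F) (η : F), (∀ y, IsPhase q (t y)) ∧ IsPhase q η ∧
        ∑ y ∈ Aᶜ, t y * a y = 0 ∧ ∏ y ∈ Aᶜ, t y = Pr / (∏ y ∈ A, t₁ y) * η ^ 2 := by
      rcases Nat.even_or_odd q with he | ho
      · obtain ⟨t, ht, hs⟩ := exists_zero_sum hF a Aᶜ (by omega) fun y _ => ha y
        obtain ⟨η, hη, hηe⟩ := exists_sqrt hF he ((IsPhase.prod Aᶜ t ht).div (hPr.div hp1))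
        exact ⟨t, η, ht, hη, hs, by rw [← hηe, mul_div_cancel₀ _ (hPr.div hp1).ne_zero]⟩
      · exact exists_zero_sum_class hF ho a Aᶜ (by omega) (fun y _ => ha y) (hPr.div hp1)
    have key := glue a A t₁ t₂ h₁ h₂ s₁ s₂ (Pr := Pr) (hη.pow 1) (hη.pow 1).inv (by
      rw [hA, hA6, hp2, pow_one]
      field_simp [hp1.ne_zero, hη.ne_zero])
    exact ⟨_, key⟩
  · obtain ⟨m₁, m₂, hm, hco, h51, h52⟩ := exists_sizes h11
    obtain ⟨A, hA, hA'⟩ := hpick m₁ (by omega)
    obtain ⟨t₁, h₁, s₁⟩ := exists_zero_sum hF a A (by omega) fun y _ => ha y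
    obtain ⟨t₂, h₂, s₂⟩ := exists_zero_sum hF a Aᶜ (by omega) fun y _ => ha y
    have hp1 := IsPhase.prod A t₁ h₁
    have hp2 := IsPhase.prod Aᶜ t₂ h₂
    obtain ⟨c₁, c₂, hc₁, hc₂, hc⟩ := exists_pow_mul_pow hco (hPr.div (hp1.mul hp2))
    refine ⟨_, glue a A t₁ t₂ h₁ h₂ s₁ s₂ hc₁ hc₂ ?_⟩
    rw [hA, hA', show Fintype.card ι - m₁ = m₂ by omega]
    rw [eq_div_iff (hp1.mul hp2).ne_zero] at hc
    linear_combination hc

/-- The cancelling family used for transvection centres in characteristic two: at least three coefficients differ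
from the one at the distinguished place. -/
theorem exists_centre_phase [Fintype ι] (hchar : (2 : F) = 0) (hn : 9 ≤ Fintype.card ι) (ν : ι → F)
    (hν : ∀ y, ν y ^ q = ν y) (hν0 : ∀ y, ν y ≠ 0) (hsum : ∑ y, ν y = 0) (i : ι) {Pr : F} (hPr : IsPhase q Pr) :
    ∃ t : ι → F, (∀ y, IsPhase q (t y)) ∧ ∑ y, t y * ν y = t i ∧ ∏ y, t y = Pr ∧
      2 < (univ.filter fun y => t y ≠ t i).card := by
  let a : ι → F := fun y => if y = i then ν y + 1 else ν y
  have hai : ∀ y, y ≠ i → a y = ν y := fun y hy => if_neg hy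
  have hconv : ∀ t : ι → F, ∑ y, t y * a y = 0 → ∑ y, t y * ν y = t i := by
    intro t ht
    have e : ∀ y, t y * a y = t y * ν y + (if y = i then t y else 0) := fun y => by
      simp only [a]; split_ifs <;> ring
    rw [Finset.sum_congr rfl fun y _ => e y, Finset.sum_add_distrib, Finset.sum_ite_eq', if_pos (mem_univ i)] at ht
    linear_combination ht - t i * hchar
  -- a part with exactly one exception cannot cancel
  have hreal : ∀ (s : Finset ι) (t : ι → F) (y : ι) (τ : F), y ∈ s → y ≠ i → (∀ z, IsPhase q (t z)) →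
      IsPhase q τ → t y ≠ τ → (∀ z ∈ s, z ≠ y → t z = τ) → ∑ z ∈ s, t z * a z = 0 → False := by
    intro s t y τ hy hyi ht hτ hyτ hrest hs
    rw [← Finset.add_sum_erase _ _ hy,
      Finset.sum_congr rfl (g := fun z => τ * a z) fun z hz => by
        rw [hrest z (mem_erase.1 hz).2 (mem_erase.1 hz).1], ← Finset.mul_sum, hai y hyi] at hs
    set B := ∑ z ∈ s.erase y, a z
    have hBq : B ^ q = B := by
      rw [← CfsgLib.Geo.UTv.frobEquiv_apply hF, map_sum]
      refine Finset.sum_congr rfl fun z _ => ?_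
      simp only [a]; split_ifs
      · rw [map_add, map_one, CfsgLib.Geo.UTv.frobEquiv_apply, hν]
      · rw [CfsgLib.Geo.UTv.frobEquiv_apply, hν]
    set ρ := t y / τ with hρ
    have hρp : IsPhase q ρ := (ht y).div hτ
    have hty : t y = ρ * τ := by rw [hρ, div_mul_cancel₀ _ hτ.ne_zero]
    have hρe : ρ * ν y + B = 0 :=
      (mul_eq_zero.1 (show τ * (ρ * ν y + B) = 0 by linear_combination hs - ν y * hty)).resolve_left hτ.ne_zero
    have hρq : ρ ^ q = ρ := by
      have h1 : ρ = -B / ν y := by rw [eq_div_iff (hν0 y)]; linear_combination hρe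
      rw [h1, div_pow, hν, ← CfsgLib.Geo.UTv.frobEquiv_apply hF (-B), map_neg, CfsgLib.Geo.UTv.frobEquiv_apply, hBq]
    have hρ1 : ρ = 1 := by
      have h1 : (ρ - 1) * (ρ - 1) = 0 := by
        have h2 : ρ * ρ ^ q = 1 := hρp
        rw [hρq] at h2
        linear_combination h2 + (1 - ρ) * hchar
      exact sub_eq_zero.1 (mul_self_eq_zero.1 h1)
    exact hyτ (by rw [hty, hρ1, one_mul])
  -- two non-constant parts give three exceptions
  have hfinish : ∀ (A : Finset ι) (t : ι → F), (∀ y, IsPhase q (t y)) → ∑ y ∈ A, t y * a y = 0 →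
      ∑ y ∈ Aᶜ, t y * a y = 0 → (∃ y ∈ A, ∃ z ∈ A, t y ≠ t z) → (∃ y ∈ Aᶜ, ∃ z ∈ Aᶜ, t y ≠ t z) →
      2 < (univ.filter fun y => t y ≠ t i).card := by
    intro A t ht hA hA' hne hne'
    by_contra hle
    have hex : ∀ s : Finset ι, (∃ y ∈ s, ∃ z ∈ s, t y ≠ t z) → ∑ y ∈ s, t y * a y = 0 →
        1 < (s.filter fun y => t y ≠ t i).card := by
      intro s ⟨y, hy, z, hz, hyz⟩ hs
      by_contra hlt
      obtain ⟨y', hy', hy'i⟩ : ∃ y' ∈ s, t y' ≠ t i := by
        by_cases h : t y = t i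
        · exact ⟨z, hz, fun e => hyz (h.trans e.symm)⟩
        · exact ⟨y, hy, h⟩
      refine hreal s t y' (t i) hy' (fun e => hy'i (e ▸ rfl)) ht (ht i) hy'i (fun w hw hwy => ?_) hs
      by_contra hwi
      exact hlt (Finset.one_lt_card.2 ⟨w, mem_filter.2 ⟨hw, hwi⟩, y', mem_filter.2 ⟨hy', hy'i⟩, hwy⟩)
    have h1 := hex A hne hA
    have h2 := hex Aᶜ hne' hA'
    have hsplit : (A.filter fun y => t y ≠ t i).card + (Aᶜ.filter fun y => t y ≠ t i).card =
        (univ.filter fun y => t y ≠ t i).card := by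
      rw [← Finset.card_union_of_disjoint (disjoint_filter_filter disjoint_compl_right), ← filter_union,
        union_compl]
    omega
  -- a non-constant cancelling family on five places
  have hpart : ∀ s : Finset ι, 5 ≤ s.card →
      ∃ t : ι → F, (∀ y, IsPhase q (t y)) ∧ ∑ y ∈ s, t y * a y = 0 ∧ ∃ y ∈ s, ∃ z ∈ s, t y ≠ t z := by
    intro s hs
    by_cases hz : i ∈ s ∧ a i = 0
    · obtain ⟨t, ht, hts⟩ := exists_zero_sum hF a (s.erase i) (by rw [card_erase_of_mem hz.1]; omega) fun y hy => by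
        rw [hai y (mem_erase.1 hy).1]; exact hν0 y
      obtain ⟨z, hz'⟩ := (Finset.card_pos (s := s.erase i)).1 (by rw [card_erase_of_mem hz.1]; omega)
      obtain ⟨r, hr, hrz, -⟩ := exists_phase_avoid hF (t z) 0
      refine ⟨Function.update t i r, fun y => ?_, ?_, i, hz.1, z, (mem_erase.1 hz').2, ?_⟩
      · rcases eq_or_ne y i with rfl | h
        · simpa using hr
        · simpa [Function.update_of_ne h] using ht y
      · rw [← Finset.add_sum_erase _ _ hz.1, hz.2, mul_zero, zero_add, ← hts]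
        exact Finset.sum_congr rfl fun y hy => by rw [Function.update_of_ne (mem_erase.1 hy).1]
      · rwa [Function.update_self, Function.update_of_ne (mem_erase.1 hz').1]
    · obtain ⟨y₁, hy₁, y₂, hy₂, h12⟩ := Finset.one_lt_card.1 (by omega : 1 < s.card)
      obtain ⟨t, ht, hts, hne⟩ := exists_zero_sum_ne hF a s hs (fun y hy => by
        rcases eq_or_ne y i with rfl | hyi
        · exact fun h0 => hz ⟨hy, h0⟩
        · rw [hai y hyi]; exact hν0 y) hy₁ hy₂ h12
      exact ⟨t, ht, hts, y₁, hy₁, y₂, hy₂, hne⟩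
  have hkeep : ∀ {s : Finset ι} {c : F} {t t' : ι → F}, IsPhase q c → (∀ y ∈ s, t' y = c * t y) →
      ∑ y ∈ s, t y * a y = 0 → (∃ y ∈ s, ∃ z ∈ s, t y ≠ t z) →
      (∑ y ∈ s, t' y * a y = 0 ∧ ∃ y ∈ s, ∃ z ∈ s, t' y ≠ t' z) := by
    intro s c t t' hc he hs ⟨y, hy, z, hz, hyz⟩
    refine ⟨?_, y, hy, z, hz, fun e => hyz (mul_left_cancel₀ hc.ne_zero (by rwa [he y hy, he z hz] at e))⟩
    rw [Finset.sum_congr rfl (g := fun y => c * (t y * a y)) fun y hy => by rw [he y hy, mul_assoc],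
      ← Finset.mul_sum, hs, mul_zero]
  rcases Nat.lt_or_ge (Fintype.card ι) 11 with h10 | h11
  · -- nine or ten places, split as four and the rest
    obtain ⟨B, hBsub, hB⟩ := Finset.exists_subset_card_eq (s := (univ.erase i : Finset ι)) (n := 4)
      (by rw [card_erase_of_mem (mem_univ i), card_univ]; omega)
    obtain ⟨A, hA4, hiA, t₁, h₁, s₁, hne₁⟩ : ∃ A : Finset ι, A.card = 4 ∧ i ∉ A ∧ ∃ t : ι → F,
        (∀ y, IsPhase q (t y)) ∧ ∑ y ∈ A, t y * a y = 0 ∧ ∃ y ∈ A, ∃ z ∈ A, t y ≠ t z := by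
      by_cases hex : ∃ A : Finset ι, A.card = 4 ∧ i ∉ A ∧ ∑ y ∈ A, a y ≠ 0
      · obtain ⟨A, hA, hiA, hs⟩ := hex
        obtain ⟨t, ht, hts⟩ := exists_zero_sum hF a A (by omega) fun y hy => by
          rw [hai y (fun e => hiA (e ▸ hy))]; exact hν0 y
        refine ⟨A, hA, hiA, t, ht, hts, ?_⟩
        by_contra hconst
        push Not at hconst
        obtain ⟨y, hy⟩ := Finset.card_pos.1 (by omega : 0 < A.card)
        rw [Finset.sum_congr rfl (g := fun z => t y * a z) fun z hz => by rw [hconst z hz y hy], ← Finset.mul_sum,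
          mul_eq_zero] at hts
        exact hts.elim (ht y).ne_zero hs
      · push Not at hex
        have hiB : i ∉ B := fun h => (mem_erase.1 (hBsub h)).1 rfl
        -- all values off the place `i` agree
        have heq : ∀ y z, y ≠ i → z ≠ i → ν y = ν z := by
          intro y z hy hz
          by_contra hne
          have hyz : y ≠ z := fun e => hne (by rw [e])
          obtain ⟨C, hCsub, hC⟩ := Finset.exists_subset_card_eq
            (s := (((univ.erase i).erase y).erase z : Finset ι)) (n := 3) (by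
              rw [card_erase_of_mem (mem_erase.2 ⟨Ne.symm hyz, mem_erase.2 ⟨hz, mem_univ z⟩⟩),
                card_erase_of_mem (mem_erase.2 ⟨hy, mem_univ y⟩), card_erase_of_mem (mem_univ i), card_univ]
              omega)
          have hw : ∀ w ∈ C, w ≠ z ∧ w ≠ y ∧ w ≠ i := fun w hw => by
            have h := hCsub hw; simp only [mem_erase] at h; exact ⟨h.1, h.2.1, h.2.2.1⟩
          have hins : ∀ w, w ≠ i → w ∉ C → ν w + ∑ x ∈ C, a x = 0 := fun w hwi hwC => by
            have h := hex (insert w C) (by rw [card_insert_of_notMem hwC, hC]) (by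
              rw [mem_insert]; rintro (h | h)
              · exact hwi h.symm
              · exact (hw i h).2.2 rfl)
            rwa [sum_insert hwC, hai w hwi] at h
          exact hne (by linear_combination hins y hy (fun h => (hw y h).2.1 rfl) - hins z hz (fun h => (hw z h).1 rfl))
        obtain ⟨r, hr, hr1, -⟩ := exists_phase_avoid hF (1 : F) 0
        obtain ⟨y₁, hy₁⟩ := Finset.card_pos.1 (by omega : 0 < B.card)
        obtain ⟨y₂, hy₂⟩ := (Finset.card_pos (s := B.erase y₁)).1 (by rw [card_erase_of_mem hy₁]; omega)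
        have hrest : ((B.erase y₁).erase y₂).card = 2 := by
          rw [card_erase_of_mem hy₂, card_erase_of_mem hy₁]; omega
        refine ⟨B, hB, hiB, fun w => if w = y₁ ∨ w = y₂ then 1 else r, fun w => by
          dsimp only; split_ifs <;> [exact IsPhase.one; exact hr], ?_, ?_⟩
        · have hval : ∀ w ∈ B, a w = ν y₁ := fun w hw => by
            rw [hai w (fun e => hiB (e ▸ hw))]
            exact heq _ _ (fun e => hiB (e ▸ hw)) (fun e => hiB (e ▸ hy₁))
          rw [Finset.sum_congr rfl (g := fun w => (if w = y₁ ∨ w = y₂ then (1 : F) else r) * ν y₁) fun w hw => by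
            rw [hval w hw], ← Finset.sum_mul, ← Finset.add_sum_erase _ _ hy₁, ← Finset.add_sum_erase _ _ hy₂,
            Finset.sum_congr rfl (g := fun _ => r) fun w hw => by
              simp only [mem_erase] at hw; simp [hw.1, hw.2.1], Finset.sum_const, hrest]
          simp only [true_or, or_true, if_true, nsmul_eq_mul, Nat.cast_ofNat]
          linear_combination ν y₁ * (1 + r) * hchar
        · obtain ⟨w, hw⟩ := Finset.card_pos.1 (by omega : 0 < ((B.erase y₁).erase y₂).card)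
          simp only [mem_erase] at hw
          exact ⟨y₁, hy₁, w, hw.2.2, by simp [hw.1, hw.2.1, Ne.symm hr1]⟩
    obtain ⟨t₂, h₂, s₂, hne₂⟩ := hpart Aᶜ (by rw [card_compl, hA4]; omega)
    have heven : Even q := by
      obtain ⟨p, hp⟩ := CharP.exists F
      obtain ⟨⟨m, hm⟩, hpp, hcard⟩ := FiniteField.card F p
      rw [← Nat.card_eq_fintype_card, hF] at hcard
      have hp2 : p ∣ 2 := (CharP.cast_eq_zero_iff F p 2).1 (by exact_mod_cast hchar)
      obtain rfl := (Nat.prime_dvd_prime_iff_eq hpp Nat.prime_two).1 hp2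
      have h2 : Even (q ^ 2) := hcard ▸ (Nat.even_pow.2 ⟨even_two, Nat.pos_iff_ne_zero.1 hm⟩)
      exact (Nat.even_pow.1 h2).1
    have hp1 := IsPhase.prod A t₁ h₁
    have hp2 := IsPhase.prod Aᶜ t₂ h₂
    obtain ⟨c₁, c₂, hc₁, hc₂, hc⟩ : ∃ c₁ c₂ : F, IsPhase q c₁ ∧ IsPhase q c₂ ∧
        c₁ ^ A.card * c₂ ^ Aᶜ.card = Pr / ((∏ y ∈ A, t₁ y) * ∏ y ∈ Aᶜ, t₂ y) := by
      rw [hA4, card_compl, hA4]
      rcases (show Fintype.card ι = 9 ∨ Fintype.card ι = 10 by omega) with h | h <;> rw [h]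
      · obtain ⟨c₁, c₂, hc₁, hc₂, hc⟩ :=
          exists_pow_mul_pow (show Nat.Coprime 4 5 by norm_num) (hPr.div (hp1.mul hp2))
        exact ⟨c₁, c₂, hc₁, hc₂, hc⟩
      · obtain ⟨η, hη, hηe⟩ := exists_sqrt hF heven (hPr.div (hp1.mul hp2))
        exact ⟨η⁻¹, η, hη.inv, hη, by rw [hηe]; field_simp [hη.ne_zero]⟩
    rw [eq_div_iff (hp1.mul hp2).ne_zero] at hc
    obtain ⟨g1, g2, g3⟩ := glue a A t₁ t₂ h₁ h₂ s₁ s₂ (Pr := Pr) hc₁ hc₂ (by linear_combination hc)
    refine ⟨_, g1, hconv _ g2, g3, ?_⟩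
    obtain ⟨e1, e2⟩ := hkeep hc₁ (fun y hy => if_pos hy) s₁ hne₁ (t' := fun y => if y ∈ A then c₁ * t₁ y else c₂ * t₂ y)
    obtain ⟨e3, e4⟩ := hkeep hc₂ (fun y hy => if_neg (Finset.mem_compl.1 hy)) s₂ hne₂
      (t' := fun y => if y ∈ A then c₁ * t₁ y else c₂ * t₂ y)
    exact hfinish A _ g1 e1 e3 e2 e4
  · obtain ⟨m₁, m₂, hm, hco, h51, h52⟩ := exists_sizes h11
    obtain ⟨A, -, hA⟩ := Finset.exists_subset_card_eq (s := (univ : Finset ι)) (n := m₁) (by rw [card_univ]; omega)
    have hA' : Aᶜ.card = m₂ := by rw [card_compl, hA]; omega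
    obtain ⟨t₁, h₁, s₁, hne₁⟩ := hpart A (by omega)
    obtain ⟨t₂, h₂, s₂, hne₂⟩ := hpart Aᶜ (by omega)
    have hp1 := IsPhase.prod A t₁ h₁
    have hp2 := IsPhase.prod Aᶜ t₂ h₂
    obtain ⟨c₁, c₂, hc₁, hc₂, hc⟩ := exists_pow_mul_pow hco (hPr.div (hp1.mul hp2))
    rw [eq_div_iff (hp1.mul hp2).ne_zero] at hc
    obtain ⟨g1, g2, g3⟩ := glue a A t₁ t₂ h₁ h₂ s₁ s₂ (Pr := Pr) hc₁ hc₂ (by
      rw [hA, hA']; linear_combination hc)
    refine ⟨_, g1, hconv _ g2, g3, ?_⟩
    obtain ⟨e1, e2⟩ := hkeep hc₁ (fun y hy => if_pos hy) s₁ hne₁ (t' := fun y => if y ∈ A then c₁ * t₁ y else c₂ * t₂ y)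
    obtain ⟨e3, e4⟩ := hkeep hc₂ (fun y hy => if_neg (Finset.mem_compl.1 hy)) s₂ hne₂
      (t' := fun y => if y ∈ A then c₁ * t₁ y else c₂ * t₂ y)
    exact hfinish A _ g1 e1 e3 e2 e4

end CfsgLib.Geo.UTv
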