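/-
Vanishing twisted sums on six places: the families used for the frame stabiliser of the six-dimensional unitary
group.
-/
import Cfsg.Agent.Geo.UnitPhase

set_option autoImplicit false

namespace CfsgLib.Geo.UTv

open Finset

variable {q : ℕ} {F : Type*} [Field F] [Fintype F] [DecidableEq F] (hF : Nat.card F = q ^ 2)
include hF

omit [DecidableEq F] in
lemma ringChar_ne_two (hq : Odd q) : ringChar F ≠ 2 := fun h => by
  have h1 := FiniteField.even_card_of_char_two h
  rw [← Nat.card_eq_fintype_card, hF, ← Nat.even_iff, Nat.even_pow] at h1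
  exact Nat.not_even_iff_odd.2 hq h1.1

omit [Fintype F] [DecidableEq F] hF in
lemma IsPhase.neg {t : F} (ht : IsPhase q t) (hq : Odd q) : IsPhase q (-t) := by
  unfold IsPhase at *
  rw [hq.neg_pow]
  linear_combination ht

omit [DecidableEq F] in
/-- The quotient by the conjugate has norm one. -/
lemma phase_quot {x : F} (hx : x ≠ 0) : IsPhase q (x / x ^ q) := by
  rw [IsPhase, div_pow, CfsgLib.Forms.pow_q_q hF, div_mul_div_comm, mul_comm, div_self]
  exact mul_ne_zero (pow_ne_zero _ hx) hx

omit [DecidableEq F] in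
/-- Squares give squares of norm-one elements. -/
lemma quot_of_isSquare {x : F} (hx : x ≠ 0) (h : IsSquare x) :
    ∃ η : F, IsPhase q η ∧ x / x ^ q = η ^ 2 := by
  obtain ⟨r, rfl⟩ := h
  refine ⟨r / r ^ q, phase_quot hF (left_ne_zero_of_mul hx), ?_⟩
  rw [div_pow, mul_pow]; ring

omit [DecidableEq F] in
/-- An element of trivial class is the square of an element of norm one. -/
lemma exists_sq_of_class {h : ℕ} (hh : q = 2 * h + 1) {x : F} (hx : x ^ (h + 1) = 1) :
    ∃ η : F, IsPhase q η ∧ x = η ^ 2 := by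
  have hx0 : x ≠ 0 := fun e => by rw [e, zero_pow (by omega)] at hx; exact zero_ne_one hx
  have hc : Fintype.card F / 2 = (h + 1) * (2 * h) := by
    rw [← Nat.card_eq_fintype_card, hF, hh, show (2 * h + 1) ^ 2 = 2 * ((h + 1) * (2 * h)) + 1 by ring]
    omega
  obtain ⟨r, hr⟩ := (FiniteField.isSquare_iff (ringChar_ne_two hF ⟨h, hh⟩) hx0).2
    (by rw [hc, pow_mul, hx, one_pow])
  refine ⟨r, ?_, by rw [hr, sq]⟩
  rw [IsPhase, ← pow_succ', show q + 1 = 2 * (h + 1) by omega, pow_mul, sq, ← hr, hx]

omit [DecidableEq F] in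
/-- A quotient by the conjugate of trivial class comes from a square. -/
lemma isSquare_of_quot {h : ℕ} (hh : q = 2 * h + 1) {x : F} (hx : x ≠ 0) (hκ : (x / x ^ q) ^ (h + 1) = 1) :
    IsSquare x := by
  refine (FiniteField.isSquare_iff (ringChar_ne_two hF ⟨h, hh⟩) hx).2 ?_
  have hc : Fintype.card F / 2 = (h + 1) * (2 * h) := by
    rw [← Nat.card_eq_fintype_card, hF, hh, show (2 * h + 1) ^ 2 = 2 * ((h + 1) * (2 * h)) + 1 by ring]
    omega
  rw [div_pow, div_eq_one_iff_eq (pow_ne_zero _ (pow_ne_zero _ hx)), ← pow_mul,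
    show q * (h + 1) = (h + 1) + (h + 1) * (2 * h) by rw [hh]; ring, pow_add x (h + 1)] at hκ
  rw [hc]
  exact mul_left_cancel₀ (pow_ne_zero (h + 1) hx) (by rw [mul_one]; exact hκ.symm)

/-- Four terms whose leading quotient has non-trivial class cancel with either class of product. -/
lemma exists_zero_four_class {h : ℕ} (hh : q = 2 * h + 1) {R b c d ξ : F} (hR : R ≠ 0) (hb : b ≠ 0) (hc : c ≠ 0)
    (hd : d ≠ 0) (hκ1 : (R * b ^ q / (R ^ q * b)) ^ (h + 1) ≠ 1) (hξ : IsPhase q ξ) :
    ∃ u s r η : F, IsPhase q u ∧ IsPhase q s ∧ IsPhase q r ∧ IsPhase q η ∧ R + u * b + s * (c + r * d) = 0 ∧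
      u * s * (s * r) = ξ * η ^ 2 := by
  have hneg : ∀ x : F, IsPhase q x → x ^ (h + 1) ≠ 1 → x ^ (h + 1) = -1 := fun x hx h1 => by
    refine (mul_self_eq_one_iff.1 ?_).resolve_left h1
    rw [← pow_add, show h + 1 + (h + 1) = q + 1 by omega, pow_succ']
    exact hx
  obtain ⟨u, s, r, hu, hs, hr, h0⟩ := exists_align hF hR hb hc hd
  set κ := R * b ^ q / (R ^ q * b) with hκdef
  have hκ : IsPhase q κ := by
    have hx0 : R * b ^ q ≠ 0 := mul_ne_zero hR (pow_ne_zero _ hb)
    rw [hκdef, show R ^ q * b = (R * b ^ q) ^ q by rw [mul_pow, CfsgLib.Forms.pow_q_q hF]]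
    exact phase_quot hF hx0
  by_cases hcl : (u * r / ξ) ^ (h + 1) = 1
  · obtain ⟨η, hη, he⟩ := exists_sq_of_class hF hh hcl
    refine ⟨u, s, r, η * s, hu, hs, hr, hη.mul hs, h0, ?_⟩
    rw [mul_pow, ← he]
    field_simp [hξ.ne_zero]
  -- the mirrored solution
  set u' := κ / u with hu'
  have hu'p : IsPhase q u' := hκ.div hu
  have hnorm : (R + u' * b) * (R + u' * b) ^ q = (R + u * b) * (R + u * b) ^ q := by
    have e1 : u ^ q = u⁻¹ := eq_inv_of_mul_eq_one_right hu
    have e2 : u' ^ q = u'⁻¹ := eq_inv_of_mul_eq_one_right hu'p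
    rw [CfsgLib.Forms.add_pow_q hF R (u' * b), CfsgLib.Forms.add_pow_q hF R (u * b), mul_pow, mul_pow,
      e1, e2, hu', hκdef]
    have := hu.ne_zero
    have := pow_ne_zero q hR
    have := pow_ne_zero q hb
    field_simp
  obtain ⟨s', hs', h0'⟩ : ∃ s' : F, IsPhase q s' ∧ R + u' * b + s' * (c + r * d) = 0 := by
    have hzero : ∀ x : F, x * x ^ q = 0 → x = 0 := fun x hx =>
      (mul_eq_zero.1 hx).elim id eq_zero_of_pow_eq_zero
    by_cases h1 : R + u * b = 0
    · refine ⟨s, hs, ?_⟩
      have h00 : R + u' * b = 0 := hzero _ (by rw [hnorm, h1, zero_mul])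
      rw [h1, zero_add] at h0
      rw [h00, zero_add, h0]
    · refine ⟨s * ((R + u' * b) / (R + u * b)), hs.mul ?_, ?_⟩
      · rw [IsPhase, div_pow, div_mul_div_comm, hnorm, div_self (mul_ne_zero h1 (pow_ne_zero _ h1))]
      · have hw : s * (c + r * d) = -(R + u * b) := by linear_combination h0
        rw [mul_right_comm, hw, neg_mul, mul_div_cancel₀ _ h1, add_neg_cancel]
  have hcl' : (u' * r / ξ) ^ (h + 1) = 1 := by
    have e : u' * r / ξ = κ / (u ^ 2) * (u * r / ξ) := by
      rw [hu']; field_simp [hu.ne_zero, hξ.ne_zero]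
    rw [e, mul_pow, hneg _ ((hu.mul hr).div hξ) hcl, div_pow, hneg _ hκ hκ1, ← pow_mul,
      show 2 * (h + 1) = q + 1 by omega, pow_succ', hu]
    ring
  obtain ⟨η, hη, he⟩ := exists_sq_of_class hF hh hcl'
  refine ⟨u', s', r, η * s', hu'p, hs', hr, hη.mul hs', h0', ?_⟩
  rw [mul_pow, ← he]
  field_simp [hξ.ne_zero]

/-- Six non-zero entries have a monomial twist orthogonal to them in which one pair of places cancels. -/
lemma exists_pairing_six (hq : Odd q) (v : Fin 6 → F) (hv : ∀ r, v r ≠ 0) :
    ∃ (π : Equiv.Perm (Fin 6)) (t : Fin 6 → F) (y : Fin 6), (∀ r, π (π r) = r) ∧ π y ≠ y ∧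
      (∀ r, IsPhase q (t r)) ∧ ((Equiv.Perm.sign π : ℤ) : F) * ∏ r, t r = 1 ∧
      ∑ r, t r * v r * v (π r) ^ q = 0 ∧
      t y * v y * v (π y) ^ q + t (π y) * v (π y) * v y ^ q = 0 := by
  obtain ⟨h, hh⟩ := id hq
  let x : (Fin 6 → F) → Fin 6 → Fin 6 → F := fun v a b => v a * v b ^ q
  have hx0 : ∀ (w : Fin 6 → F), (∀ r, w r ≠ 0) → ∀ a b, x w a b ≠ 0 := fun w hw a b =>
    mul_ne_zero (hw a) (pow_ne_zero _ (hw b))
  have hcancel : ∀ (w : Fin 6 → F), (∀ r, w r ≠ 0) → ∀ (a b : Fin 6) (c : F),
      c * w a * w b ^ q + -(c * (x w a b / x w a b ^ q)) * w b * w a ^ q = 0 := by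
    intro w hw a b c
    have e : x w a b ^ q = w a ^ q * w b := by simp only [x]; rw [mul_pow, CfsgLib.Forms.pow_q_q hF]
    have := hw b
    have := pow_ne_zero q (hw a)
    rw [e]; simp only [x]
    field_simp
    ring
  -- equivalence of the square classes of a product and of a quotient
  have hNsq : ∀ (w : Fin 6 → F) (a b : Fin 6), (∀ r, w r ≠ 0) → (IsSquare (x w a b) ↔ IsSquare (w a / w b)) := by
    intro w a b hw
    have e : x w a b = w a / w b * (w b ^ (h + 1)) ^ 2 := by
      simp only [x]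
      rw [← pow_mul, show (h + 1) * 2 = q + 1 by omega, pow_succ]
      field_simp [hw b]
    constructor
    · rintro ⟨r, hr⟩
      refine ⟨r / w b ^ (h + 1), ?_⟩
      rw [e] at hr
      have := pow_ne_zero (h + 1) (hw b)
      field_simp
      field_simp at hr
      linear_combination hr
    · rintro ⟨r, hr⟩
      exact ⟨r * w b ^ (h + 1), by rw [e, hr]; ring⟩
  by_cases hex : ∃ z z', z ≠ z' ∧ ¬ IsSquare (v z / v z')
  · obtain ⟨z, z', hzz, hns⟩ := hex
    -- bring the two places to `2` and `3`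
    obtain ⟨e, he2, he3⟩ : ∃ e : Equiv.Perm (Fin 6), e 2 = z ∧ e 3 = z' := by
      let e0 : Equiv.Perm (Fin 6) := Equiv.swap 2 z
      refine ⟨e0 * Equiv.swap 3 (e0 z'), ?_, ?_⟩
      · rw [Equiv.Perm.mul_apply, Equiv.swap_apply_of_ne_of_ne (a := 3) (x := (2 : Fin 6)) (by decide) (fun hc => hzz ?_),
          Equiv.swap_apply_left]
        have := congrArg e0 hc
        rwa [Equiv.swap_apply_left, Equiv.swap_apply_self] at this
      · rw [Equiv.Perm.mul_apply, Equiv.swap_apply_left, Equiv.swap_apply_self]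
    set w : Fin 6 → F := fun r => v (e r) with hw
    have hw0 : ∀ r, w r ≠ 0 := fun r => hv _
    have hκ : (x w 2 3 * (w 4 * w 4 ^ q) ^ q / (x w 2 3 ^ q * (w 4 * w 4 ^ q))) ^ (h + 1) ≠ 1 := by
      rw [norm_fix hF, mul_div_mul_right _ _ (mul_ne_zero (hw0 4) (pow_ne_zero _ (hw0 4)))]
      intro hc
      refine hns ?_
      have := (hNsq w 2 3 hw0).1 (isSquare_of_quot hF hh (hx0 w hw0 2 3) hc)
      rw [← he2, ← he3]; exact this
    set W := x w 0 1 / x w 0 1 ^ q with hW
    have hWp : IsPhase q W := phase_quot hF (hx0 w hw0 0 1)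
    obtain ⟨u, s, r, η, hu, hs, hr, hη, hsum, hprod⟩ := exists_zero_four_class hF hh (hx0 w hw0 2 3)
      (mul_ne_zero (hw0 4) (pow_ne_zero _ (hw0 4))) (hx0 w hw0 3 2)
      (mul_ne_zero (hw0 5) (pow_ne_zero _ (hw0 5))) hκ (hWp.inv.neg hq)
    set π0 : Equiv.Perm (Fin 6) := Equiv.swap 0 1 * Equiv.swap 2 3 with hπ0
    set t0 : Fin 6 → F := ![η⁻¹, -(η⁻¹ * W), 1, s, u, s * r] with ht0
    have hinv : ∀ a, π0 (π0 a) = a := by rw [hπ0]; decide
    have hsign : Equiv.Perm.sign π0 = 1 := by
      rw [hπ0, map_mul, Equiv.Perm.sign_swap (by decide), Equiv.Perm.sign_swap (by decide)]; rfl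
    refine ⟨e * π0 * e⁻¹, fun a => t0 (e.symm a), e 0, fun a => ?_, ?_, fun a => ?_, ?_, ?_, ?_⟩
    · simp only [Equiv.Perm.mul_apply, Equiv.Perm.coe_inv, Equiv.symm_apply_apply, hinv, Equiv.apply_symm_apply]
    · simp only [Equiv.Perm.mul_apply, Equiv.Perm.coe_inv, Equiv.symm_apply_apply, ne_eq, EmbeddingLike.apply_eq_iff_eq]
      rw [hπ0]; decide
    · show IsPhase q (t0 (e.symm a))
      generalize e.symm a = b
      fin_cases b <;> simp [t0] <;>
        first | exact hη.inv | exact (hη.inv.mul hWp).neg hq | exact IsPhase.one | exact hs | exact hu | exact hs.mul hr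
    · rw [map_mul, map_mul, map_inv, hsign, mul_one, mul_inv_cancel, Units.val_one, Int.cast_one, one_mul,
        Equiv.prod_comp e.symm t0, Fin.prod_univ_six]
      simp [t0]
      have hW0 := hWp.ne_zero
      have hη0 := hη.ne_zero
      calc -(η⁻¹ * (η⁻¹ * W) * s * u * (s * r)) = -(η⁻¹ * η⁻¹ * W) * (u * s * (s * r)) := by ring
        _ = 1 := by rw [hprod]; field_simp
    · rw [← Equiv.sum_comp e, Fin.sum_univ_six]
      simp only [Equiv.Perm.mul_apply, Equiv.Perm.coe_inv, Equiv.symm_apply_apply, ← hw]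
      simp [t0, π0, Equiv.swap_apply_of_ne_of_ne, hW]
      simp only [hw, x] at hsum ⊢
      have h1 := hcancel w hw0 0 1 η⁻¹
      simp only [hw, x] at h1
      linear_combination h1 + hsum
    · simp only [Equiv.Perm.mul_apply, Equiv.Perm.coe_inv, Equiv.symm_apply_apply]
      simp [t0, π0, Equiv.swap_apply_of_ne_of_ne, hW]
      have h1 := hcancel w hw0 0 1 η⁻¹
      simp only [hw, x] at h1 ⊢
      linear_combination h1
  · push Not at hex
    have hsq : ∀ a b, a ≠ b → ∃ η : F, IsPhase q η ∧ x v a b / x v a b ^ q = η ^ 2 := fun a b hab =>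
      quot_of_isSquare hF (hx0 v hv a b) ((hNsq v a b hv).2 (hex a b hab))
    obtain ⟨η1, h1, e1⟩ := hsq 0 1 (by decide)
    obtain ⟨η2, h2, e2⟩ := hsq 2 3 (by decide)
    obtain ⟨η3, h3, e3⟩ := hsq 4 5 (by decide)
    set c := (η1 * η2 * η3)⁻¹ with hc
    set π0 : Equiv.Perm (Fin 6) := Equiv.swap 0 1 * Equiv.swap 2 3 * Equiv.swap 4 5 with hπ0
    have hp1 : IsPhase q (1 : F) := IsPhase.one
    refine ⟨π0, ![c, -(c * η1 ^ 2), 1, -(1 * η2 ^ 2), 1, -(1 * η3 ^ 2)], 0, by rw [hπ0]; decide,
      by rw [hπ0]; decide, fun b => ?_, ?_, ?_, ?_⟩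
    · have hcp : IsPhase q c := ((h1.mul h2).mul h3).inv
      fin_cases b <;> simp <;>
        first | exact hcp | exact IsPhase.one | exact (hcp.mul (h1.pow 2)).neg hq | exact (h2.pow 2).neg hq | exact (h3.pow 2).neg hq
    · rw [hπ0, map_mul, map_mul, Equiv.Perm.sign_swap (by decide), Equiv.Perm.sign_swap (by decide),
        Equiv.Perm.sign_swap (by decide), Fin.prod_univ_six]
      simp
      rw [hc]
      have := h1.ne_zero; have := h2.ne_zero; have := h3.ne_zero
      field_simp
    · rw [Fin.sum_univ_six]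
      simp [hπ0, Equiv.swap_apply_of_ne_of_ne]
      have k1 := hcancel v hv 0 1 c
      have k2 := hcancel v hv 2 3 1
      have k3 := hcancel v hv 4 5 1
      rw [e1] at k1; rw [e2] at k2; rw [e3] at k3
      linear_combination k1 + k2 + k3
    · simp [hπ0, Equiv.swap_apply_of_ne_of_ne]
      have k1 := hcancel v hv 0 1 c
      rw [e1] at k1
      linear_combination k1

omit [DecidableEq F] in
lemma phase_sq_inj (h2 : (2 : F) = 0) {a b : F} (h : a ^ 2 = b ^ 2) : a = b := by
  have : (a - b) * (a - b) = 0 := by linear_combination h + (b * b - a * b) * h2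
  exact sub_eq_zero.1 (mul_self_eq_zero.1 this)

/-- In characteristic two, cubes of norm-one elements avoid any given value. -/
lemma exists_cube_avoid (h2 : (2 : F) = 0) (hq : 3 ≤ q) (K : F) : ∃ d : F, IsPhase q d ∧ d ^ 3 ≠ K := by
  by_contra hcon
  push Not at hcon
  have hsub : (univ.filter fun t : F => t * t ^ q = 1).val ⊆ Polynomial.nthRoots 3 K := fun t ht => by
    rw [Polynomial.mem_nthRoots (by norm_num)]
    exact hcon t (Finset.mem_filter.1 ht).2
  have h1 := (Multiset.card_le_card ((Multiset.le_iff_subset (Finset.nodup _)).2 hsub)).trans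
    (Polynomial.card_nthRoots 3 K)
  rw [Finset.card_val, card_phase hF] at h1
  omega

/-- In characteristic two a monomial twist sends a centre to one with a zero and at least three entries. -/
lemma exists_centre_six (h2 : (2 : F) = 0) (heven : Even q) (hq : 3 ≤ q) (w : Fin 6 → F) (hw : ∀ r, w r ≠ 0)
    (hsum : ∑ r, w r * w r ^ q = 0) :
    ∃ (π : Equiv.Perm (Fin 6)) (t : Fin 6 → F) (k : Fin 6), (∀ r, IsPhase q (t r)) ∧ ∏ r, t r = 1 ∧
      t k * w k + (∑ r, t r * w r * w (π r) ^ q) * w (π k) = 0 ∧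
      2 < (univ.filter fun r => t r * w r + (∑ r, t r * w r * w (π r) ^ q) * w (π r) ≠ 0).card := by
  have hneg : ∀ x : F, x + x = 0 := fun x => by linear_combination x * h2
  set ν : Fin 6 → F := fun r => w r * w r ^ q with hν
  have hν0 : ∀ r, ν r ≠ 0 := fun r => mul_ne_zero (hw r) (pow_ne_zero _ (hw r))
  by_cases hone : ∃ i, ν i = 1
  · obtain ⟨i, hi⟩ := hone
    obtain ⟨s, hs, hs0⟩ := exists_zero_sum hF ν (univ.erase i) (by simp) fun r _ => hν0 r
    set P := ∏ r ∈ univ.erase i, s r with hP
    have hPp : IsPhase q P := IsPhase.prod _ _ hs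
    have hcard : (univ.erase i : Finset (Fin 6)).card = 5 := by simp
    obtain ⟨c, hc, hfew⟩ : ∃ c : F, IsPhase q c ∧
        ((univ.erase i).filter fun r => s r = (c ^ 6 * P)⁻¹).card ≤ 2 := by
      by_contra hcon
      push Not at hcon
      obtain ⟨d, hd, hd1⟩ := exists_cube_avoid hF h2 hq 1
      have g1 := hcon 1 IsPhase.one
      have g2 := hcon d hd
      have hdis : Disjoint ((univ.erase i).filter fun r => s r = (1 ^ 6 * P)⁻¹)
          ((univ.erase i).filter fun r => s r = (d ^ 6 * P)⁻¹) := by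
        refine Finset.disjoint_left.2 fun r hr hr' => hd1 (phase_sq_inj hF h2 ?_)
        have e := inv_injective ((Finset.mem_filter.1 hr).2.symm.trans (Finset.mem_filter.1 hr').2)
        have := mul_right_cancel₀ hPp.ne_zero e
        rw [← pow_mul]; linear_combination -this
      have := Finset.card_le_card (Finset.union_subset (Finset.filter_subset _ (univ.erase i))
        (Finset.filter_subset _ (univ.erase i)) :
          ((univ.erase i).filter fun r => s r = (1 ^ 6 * P)⁻¹) ∪
            ((univ.erase i).filter fun r => s r = (d ^ 6 * P)⁻¹) ⊆ univ.erase i)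
      rw [Finset.card_union_of_disjoint hdis] at this
      omega
    set t : Fin 6 → F := fun r => if r = i then (c ^ 5 * P)⁻¹ else c * s r with ht
    have hS : ∑ r, t r * w r * w ((1 : Equiv.Perm (Fin 6)) r) ^ q = t i := by
      rw [← Finset.add_sum_erase _ _ (mem_univ i), Finset.sum_congr rfl (g := fun r => c * (s r * ν r))
        (fun r hr => by simp [t, (mem_erase.1 hr).1, ν]; ring), ← Finset.mul_sum, hs0, mul_zero, add_zero]
      simp only [Equiv.Perm.one_apply]
      rw [mul_assoc, show w i * w i ^ q = 1 from hi, mul_one]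
    refine ⟨1, t, i, fun r => ?_, ?_, ?_, ?_⟩
    · simp only [t]; split_ifs
      · exact ((hc.pow 5).mul hPp).inv
      · exact hc.mul (hs r)
    · rw [← Finset.mul_prod_erase _ _ (mem_univ i), Finset.prod_congr rfl (g := fun r => c * s r)
        (fun r hr => by simp [t, (mem_erase.1 hr).1]), Finset.prod_mul_distrib, Finset.prod_const, hcard, ← hP]
      simp only [t, if_true]
      exact inv_mul_cancel₀ (mul_ne_zero (pow_ne_zero _ hc.ne_zero) hPp.ne_zero)
    · rw [hS, Equiv.Perm.one_apply]; exact hneg _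
    · rw [hS]
      have h5 := Finset.card_filter_add_card_filter_not (s := univ.erase i)
        (fun r => s r = (c ^ 6 * P)⁻¹)
      rw [hcard] at h5
      refine lt_of_lt_of_le (show 2 < ((univ.erase i).filter fun r => ¬ s r = (c ^ 6 * P)⁻¹).card by omega)
        (Finset.card_le_card fun r hr => ?_)
      obtain ⟨hri, hne⟩ := mem_filter.1 hr
      refine mem_filter.2 ⟨mem_univ r, fun h0 => hne ?_⟩
      rw [Equiv.Perm.one_apply] at h0
      have h3 : t r = t i :=
        mul_right_cancel₀ (hw r) (by linear_combination h0 - t i * w r * h2)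
      simp only [t, if_true, (mem_erase.1 hri).1, if_false] at h3
      refine mul_left_cancel₀ hc.ne_zero ?_
      rw [h3]
      field_simp [hc.ne_zero, hPp.ne_zero]
  · push Not at hone
    obtain ⟨y, z, hyz, hyz1⟩ : ∃ y z : Fin 6, y ≠ z ∧ ν y + ν z ≠ 1 := by
      by_contra hcon
      push Not at hcon
      exact one_ne_zero (α := F) (by
        linear_combination (ν 0 + ν 1 + ν 2 - 1) * h2 - hcon 0 1 (by decide) - hcon 0 2 (by decide) -
          hcon 1 2 (by decide))
    set Q := ((univ : Finset (Fin 6)).erase y).erase z with hQ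
    have hQ4 : Q.card = 4 := by
      rw [hQ, card_erase_of_mem (mem_erase.2 ⟨Ne.symm hyz, mem_univ z⟩), card_erase_of_mem (mem_univ y)]
      simp
    obtain ⟨i, hiQ⟩ := Finset.card_pos.1 (show 0 < Q.card by omega)
    have hiy : i ≠ y := (mem_erase.1 (mem_erase.1 hiQ).2).1
    have hiz : i ≠ z := (mem_erase.1 hiQ).1
    let a : Fin 6 → F := fun r => if r = i then ν r + 1 else ν r
    obtain ⟨s, hs, hs0⟩ := exists_zero_sum hF a Q (by omega) fun r _ => by
      simp only [a]; split_ifs
      · intro h0; exact hone r (by linear_combination h0 - h2)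
      · exact hν0 r
    set P := ∏ r ∈ Q, s r with hP
    have hPp : IsPhase q P := IsPhase.prod _ _ hs
    set W := w y * w z ^ q / (w y * w z ^ q) ^ q with hW
    have hx0 : w y * w z ^ q ≠ 0 := mul_ne_zero (hw y) (pow_ne_zero _ (hw z))
    have hWp : IsPhase q W := phase_quot hF hx0
    have hWe : W * (w z * w y ^ q) = w y * w z ^ q := by
      rw [hW, mul_pow, CfsgLib.Forms.pow_q_q hF]
      have := pow_ne_zero q (hw y)
      field_simp [hw z]
    obtain ⟨η, hη, hηe⟩ := exists_sqrt hF heven ((hWp.mul hPp).inv)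
    obtain ⟨d, hd, hbad⟩ := exists_cube_avoid hF h2 hq (η * w y / (s i * w z))
    set c := η / d ^ 2 with hc
    have hcp : IsPhase q c := hη.div (hd.pow 2)
    set t : Fin 6 → F := fun r => if r = y then c else if r = z then c * W else d * s r with ht
    have hty : t y = c := by simp [t]
    have htz : t z = c * W := by simp [t, Ne.symm hyz]
    have htQ : ∀ r ∈ Q, t r = d * s r := fun r hr => by
      simp [t, (mem_erase.1 hr).1, (mem_erase.1 (mem_erase.1 hr).2).1]
    have hπQ : ∀ r ∈ Q, Equiv.swap y z r = r := fun r hr =>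
      Equiv.swap_apply_of_ne_of_ne (mem_erase.1 (mem_erase.1 hr).2).1 (mem_erase.1 hr).1
    have hzy : z ∈ (univ : Finset (Fin 6)).erase y := mem_erase.2 ⟨Ne.symm hyz, mem_univ z⟩
    have hS : ∑ r, t r * w r * w (Equiv.swap y z r) ^ q = t i := by
      rw [← Finset.add_sum_erase _ _ (mem_univ y), ← Finset.add_sum_erase _ _ hzy, ← hQ,
        Finset.sum_congr rfl (g := fun r => d * (s r * ν r)) (fun r hr => by
          rw [htQ r hr, hπQ r hr]; simp only [ν]; ring), ← Finset.mul_sum, Equiv.swap_apply_left,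
        Equiv.swap_apply_right, hty, htz, htQ i hiQ]
      have hsplit : ∑ r ∈ Q, s r * a r = ∑ r ∈ Q, s r * ν r + s i := by
        have : ∀ r, s r * a r = s r * ν r + if r = i then s r else 0 := fun r => by
          simp only [a]; split_ifs <;> ring
        rw [Finset.sum_congr rfl fun r _ => this r, Finset.sum_add_distrib, Finset.sum_ite_eq', if_pos hiQ]
      rw [hs0] at hsplit
      linear_combination (c * (w y * w z ^ q) - d * s i) * h2 + c * hWe - d * hsplit
    refine ⟨Equiv.swap y z, t, i, fun r => ?_, ?_, ?_, ?_⟩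
    · simp only [t]; split_ifs
      · exact hcp
      · exact hcp.mul hWp
      · exact hd.mul (hs r)
    · rw [← Finset.mul_prod_erase _ _ (mem_univ y), ← Finset.mul_prod_erase _ _ hzy, ← hQ,
        Finset.prod_congr rfl htQ, Finset.prod_mul_distrib, Finset.prod_const, hQ4, hty, htz, ← hP, hc]
      have := hd.ne_zero
      field_simp
      have := hWp.ne_zero
      have := hPp.ne_zero
      field_simp at hηe
      linear_combination -hηe
    · rw [hS, hπQ i hiQ]; exact hneg _
    · rw [hS]
      obtain ⟨j, hjQ, hj⟩ : ∃ j ∈ Q, t j ≠ t i := by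
        by_contra hcon
        push Not at hcon
        have h1 : ∑ r ∈ Q, s r * a r = s i * ∑ r ∈ Q, a r := by
          rw [Finset.mul_sum]
          refine Finset.sum_congr rfl fun r hr => ?_
          have := hcon r hr
          rw [htQ r hr, htQ i hiQ] at this
          rw [mul_left_cancel₀ hd.ne_zero this]
        have h3 : ∑ r ∈ Q, a r = ∑ r ∈ Q, ν r + 1 := by
          have : ∀ r, a r = ν r + if r = i then 1 else 0 := fun r => by simp only [a]; split_ifs <;> simp
          rw [Finset.sum_congr rfl fun r _ => this r, Finset.sum_add_distrib, Finset.sum_ite_eq', if_pos hiQ]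
        have h4 : ν y + (ν z + ∑ r ∈ Q, ν r) = 0 := by
          rw [hQ, Finset.add_sum_erase _ _ hzy, Finset.add_sum_erase _ _ (mem_univ y)]; exact hsum
        rw [hs0, h3, eq_comm, mul_eq_zero] at h1
        exact hyz1 (by linear_combination h4 - h1.resolve_left (hs i).ne_zero)
      have hti : t i = d * s i := htQ i hiQ
      have hbad' : c * w y ≠ d * s i * w z := by
        intro e
        refine hbad ?_
        rw [eq_div_iff (mul_ne_zero (hs i).ne_zero (hw z))]
        rw [hc] at e
        have := hd.ne_zero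
        field_simp at e
        linear_combination -e
      have hy : t y * w y + t i * w (Equiv.swap y z y) ≠ 0 := by
        rw [Equiv.swap_apply_left, hty, hti]
        intro h0
        exact hbad' (by linear_combination h0 - d * s i * w z * h2)
      have hz : t z * w z + t i * w (Equiv.swap y z z) ≠ 0 := by
        rw [Equiv.swap_apply_right, htz, hti]
        intro h0
        refine hbad' ?_
        have e : c * W * w z = d * s i * w y := by linear_combination h0 - d * s i * w y * h2
        -- equal norms at the two places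
        have hn : ν z = ν y := by
          have e' := congrArg (fun x : F => x * x ^ q) e
          simp only [mul_pow] at e'
          have k1 : c * c ^ q = 1 := hcp
          have k2 : W * W ^ q = 1 := hWp
          have k3 : d * d ^ q = 1 := hd
          have k4 : s i * s i ^ q = 1 := hs i
          linear_combination e' - (W * W ^ q * (w z * w z ^ q)) * k1 - (w z * w z ^ q) * k2 +
            (s i * s i ^ q * (w y * w y ^ q)) * k3 + (w y * w y ^ q) * k4
        simp only [ν] at hn
        refine mul_left_cancel₀ (pow_ne_zero q (hw z)) ?_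
        linear_combination (w y ^ q) * e - c * hWe - d * s i * hn
      refine Finset.two_lt_card.2 ⟨y, ?_, z, ?_, j, ?_, hyz, ?_, ?_⟩
      · exact mem_filter.2 ⟨mem_univ _, hy⟩
      · exact mem_filter.2 ⟨mem_univ _, hz⟩
      · refine mem_filter.2 ⟨mem_univ _, ?_⟩
        rw [hπQ j hjQ, ← add_mul]
        refine mul_ne_zero (fun e => hj ?_) (hw j)
        linear_combination e - t i * h2
      · exact (mem_erase.1 (mem_erase.1 hjQ).2).1.symm
      · exact (mem_erase.1 hjQ).1.symm

end CfsgLib.Geo.UTv
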