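/-
Vanishing twisted sums on eight places: the families used for the frame stabiliser of the eight-dimensional
unitary group.
-/
import Cfsg.Agent.Geo.UnitPhaseSix

set_option autoImplicit false

namespace CfsgLib.Geo.UTv

open Finset

variable {q : ℕ} {F : Type*} [Field F] [Fintype F] [DecidableEq F] (hF : Nat.card F = q ^ 2)
include hF

/-- One transposition and a cancelling family on the other places: a monomial twist orthogonal to the entries
in which one pair of places cancels. -/
lemma exists_pairing_of_eight_le {n : ℕ} (hn : 8 ≤ n) (hq : Odd q) (v : Fin n → F) (hv : ∀ r, v r ≠ 0) :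
    ∃ (π : Equiv.Perm (Fin n)) (t : Fin n → F) (y : Fin n), (∀ r, π (π r) = r) ∧ π y ≠ y ∧
      (∀ r, IsPhase q (t r)) ∧ ((Equiv.Perm.sign π : ℤ) : F) * ∏ r, t r = 1 ∧
      ∑ r, t r * v r * v (π r) ^ q = 0 ∧
      t y * v y * v (π y) ^ q + t (π y) * v (π y) * v y ^ q = 0 := by
  let a : Fin n := ⟨0, by omega⟩
  let b : Fin n := ⟨1, by omega⟩
  have hab : a ≠ b := by simp [a, b]
  set S : Finset (Fin n) := (univ.erase a).erase b with hS
  have hb : b ∈ (univ : Finset (Fin n)).erase a := mem_erase.2 ⟨hab.symm, mem_univ b⟩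
  have hScard : 6 ≤ S.card := by
    rw [hS, card_erase_of_mem hb, card_erase_of_mem (mem_univ a), card_univ, Fintype.card_fin]; omega
  set x := v a * v b ^ q with hx
  have hx0 : x ≠ 0 := mul_ne_zero (hv a) (pow_ne_zero _ (hv b))
  set W := x / x ^ q with hW
  have hWp : IsPhase q W := phase_quot hF hx0
  obtain ⟨s, η, hs, hη, hsum, hprod⟩ := exists_zero_sum_class hF hq (fun r => v r * v r ^ q) S hScard
    (fun r _ => mul_ne_zero (hv r) (pow_ne_zero _ (hv r))) hWp.inv
  let t : Fin n → F := fun r => if r = a then η⁻¹ else if r = b then -(η⁻¹ * W) else s r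
  have hta : t a = η⁻¹ := if_pos rfl
  have htb : t b = -(η⁻¹ * W) := by simp [t, hab.symm]
  have hpair : t a * v a * v b ^ q + t b * v b * v a ^ q = 0 := by
    have e : x ^ q = v a ^ q * v b := by rw [hx, mul_pow, CfsgLib.Forms.pow_q_q hF]
    rw [hta, htb, hW, e, hx]
    have := hv b
    have := pow_ne_zero q (hv a)
    field_simp
    ring
  refine ⟨Equiv.swap a b, t, a, fun r => Equiv.swap_apply_self a b r, ?_, fun r => ?_, ?_, ?_, ?_⟩
  · rw [Equiv.swap_apply_left]; exact hab.symm
  · simp only [t]; split_ifs
    · exact hη.inv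
    · exact (hη.inv.mul hWp).neg hq
    · exact hs r
  · rw [← Finset.mul_prod_erase _ _ (mem_univ a), ← Finset.mul_prod_erase _ _ hb, ← hS,
      Finset.prod_congr rfl (g := s) (fun r hr => by
        simp only [hS, mem_erase] at hr; simp [t, hr.1, hr.2.1]),
      hprod, hta, htb, Equiv.Perm.sign_swap hab]
    have := hη.ne_zero
    have := hWp.ne_zero
    push_cast
    field_simp
  · rw [← Finset.add_sum_erase _ _ (mem_univ a), ← Finset.add_sum_erase _ _ hb, ← hS,
      Finset.sum_congr rfl (g := fun r => s r * (v r * v r ^ q)) (fun r hr => by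
        simp only [hS, mem_erase] at hr
        rw [Equiv.swap_apply_of_ne_of_ne hr.2.1 hr.1]; simp [t, hr.1, hr.2.1, mul_assoc]),
      hsum, Equiv.swap_apply_left, Equiv.swap_apply_right]
    linear_combination hpair
  · rw [Equiv.swap_apply_left]; exact hpair

variable {ι : Type*} [DecidableEq ι]

/-- Some element of norm one is taken by at most a third of the coefficients. -/
lemma exists_rare_phase (A : Finset ι) (t : ι → F) :
    ∃ τ : F, IsPhase q τ ∧ 3 * (A.filter fun y => t y = τ).card ≤ A.card := by
  have hq := CfsgLib.Forms.two_le_q hF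
  obtain ⟨x, y, z, hx, hy, hz, hxy, hxz, hyz⟩ := Finset.two_lt_card_iff.1
    (show 2 < (univ.filter fun t : F => t * t ^ q = 1).card by rw [card_phase hF]; omega)
  have hd : ∀ u v : F, u ≠ v → Disjoint (A.filter fun r => t r = u) (A.filter fun r => t r = v) := fun u v huv =>
    Finset.disjoint_left.2 fun r hr hr' => huv ((mem_filter.1 hr).2.symm.trans (mem_filter.1 hr').2)
  have h := Finset.card_le_card (union_subset (union_subset (filter_subset (fun r => t r = x) A)
    (filter_subset (fun r => t r = y) A)) (filter_subset (fun r => t r = z) A))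
  rw [card_union_of_disjoint (disjoint_union_left.2 ⟨hd x z hxz, hd y z hyz⟩),
    card_union_of_disjoint (hd x y hxy)] at h
  by_contra hcon
  push Not at hcon
  have h1 := hcon x (mem_filter.1 hx).2
  have h2 := hcon y (mem_filter.1 hy).2
  have h3 := hcon z (mem_filter.1 hz).2
  omega

/-- The cancelling family used for transvection centres in characteristic two on eight places. -/
theorem exists_centre_eight [Fintype ι] (hchar : (2 : F) = 0) (heven : Even q) (hn : Fintype.card ι = 8)
    (ν : ι → F) (hν0 : ∀ y, ν y ≠ 0) (i : ι) {Pr : F} (hPr : IsPhase q Pr) :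
    ∃ t : ι → F, (∀ y, IsPhase q (t y)) ∧ ∑ y, t y * ν y = t i ∧ ∏ y, t y = Pr ∧
      2 < (univ.filter fun y => t y ≠ t i).card := by
  suffices H : ∃ t : ι → F, (∀ y, IsPhase q (t y)) ∧ ∑ y, t y * ν y = t i ∧
      2 < (univ.filter fun y => t y ≠ t i).card by
    obtain ⟨t, ht, hts, hex⟩ := H
    have hP := IsPhase.prod univ t ht
    obtain ⟨e₁, he₁, h1⟩ := exists_sqrt hF heven (hPr.div hP)
    obtain ⟨e₂, he₂, h2⟩ := exists_sqrt hF heven he₁
    obtain ⟨c, hc, h3⟩ := exists_sqrt hF heven he₂
    refine ⟨fun y => c * t y, fun y => hc.mul (ht y), ?_, ?_, ?_⟩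
    · simp only [mul_assoc, ← Finset.mul_sum, hts]
    · rw [Finset.prod_mul_distrib, Finset.prod_const, card_univ, hn]
      rw [h2, h3, ← pow_mul, ← pow_mul] at h1
      rw [show c ^ 8 = c ^ (2 * 2 * 2) by norm_num, ← h1, div_mul_cancel₀ _ hP.ne_zero]
    · simpa [mul_right_inj' hc.ne_zero] using hex
  by_cases hi : ν i = 1
  · -- the distinguished place is free
    obtain ⟨s, hs, hs0⟩ := exists_zero_sum hF ν (univ.erase i)
      (by rw [card_erase_of_mem (mem_univ i), card_univ]; omega) fun y _ => hν0 y
    obtain ⟨τ, hτ, hfew⟩ := exists_rare_phase hF (univ.erase i) s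
    refine ⟨Function.update s i τ, fun y => ?_, ?_, ?_⟩
    · rcases eq_or_ne y i with rfl | h
      · simpa using hτ
      · simpa [Function.update_of_ne h] using hs y
    · rw [← Finset.add_sum_erase _ _ (mem_univ i), Finset.sum_congr rfl (g := fun y => s y * ν y) (fun y hy => by
        rw [Function.update_of_ne (mem_erase.1 hy).1]), hs0, add_zero, Function.update_self, hi, mul_one]
    · have h := card_filter_add_card_filter_not (s := univ.erase i) (fun y => s y = τ)
      rw [card_erase_of_mem (mem_univ i), card_univ, hn] at h hfew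
      refine lt_of_lt_of_le (show 2 < ((univ.erase i).filter fun y => ¬ s y = τ).card by omega)
        (card_le_card fun y hy => ?_)
      obtain ⟨hyi, hne⟩ := mem_filter.1 hy
      refine mem_filter.2 ⟨mem_univ y, ?_⟩
      rwa [Function.update_self, Function.update_of_ne (mem_erase.1 hyi).1]
  · obtain ⟨B, hBsub, hB⟩ := Finset.exists_subset_card_eq (s := (univ.erase i : Finset ι)) (n := 4)
      (by rw [card_erase_of_mem (mem_univ i), card_univ]; omega)
    have hiB : i ∉ B := fun h => (mem_erase.1 (hBsub h)).1 rfl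
    let a : ι → F := fun y => if y = i then ν y + 1 else ν y
    have ha : ∀ y, a y ≠ 0 := fun y => by
      simp only [a]; split_ifs with h
      · exact fun h0 => hi (by rw [← h]; linear_combination h0 - hchar)
      · exact hν0 y
    obtain ⟨t₁, h₁, s₁⟩ := exists_zero_sum hF a B (by omega) fun y _ => ha y
    obtain ⟨t₂, h₂, s₂⟩ := exists_zero_sum hF a Bᶜ (by rw [card_compl, hn, hB]) fun y _ => ha y
    obtain ⟨τ, hτ, hfew⟩ := exists_rare_phase hF B t₁
    set c := t₂ i / τ with hc
    have hcp : IsPhase q c := (h₂ i).div hτ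
    let t : ι → F := fun y => if y ∈ B then c * t₁ y else t₂ y
    refine ⟨t, fun y => ?_, ?_, ?_⟩
    · simp only [t]; split_ifs
      · exact hcp.mul (h₁ y)
      · exact h₂ y
    · have hz : ∑ y, t y * a y = 0 := by
        rw [← Finset.sum_add_sum_compl B,
          Finset.sum_congr rfl (g := fun y => c * (t₁ y * a y)) fun y hy => by simp [t, hy, mul_assoc],
          Finset.sum_congr rfl (s₁ := Bᶜ) (g := fun y => t₂ y * a y) fun y hy => by
            simp [t, Finset.mem_compl.1 hy],
          ← Finset.mul_sum, s₁, s₂, mul_zero, add_zero]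
      have e : ∀ y, t y * a y = t y * ν y + (if y = i then t y else 0) := fun y => by
        simp only [a]; split_ifs <;> ring
      rw [Finset.sum_congr rfl fun y _ => e y, Finset.sum_add_distrib, Finset.sum_ite_eq', if_pos (mem_univ i)] at hz
      linear_combination hz - t i * hchar
    · have h := card_filter_add_card_filter_not (s := B) (fun y => t₁ y = τ)
      refine lt_of_lt_of_le (show 2 < (B.filter fun y => ¬ t₁ y = τ).card by omega) (card_le_card fun y hy => ?_)
      obtain ⟨hyB, hne⟩ := mem_filter.1 hy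
      refine mem_filter.2 ⟨mem_univ y, fun he => hne ?_⟩
      simp only [t, hyB, hiB, if_true, if_false, hc] at he
      field_simp [hτ.ne_zero, (h₂ i).ne_zero] at he
      exact he

end CfsgLib.Geo.UTv
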