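/-
A group of isometries containing the full torus at a point of a unitary plane is transitive once it moves that point.
-/
import Cfsg.Agent.Geo.UnitRefl

set_option autoImplicit false

namespace CfsgLib.Geo.UTv

open Matrix Cfsg Cfsg.Geo CfsgLib.Geo

variable {n q : ℕ} {F : Type*} [Field F] [Finite F] (hF : Nat.card F = q ^ 2)

local notation "⟪" x ", " y "⟫" => Cfsg.hermForm n F q x y

omit [Finite F] in
/-- The action of invertible matrices on column vectors. -/
@[reducible] def vecAction (n : ℕ) (F : Type*) [Field F] : MulAction (GL (Fin n) F) (Fin n → F) where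
  smul g v := (g : Matrix (Fin n) (Fin n) F) *ᵥ v
  one_smul v := by
    show ((1 : GL (Fin n) F) : Matrix (Fin n) (Fin n) F) *ᵥ v = v
    rw [Units.val_one, Matrix.one_mulVec]
  mul_smul g h v := by
    show ((g * h : GL (Fin n) F) : Matrix (Fin n) (Fin n) F) *ᵥ v = _
    exact mul_mulVec g h v

attribute [local instance] vecAction

lemma smul_vec (g : GL (Fin n) F) (v : Fin n → F) : g • v = (g : Matrix (Fin n) (Fin n) F) *ᵥ v := rfl

omit [Finite F] in
/-- A larger group containing the stabiliser has an orbit of a multiple of the size. -/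
lemma card_orbit_dvd {G : Type*} [Group G] {α : Type*} [MulAction G α] {K H : Subgroup G} (hKH : K ≤ H) (a : α)
    (hst : MulAction.stabilizer G a ⊓ H ≤ K) :
    Nat.card (MulAction.orbit K a) ∣ Nat.card (MulAction.orbit H a) := by
  have hK : Nat.card (MulAction.orbit K a) = (MulAction.stabilizer G a ⊓ H).relIndex K := by
    rw [Nat.card_coe_set_eq, ← MulAction.index_stabilizer K a, Subgroup.relIndex]
    congr 1
    ext ⟨g, hg⟩
    simp [Subgroup.mem_subgroupOf, MulAction.mem_stabilizer_iff, hKH hg, Subgroup.smul_def]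
  have hH : Nat.card (MulAction.orbit H a) = (MulAction.stabilizer G a ⊓ H).relIndex H := by
    rw [Nat.card_coe_set_eq, ← MulAction.index_stabilizer H a, Subgroup.relIndex]
    congr 1
    ext ⟨g, hg⟩
    simp [Subgroup.mem_subgroupOf, MulAction.mem_stabilizer_iff, hg, Subgroup.smul_def]
  rw [hK, hH]
  exact ⟨_, (Subgroup.relIndex_mul_relIndex _ _ _ hst hKH).symm⟩

/-- The possible orbit sizes. -/
lemma orbit_arith {q ε a d : ℕ} (hq : 2 ≤ q) (hε : ε = 1 ∨ ε = 2) (ha : 1 ≤ a)
    (h : (ε + (q + 1) * a) * d + q = q * q) :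
    d = 1 ∨ (ε = 1 ∧ d = 2 ∧ Even q) ∨ (ε = 2 ∧ a = 1 ∧ q = 9) := by
  have hd : d + 2 ≤ q := by
    by_contra hlt
    have h1 : q + 2 ≤ ε + (q + 1) * a := by
      have := Nat.le_mul_of_pos_right (q + 1) ha
      omega
    have h2 : (q + 2) * d ≤ (ε + (q + 1) * a) * d := Nat.mul_le_mul_right d h1
    nlinarith
  have hZ : ((q : ℤ) + 1) * ((a : ℤ) * d - (q : ℤ) + 2) = 2 - (ε : ℤ) * d := by
    have : ((ε + (q + 1) * a) * d + q : ℤ) = (q : ℤ) * q := by exact_mod_cast h
    linear_combination this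
  set z := (a : ℤ) * d - (q : ℤ) + 2
  have h1 : z ≤ 0 ∨ 1 ≤ z := by omega
  rcases hε with rfl | rfl
  · rcases Nat.lt_trichotomy d 2 with hd2 | hd2 | hd2
    · left
      rcases Nat.eq_zero_or_pos d with rfl | hpos
      · nlinarith
      · omega
    · subst hd2
      right; left
      have hz : z = 0 := by
        rcases mul_eq_zero.1 (show ((q : ℤ) + 1) * z = 0 by rw [hZ]; norm_num) with h' | h'
        · omega
        · exact h'
      exact ⟨rfl, rfl, ⟨a + 1, by have : ((q : ℤ)) = 2 * a + 2 := by simp only [z] at hz; push_cast at hz; linarith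
                                  omega⟩⟩
    · exfalso
      have hd3 : (3 : ℤ) ≤ d := by exact_mod_cast hd2
      have hdq : (d : ℤ) + 2 ≤ q := by exact_mod_cast hd
      rcases h1 with h1 | h1
      · rcases eq_or_lt_of_le h1 with h1 | h1
        · rw [h1, mul_zero] at hZ; omega
        · have : ((q : ℤ) + 1) * z ≤ -((q : ℤ) + 1) := by nlinarith
          omega
      · have : (q : ℤ) + 1 ≤ ((q : ℤ) + 1) * z := by nlinarith
        omega
  · rcases Nat.lt_trichotomy d 1 with hd1 | hd1 | hd1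
    · obtain rfl : d = 0 := by omega
      nlinarith
    · left; exact hd1
    · right; right
      have hd2 : (2 : ℤ) ≤ d := by exact_mod_cast hd1
      have hdq : (d : ℤ) + 2 ≤ q := by exact_mod_cast hd
      have hz : z = -1 := by
        rcases h1 with h1 | h1
        · rcases eq_or_lt_of_le h1 with h1 | h1
          · rw [h1, mul_zero] at hZ; push_cast at hZ; omega
          · by_contra hne
            have : ((q : ℤ) + 1) * z ≤ -2 * ((q : ℤ) + 1) := by nlinarith [show z ≤ -2 by omega]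
            push_cast at hZ; omega
        · have : (q : ℤ) + 1 ≤ ((q : ℤ) + 1) * z := by nlinarith
          push_cast at hZ; omega
      rw [hz] at hZ
      push_cast at hZ
      have hdd : 2 * (d : ℤ) = q + 3 := by linarith
      have had : (a : ℤ) * d = q - 3 := by simp only [z] at hz; linarith
      rcases Nat.lt_or_ge a 2 with ha2 | ha2
      · obtain rfl : a = 1 := by omega
        exact ⟨rfl, rfl, by push_cast at had; omega⟩
      · exfalso; nlinarith [show (2 : ℤ) ≤ a by exact_mod_cast ha2]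

include hF

/-- Joined transvections scale an isotropic vector. -/
lemma exists_scale {W : Submodule F (Fin n → F)} (hW : IsNondegenerateOn (Cfsg.hermForm n F q) W)
    (hd : 2 ≤ Module.finrank F W) {u : Fin n → F} (hu : u ∈ W) (hu0 : u ≠ 0) (hiso : ⟪u, u⟫ = 0) {s : F}
    (hs : s ^ q = s) (hs0 : s ≠ 0) :
    ∃ g ∈ blockGU q W, (g : Matrix (Fin n) (Fin n) F).det = 1 ∧
      (g : Matrix (Fin n) (Fin n) F) *ᵥ u = s • u := by
  have hf := isUnitaryForm hF (n := n)
  obtain ⟨z, hz, huz, hzz⟩ := exists_prod_length hF hW hd hu hu0 1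
    (c := 0) (zero_pow (by have := CfsgLib.Forms.two_le_q hF; omega)) (Or.inl one_ne_zero)
  have hzu : ⟪z, u⟫ = 1 := by rw [hf.herm, huz, map_one]
  obtain ⟨c, hc0, hc⟩ := CfsgLib.Unitary.exists_skew hF
  have hcq : c ^ q = -c := by linear_combination hc
  set d := (s - 1) / c with hd'
  have hdq : d + d ^ q = 0 := by
    rw [hd', div_pow, hcq, ← frobEquiv_apply hF (s - 1), map_sub, map_one, frobEquiv_apply, hs, div_neg]
    ring
  have he : (-c / s) + (-c / s) ^ q = 0 := by
    rw [div_pow, hs, ← frobEquiv_apply hF, map_neg, frobEquiv_apply, hcq]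
    ring
  have k1 : IsQPair n q F z c := by rw [IsQPair, hzz, mul_zero, add_zero]; exact hc
  have k2 : IsQPair n q F u d := by rw [IsQPair, hiso, mul_zero, add_zero]; exact hdq
  have k3 : IsQPair n q F z (-c / s) := by rw [IsQPair, hzz, mul_zero, add_zero]; exact he
  refine ⟨qref hF z _ k3 * qref hF u _ k2 * qref hF z _ k1,
    mul_mem (mul_mem (qref_mem_block hF hz k3) (qref_mem_block hF hu k2)) (qref_mem_block hF hz k1), ?_, ?_⟩
  · simp only [Units.val_mul, Matrix.det_mul, qref_det, hzz, hiso, mul_zero, add_zero, mul_one]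
  · simp only [mul_mulVec, qref_mulVec, huz, mul_one, hf.add_left, hf.smul_left, hiso, hzu, hzz, mul_zero,
      zero_add, add_zero]
    have hdc : d * c = s - 1 := div_mul_cancel₀ _ hc0
    rw [hdc]
    match_scalars <;> field_simp <;> ring

set_option maxHeartbeats 2000000 in
/-- A group preserving a plane and containing the torus at a unit point is transitive on unit points as soon as
it moves that point off the axes. -/
theorem plane_transitive {P : Submodule F (Fin n → F)} (hP : IsNondegenerateOn (Cfsg.hermForm n F q) P)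
    (hdim : Module.finrank F P = 2) {e f : Fin n → F} (he : e ∈ P) (hfP : f ∈ P) (hee : ⟪e, e⟫ = 1)
    (hff : ⟪f, f⟫ = 1) (hef : ⟪e, f⟫ = 0) {K : Subgroup (GL (Fin n) F)} (hKG : K ≤ Cfsg.GU n F q)
    (hKP : ∀ h ∈ K, ∀ x ∈ P, (h : Matrix (Fin n) (Fin n) F) *ᵥ x ∈ P)
    (htor : ∀ l : F, l * l ^ q = 1 → ∃ h ∈ K, ∃ c : F,
      (h : Matrix (Fin n) (Fin n) F) *ᵥ e = c • e ∧ (h : Matrix (Fin n) (Fin n) F) *ᵥ f = (c * l) • f)
    (hmove : ∃ h ∈ K, ⟪(h : Matrix (Fin n) (Fin n) F) *ᵥ e, e⟫ ≠ 0 ∧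
      ⟪(h : Matrix (Fin n) (Fin n) F) *ᵥ e, f⟫ ≠ 0) :
    ∀ w ∈ P, ⟪w, w⟫ = 1 → ∃ h ∈ K, ∃ c : F, (h : Matrix (Fin n) (Fin n) F) *ᵥ e = c • w := by
  classical
  haveI := Fintype.ofFinite F
  have hf := isUnitaryForm hF (n := n)
  have hd2 : 2 ≤ Module.finrank F P := hdim.ge
  have hq := CfsgLib.Forms.two_le_q hF
  have hfe : ⟪f, e⟫ = 0 := by rw [hf.herm, hef, map_zero]
  have hlin : ∀ a b c d : F, a • e + b • f = c • e + d • f → a = c ∧ b = d := by
    intro a b c d h
    have h1 := congrArg (fun x => ⟪x, e⟫) h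
    have h2 := congrArg (fun x => ⟪x, f⟫) h
    simp only [hf.add_left, hf.smul_left, hee, hfe, hef, hff, mul_one, mul_zero, add_zero, zero_add] at h1 h2
    exact ⟨h1, h2⟩
  have hspan : ∀ x ∈ P, x = ⟪x, e⟫ • e + ⟪x, f⟫ • f := by
    intro x hx
    have hli : LinearIndependent F ![(⟨e, he⟩ : P), ⟨f, hfP⟩] := by
      rw [LinearIndependent.pair_iff]
      intro a b hab
      exact hlin a b 0 0 (by simpa using congrArg Subtype.val hab)
    have hb := hli.span_eq_top_of_card_eq_finrank (by rw [Fintype.card_fin, hdim])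
    have hmem : (⟨x, hx⟩ : P) ∈ Submodule.span F (Set.range ![(⟨e, he⟩ : P), ⟨f, hfP⟩]) := hb ▸ Submodule.mem_top
    rw [Matrix.range_cons_cons_empty, Submodule.mem_span_pair] at hmem
    obtain ⟨a, b, hab⟩ := hmem
    have hx' : a • e + b • f = x := congrArg Subtype.val hab
    rw [← hx']
    simp only [hf.add_left, hf.smul_left, hee, hfe, hef, hff, mul_one, mul_zero, add_zero, zero_add]
  -- elements of the plane group that agree with scalar multiples of elements of `K`
  let Khat : Subgroup (GL (Fin n) F) :=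
    { carrier := {g | g ∈ blockGU q P ∧ ∃ h ∈ K, ∃ c : F, ∀ x ∈ P,
        (g : Matrix (Fin n) (Fin n) F) *ᵥ x = c • ((h : Matrix (Fin n) (Fin n) F) *ᵥ x)}
      one_mem' := ⟨one_mem _, 1, one_mem _, 1, fun x _ => by simp⟩
      mul_mem' := by
        rintro g g' ⟨hg, h, hh, c, hc⟩ ⟨hg', h', hh', c', hc'⟩
        refine ⟨mul_mem hg hg', h * h', mul_mem hh hh', c' * c, fun x hx => ?_⟩
        rw [mul_mulVec, mul_mulVec, hc' x hx, Matrix.mulVec_smul, hc _ (hKP h' hh' x hx), smul_smul]
      inv_mem' := by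
        rintro g ⟨hg, h, hh, c, hc⟩
        refine ⟨inv_mem hg, h⁻¹, inv_mem hh, c⁻¹, fun x hx => ?_⟩
        have hc0 : c ≠ 0 := fun e0 => by
          have h1 := congrArg (fun y => ((g⁻¹ : GL (Fin n) F) : Matrix (Fin n) (Fin n) F) *ᵥ y) (hc e he)
          simp only [inv_mulVec_mulVec, e0, zero_smul, Matrix.mulVec_zero] at h1
          rw [h1, Unit.zero_right hf] at hee
          exact zero_ne_one hee
        have hy : ((g⁻¹ : GL (Fin n) F) : Matrix (Fin n) (Fin n) F) *ᵥ x ∈ P := block_mem_self (inv_mem hg) hx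
        have h1 := hc _ hy
        rw [mulVec_inv_mulVec] at h1
        conv_rhs => rw [h1, Matrix.mulVec_smul, inv_mulVec_mulVec, smul_smul, inv_mul_cancel₀ hc0, one_smul] }
  have hle : Khat ≤ blockGU q P := fun g hg => hg.1
  have hblock : ∀ h ∈ K, ∃ g ∈ Khat, ∀ x ∈ P,
      (g : Matrix (Fin n) (Fin n) F) *ᵥ x = (h : Matrix (Fin n) (Fin n) F) *ᵥ x := by
    intro h hh
    have hh' := mem_GU.1 (hKG hh)
    set e' := (h : Matrix (Fin n) (Fin n) F) *ᵥ e with he'
    set f' := (h : Matrix (Fin n) (Fin n) F) *ᵥ f with hf'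
    obtain ⟨g, hg, -, hge⟩ := exists_map_vec hF hP hd2 he (w' := e') (hKP h hh e he)
      ((hh' e e).symm) (by rw [hee]; exact one_ne_zero)
    set f1 := (g : Matrix (Fin n) (Fin n) F) *ᵥ f with hf1
    have hf1P : f1 ∈ P := block_mem_self hg hfP
    have hg' := mem_GU.1 hg.1
    have h1 : ⟪f1, e'⟫ = 0 := by rw [← hge, hf1, hg', hfe]
    have h2 : ⟪f', e'⟫ = 0 := by rw [he', hf', hh', hfe]
    have h3 : ⟪f1, f1⟫ = 1 := by rw [hf1, hg', hff]
    have h4 : ⟪f', f'⟫ = 1 := by rw [hf', hh', hff]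
    -- both are orthogonal to `e'`, so proportional
    have hf'P : f' ∈ P := hKP h hh f hfP
    obtain ⟨r, hr⟩ : ∃ r : F, f' = r • f1 := by
      refine ⟨⟪f', f1⟫, sub_eq_zero.1 (eq_zero_of_mem_perp hF hP (P.sub_mem hf'P (P.smul_mem _ hf1P))
        fun x hx => ?_)⟩
      have hxg : ((g⁻¹ : GL (Fin n) F) : Matrix (Fin n) (Fin n) F) *ᵥ x ∈ P := block_mem_self (inv_mem hg) hx
      obtain ⟨a, b, hab⟩ : ∃ a b : F, x = a • e' + b • f1 := ⟨_, _, by
        conv_lhs => rw [← mulVec_inv_mulVec g x, hspan _ hxg, Matrix.mulVec_add, Matrix.mulVec_smul,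
          Matrix.mulVec_smul, hge]⟩
      rw [hab, Unit.add_right hf, Unit.smul_right hf, Unit.smul_right hf, CfsgLib.Unitary.herm_sub_left hF,
        CfsgLib.Unitary.herm_sub_left hF, hf.smul_left, hf.smul_left, h1, h2, h3]
      ring
    have hr1 : r * r ^ q = 1 := by
      rw [hr, hf.smul_left, Unit.smul_right hf, h3, mul_one, frobEquiv_apply] at h4
      exact h4
    obtain ⟨R, hR, -, hRx⟩ := exists_refl hF hf1P (by rw [h3]; exact one_ne_zero) hr1
    have key : ∀ x ∈ P, ((R * g : GL (Fin n) F) : Matrix (Fin n) (Fin n) F) *ᵥ x =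
        (h : Matrix (Fin n) (Fin n) F) *ᵥ x := by
      intro x hx
      rw [hspan x hx, Matrix.mulVec_add, Matrix.mulVec_add, Matrix.mulVec_smul, Matrix.mulVec_smul,
        Matrix.mulVec_smul, Matrix.mulVec_smul, mul_mulVec, mul_mulVec, hge, ← hf1, hRx e', hRx f1, h3, div_one,
        show ⟪e', f1⟫ = 0 by rw [hf.herm, h1, map_zero], ← hf', ← he', hr]
      match_scalars <;> ring
    exact ⟨R * g, ⟨mul_mem hR hg, h, hh, 1, fun x hx => by rw [one_smul]; exact key x hx⟩, key⟩
  -- the torus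
  have htor' : ∀ g ∈ blockGU q P, ∀ a b : F, (g : Matrix (Fin n) (Fin n) F) *ᵥ e = a • e →
      (g : Matrix (Fin n) (Fin n) F) *ᵥ f = b • f → g ∈ Khat := by
    intro g hg a b ha hb
    have hn : ∀ (x : Fin n → F) (r : F), ⟪x, x⟫ = 1 → (g : Matrix (Fin n) (Fin n) F) *ᵥ x = r • x →
        r * r ^ q = 1 := by
      intro x r hx hr
      have := (mem_GU.1 hg.1) x x
      rw [hr, hf.smul_left, Unit.smul_right hf, hx, mul_one, frobEquiv_apply] at this
      exact this
    have haa := hn e a hee ha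
    have hbb := hn f b hff hb
    have ha0 : a ≠ 0 := fun h0 => by rw [h0, zero_mul] at haa; exact zero_ne_one haa
    obtain ⟨h, hh, c, hce, hcf⟩ := htor (b / a) (by
      rw [div_pow, div_mul_div_comm, haa, hbb, div_one])
    have hc0 : c ≠ 0 := fun h0 => by
      rw [h0, zero_smul] at hce
      have := (mem_GU.1 (hKG hh)) e e
      rw [hce, Unit.zero_right hf, hee] at this
      exact zero_ne_one this
    refine ⟨hg, h, hh, a / c, fun x hx => ?_⟩
    rw [hspan x hx, Matrix.mulVec_add, Matrix.mulVec_add, Matrix.mulVec_smul, Matrix.mulVec_smul,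
      Matrix.mulVec_smul, Matrix.mulVec_smul, ha, hb, hce, hcf]
    match_scalars <;> field_simp
  have hdiag : ∀ a b : F, a * a ^ q = 1 → b * b ^ q = 1 → ∃ g ∈ Khat,
      (g : Matrix (Fin n) (Fin n) F) *ᵥ e = a • e ∧ (g : Matrix (Fin n) (Fin n) F) *ᵥ f = b • f := by
    intro a b ha hb
    obtain ⟨R1, hR1, -, hR1x⟩ := exists_refl hF he (by rw [hee]; exact one_ne_zero) ha
    obtain ⟨R2, hR2, -, hR2x⟩ := exists_refl hF hfP (by rw [hff]; exact one_ne_zero) hb
    have h1 : ((R1 * R2 : GL (Fin n) F) : Matrix (Fin n) (Fin n) F) *ᵥ e = a • e := by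
      rw [mul_mulVec, hR2x, hef, mul_zero, zero_smul, add_zero, hR1x, hee]
      match_scalars; ring
    have h2 : ((R1 * R2 : GL (Fin n) F) : Matrix (Fin n) (Fin n) F) *ᵥ f = b • f := by
      rw [mul_mulVec, hR2x, hff, hR1x, hf.add_left, hf.smul_left, hfe, hee]
      match_scalars <;> ring
    exact ⟨_, htor' _ (mul_mem hR1 hR2) a b h1 h2, h1, h2⟩
  have hst : MulAction.stabilizer (GL (Fin n) F) e ⊓ blockGU q P ≤ Khat := by
    rintro g ⟨hge, hg⟩
    have hge' : (g : Matrix (Fin n) (Fin n) F) *ᵥ e = e := hge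
    have h1 : ⟪(g : Matrix (Fin n) (Fin n) F) *ᵥ f, e⟫ = 0 := by
      conv_lhs => rw [← hge']
      rw [(mem_GU.1 hg.1), hfe]
    have h2 := hspan _ (block_mem_self hg hfP)
    rw [h1, zero_smul, zero_add] at h2
    exact htor' g hg 1 _ (by rw [one_smul, hge']) h2
  -- the orbits as pairs of coordinates
  have hU : ∀ {a b : F}, ⟪a • e + b • f, a • e + b • f⟫ = a * a ^ q + b * b ^ q := fun {a b} => by
    simp only [hf.add_left, Unit.add_right hf, hf.smul_left, Unit.smul_right hf, hee, hff, hef, hfe,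
      frobEquiv_apply]
    ring
  have horbG : Nat.card (MulAction.orbit (blockGU q P) e) = Nat.card {z : F × F // z.1 * z.1 ^ q + z.2 * z.2 ^ q = 1} := by
    refine Nat.card_congr (Equiv.ofBijective
      (fun z => ⟨(⟪(z : Fin n → F), e⟫, ⟪(z : Fin n → F), f⟫), ?_⟩) ⟨?_, ?_⟩)
    · obtain ⟨g, hg⟩ := z.2
      have hzP : (z : Fin n → F) ∈ P := hg ▸ block_mem_self g.2 he
      rw [← hU, ← hspan _ hzP, ← hg]
      exact ((mem_GU.1 g.2.1) e e).trans hee
    · rintro ⟨x, gx, rfl⟩ ⟨y, gy, rfl⟩ hxy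
      have h1 := congrArg Subtype.val hxy
      simp only [Prod.mk.injEq] at h1
      refine Subtype.ext ?_
      show gx • e = gy • e
      rw [hspan (gx • e) (block_mem_self gx.2 he), hspan (gy • e) (block_mem_self gy.2 he), h1.1, h1.2]
    · rintro ⟨⟨a, b⟩, hab⟩
      obtain ⟨g, hg, -, hge⟩ := exists_map_vec hF hP hd2 he (w' := a • e + b • f)
        (P.add_mem (P.smul_mem _ he) (P.smul_mem _ hfP)) (by rw [hee, hU, hab]) (by rw [hee]; exact one_ne_zero)
      refine ⟨⟨a • e + b • f, ⟨g, hg⟩, hge⟩, Subtype.ext (Prod.ext ?_ ?_)⟩ <;>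
        simp [hf.add_left, hf.smul_left, hee, hff, hef, hfe]
  -- count the circle
  set circ := Finset.univ.filter fun x : F => x * x ^ q = 1 with hcirc_def
  have hcirc : circ.card = q + 1 := by
    have h1 := CfsgLib.Forms.card_norm_fiber hF (μ := 1) one_ne_zero (one_pow q)
    rw [Nat.card_eq_fintype_card, Fintype.card_subtype] at h1
    rw [← h1, hcirc_def]
    congr 1; ext x; simp [pow_succ']
  have hfib : ∀ x : F, x ^ q = x → x ≠ 0 →
      (Finset.univ.filter fun a : F => a * a ^ q = x).card = q + 1 := fun x hx hx0 => by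
    have h1 := CfsgLib.Forms.card_norm_fiber hF (μ := x) hx0 hx
    rw [Nat.card_eq_fintype_card, Fintype.card_subtype] at h1
    rw [← h1]
    congr 1; ext a; simp [pow_succ']
  have hzero : ∀ a : F, a * a ^ q = 0 ↔ a = 0 := fun a => ⟨fun h => by
    rcases mul_eq_zero.1 h with h | h
    · exact h
    · exact eq_zero_of_pow_eq_zero h, fun h => by simp [h]⟩
  have hall : Nat.card {z : F × F // z.1 * z.1 ^ q + z.2 * z.2 ^ q = 1} = (q + 1) * (q * q - q) := by
    rw [Nat.card_eq_fintype_card, Fintype.card_subtype]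
    have hfibre : ∀ a : F, (Finset.univ.filter fun b : F => a * a ^ q + b * b ^ q = 1).card =
        if a * a ^ q = 1 then 1 else q + 1 := by
      intro a
      have hNa : (a * a ^ q) ^ q = a * a ^ q := by rw [mul_pow, CfsgLib.Forms.pow_q_q hF]; ring
      split_ifs with h
      · rw [show (Finset.univ.filter fun b : F => a * a ^ q + b * b ^ q = 1) = {0} from Finset.ext fun b => by
          rw [Finset.mem_filter, Finset.mem_singleton, h, add_eq_left, hzero b]; simp, Finset.card_singleton]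
      · rw [← hfib (1 - a * a ^ q) (by rw [← frobEquiv_apply hF, map_sub, map_one, frobEquiv_apply, hNa])
          (sub_ne_zero.2 fun h' => h h'.symm)]
        congr 1; ext b; simp [eq_sub_iff_add_eq']
    have hsum : ∀ a : F, ((Finset.univ.filter fun z : F × F => z.1 * z.1 ^ q + z.2 * z.2 ^ q = 1).filter
        fun z => z.1 = a).card = if a * a ^ q = 1 then 1 else q + 1 := fun a => by
      rw [← hfibre a]
      refine Finset.card_bij (fun z _ => z.2) (fun z hz => ?_) (fun z hz z' hz' h => ?_) (fun b hb => ?_)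
      · simp only [Finset.mem_filter, Finset.mem_univ, true_and] at hz ⊢
        rw [← hz.2]; exact hz.1
      · simp only [Finset.mem_filter] at hz hz'
        exact Prod.ext (hz.2.trans hz'.2.symm) h
      · simp only [Finset.mem_filter, Finset.mem_univ, true_and] at hb
        exact ⟨(a, b), by simp [hb], rfl⟩
    rw [Finset.card_eq_sum_card_fiberwise (f := Prod.fst) (t := Finset.univ) (fun _ _ => Finset.mem_univ _),
      Finset.sum_congr rfl fun a _ => hsum a]
    rw [Finset.sum_ite, Finset.sum_const, Finset.sum_const, smul_eq_mul, smul_eq_mul, mul_one, ← hcirc_def, hcirc,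
      Finset.filter_not, Finset.card_univ_diff, ← hcirc_def, hcirc]
    have hc : Fintype.card F = q * q := by rw [← Nat.card_eq_fintype_card, hF, sq]
    rw [hc]
    have h1 : q + 1 ≤ q * q := by nlinarith
    zify [h1, show q ≤ q * q by nlinarith]
    ring
  -- the orbit of the large group
  set O : Finset (F × F) := Finset.univ.filter fun z => z.1 • e + z.2 • f ∈ MulAction.orbit Khat e with hO
  have hOc : Nat.card (MulAction.orbit Khat e) = O.card := by
    rw [← Nat.card_eq_finsetCard]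
    refine Nat.card_congr (Equiv.ofBijective
      (fun z => ⟨(⟪(z : Fin n → F), e⟫, ⟪(z : Fin n → F), f⟫), ?_⟩) ⟨?_, ?_⟩)
    · obtain ⟨g, hg⟩ := z.2
      have hzP : (z : Fin n → F) ∈ P := hg ▸ block_mem_self (hle g.2) he
      simp only [hO, Finset.mem_filter, Finset.mem_univ, true_and]
      rw [← hspan _ hzP]; exact z.2
    · rintro ⟨x, gx, rfl⟩ ⟨y, gy, rfl⟩ hxy
      have h1 := congrArg Subtype.val hxy
      simp only [Prod.mk.injEq] at h1
      refine Subtype.ext ?_
      show gx • e = gy • e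
      rw [hspan (gx • e) (block_mem_self (hle gx.2) he), hspan (gy • e) (block_mem_self (hle gy.2) he), h1.1, h1.2]
    · rintro ⟨⟨a, b⟩, hab⟩
      simp only [hO, Finset.mem_filter, Finset.mem_univ, true_and] at hab
      refine ⟨⟨_, hab⟩, Subtype.ext (Prod.ext ?_ ?_)⟩ <;>
        simp [hf.add_left, hf.smul_left, hee, hff, hef, hfe]
  have hmemO : ∀ a b : F, (a, b) ∈ O ↔
      ∃ g ∈ Khat, (g : Matrix (Fin n) (Fin n) F) *ᵥ e = a • e + b • f := by
    intro a b
    simp only [hO, Finset.mem_filter, Finset.mem_univ, true_and]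
    exact ⟨fun ⟨g, hg⟩ => ⟨g, g.2, hg⟩, fun ⟨g, hg, hge⟩ => ⟨⟨g, hg⟩, hge⟩⟩
  have hnorm : ∀ a b : F, (a, b) ∈ O → a * a ^ q + b * b ^ q = 1 := fun a b hab => by
    obtain ⟨g, hg, hge⟩ := (hmemO a b).1 hab
    rw [← hU, ← hge, (mem_GU.1 (hle hg).1), hee]
  have hclosed : ∀ {a b u v : F}, (a, b) ∈ O → u * u ^ q = 1 → v * v ^ q = 1 → (u * a, v * b) ∈ O := by
    intro a b u v hab hu hv
    obtain ⟨g, hg, hge⟩ := (hmemO a b).1 hab
    obtain ⟨D, hD, hDe, hDf⟩ := hdiag u v hu hv
    refine (hmemO _ _).2 ⟨D * g, mul_mem hD hg, ?_⟩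
    rw [mul_mulVec, hge, Matrix.mulVec_add, Matrix.mulVec_smul, Matrix.mulVec_smul, hDe, hDf]
    match_scalars <;> ring
  have he1 : ((1 : F), (0 : F)) ∈ O := (hmemO _ _).2 ⟨1, one_mem _, by simp⟩
  -- classes of the orbit by the length of the first coordinate
  set A : Finset F := (O.filter fun z => z.1 ≠ 0 ∧ z.2 ≠ 0).image fun z => z.1 * z.1 ^ q with hA
  have hA1 : ∀ α ∈ A, α ^ q = α ∧ α ≠ 0 ∧ α ≠ 1 := by
    intro α hα
    simp only [hA, Finset.mem_image, Finset.mem_filter] at hα
    obtain ⟨⟨a, b⟩, ⟨hab, ha, hb⟩, rfl⟩ := hα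
    refine ⟨by rw [mul_pow, CfsgLib.Forms.pow_q_q hF]; ring, fun h => ha ((hzero a).1 h), fun h => hb ?_⟩
    have h2 := hnorm a b hab
    rw [h] at h2
    exact (hzero b).1 (by linear_combination h2)
  have hclass : ∀ α ∈ A, ∀ a b : F, a * a ^ q = α → b * b ^ q = 1 - α → (a, b) ∈ O := by
    intro α hα a b ha hb
    simp only [hA, Finset.mem_image, Finset.mem_filter] at hα
    obtain ⟨⟨a', b'⟩, ⟨hab, ha', hb'⟩, hα'⟩ := hα
    have h2 := hnorm a' b' hab
    have h3 := hclosed hab (u := a / a') (v := b / b')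
      (by rw [div_pow, div_mul_div_comm, ha, hα', div_self]; rw [← hα']; exact fun h => ha' ((hzero a').1 h))
      (by rw [div_pow, div_mul_div_comm, hb, ← hα', show (1 : F) - a' * a' ^ q = b' * b' ^ q by linear_combination -h2,
        div_self (fun h => hb' ((hzero b').1 h))])
    rwa [div_mul_cancel₀ _ ha', div_mul_cancel₀ _ hb'] at h3
  set ε := if ((0 : F), (1 : F)) ∈ O then 2 else 1 with hε
  have hbeq : O.card = (q + 1) * (ε + (q + 1) * A.card) := by
    have hgen : (O.filter fun z => z.1 ≠ 0 ∧ z.2 ≠ 0).card = (q + 1) * ((q + 1) * A.card) := by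
      rw [Finset.card_eq_sum_card_fiberwise (f := fun z : F × F => z.1 * z.1 ^ q) (t := A)
        (fun z hz => by simp only [hA, Finset.coe_image]; exact ⟨z, hz, rfl⟩)]
      rw [Finset.sum_congr rfl fun α hα => (show _ = (q + 1) * (q + 1) by
        obtain ⟨hαq, hα0, hα1⟩ := hA1 α hα
        have hb : (1 - α) ^ q = 1 - α := by rw [← frobEquiv_apply hF, map_sub, map_one, frobEquiv_apply, hαq]
        have hprod : ((O.filter fun z => z.1 ≠ 0 ∧ z.2 ≠ 0).filter fun z => z.1 * z.1 ^ q = α) =
            (Finset.univ.filter fun a : F => a * a ^ q = α) ×ˢ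
              (Finset.univ.filter fun b : F => b * b ^ q = 1 - α) := by
          ext ⟨a, b⟩
          simp only [Finset.mem_filter, Finset.mem_product, Finset.mem_univ, true_and]
          refine ⟨fun ⟨⟨hab, _, _⟩, ha⟩ => ⟨ha, by have h2 := hnorm a b hab; linear_combination h2 - ha⟩,
            fun ⟨ha, hb'⟩ => ⟨⟨hclass α hα a b ha hb', ?_, ?_⟩, ha⟩⟩
          · rintro rfl; exact hα0 (ha.symm.trans (by simp))
          · rintro rfl; exact hα1 (sub_eq_zero.1 (hb'.symm.trans (by simp))).symm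
        rw [hprod, Finset.card_product, hfib α hαq hα0, hfib (1 - α) hb (sub_ne_zero.2 fun h => hα1 h.symm)]),
        Finset.sum_const, smul_eq_mul]
      ring
    have hsing : (O.filter fun z => ¬ (z.1 ≠ 0 ∧ z.2 ≠ 0)).card = (q + 1) * ε := by
      have hax : O.filter (fun z => ¬ (z.1 ≠ 0 ∧ z.2 ≠ 0)) =
          circ.image (fun a => (a, (0 : F))) ∪
            (if ((0 : F), (1 : F)) ∈ O then circ.image (fun b => ((0 : F), b)) else ∅) := by
        ext ⟨a, b⟩
        simp only [Finset.mem_filter, Finset.mem_union, Finset.mem_image, hcirc_def, Finset.mem_univ, true_and,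
          not_and_or, not_not, Prod.mk.injEq]
        constructor
        · rintro ⟨hab, h⟩
          have h2 := hnorm a b hab
          rcases h with rfl | rfl
          · right
            have hb1 : b * b ^ q = 1 := by simpa using h2
            have hb0 : b ≠ 0 := fun h => by rw [h, zero_mul] at hb1; exact zero_ne_one hb1
            have hmem : ((0 : F), (1 : F)) ∈ O := by
              have h3 := hclosed hab (u := 1) (v := b⁻¹) (by simp) (by rw [inv_pow, ← mul_inv, hb1, inv_one])
              rwa [mul_zero, inv_mul_cancel₀ hb0] at h3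
            rw [if_pos hmem]
            simp [hb1]
          · exact Or.inl ⟨a, by simpa using h2, rfl, rfl⟩
        · rintro (⟨a', ha', rfl, rfl⟩ | h)
          · have h3 := hclosed he1 (u := a') (v := 1) ha' (by simp)
            rw [mul_one, mul_zero] at h3
            exact ⟨h3, Or.inr rfl⟩
          · split_ifs at h with hmem
            · simp only [Finset.mem_image, Finset.mem_filter, Finset.mem_univ, true_and, Prod.mk.injEq] at h
              obtain ⟨b', hb', rfl, rfl⟩ := h
              have h3 := hclosed hmem (u := 1) (v := b') (by simp) hb'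
              rw [mul_zero, mul_one] at h3
              exact ⟨h3, Or.inl rfl⟩
            · simp at h
      rw [hax, Finset.card_union_of_disjoint, Finset.card_image_of_injective _ (fun x y h => congrArg Prod.fst h),
        hcirc, hε]
      · split_ifs
        · rw [Finset.card_image_of_injective _ (fun x y h => congrArg Prod.snd h), hcirc]; ring
        · simp
      · rw [Finset.disjoint_left]
        rintro ⟨a, b⟩ h1 h2
        split_ifs at h2
        · simp only [Finset.mem_image, Prod.mk.injEq, hcirc_def, Finset.mem_filter] at h1 h2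
          obtain ⟨x, ⟨-, hx⟩, rfl, rfl⟩ := h1
          obtain ⟨y, -, h2, -⟩ := h2
          rw [← h2, zero_mul] at hx; exact zero_ne_one hx
        · simp at h2
    rw [← Finset.card_filter_add_card_filter_not (s := O) (fun z => z.1 ≠ 0 ∧ z.2 ≠ 0), hgen, hsing]
    ring
  have hA0 : 1 ≤ A.card := by
    obtain ⟨h, hh, h1, h2⟩ := hmove
    obtain ⟨g, hg, hgx⟩ := hblock h hh
    refine Finset.card_pos.2 ⟨_, Finset.mem_image.2 ⟨(⟪(h : Matrix (Fin n) (Fin n) F) *ᵥ e, e⟫,
      ⟪(h : Matrix (Fin n) (Fin n) F) *ᵥ e, f⟫), Finset.mem_filter.2 ⟨(hmemO _ _).2 ⟨g, hg, ?_⟩, h1, h2⟩, rfl⟩⟩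
    rw [hgx e he]; exact hspan _ (hKP h hh e he)
  obtain ⟨d, hd⟩ := card_orbit_dvd hle e hst
  rw [horbG, hall, hOc, hbeq, mul_assoc] at hd
  have hd' : (ε + (q + 1) * A.card) * d + q = q * q := by
    rw [← Nat.eq_of_mul_eq_mul_left (by omega : 0 < q + 1) hd]
    have := Nat.le_mul_self q
    omega
  -- conclude from fullness of the orbit
  suffices hfull : d = 1 by
    intro w hw hww
    rw [hfull, mul_one, ← hbeq] at hd
    have heq : O = Finset.univ.filter fun z : F × F => z.1 * z.1 ^ q + z.2 * z.2 ^ q = 1 := by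
      refine Finset.eq_of_subset_of_card_le (fun z hz => by simpa using hnorm z.1 z.2 hz) ?_
      rw [← hd, ← hall, Nat.card_eq_fintype_card, Fintype.card_subtype]
    obtain ⟨g, ⟨-, h, hh, c, hc⟩, hge⟩ := (hmemO ⟪w, e⟫ ⟪w, f⟫).1 (by
      rw [heq]; simp only [Finset.mem_filter, Finset.mem_univ, true_and]
      rw [← hU, ← hspan w hw, hww])
    rw [← hspan w hw] at hge
    refine ⟨h, hh, c⁻¹, ?_⟩
    have hc' := hc e he
    rw [hge] at hc'
    have hc0 : c ≠ 0 := fun h0 => by
      rw [h0, zero_smul] at hc'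
      rw [hc', Unit.zero_right hf] at hww
      exact zero_ne_one hww
    rw [hc', smul_smul, inv_mul_cancel₀ hc0, one_smul]
  rcases orbit_arith hq (show ε = 1 ∨ ε = 2 by rw [hε]; split_ifs <;> simp) hA0 hd' with h | ⟨h1, h2, h3⟩ | ⟨h1, h2, h3⟩
  · exact h
  · -- index two: the swap of the axes is a commutator
    exfalso
    have hnot : ((0 : F), (1 : F)) ∉ O := fun hmem => by rw [hε, if_pos hmem] at h1; omega
    have hidx : (Khat.subgroupOf (blockGU q P)).index = 2 := by
      have hm := Subgroup.relIndex_mul_relIndex _ _ _ hst hle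
      have hG : Nat.card (MulAction.orbit (blockGU q P) e) =
          (MulAction.stabilizer (GL (Fin n) F) e ⊓ blockGU q P).relIndex (blockGU q P) := by
        rw [Nat.card_coe_set_eq, ← MulAction.index_stabilizer, Subgroup.relIndex]
        congr 1
        ext ⟨g, hg⟩
        simp [Subgroup.mem_subgroupOf, MulAction.mem_stabilizer_iff, hg, Subgroup.smul_def]
      have hK : Nat.card (MulAction.orbit Khat e) =
          (MulAction.stabilizer (GL (Fin n) F) e ⊓ blockGU q P).relIndex Khat := by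
        rw [Nat.card_coe_set_eq, ← MulAction.index_stabilizer, Subgroup.relIndex]
        congr 1
        ext ⟨g, hg⟩
        simp only [Subgroup.mem_subgroupOf, MulAction.mem_stabilizer_iff, Subgroup.mem_inf, Subgroup.smul_def]
        exact ⟨fun h => ⟨h, hle hg⟩, And.left⟩
      rw [← hG, ← hK, horbG, hall, hOc, hbeq] at hm
      rw [h2] at hd
      have hpos : 0 < (q + 1) * (ε + (q + 1) * A.card) := Nat.mul_pos (by omega) (by omega)
      exact Nat.eq_of_mul_eq_mul_left hpos (by rw [Subgroup.relIndex] at hm; rw [hm, hd]; ring)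
    have hcomm : ∀ x y : GL (Fin n) F, x ∈ blockGU q P → y ∈ blockGU q P → x * y * x⁻¹ * y⁻¹ ∈ Khat := by
      intro x y hx hy
      have hkey := fun a b : (blockGU q P : Subgroup _) => Subgroup.mul_mem_iff_of_index_two hidx (a := a) (b := b)
      have hinv := fun a : (blockGU q P : Subgroup _) => (Khat.subgroupOf (blockGU q P)).inv_mem_iff (x := a)
      have : (⟨x, hx⟩ * ⟨y, hy⟩ * ⟨x, hx⟩⁻¹ * ⟨y, hy⟩⁻¹ : (blockGU q P : Subgroup _)) ∈
          Khat.subgroupOf (blockGU q P) := by
        rw [hkey, hkey, hkey, hinv, hinv]; tauto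
      exact this
    have h20 : (2 : F) = 0 := by
      obtain ⟨p, hp⟩ := CharP.exists F
      obtain ⟨⟨m, hm⟩, hpp, hcard⟩ := FiniteField.card F p
      rw [← Nat.card_eq_fintype_card, hF] at hcard
      have h2p : 2 ∣ p := Nat.prime_two.dvd_of_dvd_pow (hcard ▸ dvd_pow h3.two_dvd two_ne_zero)
      obtain rfl := (Nat.prime_dvd_prime_iff_eq Nat.prime_two hpp).1 h2p
      exact_mod_cast CharP.cast_eq_zero F 2
    obtain ⟨s, hs, hs0, hs1⟩ : ∃ s : F, s ^ q = s ∧ s ≠ 0 ∧ s ≠ 1 := by
      obtain ⟨α, hα⟩ := Finset.card_pos.1 hA0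
      exact ⟨α, hA1 α hα⟩
    set u := e + f with hu
    have hef' : ⟪u, u⟫ = 0 := by
      rw [hu, hf.add_left, Unit.add_right hf, Unit.add_right hf, hee, hff, hef, hfe]; linear_combination h20
    have hu0 : u ≠ 0 := fun h => by
      have := congrArg (fun x => ⟪x, e⟫) h
      simp [hu, hf.add_left, hee, hfe, LinLeft.zero_left ⟨hf.add_left, hf.smul_left⟩] at this
    obtain ⟨S, hS, -, hSu⟩ := exists_scale hF hP hd2 (P.add_mem he hfP) hu0 hef' hs hs0
    rw [← hu] at hSu
    have hs21 : s * s - 1 ≠ 0 := fun h => hs1 (by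
      have : (s - 1) * (s - 1) = 0 := by linear_combination h + (1 - s) * h20
      exact sub_eq_zero.1 (mul_self_eq_zero.1 this))
    set k := 1 / (s * s - 1) with hk
    have hkq : k ^ q = k := by rw [hk, ← frobEquiv_apply hF, map_div₀, map_sub, map_mul, map_one, frobEquiv_apply, hs]
    have kp : IsQPair n q F u k := by rw [IsQPair, hef', hkq]; linear_combination k * h20
    have hmem := hcomm S (qref hF u k kp) hS (qref_mem_block hF (P.add_mem he hfP) kp)
    refine hnot ((hmemO 0 1).2 ⟨_, hmem, ?_⟩)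
    have hT : ∀ x, ((qref hF u k kp)⁻¹ : GL (Fin n) F).1 *ᵥ x = x - (k * ⟪x, u⟫) • u := by
      intro x
      have h1 : (qref hF u k kp : Matrix (Fin n) (Fin n) F) *ᵥ (x - (k * ⟪x, u⟫) • u) = x := by
        rw [qref_mulVec hF kp, CfsgLib.Unitary.herm_sub_left hF, hf.smul_left, hef', mul_zero, sub_zero]; module
      conv_lhs => rw [← h1]
      rw [inv_mulVec_mulVec]
    have hSi : ∀ x, ⟪((S⁻¹ : GL (Fin n) F) : Matrix (Fin n) (Fin n) F) *ᵥ x, u⟫ = s * ⟪x, u⟫ := by
      intro x
      have h1 := (mem_GU.1 hS.1) (((S⁻¹ : GL (Fin n) F) : Matrix (Fin n) (Fin n) F) *ᵥ x) u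
      rw [mulVec_inv_mulVec, hSu, Unit.smul_right hf, frobEquiv_apply, hs] at h1
      exact h1.symm
    simp only [mul_mulVec, hT, qref_mulVec, Matrix.mulVec_add, Matrix.mulVec_smul, mulVec_inv_mulVec, hSu, hSi,
      CfsgLib.Unitary.herm_sub_left hF, hf.smul_left, hef', mul_zero, sub_zero]
    rw [show ⟪e, u⟫ = 1 by rw [hu, Unit.add_right hf, hee, hef, add_zero], hu]
    have hkk : k * (s * s - 1) = 1 := div_mul_cancel₀ _ hs21
    match_scalars
    · linear_combination hkk + h20
    · linear_combination hkk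
  · -- one class in the field of 81 elements
    exfalso
    obtain ⟨α, hα⟩ := Finset.card_eq_one.1 h2
    obtain ⟨hαq, hα0, hα1⟩ := hA1 α (by rw [hα]; simp)
    have hmem01 : ((0 : F), (1 : F)) ∈ O := by
      by_contra h; rw [hε, if_neg h] at h1; omega
    obtain ⟨a, ha⟩ := Unit.exists_norm_eq hf.ne_refl hf.involutive (t := α) (by rw [frobEquiv_apply, hαq])
    obtain ⟨b, hb⟩ := Unit.exists_norm_eq hf.ne_refl hf.involutive (t := 1 - α)
      (by rw [map_sub, map_one, frobEquiv_apply, hαq])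
    rw [frobEquiv_apply] at ha hb
    have hab := hclass α (by rw [hα]; simp) a b ha hb
    obtain ⟨g, hg, hge⟩ := (hmemO a b).1 hab
    -- conjugate of the torus
    have hval : ∀ l : F, l * l ^ q = 1 → ((l - 1) * (l - 1) ^ q) * (α * (1 - α)) = 0 ∨
        ((l - 1) * (l - 1) ^ q) * (α * (1 - α)) = 1 ∨ ((l - 1) * (l - 1) ^ q) * (α * (1 - α)) = 1 - α := by
      intro l hl
      obtain ⟨D, hD, hDe, hDf⟩ := hdiag l 1 hl (by simp)
      have hx := mul_mem (mul_mem hg hD) (inv_mem hg)
      have hgf : ⟪((g⁻¹ : GL (Fin n) F) : Matrix (Fin n) (Fin n) F) *ᵥ e, e⟫ = a ^ q := by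
        have h1 := (mem_GU.1 (hle hg).1) (((g⁻¹ : GL (Fin n) F) : Matrix (Fin n) (Fin n) F) *ᵥ e) e
        rw [mulVec_inv_mulVec, hge] at h1
        rw [← h1]
        simp [Unit.add_right hf, Unit.smul_right hf, hee, hef, frobEquiv_apply]
      set y := ((g⁻¹ : GL (Fin n) F) : Matrix (Fin n) (Fin n) F) *ᵥ e with hy
      have hyP : y ∈ P := block_mem_self (inv_mem (hle hg)) he
      have hDy : (D : Matrix (Fin n) (Fin n) F) *ᵥ y = y + ((l - 1) * a ^ q) • e := by
        conv_lhs => rw [hspan y hyP, Matrix.mulVec_add, Matrix.mulVec_smul, Matrix.mulVec_smul, hDe, hDf]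
        conv_rhs => rw [hspan y hyP]
        rw [hgf]
        match_scalars <;> ring
      have himg : ((g * D * g⁻¹ : GL (Fin n) F) : Matrix (Fin n) (Fin n) F) *ᵥ e =
          (1 + (l - 1) * (a ^ q * a)) • e + ((l - 1) * a ^ q * b) • f := by
        rw [mul_mulVec, mul_mulVec, ← hy, hDy, Matrix.mulVec_add, Matrix.mulVec_smul, hge, hy, mulVec_inv_mulVec]
        match_scalars <;> ring
      set A1 := 1 + (l - 1) * (a ^ q * a)
      set B1 := (l - 1) * a ^ q * b with hB1
      have hm := (hmemO A1 B1).2 ⟨_, hx, himg⟩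
      have hNB : B1 * B1 ^ q = ((l - 1) * (l - 1) ^ q) * (α * (1 - α)) := by
        rw [hB1, mul_pow, mul_pow, CfsgLib.Forms.pow_q_q hF, ← ha, show (1 : F) - a * a ^ q = b * b ^ q by rw [ha, hb]]
        ring
      rw [← hNB]
      by_cases hA1' : A1 = 0
      · have := hnorm _ _ hm
        rw [hA1', zero_mul, zero_add] at this
        exact Or.inr (Or.inl this)
      by_cases hB1' : B1 = 0
      · exact Or.inl (by rw [hB1', zero_mul])
      have hAα : A1 * A1 ^ q ∈ A := Finset.mem_image.2 ⟨(A1, B1), Finset.mem_filter.2 ⟨hm, hA1', hB1'⟩, rfl⟩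
      rw [hα, Finset.mem_singleton] at hAα
      have := hnorm _ _ hm
      exact Or.inr (Or.inr (by linear_combination this - hAα))
    have hαα : α * (1 - α) ≠ 0 := mul_ne_zero hα0 (sub_ne_zero.2 (Ne.symm hα1))
    set T : Finset F := {0, 1 / (α * (1 - α)), (1 - α) / (α * (1 - α))}
    have hsub : circ ⊆ T.biUnion fun τ => circ.filter fun l => (l - 1) * (l - 1) ^ q = τ := by
      intro l hl
      have hl' : l * l ^ q = 1 := (Finset.mem_filter.1 hl).2
      refine Finset.mem_biUnion.2 ⟨(l - 1) * (l - 1) ^ q, ?_, Finset.mem_filter.2 ⟨hl, rfl⟩⟩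
      simp only [T, Finset.mem_insert, Finset.mem_singleton, eq_div_iff hαα]
      rcases hval l hl' with h | h | h
      · exact Or.inl ((mul_eq_zero.1 h).resolve_right hαα)
      · exact Or.inr (Or.inl h)
      · exact Or.inr (Or.inr h)
    have htwo : ∀ τ, (circ.filter fun l => (l - 1) * (l - 1) ^ q = τ).card ≤ 2 := by
      intro τ
      by_contra hgt
      obtain ⟨x, hx, y, hy, z, hz, hxy, hxz, hyz⟩ := Finset.two_lt_card.1 (not_le.1 hgt)
      have hquad : ∀ l ∈ circ.filter (fun l => (l - 1) * (l - 1) ^ q = τ), l * l + (τ - 2) * l + 1 = 0 := by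
        intro l hl
        simp only [hcirc_def, Finset.mem_filter, Finset.mem_univ, true_and] at hl
        obtain ⟨h1, h2⟩ := hl
        rw [← frobEquiv_apply hF (l - 1), map_sub, map_one, frobEquiv_apply] at h2
        linear_combination (-l) * h2 + (l - 1) * h1
      have hdiff : ∀ {u v : F}, u ∈ circ.filter (fun l => (l - 1) * (l - 1) ^ q = τ) →
          v ∈ circ.filter (fun l => (l - 1) * (l - 1) ^ q = τ) → u ≠ v → u + v + (τ - 2) = 0 := fun {u v} hu hv huv =>
        (mul_eq_zero.1 (show (u - v) * (u + v + (τ - 2)) = 0 by linear_combination hquad u hu - hquad v hv)).resolve_left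
          (sub_ne_zero.2 huv)
      exact hyz (by linear_combination hdiff hx hy hxy - hdiff hx hz hxz)
    have h4 := (Finset.card_le_card hsub).trans (Finset.card_biUnion_le_card_mul T _ 2 fun τ _ => htwo τ)
    have h5 : T.card ≤ 3 := Finset.card_le_three
    omega

end CfsgLib.Geo.UTv
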