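/-
An overgroup of the monomial group in SU whose elements fixing a coordinate line are monomial is monomial,
in dimension eight or at least ten, and in dimension six over fields with at least nine elements.
-/
import Cfsg.Agent.Geo.UnitPlane
import Cfsg.Agent.Geo.UnitPhase
import Cfsg.Agent.Geo.UnitPhaseEight
import Cfsg.Agent.Geo.MonomialLocal

set_option autoImplicit false

namespace CfsgLib.Geo.UFrame

open Matrix Cfsg Cfsg.Geo CfsgLib.Geo CfsgLib.Geo.UTv CfsgLib.Geo.Mono

variable {n q : ℕ} {F : Type*} [Field F] [Finite F] (hF : Nat.card F = q ^ 2)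

local notation "⟪" x ", " y "⟫" => Cfsg.hermForm n F q x y

/-- A column of a matrix. -/
abbrev col (g : GL (Fin n) F) (a : Fin n) : Fin n → F :=
  (g : Matrix (Fin n) (Fin n) F) *ᵥ Pi.single a 1

omit [Finite F] in
lemma col_apply (g : GL (Fin n) F) (a x : Fin n) : col g a x = (g : Matrix (Fin n) (Fin n) F) x a := by
  rw [col, Matrix.mulVec_single_one]; rfl

omit [Finite F] in
lemma herm_single (x : Fin n) (v : Fin n → F) : ⟪Pi.single x 1, v⟫ = v x ^ q :=
  CfsgLib.Unitary.herm_single_left n x v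

omit [Finite F] in
lemma mem_mono_of_perm {g : GL (Fin n) F} (h : ∀ a, ∃ x, ∀ y, y ≠ x → (g : Matrix (Fin n) (Fin n) F) y a = 0) :
    g ∈ monomialGroup (Fin n) F :=
  mem_of_columns fun j i k hi hk => by
    obtain ⟨x, hx⟩ := h j
    exact (by_contra fun e => hi (hx i e) : i = x).trans (by_contra fun e => hk (hx k e) : k = x).symm

omit [Finite F] in
lemma single_of_mono {g : GL (Fin n) F} (h : g ∈ monomialGroup (Fin n) F) (a : Fin n) :
    ∃ x, ∀ y, y ≠ x → (g : Matrix (Fin n) (Fin n) F) y a = 0 := by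
  obtain ⟨π, hπ⟩ := mem_monomialGroup.1 h
  exact ⟨π a, fun y hy => hπ y a hy⟩

include hF

lemma herm_single_right (v : Fin n → F) (x : Fin n) : ⟪v, Pi.single x 1⟫ = v x := by
  rw [CfsgLib.Unitary.herm_swap hF (Pi.single x 1) v, herm_single, CfsgLib.Forms.pow_q_q hF]

lemma herm_apply (u v : Fin n → F) : ⟪u, v⟫ = ∑ x, u x * v x ^ q := by
  conv_lhs => rw [pi_eq_sum_univ' u]
  let φ : (Fin n → F) →+ F :=
    AddMonoidHom.mk' (fun a => ⟪a, v⟫) fun a b => CfsgLib.Unitary.herm_add_left n a b v
  refine (map_sum φ _ _).trans (Finset.sum_congr rfl fun x _ => ?_)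
  show ⟪u x • Pi.single x 1, v⟫ = _
  rw [CfsgLib.Unitary.herm_smul_left, herm_single]

lemma herm_cols {g : GL (Fin n) F} (hg : g ∈ Cfsg.GU n F q) (a b : Fin n) :
    ⟪col g a, col g b⟫ = if a = b then 1 else 0 := by
  rw [mem_GU.1 hg, herm_single_right hF, Pi.single_apply]
  by_cases h : a = b <;> simp [h, eq_comm]

lemma inv_apply {g : GL (Fin n) F} (hg : g ∈ Cfsg.GU n F q) (a b : Fin n) :
    ((g⁻¹ : GL (Fin n) F) : Matrix (Fin n) (Fin n) F) a b = (g : Matrix (Fin n) (Fin n) F) b a ^ q := by
  have h := mem_GU.1 hg (((g⁻¹ : GL (Fin n) F) : Matrix (Fin n) (Fin n) F) *ᵥ Pi.single b 1) (Pi.single a 1)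
  rw [mulVec_inv_mulVec, herm_single, herm_single_right hF, Matrix.mulVec_single_one,
    Matrix.mulVec_single_one] at h
  exact h.symm

lemma mon_mem_GU (π : Equiv.Perm (Fin n)) (c : Fin n → Fˣ) (hc : ∀ x, IsPhase q (c x : F)) :
    mon π c ∈ Cfsg.GU n F q := by
  rw [mem_GU]
  intro u v
  rw [herm_apply hF, herm_apply hF, ← Equiv.sum_comp π]
  refine Finset.sum_congr rfl fun x _ => ?_
  rw [mon_mulVec, mon_mulVec, mul_pow]
  have hcx : (c x : F) * (c x : F) ^ q = 1 := hc x
  linear_combination (u x * v x ^ q) * hcx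

lemma mon_mem (π : Equiv.Perm (Fin n)) (c : Fin n → Fˣ) (hc : ∀ x, IsPhase q (c x : F))
    (hd : ((Equiv.Perm.sign π : ℤ) : F) * ∏ x, (c x : F) = 1) :
    mon π c ∈ monomialGroup (Fin n) F ⊓ suGL n F q :=
  ⟨Mono.mon_mem π c, mon_mem_GU hF π c hc, mem_specialLinear.2 (by rw [det_mon]; exact hd)⟩

lemma phase_sign (π : Equiv.Perm (Fin n)) : IsPhase q ((Equiv.Perm.sign π : ℤ) : F) := by
  rcases Int.units_eq_one_or (Equiv.Perm.sign π) with h | h <;> rw [h]
  · simp [IsPhase]
  · rw [IsPhase, ← frobEquiv_apply hF]; simp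

omit hF [Finite F] in
/-- Phases as units. -/
noncomputable def units (t : Fin n → F) (ht : ∀ x, IsPhase q (t x)) : Fin n → Fˣ :=
  fun x => Units.mk0 (t x) (ht x).ne_zero

omit [Finite F] hF in
lemma units_val (t : Fin n → F) (ht : ∀ x, IsPhase q (t x)) (x : Fin n) : (units t ht x : F) = t x := rfl

lemma torus_mem' (t : Fin n → F) (ht : ∀ x, IsPhase q (t x)) (hd : ∏ x, t x = 1) :
    torus (units t ht) ∈ monomialGroup (Fin n) F ⊓ suGL n F q :=
  mon_mem hF 1 _ (fun x => ht x) (by simp [units_val, hd])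

lemma torus_val (t : Fin n → F) (ht : ∀ x, IsPhase q (t x)) (v : Fin n → F) (x : Fin n) :
    ((torus (units t ht) : GL (Fin n) F) : Matrix (Fin n) (Fin n) F) *ᵥ v = fun y => t y * v y :=
  funext fun y => torus_mulVec _ v y

/-- The torus element with two inverse entries. -/
lemma exists_two {i j : Fin n} (hij : i ≠ j) {l : F} (hl : IsPhase q l) :
    ∃ x ∈ monomialGroup (Fin n) F ⊓ suGL n F q, ∀ (v : Fin n → F) (y : Fin n),
      ((x : Matrix (Fin n) (Fin n) F) *ᵥ v) y = (if y = i then l else if y = j then l⁻¹ else 1) * v y := by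
  let t : Fin n → F := fun y => if y = i then l else if y = j then l⁻¹ else 1
  have ht : ∀ y, IsPhase q (t y) := fun y => by
    simp only [t]; split_ifs <;> [exact hl; exact hl.inv; exact IsPhase.one]
  refine ⟨_, torus_mem' hF t ht ?_, fun v y => congrFun (torus_val hF t ht v i) y⟩
  rw [Finset.prod_eq_mul i j hij (fun c _ hc => by simp [t, hc.1, hc.2]) (by simp) (by simp)]
  simp [t, Ne.symm hij, mul_inv_cancel₀ hl.ne_zero]

variable {M : Subgroup (GL (Fin n) F)}

omit hF [Finite F] in
/-- A monomial overgroup candidate in which line stabilisers are monomial. -/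
structure Proper (q : ℕ) (M : Subgroup (GL (Fin n) F)) : Prop where
  big : (9 ≤ n ∨ n = 8) ∨ (n = 6 ∧ 3 ≤ q)
  le : monomialGroup (Fin n) F ⊓ suGL n F q ≤ M
  sub : M ≤ suGL n F q
  stab : ∀ g ∈ M, ∀ a, (∀ x, x ≠ a → (g : Matrix (Fin n) (Fin n) F) x a = 0) → g ∈ monomialGroup (Fin n) F

variable (hP : Proper q M)
include hP

omit hF [Finite F] in
lemma gu {g : GL (Fin n) F} (hg : g ∈ M) : g ∈ Cfsg.GU n F q := (hP.sub hg).1

omit hF [Finite F] in
lemma six_le : 6 ≤ n := by rcases hP.big with (h | h) | ⟨h, -⟩ <;> omega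

omit hF [Finite F] in
lemma exists_avoid (S : Finset (Fin n)) (h : S.card < 6) : ∃ k, k ∉ S := by
  by_contra hc
  push Not at hc
  have := Finset.card_le_card (fun k (_ : k ∈ Finset.univ) => hc k : Finset.univ ⊆ S)
  rw [Finset.card_univ, Fintype.card_fin] at this
  have := six_le hP; omega

/-- An element with a column of one entry is monomial. -/
lemma of_single {g : GL (Fin n) F} (hg : g ∈ M) {a i : Fin n}
    (h : ∀ x, x ≠ i → (g : Matrix (Fin n) (Fin n) F) x a = 0) : g ∈ monomialGroup (Fin n) F := by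
  obtain ⟨m, hm⟩ := exists_avoid hP {i, a} (by
    have := Finset.card_le_two (a := i) (b := a); omega)
  simp only [Finset.mem_insert, Finset.mem_singleton, not_or] at hm
  set π := Equiv.swap i a with hπ
  let t : Fin n → F := Function.update 1 m ((Equiv.Perm.sign π : ℤ) : F)
  have ht : ∀ x, IsPhase q (t x) := fun x => by
    rcases eq_or_ne x m with rfl | h
    · simpa [t] using phase_sign hF π
    · simpa [t, Function.update_of_ne h] using IsPhase.one
  have hx := mon_mem hF π (units t ht) (fun x => ht x) (by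
    simp only [units_val, t]
    rw [Finset.prod_eq_single m (fun b _ hb => by simp [Function.update_of_ne hb]) (by simp), Function.update_self,
      ← Int.cast_mul, ← Units.val_mul, Int.units_mul_self]
    simp)
  have hfix : ∀ x, x ≠ a → ((mon π (units t ht) * g : GL (Fin n) F) : Matrix (Fin n) (Fin n) F) x a = 0 := by
    intro x hxa
    obtain ⟨y, rfl⟩ := π.surjective x
    rw [← col_apply, col, mul_mulVec, mon_mulVec, ← col, col_apply, h y (fun e => hxa (by
      rw [e, hπ]; exact Equiv.swap_apply_left i a)), mul_zero]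
  have h1 := hP.stab _ (M.mul_mem (hP.le hx) hg) a hfix
  have := (monomialGroup (Fin n) F).mul_mem ((monomialGroup (Fin n) F).inv_mem hx.1) h1
  rwa [inv_mul_cancel_left] at this

omit hF [Finite F] in
/-- The coordinates moved by an element span into its image; at most as many as its rank, up to pairing. -/
lemma support_of_moved {B : GL (Fin n) F} {π : Equiv.Perm (Fin n)} (hπ : IsMonoAt B π) {v : Fin n → F} {μ : F}
    (hμ : μ ≠ 1) (hv : (B : Matrix (Fin n) (Fin n) F) *ᵥ v = μ • v) {y : Fin n}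
    (hy : (B : Matrix (Fin n) (Fin n) F) *ᵥ Pi.single y 1 = Pi.single y 1) : v y = 0 := by
  have hcoord : ∀ z, ((B : Matrix (Fin n) (Fin n) F) *ᵥ v) (π z) = (B : Matrix (Fin n) (Fin n) F) (π z) z * v z :=
    fun z => by
      rw [Matrix.mulVec, dotProduct, Finset.sum_eq_single z]
      · intro w _ hw; rw [hπ (π z) w (fun e => hw (π.injective e).symm), zero_mul]
      · simp
  have hyy := congrFun hy y
  rw [Matrix.mulVec_single_one, Pi.single_eq_same] at hyy
  have hpy : π y = y := by
    by_contra hne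
    have h1 : (B : Matrix (Fin n) (Fin n) F) y y = 0 := hπ y y (Ne.symm hne)
    exact one_ne_zero (hyy.symm.trans h1)
  have h1 := hcoord y
  rw [hpy, hv, Pi.smul_apply, smul_eq_mul, show (B : Matrix (Fin n) (Fin n) F) y y = 1 from hyy, one_mul] at h1
  by_contra h0
  exact hμ (mul_right_cancel₀ h0 (by rw [h1, one_mul]))

/-- Two columns orthogonal to one coordinate vector share a support of two places. -/
lemma pair_support (hq : 3 ≤ q) {g : GL (Fin n) F} (hg : g ∈ M) {i p p' : Fin n} (hpp : p ≠ p')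
    (hp : (g : Matrix (Fin n) (Fin n) F) i p = 0) (hp' : (g : Matrix (Fin n) (Fin n) F) i p' = 0) :
    ∃ x y, ∀ z, z ≠ x → z ≠ y →
      (g : Matrix (Fin n) (Fin n) F) z p = 0 ∧ (g : Matrix (Fin n) (Fin n) F) z p' = 0 := by
  classical
  haveI := Fintype.ofFinite F
  have hf := isUnitaryForm hF (n := n)
  obtain ⟨μ, hμ, hμ2, hμ3⟩ : ∃ μ : F, IsPhase q μ ∧ μ * μ ≠ 1 ∧ μ * μ * μ ≠ 1 := by
    by_contra hcon
    push Not at hcon
    have hc := card_phase (F := F) hF
    have hsub : (Finset.univ.filter fun t : F => t * t ^ q = 1) ⊆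
        {1, -1} ∪ (Finset.univ.filter fun t : F => t * t + t + 1 = 0) := fun t ht => by
      by_cases h2 : t * t = 1
      · rcases mul_self_eq_one_iff.1 h2 with h | h <;> simp [h]
      · have h3 := hcon t (Finset.mem_filter.1 ht).2 h2
        have ht1 : t ≠ 1 := fun e => h2 (by simp [e])
        refine Finset.mem_union_right _ (Finset.mem_filter.2 ⟨Finset.mem_univ t, ?_⟩)
        exact (mul_eq_zero.1 (show (t - 1) * (t * t + t + 1) = 0 by linear_combination h3)).resolve_left
          (sub_ne_zero.2 ht1)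
    have hq3 : q = 3 := by
      have h1 : (Finset.univ.filter fun t : F => t * t + t + 1 = 0).card ≤ 2 := by
        by_contra hgt
        obtain ⟨a, ha, b, hb, c, hc', hab, hac, hbc⟩ := Finset.two_lt_card.1 (not_le.1 hgt)
        simp only [Finset.mem_filter, Finset.mem_univ, true_and] at ha hb hc'
        have e1 := (mul_eq_zero.1 (show (a - b) * (a + b + 1) = 0 by linear_combination ha - hb)).resolve_left
          (sub_ne_zero.2 hab)
        have e2 := (mul_eq_zero.1 (show (a - c) * (a + c + 1) = 0 by linear_combination ha - hc')).resolve_left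
          (sub_ne_zero.2 hac)
        exact hbc (by linear_combination e1 - e2)
      have h2 := (Finset.card_le_card hsub).trans (Finset.card_union_le _ _)
      have h3 : ({1, -1} : Finset F).card ≤ 2 := Finset.card_le_two
      rw [hc] at h2; omega
    subst hq3
    -- in characteristic three only `1` is a cube root of one
    have h30 : (3 : F) = 0 := by
      obtain ⟨p, hp⟩ := CharP.exists F
      obtain ⟨⟨m, hm⟩, hpp, hcard⟩ := FiniteField.card F p
      rw [← Nat.card_eq_fintype_card, hF] at hcard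
      have h3p : 3 ∣ p := Nat.prime_three.dvd_of_dvd_pow (hcard ▸ dvd_pow_self 3 two_ne_zero)
      obtain rfl := (Nat.prime_dvd_prime_iff_eq Nat.prime_three hpp).1 h3p
      exact_mod_cast CharP.cast_eq_zero F 3
    have hsub' : (Finset.univ.filter fun t : F => t * t ^ 3 = 1) ⊆ ({1, -1} : Finset F) := fun t ht => by
      rcases Finset.mem_union.1 (hsub ht) with h | h
      · exact h
      · have h' := (Finset.mem_filter.1 h).2
        have : (t - 1) * (t - 1) = 0 := by linear_combination h' - t * h30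
        simp [sub_eq_zero.1 (mul_self_eq_zero.1 this)]
    have := Finset.card_le_card hsub'
    have h3 : ({1, -1} : Finset F).card ≤ 2 := Finset.card_le_two
    omega
  obtain ⟨x, hx, hxv⟩ := exists_two hF hpp hμ
  set v := col g p with hv
  set w := col g p' with hw
  set B := g * x * g⁻¹
  have hBM : B ∈ M := M.mul_mem (M.mul_mem hg (hP.le hx)) (M.inv_mem hg)
  have hBz : ∀ z, (B : Matrix (Fin n) (Fin n) F) *ᵥ z =
      z + ((μ - 1) * ⟪z, v⟫) • v + ((μ⁻¹ - 1) * ⟪z, w⟫) • w := by
    intro z
    set z' := ((g⁻¹ : GL (Fin n) F) : Matrix (Fin n) (Fin n) F) *ᵥ z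
    have hzz : (g : Matrix (Fin n) (Fin n) F) *ᵥ z' = z := mulVec_inv_mulVec g z
    have hz : ∀ a, ⟪z, col g a⟫ = z' a := fun a => by
      rw [← hzz, mem_GU.1 (gu hP hg), herm_single_right hF]
    have hxz : (x : Matrix (Fin n) (Fin n) F) *ᵥ z' =
        z' + ((μ - 1) * z' p) • Pi.single p 1 + ((μ⁻¹ - 1) * z' p') • Pi.single p' 1 := by
      funext y
      rw [hxv]
      rcases eq_or_ne y p with rfl | hyp
      · simp [hpp]; ring
      rcases eq_or_ne y p' with rfl | hyp'
      · simp [hyp]; ring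
      simp [hyp, hyp']
    rw [mul_mulVec, mul_mulVec, hxz, Matrix.mulVec_add, Matrix.mulVec_add, Matrix.mulVec_smul,
      Matrix.mulVec_smul, hzz, hz, hz]
  have hBi : ∀ y, y ≠ i → (B : Matrix (Fin n) (Fin n) F) y i = 0 := fun y hy => by
    rw [← col_apply, col, hBz, herm_single, herm_single, show v i = 0 by rw [hv, col_apply, hp],
      show w i = 0 by rw [hw, col_apply, hp'], zero_pow (by omega)]
    simp [hy]
  obtain ⟨π, hπ⟩ := mem_monomialGroup.1 (hP.stab B hBM i hBi)
  have hvv : ⟪v, v⟫ = 1 := by rw [hv, herm_cols hF (gu hP hg)]; simp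
  have hww : ⟪w, w⟫ = 1 := by rw [hw, herm_cols hF (gu hP hg)]; simp
  have hvw : ⟪v, w⟫ = 0 := by rw [hv, hw, herm_cols hF (gu hP hg), if_neg hpp]
  have hwv : ⟪w, v⟫ = 0 := by rw [hv, hw, herm_cols hF (gu hP hg), if_neg (Ne.symm hpp)]
  have hBv : (B : Matrix (Fin n) (Fin n) F) *ᵥ v = μ • v := by rw [hBz, hvv, hvw]; module
  have hBw : (B : Matrix (Fin n) (Fin n) F) *ᵥ w = μ⁻¹ • w := by rw [hBz, hwv, hww]; module
  set V : Submodule F (Fin n → F) := Submodule.span F ({v, w} : Set (Fin n → F))
  have hmemV : ∀ z, (B : Matrix (Fin n) (Fin n) F) *ᵥ z - z ∈ V := fun z => by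
    rw [hBz, add_assoc, add_sub_cancel_left]
    exact V.add_mem (V.smul_mem _ (Submodule.subset_span (by simp))) (V.smul_mem _ (Submodule.subset_span (by simp)))
  set Z := Finset.univ.filter fun y => (B : Matrix (Fin n) (Fin n) F) *ᵥ Pi.single y 1 ≠ Pi.single y 1
  set c : Fin n → F := fun y => (B : Matrix (Fin n) (Fin n) F) (π y) y
  have himg : ∀ y, (B : Matrix (Fin n) (Fin n) F) *ᵥ Pi.single y 1 = c y • Pi.single (π y) 1 := fun y => by
    funext z
    rw [Matrix.mulVec_single_one, Pi.smul_apply, smul_eq_mul]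
    by_cases hz : z = π y
    · subst hz; simp [c]
    · rw [Pi.single_eq_of_ne hz, mul_zero]; exact hπ z y hz
  have heV : ∀ y ∈ Z, (Pi.single y 1 : Fin n → F) ∈ V := by
    intro y hy
    have hy' := (Finset.mem_filter.1 hy).2
    have h1 := hmemV (Pi.single y 1)
    rw [himg] at h1 hy'
    by_cases hπy : π y = y
    · rw [hπy] at h1 hy'
      have hc1 : c y - 1 ≠ 0 := fun h => hy' (by rw [sub_eq_zero.1 h, one_smul])
      exact (V.smul_mem_iff hc1).1 (by rwa [sub_smul, one_smul])
    -- the minimal polynomial on a moved place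
    set s := 1 + μ + μ⁻¹ with hs
    have hμ0 := hμ.ne_zero
    have hzero : ∀ z, (B : Matrix (Fin n) (Fin n) F) *ᵥ ((B : Matrix (Fin n) (Fin n) F) *ᵥ
        ((B : Matrix (Fin n) (Fin n) F) *ᵥ z)) - s • ((B : Matrix (Fin n) (Fin n) F) *ᵥ
        ((B : Matrix (Fin n) (Fin n) F) *ᵥ z)) + s • ((B : Matrix (Fin n) (Fin n) F) *ᵥ z) - z = 0 := by
      intro z
      simp only [hBz z, Matrix.mulVec_add, Matrix.mulVec_smul, hBv, hBw]
      rw [hs]
      match_scalars <;> field_simp <;> ring
    have h2 := hzero (Pi.single y 1)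
    simp only [himg, Matrix.mulVec_smul, smul_smul] at h2
    have hππ : π (π y) = y := by
      by_contra hne
      have h3 := congrFun h2 (π (π y))
      have e1 : π (π y) ≠ π y := fun e => hπy (π.injective e)
      have e3 : π (π y) ≠ π (π (π y)) := fun e => e1 (π.injective e).symm
      simp only [Pi.sub_apply, Pi.add_apply, Pi.smul_apply, Pi.single_eq_same, Pi.single_eq_of_ne e1,
        Pi.single_eq_of_ne e3, Pi.single_eq_of_ne hne, smul_eq_mul, mul_zero, mul_one, zero_sub, add_zero,
        sub_zero, Pi.zero_apply, neg_eq_zero, mul_eq_zero] at h3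
      have hc0 : ∀ z, c z ≠ 0 := fun z h0 => by
        have h4 := himg z
        rw [h0, zero_smul] at h4
        have h5 := congrArg (fun r => ((B⁻¹ : GL (Fin n) F) : Matrix (Fin n) (Fin n) F) *ᵥ r) h4
        simp only [inv_mulVec_mulVec, Matrix.mulVec_zero] at h5
        exact one_ne_zero (Pi.single_eq_zero_iff.1 h5)
      have hs0 : s = 0 := by
        rcases h3 with h | h | h
        · exact h
        · exact absurd h (hc0 _)
        · exact absurd h (hc0 _)
      refine hμ3 ?_
      rw [hs] at hs0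
      field_simp at hs0
      linear_combination (μ - 1) * hs0
    set d := c y * c (π y) with hd
    have hd1 : d ≠ 1 := by
      intro hd1
      have h3 := congrFun h2 y
      have e2 : π (π (π y)) ≠ y := by rw [hππ]; exact hπy
      simp only [Pi.sub_apply, Pi.add_apply, Pi.smul_apply, hππ, Pi.single_eq_same, Pi.single_eq_of_ne (Ne.symm hπy),
        smul_eq_mul, mul_one, mul_zero, add_zero, zero_sub, Pi.zero_apply] at h3
      rw [hd] at hd1
      have hs2 : -s - 1 = 0 := by linear_combination h3 + s * hd1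
      rw [hs] at hs2
      field_simp at hs2
      have : (μ + 1) * (μ + 1) = 0 := by linear_combination -hs2
      exact hμ2 (by rw [eq_neg_of_add_eq_zero_left (mul_self_eq_zero.1 this)]; simp)
    have h4 := hmemV (Pi.single (π y) 1)
    rw [himg, hππ] at h4
    have h5 : (d - 1) • (Pi.single y 1 : Fin n → F) =
        c y • (c (π y) • Pi.single y 1 - Pi.single (π y) 1) + (c y • Pi.single (π y) 1 - Pi.single y 1) := by
      rw [hd]; module
    exact (V.smul_mem_iff (sub_ne_zero.2 hd1)).1 (h5 ▸ V.add_mem (V.smul_mem _ h4) h1)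
  have hZ : Z.card ≤ 2 := by
    by_contra hgt
    have hle : Submodule.span F (Set.range fun y : Z => (Pi.single (y : Fin n) 1 : Fin n → F)) ≤ V :=
      Submodule.span_le.2 (by rintro _ ⟨y, rfl⟩; exact heV y y.2)
    have hli : LinearIndependent F fun y : Z => (Pi.single (y : Fin n) 1 : Fin n → F) := by
      have hb := (Pi.basisFun F (Fin n)).linearIndependent.comp (fun y : Z => (y : Fin n)) Subtype.val_injective
      convert hb using 1
      funext y; simp [Pi.basisFun_apply]
    have h1 := Submodule.finrank_mono hle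
    rw [finrank_span_eq_card hli, Fintype.card_coe] at h1
    have h2 : Module.finrank F V ≤ 2 :=
      (finrank_span_le_card (R := F) ({v, w} : Set (Fin n → F))).trans (by
        rw [Set.toFinset_insert, Set.toFinset_singleton]; exact Finset.card_le_two)
    omega
  have hout : ∀ z ∉ Z, (g : Matrix (Fin n) (Fin n) F) z p = 0 ∧ (g : Matrix (Fin n) (Fin n) F) z p' = 0 := by
    intro z hz
    simp only [Z, Finset.mem_filter, Finset.mem_univ, true_and, ne_eq, not_not] at hz
    have hμ1 : μ ≠ 1 := fun e => hμ2 (by rw [e, one_mul])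
    rw [← col_apply g p z, ← col_apply g p' z, ← hv, ← hw]
    exact ⟨support_of_moved hP hπ hμ1 hBv hz,
      support_of_moved hP hπ (fun e => hμ1 (inv_eq_one.1 e)) hBw hz⟩
  by_cases hne : Z.Nonempty
  · obtain ⟨x, hx⟩ := hne
    by_cases hne' : (Z.erase x).Nonempty
    · obtain ⟨y, hy⟩ := hne'
      refine ⟨x, y, fun z hzx hzy => hout z fun hz => ?_⟩
      have h1 := Finset.card_le_card (show ({x, y, z} : Finset (Fin n)) ⊆ Z by
        simp [Finset.insert_subset_iff, hx, hz, (Finset.mem_erase.1 hy).2])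
      rw [Finset.card_insert_of_notMem (by simp [Ne.symm (Finset.mem_erase.1 hy).1, Ne.symm hzx]),
        Finset.card_pair (Ne.symm hzy)] at h1
      omega
    · exact ⟨x, x, fun z hzx _ => hout z fun hz => hne' ⟨z, Finset.mem_erase.2 ⟨hzx, hz⟩⟩⟩
  · exact ⟨i, i, fun z _ _ => hout z fun hz => hne ⟨z, hz⟩⟩

/-- Three columns orthogonal to one coordinate vector force a monomial element. -/
lemma three_zeros (hq : 3 ≤ q) {g : GL (Fin n) F} (hg : g ∈ M) {i p l m : Fin n} (hpl : p ≠ l) (hpm : p ≠ m)
    (hlm : l ≠ m) (hp : (g : Matrix (Fin n) (Fin n) F) i p = 0) (hl : (g : Matrix (Fin n) (Fin n) F) i l = 0)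
    (hm : (g : Matrix (Fin n) (Fin n) F) i m = 0) : g ∈ monomialGroup (Fin n) F := by
  classical
  by_contra hgm
  obtain ⟨x, y, h1⟩ := pair_support hF hP hq hg hpl hp hl
  obtain ⟨x', y', h2⟩ := pair_support hF hP hq hg hpm hp hm
  have hsupp : ∀ z, (g : Matrix (Fin n) (Fin n) F) z p = 0 ∨
      ((z = x ∨ z = y) ∧ (z = x' ∨ z = y')) := by
    intro z
    by_contra hcon
    push Not at hcon
    by_cases h : z = x ∨ z = y
    · obtain ⟨a, b⟩ := hcon.2 h
      exact hcon.1 (h2 z a b).1
    · push Not at h; exact hcon.1 (h1 z h.1 h.2).1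
  -- column `p` has at least two entries
  have htwo : ∀ r, ∃ z, z ≠ r ∧ (g : Matrix (Fin n) (Fin n) F) z p ≠ 0 := fun r => by
    by_contra hcon
    push Not at hcon
    exact hgm (of_single hF hP hg hcon)
  obtain ⟨z1, -, hz1⟩ := htwo p
  obtain ⟨z2, hz21, hz2⟩ := htwo z1
  have k1 := (hsupp z1).resolve_left hz1
  have k2 := (hsupp z2).resolve_left hz2
  have hmem : ∀ a ∈ ({p, l, m} : Finset (Fin n)), col g a ∈
      Submodule.span F ({Pi.single z1 1, Pi.single z2 1} : Set (Fin n → F)) := by
    intro a ha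
    have hz : ∀ z, z ≠ z1 → z ≠ z2 → (g : Matrix (Fin n) (Fin n) F) z a = 0 := by
      intro z hz1' hz2'
      have nxy : z ≠ x ∧ z ≠ y := by
        rcases k1.1 with e1 | e1 <;> rcases k2.1 with e2 | e2
        · exact absurd (e2.trans e1.symm) hz21
        · exact ⟨fun e => hz1' (e.trans e1.symm), fun e => hz2' (e.trans e2.symm)⟩
        · exact ⟨fun e => hz2' (e.trans e2.symm), fun e => hz1' (e.trans e1.symm)⟩
        · exact absurd (e2.trans e1.symm) hz21
      have nxy' : z ≠ x' ∧ z ≠ y' := by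
        rcases k1.2 with e1 | e1 <;> rcases k2.2 with e2 | e2
        · exact absurd (e2.trans e1.symm) hz21
        · exact ⟨fun e => hz1' (e.trans e1.symm), fun e => hz2' (e.trans e2.symm)⟩
        · exact ⟨fun e => hz2' (e.trans e2.symm), fun e => hz1' (e.trans e1.symm)⟩
        · exact absurd (e2.trans e1.symm) hz21
      simp only [Finset.mem_insert, Finset.mem_singleton] at ha
      rcases ha with rfl | rfl | rfl
      · exact (h1 z nxy.1 nxy.2).1
      · exact (h1 z nxy.1 nxy.2).2
      · exact (h2 z nxy'.1 nxy'.2).2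
    rw [Submodule.mem_span_pair]
    refine ⟨col g a z1, col g a z2, funext fun z => ?_⟩
    rcases eq_or_ne z z1 with rfl | h1'
    · simp [Ne.symm hz21]
    rcases eq_or_ne z z2 with rfl | h2'
    · simp [h1']
    simp [h1', h2', col_apply, hz z h1' h2']
  have hle : Submodule.span F (Set.range fun a : ({p, l, m} : Finset (Fin n)) => col g (a : Fin n)) ≤
      Submodule.span F ({Pi.single z1 1, Pi.single z2 1} : Set (Fin n → F)) :=
    Submodule.span_le.2 (by rintro _ ⟨a, rfl⟩; exact hmem a a.2)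
  have hli : LinearIndependent F fun a : ({p, l, m} : Finset (Fin n)) => col g (a : Fin n) := by
    have hb := ((Pi.basisFun F (Fin n)).linearIndependent.comp
      (fun a : ({p, l, m} : Finset (Fin n)) => (a : Fin n)) Subtype.val_injective).map'
      (glEquiv g).toLinearMap (glEquiv g).ker
    have e : (fun a : ({p, l, m} : Finset (Fin n)) => col g (a : Fin n)) =
        ⇑(glEquiv g).toLinearMap ∘ ⇑(Pi.basisFun F (Fin n)) ∘
          fun a : ({p, l, m} : Finset (Fin n)) => (a : Fin n) := by
      funext a; simp only [Function.comp_apply, Pi.basisFun_apply]; rfl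
    rw [e]; exact hb
  have h3 := Submodule.finrank_mono hle
  rw [finrank_span_eq_card hli, Fintype.card_coe] at h3
  have h4 : Module.finrank F (Submodule.span F ({Pi.single z1 1, Pi.single z2 1} : Set (Fin n → F))) ≤ 2 :=
    (finrank_span_le_card (R := F) ({Pi.single z1 1, Pi.single z2 1} : Set (Fin n → F))).trans (by
      rw [Set.toFinset_insert, Set.toFinset_singleton]; exact Finset.card_le_two)
  rw [Finset.card_insert_of_notMem (by simp [hpl, hpm]), Finset.card_pair hlm] at h3
  omega

/-- Two zeros in a row force a monomial element. -/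
lemma row_two_zeros (hq : 3 ≤ q) {g : GL (Fin n) F} (hg : g ∈ M) {i p p' : Fin n} (hpp : p ≠ p')
    (hp : (g : Matrix (Fin n) (Fin n) F) i p = 0) (hp' : (g : Matrix (Fin n) (Fin n) F) i p' = 0) :
    g ∈ monomialGroup (Fin n) F := by
  classical
  by_contra hgm
  obtain ⟨x, y, h⟩ := pair_support hF hP hq hg hpp hp hp'
  have hxy : x ≠ y := fun e => hgm (of_single hF hP hg (a := p) (i := x) fun z hz =>
    (h z hz (e ▸ hz)).1)
  -- the other columns vanish at both places
  have hvan : ∀ l, l ≠ p → l ≠ p' → (g : Matrix (Fin n) (Fin n) F) x l = 0 := by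
    intro l hl hl'
    have hG : g ∈ Cfsg.GU n F q := gu hP hg
    set V := Submodule.span F ({Pi.single x 1, Pi.single y 1} : Set (Fin n → F))
    set U := Submodule.span F ({col g p, col g p'} : Set (Fin n → F))
    have hsp : ∀ u : Fin n → F, (∀ z, z ≠ x → z ≠ y → u z = 0) → u ∈ V := fun u hu => by
      refine Submodule.mem_span_pair.2 ⟨u x, u y, funext fun z => ?_⟩
      rcases eq_or_ne z x with rfl | h1
      · simp [hxy]
      rcases eq_or_ne z y with rfl | h2
      · simp [h1]
      simp [h1, h2, hu z h1 h2]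
    have hsub : U ≤ V := Submodule.span_le.2 (by
      rintro r (rfl | rfl)
      · exact hsp _ fun z h1 h2 => (col_apply g p z).trans (h z h1 h2).1
      · exact hsp _ fun z h1 h2 => (col_apply g p' z).trans (h z h1 h2).2)
    have hli : LinearIndependent F ![col g p, col g p'] := by
      rw [LinearIndependent.pair_iff]
      intro a b hab
      have e1 := congrArg (fun r => ⟪r, col g p⟫) hab
      have e2 := congrArg (fun r => ⟪r, col g p'⟫) hab
      simp only [CfsgLib.Unitary.herm_add_left, CfsgLib.Unitary.herm_smul_left, herm_cols hF hG, if_true, if_neg hpp,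
        if_neg (Ne.symm hpp), mul_one, mul_zero, add_zero, zero_add,
        LinLeft.zero_left ⟨CfsgLib.Unitary.herm_add_left n, CfsgLib.Unitary.herm_smul_left n⟩] at e1 e2
      exact ⟨e1, e2⟩
    have hU : Module.finrank F U = 2 := by
      have := finrank_span_eq_card hli
      rw [Matrix.range_cons_cons_empty, Fintype.card_fin] at this
      exact this
    have heq : U = V := Submodule.eq_of_le_of_finrank_le hsub (by
      rw [hU]
      exact (finrank_span_le_card (R := F) ({Pi.single x 1, Pi.single y 1} : Set (Fin n → F))).trans (by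
        rw [Set.toFinset_insert, Set.toFinset_singleton]; exact Finset.card_le_two))
    have hx : (Pi.single x 1 : Fin n → F) ∈ U := heq ▸ Submodule.subset_span (by simp)
    obtain ⟨a, b, hab⟩ := Submodule.mem_span_pair.1 hx
    have e := congrArg (fun r => ⟪r, col g l⟫) hab
    simp only [CfsgLib.Unitary.herm_add_left, CfsgLib.Unitary.herm_smul_left, herm_cols hF hG,
      if_neg (Ne.symm hl), if_neg (Ne.symm hl'), herm_single, col_apply, mul_zero, add_zero] at e
    exact eq_zero_of_pow_eq_zero e.symm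
  obtain ⟨l1, hl1⟩ := exists_avoid hP {p, p'} (by have := Finset.card_le_two (a := p) (b := p'); omega)
  obtain ⟨l2, hl2⟩ := exists_avoid hP {p, p', l1} (by
    have := Finset.card_le_three (a := p) (b := p') (c := l1); omega)
  obtain ⟨l3, hl3⟩ := exists_avoid hP {p, p', l1, l2} (by
    have := Finset.card_le_four (a := p) (b := p') (c := l1) (d := l2); omega)
  simp only [Finset.mem_insert, Finset.mem_singleton, not_or] at hl1 hl2 hl3
  exact hgm (three_zeros hF hP hq hg (Ne.symm hl2.2.2) (Ne.symm hl3.2.2.1) (Ne.symm hl3.2.2.2)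
    (hvan l1 hl1.1 hl1.2) (hvan l2 hl2.1 hl2.2.1) (hvan l3 hl3.1 hl3.2.1))

/-- Two zeros in a column force a monomial element. -/
lemma col_two_zeros (hq : 3 ≤ q) {g : GL (Fin n) F} (hg : g ∈ M) {a p p' : Fin n} (hpp : p ≠ p')
    (hp : (g : Matrix (Fin n) (Fin n) F) p a = 0) (hp' : (g : Matrix (Fin n) (Fin n) F) p' a = 0) :
    g ∈ monomialGroup (Fin n) F := by
  have hz : (0 : F) ^ q = 0 := zero_pow (by omega)
  have h := row_two_zeros hF hP hq (M.inv_mem hg) hpp
    (by rw [inv_apply hF (gu hP hg) a p, hp, hz]) (by rw [inv_apply hF (gu hP hg) a p', hp', hz])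
  exact inv_inv g ▸ inv_mem h

lemma ne_of_nonmono (hq : 3 ≤ q) {g : GL (Fin n) F} (hg : g ∈ M) (hgm : g ∉ monomialGroup (Fin n) F)
    {a j x : Fin n} (hj : (g : Matrix (Fin n) (Fin n) F) j a = 0) (hx : x ≠ j) :
    (g : Matrix (Fin n) (Fin n) F) x a ≠ 0 :=
  fun h0 => hgm (col_two_zeros hF hP hq hg hx h0 hj)

/-- A zero entry appears. -/
lemma exists_zero_ten (hn : 9 ≤ n) (hq : 3 ≤ q) {g : GL (Fin n) F} (hg : g ∈ M) (hgm : g ∉ monomialGroup (Fin n) F) :
    ∃ h ∈ M, h ∉ monomialGroup (Fin n) F ∧ ∃ j a, (h : Matrix (Fin n) (Fin n) F) j a = 0 := by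
  classical
  haveI := Fintype.ofFinite F
  by_contra hcon
  push Not at hcon
  let a : Fin n := ⟨0, by omega⟩
  set v := col g a with hv
  have hv0 : ∀ y, v y ≠ 0 := fun y => by rw [hv, col_apply]; exact hcon g hg hgm y a
  obtain ⟨t, ht, hsum, hprod⟩ := exists_zero_sum_prod (ι := Fin n) hF (fun y => v y * v y ^ q)
    (by simpa using hn) (fun y => mul_ne_zero (hv0 y) (pow_ne_zero _ (hv0 y))) (IsPhase.one (q := q) (F := F))
  have htm := torus_mem' hF t ht hprod
  set h := g⁻¹ * torus (units t ht) * g with hh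
  have hhM : h ∈ M := M.mul_mem (M.mul_mem (M.inv_mem hg) (hP.le htm)) hg
  have hcol : (g : Matrix (Fin n) (Fin n) F) *ᵥ col h a = fun y => t y * v y := by
    rw [col, hh, mul_mulVec, mul_mulVec, mulVec_inv_mulVec]
    exact torus_val hF t ht v a
  have haa : col h a a = 0 := by
    rw [← herm_single_right hF (col h a) a, ← mem_GU.1 (gu hP hg), hcol, herm_apply hF, ← hsum]
    exact Finset.sum_congr rfl fun y _ => mul_assoc _ _ _
  rw [col_apply] at haa
  have hhm : h ∈ monomialGroup (Fin n) F := by_contra fun hne => hcon h hhM hne a a haa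
  obtain ⟨l, hl⟩ := single_of_mono hhm a
  have hlne : (h : Matrix (Fin n) (Fin n) F) l a ≠ 0 := fun h0 => by
    have h1 : col h a = 0 := funext fun y => by
      rw [col_apply]
      by_cases hy : y = l
      · rw [hy, h0]; rfl
      · exact hl y hy
    have := herm_cols hF (gu hP hhM) a a
    rw [h1, if_pos rfl, LinLeft.zero_left ⟨CfsgLib.Unitary.herm_add_left n, CfsgLib.Unitary.herm_smul_left n⟩] at this
    exact zero_ne_one this
  have hla : l ≠ a := fun e => hlne (e ▸ haa)
  set c := (h : Matrix (Fin n) (Fin n) F) l a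
  have hw : ∀ y, t y * v y = c * (g : Matrix (Fin n) (Fin n) F) y l := fun y => by
    have h1 : col h a = c • Pi.single l 1 := funext fun z => by
      rw [col_apply, Pi.smul_apply, smul_eq_mul]
      by_cases hz : z = l
      · subst hz; simp [c]
      · rw [Pi.single_eq_of_ne hz, mul_zero]; exact hl z hz
    have := congrFun hcol y
    rw [h1, Matrix.mulVec_smul, Pi.smul_apply, Matrix.mulVec_single_one] at this
    exact this.symm
  have hcN : c * c ^ q = 1 := by
    have := herm_cols hF (gu hP hhM) a a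
    rw [herm_apply hF, if_pos rfl, Finset.sum_eq_single l] at this
    · rwa [col_apply] at this
    · intro y _ hy; rw [col_apply, hl y hy, zero_mul]
    · simp
  -- the bireflection on the two columns
  have hB : ∀ x b, t x ≠ t b → ∃ B ∈ M, B ∈ monomialGroup (Fin n) F ∧
      (B : Matrix (Fin n) (Fin n) F) x b = 0 ∧
      ∀ y, y ≠ b → (B : Matrix (Fin n) (Fin n) F) y b = 0 → t y = t x := by
    intro x b hxb
    set μ := t x * (t b)⁻¹ with hμdef
    have hμ : IsPhase q μ := (ht x).mul (ht b).inv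
    have hμ1 : μ ≠ 1 := fun e => hxb (mul_inv_eq_one₀ (ht b).ne_zero |>.1 e)
    obtain ⟨d, hd, hdv⟩ := exists_two hF (Ne.symm hla) hμ
    set B := g * d * g⁻¹
    have hBM : B ∈ M := M.mul_mem (M.mul_mem hg (hP.le hd)) (M.inv_mem hg)
    have hent : ∀ y, (B : Matrix (Fin n) (Fin n) F) y b = (1 : Matrix (Fin n) (Fin n) F) y b +
        (μ - 1) * v y * v b ^ q * (1 - μ⁻¹ * (t y * (t b)⁻¹)) := by
      intro y
      have h1 : (B : Matrix (Fin n) (Fin n) F) y b = (1 : Matrix (Fin n) (Fin n) F) y b + (μ - 1) * v y * v b ^ q +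
          (μ⁻¹ - 1) * (g : Matrix (Fin n) (Fin n) F) y l * (g : Matrix (Fin n) (Fin n) F) b l ^ q := by
        have hgg : ∑ z, (g : Matrix (Fin n) (Fin n) F) y z * ((g⁻¹ : GL (Fin n) F) : Matrix (Fin n) (Fin n) F) z b =
            (1 : Matrix (Fin n) (Fin n) F) y b := by
          rw [← Matrix.mul_apply, ← Units.val_mul, mul_inv_cancel, Units.val_one]
        have hBe : (B : Matrix (Fin n) (Fin n) F) y b = ∑ z, (g : Matrix (Fin n) (Fin n) F) y z *
            ((if z = a then μ else if z = l then μ⁻¹ else 1) *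
              ((g⁻¹ : GL (Fin n) F) : Matrix (Fin n) (Fin n) F) z b) := by
          rw [← col_apply, col, mul_mulVec, mul_mulVec, Matrix.mulVec, dotProduct]
          exact Finset.sum_congr rfl fun z _ => by rw [hdv, Matrix.mulVec_single_one]; rfl
        have hdiff : ∑ z, (g : Matrix (Fin n) (Fin n) F) y z * ((if z = a then μ else if z = l then μ⁻¹ else 1) *
              ((g⁻¹ : GL (Fin n) F) : Matrix (Fin n) (Fin n) F) z b) -
            ∑ z, (g : Matrix (Fin n) (Fin n) F) y z * ((g⁻¹ : GL (Fin n) F) : Matrix (Fin n) (Fin n) F) z b =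
            (μ - 1) * v y * v b ^ q +
            (μ⁻¹ - 1) * (g : Matrix (Fin n) (Fin n) F) y l * (g : Matrix (Fin n) (Fin n) F) b l ^ q := by
          rw [← Finset.sum_sub_distrib, Finset.sum_eq_add a l (Ne.symm hla)
            (fun z _ hz => by simp [hz.1, hz.2]) (by simp) (by simp), if_pos rfl, if_neg hla, if_pos rfl,
            inv_apply hF (gu hP hg), inv_apply hF (gu hP hg), hv, col_apply, col_apply]
          ring
        linear_combination hBe + hdiff + hgg
      rw [h1]
      have e1 : (g : Matrix (Fin n) (Fin n) F) y l * (g : Matrix (Fin n) (Fin n) F) b l ^ q =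
          (t y * (t b)⁻¹) * (v y * v b ^ q) := by
        have h2 : (c * c ^ q) * ((g : Matrix (Fin n) (Fin n) F) y l * (g : Matrix (Fin n) (Fin n) F) b l ^ q) =
            (t y * t b ^ q) * (v y * v b ^ q) := by
          have h3 : c ^ q * (g : Matrix (Fin n) (Fin n) F) b l ^ q = t b ^ q * v b ^ q := by
            rw [← mul_pow, ← mul_pow, hw]
          linear_combination (-(c ^ q * (g : Matrix (Fin n) (Fin n) F) b l ^ q)) * hw y + (t y * v y) * h3
        rw [hcN, one_mul, eq_inv_of_mul_eq_one_right (ht b)] at h2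
        exact h2
      have := hμ.ne_zero
      linear_combination (μ⁻¹ - 1) * e1 +
        (v y * v b ^ q * (t y * (t b)⁻¹)) * (mul_inv_cancel₀ this)
    have hxb0 : (B : Matrix (Fin n) (Fin n) F) x b = 0 := by
      rw [hent, Matrix.one_apply_ne (fun e => hxb (by rw [e])), ← hμdef, inv_mul_cancel₀ hμ.ne_zero, sub_self,
        mul_zero, add_zero]
    refine ⟨B, hBM, by_contra fun hne => hcon B hBM hne x b hxb0, hxb0, fun y hy h0 => ?_⟩
    rw [hent, Matrix.one_apply_ne hy, zero_add] at h0
    have h1 := (mul_eq_zero.1 h0).resolve_left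
      (mul_ne_zero (mul_ne_zero (sub_ne_zero.2 hμ1) (hv0 y)) (pow_ne_zero _ (hv0 b)))
    rw [sub_eq_zero] at h1
    have h2 : μ = t y * (t b)⁻¹ := by
      rw [eq_comm, inv_mul_eq_one₀ hμ.ne_zero] at h1
      exact h1
    exact (mul_right_cancel₀ (inv_ne_zero (ht b).ne_zero) (hμdef.symm.trans h2)).symm
  obtain ⟨x, b, hxb⟩ : ∃ x b, t x ≠ t b := by
    by_contra hconst
    push Not at hconst
    have h1 : ∑ y, t y * (v y * v y ^ q) = t a * ⟪v, v⟫ := by
      rw [herm_apply hF, Finset.mul_sum]
      exact Finset.sum_congr rfl fun y _ => by rw [hconst y a]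
    rw [hsum, hv, herm_cols hF (gu hP hg), if_pos rfl, mul_one] at h1
    exact (ht a).ne_zero h1.symm
  have hclass : ∀ x b, t x ≠ t b → n - 2 ≤ (Finset.univ.filter fun y => t y = t x).card := by
    intro x b hxb
    obtain ⟨B, -, hBm, -, hBy⟩ := hB x b hxb
    obtain ⟨z, hz⟩ := single_of_mono hBm b
    have hsub : Finset.univ \ {b, z} ⊆ Finset.univ.filter fun y => t y = t x := fun y hy => by
      simp only [Finset.mem_sdiff, Finset.mem_insert, Finset.mem_singleton, not_or] at hy
      exact Finset.mem_filter.2 ⟨Finset.mem_univ y, hBy y hy.2.1 (hz y hy.2.2)⟩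
    have h1 := Finset.card_le_card hsub
    have h2 := Finset.le_card_sdiff ({b, z} : Finset (Fin n)) (Finset.univ : Finset (Fin n))
    have h3 : ({b, z} : Finset (Fin n)).card ≤ 2 := Finset.card_le_two
    rw [Finset.card_univ, Fintype.card_fin] at h2
    omega
  have h1 := hclass x b hxb
  have h2 := hclass b x (Ne.symm hxb)
  have hdis : Disjoint (Finset.univ.filter fun y => t y = t x) (Finset.univ.filter fun y => t y = t b) :=
    Finset.disjoint_left.2 fun y hy hy' => hxb
      ((Finset.mem_filter.1 hy).2.symm.trans (Finset.mem_filter.1 hy').2)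
  have h3 := Finset.card_le_univ ((Finset.univ.filter fun y => t y = t x) ∪ Finset.univ.filter fun y => t y = t b)
  rw [Finset.card_union_of_disjoint hdis, Fintype.card_fin] at h3
  omega

/-- A zero entry, an element moving a coordinate vector in a plane, and the plane lemma give two zeros. -/
lemma no_zero_moving (hq : 3 ≤ q) (h2 : (2 : F) ≠ 0) {c : F} (hc : IsPhase q c) (hcn : c ^ n ≠ 1)
    {g : GL (Fin n) F} (hg : g ∈ M) (hgm : g ∉ monomialGroup (Fin n) F) {j a : Fin n}
    (hj : (g : Matrix (Fin n) (Fin n) F) j a = 0) : False := by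
  classical
  haveI := Fintype.ofFinite F
  have hn := six_le hP
  have hf := isUnitaryForm hF (n := n)
  -- the scalar multiple of a reflection attached to a column
  have hY : ∀ g ∈ M, ∀ a, ∃ y ∈ M, ∀ z, (y : Matrix (Fin n) (Fin n) F) *ᵥ z =
      c • (z + (((c ^ n)⁻¹ - 1) * ⟪z, col g a⟫) • col g a) := by
    intro g hg a
    let t : Fin n → F := fun y => if y = a then c * (c ^ n)⁻¹ else c
    have ht : ∀ y, IsPhase q (t y) := fun y => by
      simp only [t]; split_ifs <;> [exact hc.mul (hc.pow n).inv; exact hc]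
    have hd : ∏ y, t y = 1 := by
      have e : ∀ y, t y = c * if y = a then (c ^ n)⁻¹ else 1 := fun y => by simp only [t]; split_ifs <;> simp
      rw [Finset.prod_congr rfl fun y _ => e y, Finset.prod_mul_distrib, Finset.prod_const, Finset.prod_ite_eq',
        if_pos (Finset.mem_univ a), Finset.card_univ, Fintype.card_fin, mul_inv_cancel₀ (pow_ne_zero n hc.ne_zero)]
    refine ⟨g * torus (units t ht) * g⁻¹, M.mul_mem (M.mul_mem hg (hP.le (torus_mem' hF t ht hd))) (M.inv_mem hg),
      fun z => ?_⟩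
    set z' := ((g⁻¹ : GL (Fin n) F) : Matrix (Fin n) (Fin n) F) *ᵥ z
    have hzz : (g : Matrix (Fin n) (Fin n) F) *ᵥ z' = z := mulVec_inv_mulVec g z
    have hza : ⟪z, col g a⟫ = z' a := by rw [← hzz, mem_GU.1 (gu hP hg), herm_single_right hF]
    rw [mul_mulVec, mul_mulVec, torus_val hF t ht z' a, hza,
      show (fun y => t y * z' y) = c • (z' + (((c ^ n)⁻¹ - 1) * z' a) • Pi.single a 1) from funext fun y => by
        simp only [t]
        rcases eq_or_ne y a with rfl | h
        · simp; ring
        · simp [h],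
      Matrix.mulVec_smul, Matrix.mulVec_add, Matrix.mulVec_smul, hzz]
  set l := (c ^ n)⁻¹ with hldef
  have hl : IsPhase q l := (hc.pow n).inv
  have hl1 : l ≠ 1 := fun e => hcn (inv_eq_one.1 e)
  -- a column with one zero and an entry of norm different from one
  obtain ⟨g, hg, hgm, j, a, hj, i, hij, hi1⟩ : ∃ g ∈ M, g ∉ monomialGroup (Fin n) F ∧ ∃ j a,
      (g : Matrix (Fin n) (Fin n) F) j a = 0 ∧ ∃ i, i ≠ j ∧
        (g : Matrix (Fin n) (Fin n) F) i a * (g : Matrix (Fin n) (Fin n) F) i a ^ q ≠ 1 := by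
    by_cases hex : ∃ i, i ≠ j ∧ (g : Matrix (Fin n) (Fin n) F) i a * (g : Matrix (Fin n) (Fin n) F) i a ^ q ≠ 1
    · exact ⟨g, hg, hgm, j, a, hj, hex⟩
    push Not at hex
    obtain ⟨y, hy, hyz⟩ := hY g hg a
    set v := col g a with hv
    have hvy : ∀ x, x ≠ j → v x * v x ^ q = 1 := fun x hx => by rw [hv, col_apply]; exact hex x hx
    have hvj : v j = 0 := by rw [hv, col_apply, hj]
    have hv0 : ∀ x, x ≠ j → v x ≠ 0 := fun x hx h0 => by
      have := hvy x hx; rw [h0, zero_mul] at this; exact zero_ne_one this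
    obtain ⟨x, hx⟩ := exists_avoid hP {j} (by simp)
    obtain ⟨z, hz⟩ := exists_avoid hP {j, x} (by have := Finset.card_le_two (a := j) (b := x); omega)
    obtain ⟨z', hz'⟩ := exists_avoid hP {j, x, z} (by
      have := Finset.card_le_three (a := j) (b := x) (c := z); omega)
    simp only [Finset.mem_insert, Finset.mem_singleton, not_or] at hx hz hz'
    have hlq : (l - 1) ^ q = l ^ q - 1 := by rw [← frobEquiv_apply hF, map_sub, map_one, frobEquiv_apply]
    by_cases hδ : (l - 1) * (l - 1) ^ q = 1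
    · -- twist by a torus element first
      obtain ⟨ρ, hρ, hρ1, hρ2⟩ : ∃ ρ : F, IsPhase q ρ ∧
          (1 + (l - 1) * ρ) * (1 + (l - 1) * ρ) ^ q ≠ 1 ∧ 1 + (l - 1) * ρ ≠ 0 := by
        by_contra hcon
        push Not at hcon
        set η := l - 1 with hη
        have hη0 : η ≠ 0 := sub_ne_zero.2 hl1
        have hsub : (Finset.univ.filter fun r : F => r * r ^ q = 1) ⊆
            insert (-1 / η) (Finset.univ.filter fun r : F => η * η * r * r + η * r + 1 = 0) := fun r hr => by
          have hr' : r * r ^ q = 1 := (Finset.mem_filter.1 hr).2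
          by_cases h1 : (1 + η * r) * (1 + η * r) ^ q = 1
          · refine Finset.mem_insert_of_mem (Finset.mem_filter.2 ⟨Finset.mem_univ r, ?_⟩)
            rw [CfsgLib.Forms.add_pow_q hF, one_pow, mul_pow] at h1
            linear_combination (η * r) * h1 - (r * r ^ q) * hδ - hr' - (η * r) * ((r * r ^ q) * hδ + hr')
          · refine Finset.mem_insert.2 (Or.inl ?_)
            rw [eq_div_iff hη0]
            linear_combination hcon r hr' h1
        have h3 : (Finset.univ.filter fun r : F => η * η * r * r + η * r + 1 = 0).card ≤ 2 := by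
          by_contra hgt
          obtain ⟨u, hu, w, hw, s, hs, huw, hus, hws⟩ := Finset.two_lt_card.1 (not_le.1 hgt)
          simp only [Finset.mem_filter, Finset.mem_univ, true_and] at hu hw hs
          have e1 := (mul_eq_zero.1 (show (u - w) * (η * η * (u + w) + η) = 0 by
            linear_combination hu - hw)).resolve_left (sub_ne_zero.2 huw)
          have e2 := (mul_eq_zero.1 (show (u - s) * (η * η * (u + s) + η) = 0 by
            linear_combination hu - hs)).resolve_left (sub_ne_zero.2 hus)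
          exact hws (mul_left_cancel₀ (mul_ne_zero hη0 hη0) (by linear_combination e1 - e2))
        have h4 := (Finset.card_le_card hsub).trans (Finset.card_insert_le _ _)
        rw [card_phase hF] at h4
        omega
      obtain ⟨d, hd, hdv⟩ := exists_two hF hx hρ
      have hm : y * (d * g) ∈ M := M.mul_mem hy (M.mul_mem (hP.le hd) hg)
      have hS : ⟪(d : Matrix (Fin n) (Fin n) F) *ᵥ v, v⟫ = ρ := by
        have h1 : ∀ r, ((d : Matrix (Fin n) (Fin n) F) *ᵥ v) r * v r ^ q - v r * v r ^ q =
            if r = x then ρ - 1 else 0 := fun r => by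
          rw [hdv]
          rcases eq_or_ne r x with rfl | hrx
          · rw [if_pos rfl, if_pos rfl]; linear_combination (ρ - 1) * hvy r hx
          rw [if_neg hrx, if_neg hrx]
          rcases eq_or_ne r j with rfl | hrj
          · simp [hvj]
          · rw [if_neg hrj]; ring
        have h2 : ⟪v, v⟫ = 1 := by rw [hv, herm_cols hF (gu hP hg)]; simp
        have h3 := Finset.sum_sub_distrib
          (fun r => ((d : Matrix (Fin n) (Fin n) F) *ᵥ v) r * v r ^ q) (fun r => v r * v r ^ q)
          (s := (Finset.univ : Finset (Fin n)))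
        rw [Finset.sum_congr rfl fun r _ => h1 r, Finset.sum_ite_eq', if_pos (Finset.mem_univ x),
          ← herm_apply hF, ← herm_apply hF, h2] at h3
        linear_combination -h3
      have hent : ∀ r, ((y * (d * g) : GL (Fin n) F) : Matrix (Fin n) (Fin n) F) r a =
          c * ((if r = x then ρ else if r = j then ρ⁻¹ else 1) + (l - 1) * ρ) * v r := fun r => by
        rw [← col_apply, col, mul_mulVec, mul_mulVec, hyz, hS, Pi.smul_apply, Pi.add_apply, Pi.smul_apply, hdv,
          smul_eq_mul, smul_eq_mul]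
        ring
      have hzz : ∀ r, r ≠ x → r ≠ j →
          ((y * (d * g) : GL (Fin n) F) : Matrix (Fin n) (Fin n) F) r a = c * (1 + (l - 1) * ρ) * v r :=
        fun r h1 h2 => by rw [hent, if_neg h1, if_neg h2]
      have hne : ∀ r, r ≠ x → r ≠ j → ((y * (d * g) : GL (Fin n) F) : Matrix (Fin n) (Fin n) F) r a ≠ 0 :=
        fun r h1 h2 => by rw [hzz r h1 h2]; exact mul_ne_zero (mul_ne_zero hc.ne_zero hρ2) (hv0 r h2)
      refine ⟨_, hm, fun hmo => ?_, j, a, by rw [hent, hvj, mul_zero], z, hz.1, ?_⟩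
      · obtain ⟨r, hr⟩ := single_of_mono hmo a
        exact hz'.2.2 ((by_contra fun e => hne z' hz'.2.1 hz'.1 (hr z' e) : z' = r).trans
          (by_contra fun e => hne z hz.2 hz.1 (hr z e) : z = r).symm)
      · rw [hzz z hz.2 hz.1, mul_pow, mul_pow]
        intro h0
        have hc' : c * c ^ q = 1 := hc
        exact hρ1 (by linear_combination h0 - ((1 + (l - 1) * ρ) * (1 + (l - 1) * ρ) ^ q) * (v z * v z ^ q) *
          hc' - ((1 + (l - 1) * ρ) * (1 + (l - 1) * ρ) ^ q) * hvy z hz.1)
    · -- a column of the element itself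
      have hent : ∀ r, (y : Matrix (Fin n) (Fin n) F) r x =
          c * ((1 : Matrix (Fin n) (Fin n) F) r x + (l - 1) * v x ^ q * v r) := fun r => by
        rw [← col_apply, col, hyz, Pi.smul_apply, Pi.add_apply, Pi.smul_apply, herm_single, smul_eq_mul, smul_eq_mul,
          Pi.single_apply, Matrix.one_apply]
      have hne : ∀ r, r ≠ j → r ≠ x → (y : Matrix (Fin n) (Fin n) F) r x ≠ 0 := fun r h1 h2 => by
        rw [hent, Matrix.one_apply_ne h2, zero_add]
        exact mul_ne_zero hc.ne_zero (mul_ne_zero (mul_ne_zero (sub_ne_zero.2 hl1) (pow_ne_zero _ (hv0 x hx)))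
          (hv0 r h1))
      refine ⟨y, hy, fun hmo => ?_, j, x,
        by rw [hent, Matrix.one_apply_ne (Ne.symm hx), hvj]; ring, z, hz.1, ?_⟩
      · obtain ⟨r, hr⟩ := single_of_mono hmo x
        exact hz'.2.2 ((by_contra fun e => hne z' hz'.1 hz'.2.1 (hr z' e) : z' = r).trans
          (by_contra fun e => hne z hz.1 hz.2 (hr z e) : z = r).symm)
      · rw [hent, Matrix.one_apply_ne hz.2, zero_add, mul_pow, mul_pow, mul_pow, CfsgLib.Forms.pow_q_q hF]
        intro h0
        have hc' : c * c ^ q = 1 := hc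
        exact hδ (by linear_combination h0 -
          ((l - 1) * (l - 1) ^ q) * (v x * v x ^ q) * (v z * v z ^ q) * hc' -
          ((l - 1) * (l - 1) ^ q) * (v z * v z ^ q) * hvy x hx - ((l - 1) * (l - 1) ^ q) * hvy z hz.1)
  -- the plane
  set v := col g a with hv
  set e : Fin n → F := Pi.single i 1 with he
  set ν := v i * v i ^ q with hν
  have hν1 : ν ≠ 1 := by rw [hν, hv, col_apply]; exact hi1
  have hvi : v i ≠ 0 := by rw [hv, col_apply]; exact ne_of_nonmono hF hP hq hg hgm hj hij
  have hvj : v j = 0 := by rw [hv, col_apply, hj]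
  have hee : ⟪e, e⟫ = 1 := by rw [he, herm_single, Pi.single_eq_same, one_pow]
  have hvv : ⟪v, v⟫ = 1 := by rw [hv, herm_cols hF (gu hP hg)]; simp
  have hve : ⟪v, e⟫ = v i := herm_single_right hF v i
  have hev : ⟪e, v⟫ = v i ^ q := herm_single i v
  set f0 := v - v i • e with hf0
  have hf00 : ⟪f0, f0⟫ = 1 - ν := by
    simp only [hf0, CfsgLib.Unitary.herm_sub_left hF, CfsgLib.Unitary.herm_sub_right hF, hf.smul_left,
      Unit.smul_right hf, frobEquiv_apply, hee, hvv, hve, hev, hν]
    ring
  obtain ⟨s, hs⟩ := Unit.exists_norm_eq hf.ne_refl hf.involutive (t := 1 / (1 - ν)) (by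
    rw [map_div₀, map_one, map_sub, map_one, frobEquiv_apply, hν, norm_fix hF])
  rw [frobEquiv_apply] at hs
  set f := s • f0 with hfdef
  have hν1' : 1 - ν ≠ 0 := sub_ne_zero.2 (Ne.symm hν1)
  have hff : ⟪f, f⟫ = 1 := by
    rw [hfdef, hf.smul_left, Unit.smul_right hf, hf00, frobEquiv_apply, ← mul_assoc, hs, div_mul_cancel₀ _ hν1']
  have hfi : f i = 0 := by simp [hfdef, hf0, he]
  have hfj : f j = 0 := by simp [hfdef, hf0, he, hvj, Ne.symm hij]
  have hef : ⟪e, f⟫ = 0 := by rw [he, herm_single, hfi, zero_pow (by omega)]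
  have hfe : ⟪f, e⟫ = 0 := by rw [he, herm_single_right hF, hfi]
  have hs0 : s ≠ 0 := fun h0 => by rw [h0, zero_mul] at hs; exact one_div_ne_zero hν1' hs.symm
  set P := Submodule.span F ({e, f} : Set (Fin n → F)) with hPdef
  have hvP : v ∈ P := Submodule.mem_span_pair.2 ⟨v i, s⁻¹, by
    rw [hfdef, hf0, smul_smul, inv_mul_cancel₀ hs0]; module⟩
  have hnd : IsNondegenerateOn (Cfsg.hermForm n F q) P := by
    intro x hxP hx0
    obtain ⟨r1, r2, rfl⟩ := Submodule.mem_span_pair.1 hxP
    have k1 : ⟪r1 • e + r2 • f, e⟫ = r1 := by rw [hf.add_left, hf.smul_left, hf.smul_left, hee, hfe]; ring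
    have k2 : ⟪r1 • e + r2 • f, f⟫ = r2 := by rw [hf.add_left, hf.smul_left, hf.smul_left, hef, hff]; ring
    rcases em (r1 = 0) with h1 | h1
    · have h2 : r2 ≠ 0 := fun h2 => hx0 (by simp [h1, h2])
      exact ⟨⟨f, Submodule.subset_span (by simp), by rw [hf.herm, k2]; exact (map_ne_zero _).2 h2⟩,
        f, Submodule.subset_span (by simp), by rw [k2]; exact h2⟩
    · exact ⟨⟨e, Submodule.subset_span (by simp), by rw [hf.herm, k1]; exact (map_ne_zero _).2 h1⟩,
        e, Submodule.subset_span (by simp), by rw [k1]; exact h1⟩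
  have hdim : Module.finrank F P = 2 := by
    have hli : LinearIndependent F ![e, f] := by
      rw [LinearIndependent.pair_iff]
      intro r1 r2 h
      have k1 := congrArg (fun x => ⟪x, e⟫) h
      have k2 := congrArg (fun x => ⟪x, f⟫) h
      simp only [hf.add_left, hf.smul_left, hee, hfe, hef, hff, mul_one, mul_zero, add_zero, zero_add,
        LinLeft.zero_left ⟨hf.add_left, hf.smul_left⟩] at k1 k2
      exact ⟨k1, k2⟩
    have := finrank_span_eq_card hli
    rw [Matrix.range_cons_cons_empty, Fintype.card_fin] at this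
    exact this
  obtain ⟨y, hy, hyz⟩ := hY g hg a
  let K : Subgroup (GL (Fin n) F) := M ⊓ subspaceStabilizer P
  have hstab : ∀ h : GL (Fin n) F, (h : Matrix (Fin n) (Fin n) F) *ᵥ e ∈ P →
      (h : Matrix (Fin n) (Fin n) F) *ᵥ f ∈ P → h ∈ subspaceStabilizer P := fun h h1 h2 => by
    refine mem_subspaceStabilizer.2 fun x hx => ?_
    obtain ⟨r1, r2, rfl⟩ := Submodule.mem_span_pair.1 hx
    rw [Matrix.mulVec_add, Matrix.mulVec_smul, Matrix.mulVec_smul]
    exact P.add_mem (P.smul_mem _ h1) (P.smul_mem _ h2)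
  have hye : (y : Matrix (Fin n) (Fin n) F) *ᵥ e = c • (e + ((l - 1) * v i ^ q) • v) := by rw [hyz, hev]
  have hyK : y ∈ K := ⟨hy, hstab y
    (by rw [hye]; exact P.smul_mem _ (P.add_mem (Submodule.subset_span (by simp)) (P.smul_mem _ hvP)))
    (by rw [hyz]; exact P.smul_mem _ (P.add_mem (Submodule.subset_span (by simp)) (P.smul_mem _ hvP)))⟩
  have hye1 : ⟪(y : Matrix (Fin n) (Fin n) F) *ᵥ e, e⟫ ≠ 0 := by
    intro h0
    rw [herm_single_right hF] at h0
    have hzero : ∀ r, r ≠ i → ((y : Matrix (Fin n) (Fin n) F) *ᵥ e) r = c * ((l - 1) * v i ^ q * v r) := fun r hr => by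
      rw [hye]; simp [he, hr]
    have hmono := col_two_zeros hF hP hq hy (a := i) hij (by rw [← col_apply]; exact h0)
      (by rw [← col_apply]; show ((y : Matrix (Fin n) (Fin n) F) *ᵥ e) j = 0
          rw [hzero j (Ne.symm hij), hvj]; ring)
    obtain ⟨r, hr⟩ := single_of_mono hmono i
    obtain ⟨z, hz⟩ := exists_avoid hP {i, j, r} (by have := Finset.card_le_three (a := i) (b := j) (c := r); omega)
    simp only [Finset.mem_insert, Finset.mem_singleton, not_or] at hz
    have h1 := hr z hz.2.2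
    rw [← col_apply] at h1
    have h2 := hzero z hz.1
    rw [show ((y : Matrix (Fin n) (Fin n) F) *ᵥ e) z = 0 from h1] at h2
    have hvz : v z ≠ 0 := by rw [hv, col_apply]; exact ne_of_nonmono hF hP hq hg hgm hj hz.2.1
    exact mul_ne_zero hc.ne_zero (mul_ne_zero (mul_ne_zero (sub_ne_zero.2 hl1) (pow_ne_zero _ hvi)) hvz) h2.symm
  have hye2 : ⟪(y : Matrix (Fin n) (Fin n) F) *ᵥ e, f⟫ ≠ 0 := by
    have hvf : ⟪v, f⟫ = s ^ q * (1 - ν) := by
      have h1 : ⟪v, f0⟫ = 1 - ν := by
        simp only [hf0, CfsgLib.Unitary.herm_sub_right hF, Unit.smul_right hf, frobEquiv_apply, hvv, hve, hν]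
        ring
      rw [hfdef, Unit.smul_right hf, frobEquiv_apply, h1]
    rw [hye, hf.smul_left, hf.add_left, hf.smul_left, hef, hvf, zero_add]
    exact mul_ne_zero hc.ne_zero (mul_ne_zero (mul_ne_zero (sub_ne_zero.2 hl1) (pow_ne_zero _ hvi))
      (mul_ne_zero (pow_ne_zero _ hs0) hν1'))
  obtain ⟨h, hh, r, hhr⟩ := plane_transitive hF hnd hdim (K := K) (Submodule.subset_span (by simp))
    (Submodule.subset_span (by simp)) hee hff hef (fun k hk => gu hP hk.1)
    (fun k hk x hx => (mem_subspaceStabilizer.1 hk.2) x hx)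
    (fun r hr => by
      obtain ⟨d, hd, hdv⟩ := exists_two hF hij (IsPhase.inv (q := q) (t := r) hr)
      have h1 : (d : Matrix (Fin n) (Fin n) F) *ᵥ e = r⁻¹ • e := funext fun z => by
        rw [hdv, he]
        rcases eq_or_ne z i with rfl | hzi
        · simp
        · simp [hzi]
      have h2 : (d : Matrix (Fin n) (Fin n) F) *ᵥ f = (r⁻¹ * r) • f := funext fun z => by
        rw [hdv, inv_mul_cancel₀ (IsPhase.ne_zero (q := q) hr), one_smul]
        rcases eq_or_ne z i with rfl | hzi
        · simp [hfi]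
        rcases eq_or_ne z j with rfl | hzj
        · simp [hfj]
        simp [hzi, hzj]
      exact ⟨d, ⟨hP.le hd, hstab d (h1 ▸ P.smul_mem _ (Submodule.subset_span (by simp)))
        (h2 ▸ P.smul_mem _ (Submodule.subset_span (by simp)))⟩, r⁻¹, h1, h2⟩)
    ⟨y, hyK, hye1, hye2⟩ f (Submodule.subset_span (by simp)) hff
  have hcolh : col h i = r • f := hhr
  have hm := col_two_zeros hF hP hq hh.1 (a := i) hij
    (by rw [← col_apply, hcolh, Pi.smul_apply, hfi, smul_zero])
    (by rw [← col_apply, hcolh, Pi.smul_apply, hfj, smul_zero])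
  obtain ⟨x, hx⟩ := single_of_mono hm i
  obtain ⟨z, hz⟩ := exists_avoid hP {i, j, x} (by have := Finset.card_le_three (a := i) (b := j) (c := x); omega)
  simp only [Finset.mem_insert, Finset.mem_singleton, not_or] at hz
  have hx' := hx z hz.2.2
  rw [← col_apply, hcolh, Pi.smul_apply, smul_eq_mul] at hx'
  have hr0 : r ≠ 0 := fun h0 => by
    have := herm_cols hF (gu hP hh.1) i i
    rw [hcolh, h0, zero_smul, if_pos rfl, LinLeft.zero_left ⟨hf.add_left, hf.smul_left⟩] at this
    exact zero_ne_one this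
  have hfz : f z = s * v z := by simp [hfdef, hf0, he, hz.1]
  rw [hfz] at hx'
  exact mul_ne_zero hr0 (mul_ne_zero hs0 (by rw [hv, col_apply]; exact ne_of_nonmono hF hP hq hg hgm hj hz.2.1)) hx'

omit hF [Finite F] hP in
/-- A monomial involution displacing into a plane moves at most four places. -/
lemma moved_le_four {h : GL (Fin n) F} {π : Equiv.Perm (Fin n)} (hπ : IsMonoAt h π)
    (hsq : ∀ w, (h : Matrix (Fin n) (Fin n) F) *ᵥ ((h : Matrix (Fin n) (Fin n) F) *ᵥ w) = w) (v₁ v₂ : Fin n → F)
    (hmemV : ∀ w, (h : Matrix (Fin n) (Fin n) F) *ᵥ w - w ∈ Submodule.span F ({v₁, v₂} : Set (Fin n → F)))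
    [DecidablePred fun r => (h : Matrix (Fin n) (Fin n) F) *ᵥ Pi.single r 1 ≠ Pi.single r 1] :
    (Finset.univ.filter fun r =>
      (h : Matrix (Fin n) (Fin n) F) *ᵥ Pi.single r 1 ≠ Pi.single r 1).card ≤ 4 := by
  classical
  set V := Submodule.span F ({v₁, v₂} : Set (Fin n → F))
  set c : Fin n → F := fun r => (h : Matrix (Fin n) (Fin n) F) (π r) r
  have himg : ∀ r, (h : Matrix (Fin n) (Fin n) F) *ᵥ Pi.single r 1 = c r • Pi.single (π r) 1 := fun r => by
    funext w
    rw [Matrix.mulVec_single_one, Pi.smul_apply, smul_eq_mul]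
    by_cases hw : w = π r
    · subst hw; simp [c]
    · rw [Pi.single_eq_of_ne hw, mul_zero]; exact hπ w r hw
  have hππ : ∀ r, π (π r) = r := fun r => by
    have h1 := hsq (Pi.single r 1)
    rw [himg, Matrix.mulVec_smul, himg, smul_smul] at h1
    by_contra hne
    have := congrFun h1 r
    simp [Ne.symm hne] at this
  set Z := Finset.univ.filter fun r => (h : Matrix (Fin n) (Fin n) F) *ᵥ Pi.single r 1 ≠ Pi.single r 1
  set R := Z.filter fun r => r ≤ π r
  let vec : R → (Fin n → F) := fun r =>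
    (h : Matrix (Fin n) (Fin n) F) *ᵥ Pi.single (r : Fin n) 1 - Pi.single (r : Fin n) 1
  have hcoord : ∀ r : R, ∀ w : R, vec w (r : Fin n) = 0 ↔ w ≠ r := by
    intro r w
    obtain ⟨hrZ, hr⟩ := Finset.mem_filter.1 r.2
    obtain ⟨hwZ, hw⟩ := Finset.mem_filter.1 w.2
    have hne := (Finset.mem_filter.1 hrZ).2
    constructor
    · rintro h0 rfl
      simp only [vec, himg, Pi.sub_apply, Pi.smul_apply, Pi.single_eq_same, smul_eq_mul, sub_eq_zero] at h0
      rw [himg] at hne
      by_cases hp : π (w : Fin n) = w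
      · rw [hp, Pi.single_eq_same, mul_one] at h0
        exact hne (by rw [hp, h0, one_smul])
      · rw [Pi.single_eq_of_ne (Ne.symm hp), mul_zero] at h0
        exact zero_ne_one h0
    · intro hwr
      have hwr' : (r : Fin n) ≠ (w : Fin n) := fun e => hwr (Subtype.ext e.symm)
      have hwp : (r : Fin n) ≠ π (w : Fin n) := by
        intro e
        have e' : π (r : Fin n) = (w : Fin n) := by rw [e, hππ]
        rw [e'] at hr
        rw [← e] at hw
        exact hwr' (le_antisymm hr hw)
      simp [vec, himg, hwr', hwp]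
  have hli : LinearIndependent F vec := by
    rw [Fintype.linearIndependent_iff]
    intro a' ha' r
    have := congrFun ha' (r : Fin n)
    rw [Finset.sum_apply, Finset.sum_eq_single r (fun w _ hw => by
      rw [Pi.smul_apply, (hcoord r w).2 hw, smul_zero]) (by simp), Pi.smul_apply, smul_eq_mul,
      Pi.zero_apply] at this
    exact (mul_eq_zero.1 this).resolve_right fun h0 => (hcoord r r).1 h0 rfl
  have hR : R.card ≤ 2 := by
    have h1 := Submodule.finrank_mono (Submodule.span_le.2 (show Set.range vec ⊆ (V : Set (Fin n → F)) by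
      rintro _ ⟨r, rfl⟩; exact hmemV _))
    rw [finrank_span_eq_card hli, Fintype.card_coe] at h1
    exact h1.trans ((finrank_span_le_card (R := F) _).trans (by
      rw [Set.toFinset_insert, Set.toFinset_singleton]; exact Finset.card_le_two))
  have hZsub : Z ⊆ R ∪ R.image π := by
    intro r hr
    by_cases hle : r ≤ π r
    · exact Finset.mem_union_left _ (Finset.mem_filter.2 ⟨hr, hle⟩)
    · refine Finset.mem_union_right _ (Finset.mem_image.2 ⟨π r, Finset.mem_filter.2 ⟨?_, ?_⟩, hππ r⟩)
      · refine Finset.mem_filter.2 ⟨Finset.mem_univ _, fun e => ?_⟩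
        rw [himg, hππ] at e
        have := congrFun e (π r)
        simp [show r ≠ π r from fun e' => hle e'.le] at this
      · rw [hππ]; exact le_of_not_ge hle
  have h1 := (Finset.card_le_card hZsub).trans (Finset.card_union_le _ _)
  have h3 := Finset.card_image_le (s := R) (f := π)
  omega

omit hP in
/-- The coordinates of a conjugate of a diagonal involution with two signs. -/
lemma sign_pair_mulVec {g : GL (Fin n) F} (hg : g ∈ Cfsg.GU n F q) {a l : Fin n} (hal : a ≠ l) {d : GL (Fin n) F}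
    (hd : ∀ (v : Fin n → F) (y : Fin n), ((d : Matrix (Fin n) (Fin n) F) *ᵥ v) y =
      (if y = a then -1 else if y = l then (-1 : F)⁻¹ else 1) * v y) (z : Fin n → F) :
    ((g * d * g⁻¹ : GL (Fin n) F) : Matrix (Fin n) (Fin n) F) *ᵥ z =
      z + (-2 * ⟪z, col g a⟫) • col g a + (-2 * ⟪z, col g l⟫) • col g l := by
  set z' := ((g⁻¹ : GL (Fin n) F) : Matrix (Fin n) (Fin n) F) *ᵥ z
  have hzz : (g : Matrix (Fin n) (Fin n) F) *ᵥ z' = z := mulVec_inv_mulVec g z
  have hz : ∀ b, ⟪z, col g b⟫ = z' b := fun b => by rw [← hzz, mem_GU.1 hg, herm_single_right hF]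
  have e : (d : Matrix (Fin n) (Fin n) F) *ᵥ z' =
      z' + (-2 * z' a) • Pi.single a 1 + (-2 * z' l) • Pi.single l 1 := funext fun y => by
    rw [hd, show (-1 : F)⁻¹ = -1 by norm_num]
    rcases eq_or_ne y a with rfl | hya
    · simp [hal]; ring
    rcases eq_or_ne y l with rfl | hyl
    · simp [hya]; ring
    simp [hya, hyl]
  rw [mul_mulVec, mul_mulVec, e, Matrix.mulVec_add, Matrix.mulVec_add, Matrix.mulVec_smul, Matrix.mulVec_smul, hzz,
    hz, hz]

/-- A zero entry appears in dimensions six and eight: a monomial twist orthogonal to a column. -/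
lemma exists_zero_pairing (hn : n = 6 ∨ 8 ≤ n) (hodd : Odd q) {g : GL (Fin n) F} (hg : g ∈ M)
    (hgm : g ∉ monomialGroup (Fin n) F) :
    ∃ h ∈ M, h ∉ monomialGroup (Fin n) F ∧ ∃ j a, (h : Matrix (Fin n) (Fin n) F) j a = 0 := by
  classical
  haveI := Fintype.ofFinite F
  have hn6 := six_le hP
  let a : Fin n := ⟨0, by omega⟩
  by_contra hcon
  push Not at hcon
  have hG := gu hP hg
  have h2 : (2 : F) ≠ 0 := Ring.two_ne_zero (ringChar_ne_two hF hodd)
  set v := col g a with hv
  have hv0 : ∀ y, v y ≠ 0 := fun y => by rw [hv, col_apply]; exact hcon g hg hgm y a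
  obtain ⟨σ, t, y, hσσ, hσy, ht, hd, hsum, hpair⟩ : ∃ (π : Equiv.Perm (Fin n)) (t : Fin n → F) (y : Fin n),
      (∀ r, π (π r) = r) ∧ π y ≠ y ∧ (∀ r, IsPhase q (t r)) ∧ ((Equiv.Perm.sign π : ℤ) : F) * ∏ r, t r = 1 ∧
      ∑ r, t r * v r * v (π r) ^ q = 0 ∧
      t y * v y * v (π y) ^ q + t (π y) * v (π y) * v y ^ q = 0 := by
    rcases hn with hn | hn
    · subst hn; exact exists_pairing_six hF hodd v hv0
    · exact exists_pairing_of_eight_le hF hn hodd v hv0
  set x := mon σ (units t ht)
  have hx : x ∈ monomialGroup (Fin n) F ⊓ suGL n F q :=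
    mon_mem hF _ _ (fun r => ht r) (by simpa [units_val] using hd)
  set h := g⁻¹ * x * g with hh
  have hhM : h ∈ M := M.mul_mem (M.mul_mem (M.inv_mem hg) (hP.le hx)) hg
  have hcol : (g : Matrix (Fin n) (Fin n) F) *ᵥ col h a = (x : Matrix (Fin n) (Fin n) F) *ᵥ v := by
    rw [col, hh, mul_mulVec, mul_mulVec, mulVec_inv_mulVec]
  have haa : col h a a = 0 := by
    rw [← herm_single_right hF (col h a) a, ← mem_GU.1 hG, hcol, herm_apply hF, ← Equiv.sum_comp σ, ← hsum]
    exact Finset.sum_congr rfl fun r _ => by rw [mon_mulVec, units_val]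
  rw [col_apply] at haa
  have hhm : h ∈ monomialGroup (Fin n) F := by_contra fun hne => hcon h hhM hne a a haa
  obtain ⟨l, hl⟩ := single_of_mono hhm a
  set c := (h : Matrix (Fin n) (Fin n) F) l a with hc
  have h1 : col h a = c • Pi.single l 1 := funext fun z => by
    rw [col_apply, Pi.smul_apply, smul_eq_mul]
    rcases eq_or_ne z l with rfl | hz
    · simp [hc]
    · rw [Pi.single_eq_of_ne hz, mul_zero]; exact hl z hz
  have hcN : IsPhase q c := by
    have := herm_cols hF (gu hP hhM) a a
    rwa [h1, CfsgLib.Unitary.herm_smul_left, herm_single, if_pos rfl, Pi.smul_apply, Pi.single_eq_same,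
      smul_eq_mul, mul_one] at this
  have hla : a ≠ l := fun e => hcN.ne_zero (by rw [hc, ← e, haa])
  set w := col g l with hw
  have hxw : ∀ r, t r * v r = c * w (σ r) := fun r => by
    have := congrFun hcol (σ r)
    rw [h1, Matrix.mulVec_smul, Pi.smul_apply, mon_mulVec, units_val] at this
    exact this.symm
  obtain ⟨d, hd', hdv⟩ := exists_two hF hla (IsPhase.one.neg hodd)
  set B := g * d * g⁻¹ with hB
  have hBM : B ∈ M := M.mul_mem (M.mul_mem hg (hP.le hd')) (M.inv_mem hg)
  have hBz := sign_pair_mulVec hF hG hla hdv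
  rw [← hB, ← hv, ← hw] at hBz
  have hzero : (B : Matrix (Fin n) (Fin n) F) (σ y) y = 0 := by
    rw [← col_apply, col, hBz, Pi.add_apply, Pi.add_apply, Pi.smul_apply, Pi.smul_apply, herm_single, herm_single,
      Pi.single_eq_of_ne hσy, smul_eq_mul, smul_eq_mul]
    have e1 := hxw y
    have e2 := hxw (σ y)
    rw [hσσ] at e2
    have e3 : t (σ y) ^ q * v (σ y) ^ q = c ^ q * w y ^ q := by rw [← mul_pow, ← mul_pow, e2]
    have k1 : c * c ^ q = 1 := hcN
    have k2 : t (σ y) * t (σ y) ^ q = 1 := ht (σ y)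
    refine mul_left_cancel₀ (ht (σ y)).ne_zero ?_
    linear_combination (-2 : F) * hpair + 2 * (t (σ y) * (t (σ y) ^ q * v (σ y) ^ q)) * e1 +
      2 * t (σ y) * c * w (σ y) * e3 + 2 * t (σ y) * w (σ y) * w y ^ q * k1 -
      2 * t y * v y * v (σ y) ^ q * (k2 - 1)
  have hBm : B ∈ monomialGroup (Fin n) F := by_contra fun hne => hcon B hBM hne (σ y) y hzero
  obtain ⟨π, hπ⟩ := mem_monomialGroup.1 hBm
  have hBv : (B : Matrix (Fin n) (Fin n) F) *ᵥ v = (-1 : F) • v := by
    rw [hBz, hv, hw, herm_cols hF hG, herm_cols hF hG, if_pos rfl, if_neg hla]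
    module
  have hsq : ∀ z, (B : Matrix (Fin n) (Fin n) F) *ᵥ ((B : Matrix (Fin n) (Fin n) F) *ᵥ z) = z := fun z => by
    have hdd : ∀ u, (d : Matrix (Fin n) (Fin n) F) *ᵥ ((d : Matrix (Fin n) (Fin n) F) *ᵥ u) = u := fun u =>
      funext fun r => by rw [hdv, hdv]; split_ifs <;> simp
    simp only [hB, mul_mulVec, inv_mulVec_mulVec, hdd, mulVec_inv_mulVec]
  have hmem : ∀ z, (B : Matrix (Fin n) (Fin n) F) *ᵥ z - z ∈ Submodule.span F ({v, w} : Set (Fin n → F)) :=
    fun z => by
      rw [hBz, add_assoc, add_sub_cancel_left]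
      exact Submodule.add_mem _ (Submodule.smul_mem _ _ (Submodule.subset_span (by simp)))
        (Submodule.smul_mem _ _ (Submodule.subset_span (by simp)))
  have h4 := moved_le_four hπ hsq v w hmem
  have hall : ∀ r, (B : Matrix (Fin n) (Fin n) F) *ᵥ Pi.single r 1 ≠ Pi.single r 1 := fun r hr =>
    hv0 r (support_of_moved hP hπ (fun e => h2 (by linear_combination -e)) hBv hr)
  rw [Finset.filter_true_of_mem (fun r _ => hall r), Finset.card_univ, Fintype.card_fin] at h4
  omega

/-- A zero entry appears. -/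
lemma exists_zero (hq : 3 ≤ q) (hodd : Odd q) {g : GL (Fin n) F} (hg : g ∈ M) (hgm : g ∉ monomialGroup (Fin n) F) :
    ∃ h ∈ M, h ∉ monomialGroup (Fin n) F ∧ ∃ j a, (h : Matrix (Fin n) (Fin n) F) j a = 0 := by
  rcases hP.big with (hn | hn) | ⟨hn, -⟩
  · exact exists_zero_ten hF hP hn hq hg hgm
  · exact exists_zero_pairing hF hP (Or.inr hn.ge) hodd hg hgm
  · exact exists_zero_pairing hF hP (Or.inl hn) hodd hg hgm

/-- A zero entry and two equal norms in its column give an involution with small support. -/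
lemma no_zero_swap (hq : 3 ≤ q) (h2 : (2 : F) ≠ 0) (hall : ∀ c : F, IsPhase q c → c ^ n = 1)
    {g : GL (Fin n) F} (hg : g ∈ M) (hgm : g ∉ monomialGroup (Fin n) F) {j a : Fin n}
    (hj : (g : Matrix (Fin n) (Fin n) F) j a = 0) : False := by
  classical
  haveI := Fintype.ofFinite F
  have hn := six_le hP
  have hqn : q + 1 ≤ n := by
    have hsub : (Finset.univ.filter fun t : F => t * t ^ q = 1).val ⊆ Polynomial.nthRoots n (1 : F) := fun t ht => by
      rw [Polynomial.mem_nthRoots (by omega)]
      exact hall t (Finset.mem_filter.1 ht).2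
    have h1 := (Multiset.card_le_card ((Multiset.le_iff_subset (Finset.nodup _)).2 hsub)).trans
      (Polynomial.card_nthRoots n 1)
    rwa [Finset.card_val, card_phase hF] at h1
  set v := col g a with hv
  have hvj : v j = 0 := by rw [hv, col_apply, hj]
  have hv0 : ∀ y, y ≠ j → v y ≠ 0 := fun y hy => by rw [hv, col_apply]; exact ne_of_nonmono hF hP hq hg hgm hj hy
  obtain ⟨y, hy, y', hy', hyy, hνν⟩ : ∃ y, y ≠ j ∧ ∃ y', y' ≠ j ∧ y ≠ y' ∧ v y * v y ^ q = v y' * v y' ^ q := by
    have hmaps : ∀ y ∈ (Finset.univ.erase j : Finset (Fin n)),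
        v y * v y ^ q ∈ (Finset.univ.filter fun x : F => x ^ q = x).erase 0 := fun y hy =>
      Finset.mem_erase.2 ⟨mul_ne_zero (hv0 y (Finset.mem_erase.1 hy).1) (pow_ne_zero _ (hv0 y (Finset.mem_erase.1 hy).1)),
        Finset.mem_filter.2 ⟨Finset.mem_univ _, norm_fix hF _⟩⟩
    have hcard : ((Finset.univ.filter fun x : F => x ^ q = x).erase 0).card < (Finset.univ.erase j).card := by
      rw [Finset.card_erase_of_mem (show (0 : F) ∈ Finset.univ.filter fun x : F => x ^ q = x from
          Finset.mem_filter.2 ⟨Finset.mem_univ _, zero_pow (by omega)⟩),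
        Finset.card_erase_of_mem (Finset.mem_univ j), Finset.card_univ, Fintype.card_fin]
      have := card_fixed_le (F := F) hF
      omega
    obtain ⟨y, hy, y', hy', hne, he⟩ := Finset.exists_ne_map_eq_of_card_lt_of_maps_to hcard hmaps
    exact ⟨y, (Finset.mem_erase.1 hy).1, y', (Finset.mem_erase.1 hy').1, hne, he⟩
  let t : Fin n → F := fun r => if r = y then v y' / v y else if r = y' then v y / v y' else if r = j then -1 else 1
  have hm1 : IsPhase q (-1 : F) := by rw [IsPhase, ← frobEquiv_apply hF, map_neg, map_one]; ring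
  have ht : ∀ r, IsPhase q (t r) := fun r => by
    simp only [t]
    split_ifs
    · rw [IsPhase, div_pow, div_mul_div_comm, ← hνν,
        div_self (mul_ne_zero (hv0 y hy) (pow_ne_zero _ (hv0 y hy)))]
    · rw [IsPhase, div_pow, div_mul_div_comm, hνν,
        div_self (mul_ne_zero (hv0 y' hy') (pow_ne_zero _ (hv0 y' hy')))]
    · exact hm1
    · exact IsPhase.one
  have hd : ((Equiv.Perm.sign (Equiv.swap y y') : ℤ) : F) * ∏ r, t r = 1 := by
    rw [Equiv.Perm.sign_swap hyy, ← Finset.mul_prod_erase _ _ (Finset.mem_univ y),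
      ← Finset.mul_prod_erase _ _ (Finset.mem_erase.2 ⟨Ne.symm hyy, Finset.mem_univ y'⟩),
      ← Finset.mul_prod_erase _ _ (Finset.mem_erase.2 ⟨Ne.symm hy', Finset.mem_erase.2 ⟨Ne.symm hy, Finset.mem_univ j⟩⟩),
      Finset.prod_eq_one fun r hr => by simp only [Finset.mem_erase] at hr; simp [t, hr.1, hr.2.1, hr.2.2.1]]
    have e1 := hv0 y hy
    have e2 := hv0 y' hy'
    simp [t, Ne.symm hyy, Ne.symm hy, Ne.symm hy']
    field_simp
  set x := mon (Equiv.swap y y') (units t ht)
  have hx : x ∈ monomialGroup (Fin n) F ⊓ suGL n F q :=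
    mon_mem hF _ _ (fun r => ht r) (by simpa [units_val] using hd)
  have hxe : ∀ (u : Fin n → F) r, ((x : Matrix (Fin n) (Fin n) F) *ᵥ u) (Equiv.swap y y' r) = t r * u r := fun u r =>
    mon_mulVec _ _ u r
  have hxv : (x : Matrix (Fin n) (Fin n) F) *ᵥ v = v := funext fun r => by
    obtain ⟨r, rfl⟩ := (Equiv.swap y y').surjective r
    rw [hxe]
    rcases eq_or_ne r y with rfl | h1
    · simp [t, Equiv.swap_apply_left, div_mul_cancel₀ _ (hv0 _ hy)]
    rcases eq_or_ne r y' with rfl | h2
    · simp [t, h1, Equiv.swap_apply_right, div_mul_cancel₀ _ (hv0 _ hy')]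
    rw [Equiv.swap_apply_of_ne_of_ne h1 h2]
    rcases eq_or_ne r j with rfl | h3
    · simp [hvj]
    simp [t, h1, h2, h3]
  have hxj : (x : Matrix (Fin n) (Fin n) F) *ᵥ Pi.single j 1 = -Pi.single j 1 := funext fun r => by
    obtain ⟨r, rfl⟩ := (Equiv.swap y y').surjective r
    rw [hxe]
    rcases eq_or_ne r j with rfl | h3
    · simp [t, Ne.symm hy, Ne.symm hy', Equiv.swap_apply_of_ne_of_ne (Ne.symm hy) (Ne.symm hy')]
    · have : Equiv.swap y y' r ≠ j := fun e => h3 ((Equiv.swap y y').injective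
        (e.trans (Equiv.swap_apply_of_ne_of_ne (Ne.symm hy) (Ne.symm hy')).symm))
      simp [h3, this]
  set h := g⁻¹ * x * g with hh
  have hhM : h ∈ M := M.mul_mem (M.mul_mem (M.inv_mem hg) (hP.le hx)) hg
  have hha : ∀ r, r ≠ a → (h : Matrix (Fin n) (Fin n) F) r a = 0 := fun r hr => by
    rw [← col_apply, col, hh, mul_mulVec, mul_mulVec]
    show (((g⁻¹ : GL (Fin n) F) : Matrix (Fin n) (Fin n) F) *ᵥ ((x : Matrix (Fin n) (Fin n) F) *ᵥ v)) r = 0
    rw [hxv, hv, col, inv_mulVec_mulVec, Pi.single_eq_of_ne hr]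
  obtain ⟨π, hπ⟩ := mem_monomialGroup.1 (hP.stab h hhM a hha)
  set z := ((g⁻¹ : GL (Fin n) F) : Matrix (Fin n) (Fin n) F) *ᵥ Pi.single j 1
  have hhz : (h : Matrix (Fin n) (Fin n) F) *ᵥ z = (-1 : F) • z := by
    rw [hh, mul_mulVec, mul_mulVec, mulVec_inv_mulVec, hxj, Matrix.mulVec_neg, neg_one_smul]
  -- the moved space has dimension two
  set u : Fin n → F := Pi.single y (v y) - Pi.single y' (v y')
  set V := Submodule.span F ({z, ((g⁻¹ : GL (Fin n) F) : Matrix (Fin n) (Fin n) F) *ᵥ u} : Set (Fin n → F))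
  have hxu : ∀ w : Fin n → F, (x : Matrix (Fin n) (Fin n) F) *ᵥ w - w =
      (-2 * w j) • Pi.single j 1 + (w y' / v y' - w y / v y) • u := by
    intro w
    funext r
    obtain ⟨r, rfl⟩ := (Equiv.swap y y').surjective r
    rw [Pi.sub_apply, hxe]
    rcases eq_or_ne r y with rfl | h1
    · have e1 := hv0 r hy
      have e2 := hv0 y' hy'
      simp [t, u, Equiv.swap_apply_left, Ne.symm hyy, hy']
      field_simp
      ring
    rcases eq_or_ne r y' with rfl | h2
    · have e1 := hv0 y hy
      have e2 := hv0 r hy'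
      simp [t, u, h1, Equiv.swap_apply_right, hy, hyy]
      field_simp
    rw [Equiv.swap_apply_of_ne_of_ne h1 h2]
    rcases eq_or_ne r j with rfl | h3
    · simp [t, u, h1, h2]; ring
    simp [t, u, h1, h2, h3]
  have hmemV : ∀ w, (h : Matrix (Fin n) (Fin n) F) *ᵥ w - w ∈ V := fun w => by
    have e : (h : Matrix (Fin n) (Fin n) F) *ᵥ w - w = ((g⁻¹ : GL (Fin n) F) : Matrix (Fin n) (Fin n) F) *ᵥ
        ((x : Matrix (Fin n) (Fin n) F) *ᵥ ((g : Matrix (Fin n) (Fin n) F) *ᵥ w) -
          (g : Matrix (Fin n) (Fin n) F) *ᵥ w) := by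
      rw [Matrix.mulVec_sub, inv_mulVec_mulVec, hh, mul_mulVec, mul_mulVec]
    rw [e, hxu, Matrix.mulVec_add, Matrix.mulVec_smul, Matrix.mulVec_smul]
    exact V.add_mem (V.smul_mem _ (Submodule.subset_span (by simp [z]))) (V.smul_mem _ (Submodule.subset_span (by simp)))
  have hsq : ∀ w, (h : Matrix (Fin n) (Fin n) F) *ᵥ ((h : Matrix (Fin n) (Fin n) F) *ᵥ w) = w := by
    intro w
    have hxx : ∀ u', (x : Matrix (Fin n) (Fin n) F) *ᵥ ((x : Matrix (Fin n) (Fin n) F) *ᵥ u') = u' := fun u' =>
      funext fun r => by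
        have h3 := hxe ((x : Matrix (Fin n) (Fin n) F) *ᵥ u') (Equiv.swap y y' r)
        rw [Equiv.swap_apply_self] at h3
        rw [h3, hxe]
        rcases eq_or_ne r y with rfl | h1
        · have := hv0 r hy; have := hv0 y' hy'
          simp [t, Equiv.swap_apply_left, Ne.symm hyy]; field_simp
        rcases eq_or_ne r y' with rfl | h2'
        · have := hv0 r hy'; have := hv0 y hy
          simp [t, h1, Equiv.swap_apply_right]; field_simp
        rw [Equiv.swap_apply_of_ne_of_ne h1 h2']
        rcases eq_or_ne r j with rfl | h3'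
        · simp [t, h1, h2']
        simp [t, h1, h2', h3']
    simp only [hh, mul_mulVec, mulVec_inv_mulVec, hxx, inv_mulVec_mulVec]
  set Z := Finset.univ.filter fun r => (h : Matrix (Fin n) (Fin n) F) *ᵥ Pi.single r 1 ≠ Pi.single r 1
  have hZ4 : Z.card ≤ 4 := moved_le_four hπ hsq _ _ hmemV
  obtain ⟨p, hp⟩ := exists_avoid hP Z (by omega)
  obtain ⟨p', hp'⟩ := exists_avoid hP (insert p Z) (by have := Finset.card_insert_le p Z; omega)
  simp only [Finset.mem_insert, not_or] at hp'
  have hzero : ∀ r, r ∉ Z → (g : Matrix (Fin n) (Fin n) F) j r = 0 := fun r hr => by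
    simp only [Z, Finset.mem_filter, Finset.mem_univ, true_and, ne_eq, not_not] at hr
    have hne1 : (-1 : F) ≠ 1 := fun e => h2 (by linear_combination -e)
    have := support_of_moved hP hπ hne1 hhz hr
    rw [show z = ((g⁻¹ : GL (Fin n) F) : Matrix (Fin n) (Fin n) F) *ᵥ Pi.single j 1 from rfl,
      Matrix.mulVec_single_one] at this
    have h3 : (g : Matrix (Fin n) (Fin n) F) j r ^ q = 0 := by rw [← inv_apply hF (gu hP hg)]; exact this
    exact eq_zero_of_pow_eq_zero h3
  exact hgm (row_two_zeros hF hP hq hg (Ne.symm hp'.1) (hzero p hp) (hzero p' hp'.2))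

omit hP in
/-- In characteristic two the cardinality of the smaller field is even. -/
lemma even_of_two (h2 : (2 : F) = 0) : Even q := by
  haveI := Fintype.ofFinite F
  obtain ⟨p, hp⟩ := CharP.exists F
  obtain ⟨⟨m, hm⟩, hpp, hcard⟩ := FiniteField.card F p
  rw [← Nat.card_eq_fintype_card, hF] at hcard
  have hp2 : p ∣ 2 := (CharP.cast_eq_zero_iff F p 2).1 (by exact_mod_cast h2)
  obtain rfl := (Nat.prime_dvd_prime_iff_eq hpp Nat.prime_two).1 hp2
  have h4 : Even (q ^ 2) := hcard ▸ (Nat.even_pow.2 ⟨even_two, Nat.pos_iff_ne_zero.1 hm⟩)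
  exact (Nat.even_pow.1 h4).1

omit hP in
/-- Outside characteristic two the cardinality of the smaller field is odd. -/
lemma odd_of_two (h2 : (2 : F) ≠ 0) : Odd q := by
  haveI := Fintype.ofFinite F
  have h : ringChar F ≠ 2 := fun e => h2 (by
    haveI : CharP F 2 := ringChar.eq_iff.1 e
    exact_mod_cast CharP.cast_eq_zero F 2)
  have := FiniteField.odd_card_of_char_ne_two h
  rw [← Nat.card_eq_fintype_card, hF, ← Nat.odd_iff] at this
  exact (Nat.odd_pow_iff (by norm_num)).1 this

omit hP in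
lemma exists_centre_of_six [Fintype F] [DecidableEq F] (hn : n = 6) (h2 : (2 : F) = 0) (hq : 3 ≤ q) (w : Fin n → F)
    (hw : ∀ r, w r ≠ 0) (hsum : ∑ r, w r * w r ^ q = 0) :
    ∃ (π : Equiv.Perm (Fin n)) (t : Fin n → F) (k : Fin n), (∀ r, IsPhase q (t r)) ∧ ∏ r, t r = 1 ∧
      t k * w k + (∑ r, t r * w r * w (π r) ^ q) * w (π k) = 0 ∧
      2 < (Finset.univ.filter fun r =>
        t r * w r + (∑ r, t r * w r * w (π r) ^ q) * w (π r) ≠ 0).card := by
  subst hn
  exact exists_centre_six hF h2 (even_of_two hF h2) hq w hw hsum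

/-- In characteristic two some transvection of the group fixes a coordinate vector without being monomial. -/
lemma no_centre (h2 : (2 : F) = 0) {g : GL (Fin n) F} (hg : g ∈ M) (hgm : g ∉ monomialGroup (Fin n) F) : False := by
  classical
  haveI := Fintype.ofFinite F
  have hn := six_le hP
  have hq := CfsgLib.Forms.two_le_q hF
  have hf := isUnitaryForm hF (n := n)
  have hneg : ∀ x : F, x + x = 0 := fun x => by linear_combination x * h2
  have hk : ∀ w : Fin n → F, ⟪w, w⟫ = 0 → IsQPair n q F w 1 := fun w hw => by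
    rw [IsQPair, hw, mul_zero, add_zero, one_pow]; exact hneg 1
  have hkey : ∀ (w : Fin n → F) (hw : ⟪w, w⟫ = 0) (k : Fin n), qref hF w 1 (hk w hw) ∈ M → w k = 0 →
      2 < (Finset.univ.filter fun y => w y ≠ 0).card → False := by
    intro w hw k hwM hwk hcard
    obtain ⟨π, hπ⟩ := mem_monomialGroup.1 (hP.stab _ hwM k fun r hr => by
      rw [← col_apply, col, qref_mulVec hF, herm_single, hwk, zero_pow (by omega)]
      simp [hr])
    obtain ⟨x, hx, y, hy, z, hz, hxy, hxz, hyz⟩ := Finset.two_lt_card.1 hcard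
    simp only [Finset.mem_filter, Finset.mem_univ, true_and] at hx hy hz
    have hne : ∀ r, w r ≠ 0 → r ≠ x → r = π x := fun r hr hrx => by
      by_contra hc
      have := hπ r x hc
      rw [← col_apply, col, qref_mulVec hF, herm_single] at this
      simp [hrx, hx, hr] at this
    exact hyz ((hne y hy (Ne.symm hxy)).trans (hne z hz (Ne.symm hxz)).symm)
  -- transport of centres
  have hconj : ∀ (w : Fin n → F) (hw : ⟪w, w⟫ = 0), qref hF w 1 (hk w hw) ∈ M → ∀ k ∈ M,
      ∃ hw' : ⟪(k : Matrix (Fin n) (Fin n) F) *ᵥ w, (k : Matrix (Fin n) (Fin n) F) *ᵥ w⟫ = 0,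
        qref hF _ 1 (hk _ hw') ∈ M := by
    intro w hw hwM k hkM
    refine ⟨by rw [mem_GU.1 (gu hP hkM), hw], ?_⟩
    convert M.mul_mem (M.mul_mem hkM hwM) (M.inv_mem hkM) using 1
    refine gl_ext_mulVec fun z => ?_
    have e : ⟪((k⁻¹ : GL (Fin n) F) : Matrix (Fin n) (Fin n) F) *ᵥ z, w⟫ =
        ⟪z, (k : Matrix (Fin n) (Fin n) F) *ᵥ w⟫ := by
      rw [← mem_GU.1 (gu hP hkM) _ w, mulVec_inv_mulVec]
    rw [qref_mulVec, mul_mulVec, mul_mulVec, qref_mulVec, Matrix.mulVec_add, Matrix.mulVec_smul, mulVec_inv_mulVec, e]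
  -- monomial centres on two places
  have hbase : ∀ x y : Fin n, x ≠ y → ∀ c : F, IsPhase q c →
      ∃ hw : ⟪Pi.single x 1 + c • Pi.single y 1, Pi.single x 1 + c • Pi.single y 1⟫ = 0,
        qref hF _ 1 (hk _ hw) ∈ M := by
    intro x y hxy c hc
    set u : Fin n → F := Pi.single x 1 + c • Pi.single y 1 with hu
    have h1 : ⟪(Pi.single x 1 : Fin n → F), u⟫ = 1 := by rw [herm_single, hu]; simp [hxy]
    have h1' : ⟪(Pi.single y 1 : Fin n → F), u⟫ = c ^ q := by rw [herm_single, hu]; simp [Ne.symm hxy]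
    have hw : ⟪u, u⟫ = 0 := by
      nth_rewrite 1 [hu]
      rw [hf.add_left, hf.smul_left, h1, h1', show c * c ^ q = 1 from hc]
      exact hneg 1
    refine ⟨hw, hP.le ⟨mem_mono_of_perm fun r => ?_, qref_mem hF _, mem_specialLinear.2 (by
      rw [qref_det, hw, mul_zero, add_zero])⟩⟩
    by_cases hrx : r = x
    · refine ⟨y, fun s hs => ?_⟩
      subst hrx
      rw [← col_apply, col, qref_mulVec hF, h1, mul_one, one_smul, hu]
      rcases eq_or_ne s r with rfl | hsr
      · simp [hs]; exact hneg 1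
      · simp [hs, hsr]
    by_cases hry : r = y
    · refine ⟨x, fun s hs => ?_⟩
      subst hry
      rw [← col_apply, col, qref_mulVec hF, h1', one_mul, hu]
      rcases eq_or_ne s r with rfl | hsr
      · have hc' : c ^ q * c = 1 := by rw [mul_comm]; exact hc
        simp [hs, hc']; exact hneg 1
      · simp [hs, hsr]
    · refine ⟨r, fun s hs => ?_⟩
      rw [← col_apply, col, qref_mulVec hF, herm_single, hu]
      simp [hrx, hry, hs, zero_pow (show q ≠ 0 by omega)]
  -- a centre with at least three entries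
  obtain ⟨w, hw, hwM, hw3⟩ : ∃ (w : Fin n → F) (hw : ⟪w, w⟫ = 0), qref hF w 1 (hk w hw) ∈ M ∧
      2 < (Finset.univ.filter fun y => w y ≠ 0).card := by
    by_contra hcon
    push Not at hcon
    let a : Fin n := ⟨0, by omega⟩
    set S := Finset.univ.filter fun y => (g : Matrix (Fin n) (Fin n) F) y a ≠ 0 with hS
    have hS2 : 2 ≤ S.card := by
      by_contra hlt
      rcases S.eq_empty_or_nonempty with he | ⟨r, hr⟩
      · exact hgm (of_single hF hP hg (a := a) (i := a) fun z _ => by
          by_contra h0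
          exact (Finset.notMem_empty z) (he ▸ Finset.mem_filter.2 ⟨Finset.mem_univ z, h0⟩))
      · exact hgm (of_single hF hP hg (a := a) (i := r) fun z hz => by
          by_contra h0
          have := Finset.card_le_one.1 (by omega : S.card ≤ 1) z (Finset.mem_filter.2 ⟨Finset.mem_univ z, h0⟩) r hr
          exact hz this)
    -- some other column reaches outside
    obtain ⟨b, hba, z, hzS, hzb⟩ : ∃ b, b ≠ a ∧ ∃ z, z ∉ S ∧ (g : Matrix (Fin n) (Fin n) F) z b ≠ 0 := by
      by_contra hall
      push Not at hall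
      obtain ⟨z, hz⟩ : ∃ z, z ∉ S := by
        by_contra hfull
        push Not at hfull
        -- all places: compare with any second column
        obtain ⟨b, hb⟩ := exists_avoid hP {a} (by simp)
        simp only [Finset.mem_singleton] at hb
        have hbound : ∀ c : F, IsPhase q c →
            (Finset.univ.filter fun y =>
              (g : Matrix (Fin n) (Fin n) F) y a + c * (g : Matrix (Fin n) (Fin n) F) y b ≠ 0).card ≤ 2 := by
          intro c hc
          obtain ⟨h0, hm⟩ := hbase a b (Ne.symm hb) c hc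
          obtain ⟨h0', hm'⟩ := hconj _ h0 hm g hg
          have e : (g : Matrix (Fin n) (Fin n) F) *ᵥ (Pi.single a 1 + c • Pi.single b 1) =
              fun y => (g : Matrix (Fin n) (Fin n) F) y a + c * (g : Matrix (Fin n) (Fin n) F) y b := by
            funext y
            rw [Matrix.mulVec_add, Matrix.mulVec_smul, Pi.add_apply, Pi.smul_apply, Matrix.mulVec_single_one,
              Matrix.mulVec_single_one]
            rfl
          have := hcon _ h0' hm'
          simp only [e] at this
          exact this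
        obtain ⟨c1, hc1, -, -⟩ := exists_phase_avoid (F := F) hF 0 0
        obtain ⟨c2, hc2, hc21, -⟩ := exists_phase_avoid (F := F) hF c1 0
        have hb1 := hbound c1 hc1
        have hb2 := hbound c2 hc2
        have hsub : (Finset.univ : Finset (Fin n)) ⊆ (Finset.univ.filter fun y =>
              (g : Matrix (Fin n) (Fin n) F) y a + c1 * (g : Matrix (Fin n) (Fin n) F) y b ≠ 0) ∪
            (Finset.univ.filter fun y =>
              (g : Matrix (Fin n) (Fin n) F) y a + c2 * (g : Matrix (Fin n) (Fin n) F) y b ≠ 0) := by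
          intro y _
          simp only [Finset.mem_union, Finset.mem_filter, Finset.mem_univ, true_and]
          by_contra hboth
          push Not at hboth
          have h3 : (c2 - c1) * (g : Matrix (Fin n) (Fin n) F) y b = 0 := by
            linear_combination hboth.2 - hboth.1
          rw [(mul_eq_zero.1 h3).resolve_left (sub_ne_zero.2 hc21), mul_zero, add_zero] at hboth
          exact (Finset.mem_filter.1 (hfull y)).2 hboth.1
        have h5 := (Finset.card_le_card hsub).trans (Finset.card_union_le _ _)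
        rw [Finset.card_univ, Fintype.card_fin] at h5
        omega
      obtain ⟨b, hb⟩ : ∃ b, (g : Matrix (Fin n) (Fin n) F) z b ≠ 0 := by
        by_contra hrow
        push Not at hrow
        have h1 : ((g * g⁻¹ : GL (Fin n) F) : Matrix (Fin n) (Fin n) F) z z = 1 := by simp
        rw [Units.val_mul, Matrix.mul_apply, Finset.sum_eq_zero fun x _ => by rw [hrow x, zero_mul]] at h1
        exact zero_ne_one h1
      by_cases hba : b = a
      · exact hz (Finset.mem_filter.2 ⟨Finset.mem_univ z, hba ▸ hb⟩)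
      · exact hb (hall b hba z hz)
    have hbound : ∀ c : F, IsPhase q c →
        ((insert z S).filter fun y =>
          (g : Matrix (Fin n) (Fin n) F) y a + c * (g : Matrix (Fin n) (Fin n) F) y b ≠ 0).card ≤ 2 := by
      intro c hc
      obtain ⟨h0, hm⟩ := hbase a b (Ne.symm hba) c hc
      obtain ⟨h0', hm'⟩ := hconj _ h0 hm g hg
      refine (Finset.card_le_card ?_).trans (hcon _ h0' hm')
      intro y hy
      refine Finset.mem_filter.2 ⟨Finset.mem_univ y, ?_⟩
      rw [Matrix.mulVec_add, Matrix.mulVec_smul, Pi.add_apply, Pi.smul_apply, Matrix.mulVec_single_one,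
        Matrix.mulVec_single_one]
      exact (Finset.mem_filter.1 hy).2
    set C := Finset.univ.filter fun t : F => t * t ^ q = 1
    let T := (C ×ˢ insert z S).filter fun cy =>
      (g : Matrix (Fin n) (Fin n) F) cy.2 a + cy.1 * (g : Matrix (Fin n) (Fin n) F) cy.2 b ≠ 0
    have hTle : T.card ≤ 2 * (q + 1) := by
      rw [Finset.card_eq_sum_card_fiberwise (f := Prod.fst) (t := C)
        (fun cy hcy => (Finset.mem_product.1 (Finset.mem_filter.1 hcy).1).1)]
      refine (Finset.sum_le_card_nsmul _ _ 2 fun c hc => ?_).trans (by rw [card_phase hF, smul_eq_mul]; omega)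
      refine le_trans ?_ (hbound c (Finset.mem_filter.1 hc).2)
      refine Finset.card_le_card_of_injOn Prod.snd (fun cy hcy => ?_) (fun cy hcy cy' hcy' e => ?_)
      · simp only [T, Finset.coe_filter, Finset.mem_filter, Finset.mem_product, Set.mem_ofPred_eq] at hcy ⊢
        obtain ⟨⟨⟨-, h1⟩, h3⟩, rfl⟩ := hcy
        exact ⟨h1, h3⟩
      · simp only [Finset.coe_filter, Set.mem_ofPred_eq] at hcy hcy'
        exact Prod.ext (hcy.2.trans hcy'.2.symm) e
    have hTge : (S.card + 1) * (q + 1) ≤ T.card + S.card := by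
      have hbad : ((C ×ˢ insert z S).filter fun cy =>
          ¬ ((g : Matrix (Fin n) (Fin n) F) cy.2 a + cy.1 * (g : Matrix (Fin n) (Fin n) F) cy.2 b ≠ 0)).card ≤
          S.card := by
        refine Finset.card_le_card_of_injOn Prod.snd (fun cy hcy => ?_) (fun cy hcy cy' hcy' e => ?_)
        · simp only [Finset.coe_filter, Finset.mem_product, Set.mem_ofPred_eq, not_not] at hcy
          rcases Finset.mem_insert.1 hcy.1.2 with h | h
          · exfalso
            have hza : (g : Matrix (Fin n) (Fin n) F) z a = 0 := by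
              by_contra h0; exact hzS (Finset.mem_filter.2 ⟨Finset.mem_univ z, h0⟩)
            have hc0 : cy.1 ≠ 0 := IsPhase.ne_zero (q := q) (Finset.mem_filter.1 hcy.1.1).2
            rw [h, hza, zero_add] at hcy
            exact mul_ne_zero hc0 hzb hcy.2
          · exact h
        · simp only [Finset.coe_filter, Finset.mem_product, Set.mem_ofPred_eq, not_not] at hcy hcy'
          have h1 := hcy.2
          have h3 := hcy'.2
          rw [← e] at h3
          have h4 : (cy.1 - cy'.1) * (g : Matrix (Fin n) (Fin n) F) cy.2 b = 0 := by linear_combination h1 - h3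
          rcases mul_eq_zero.1 h4 with h5 | h5
          · exact Prod.ext (sub_eq_zero.1 h5) e
          · exfalso
            rw [h5, mul_zero, add_zero] at h1
            rcases Finset.mem_insert.1 hcy.1.2 with h | h
            · exact hzb (h ▸ h5)
            · exact (Finset.mem_filter.1 h).2 h1
      have h6 := Finset.card_filter_add_card_filter_not (s := C ×ˢ insert z S) (fun cy =>
        (g : Matrix (Fin n) (Fin n) F) cy.2 a + cy.1 * (g : Matrix (Fin n) (Fin n) F) cy.2 b ≠ 0)
      rw [Finset.card_product, card_phase hF, Finset.card_insert_of_notMem hzS] at h6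
      change T.card + _ = _ at h6
      rw [mul_comm (S.card + 1)]
      omega
    nlinarith
  by_cases hz : ∃ k, w k = 0
  · obtain ⟨k, hk'⟩ := hz
    exact hkey w hw k hwM hk' hw3
  push Not at hz
  rcases hP.big with hbig | ⟨hn6, hq3⟩
  swap
  · -- dimension six
    obtain ⟨σ, t, k, ht, hprod, hk0, hk3⟩ :=
      exists_centre_of_six hF hn6 h2 hq3 w hz (by rw [← herm_apply hF, hw])
    have hsign : ((Equiv.Perm.sign σ : ℤ) : F) = 1 := by
      rcases Int.units_eq_one_or (Equiv.Perm.sign σ) with h | h <;> rw [h]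
      · simp
      · push_cast; linear_combination -h2
    obtain ⟨h0, hM0⟩ := hconj w hw hwM _ (hP.le (mon_mem hF σ (units t ht) (fun r => ht r) (by
      simp only [units_val]; rw [hsign, hprod, one_mul])))
    obtain ⟨h0', hM'⟩ := hconj _ h0 hM0 _ hwM
    have hS : ⟪(mon σ (units t ht) : Matrix (Fin n) (Fin n) F) *ᵥ w, w⟫ = ∑ r, t r * w r * w (σ r) ^ q := by
      rw [herm_apply hF, ← Equiv.sum_comp σ]
      exact Finset.sum_congr rfl fun r _ => by rw [mon_mulVec, units_val]
    have hval : ∀ r, ((qref hF w 1 (hk w hw) : Matrix (Fin n) (Fin n) F) *ᵥ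
        ((mon σ (units t ht) : GL (Fin n) F) : Matrix (Fin n) (Fin n) F) *ᵥ w) (σ r) =
        t r * w r + (∑ r, t r * w r * w (σ r) ^ q) * w (σ r) := fun r => by
      rw [qref_mulVec hF, Pi.add_apply, Pi.smul_apply, smul_eq_mul, one_mul, hS, mon_mulVec, units_val]
    refine hkey _ h0' (σ k) hM' (by rw [hval]; exact hk0)
      (lt_of_lt_of_le hk3 (Finset.card_le_card_of_injOn σ (fun r hr => ?_) σ.injective.injOn))
    simp only [Finset.coe_filter, Finset.mem_filter, Finset.mem_univ, true_and, Set.mem_ofPred_eq] at hr ⊢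
    rw [hval]; exact hr
  let i : Fin n := ⟨0, by omega⟩
  have hν0 : ∀ y, w y * w y ^ q ≠ 0 := fun y => mul_ne_zero (hz y) (pow_ne_zero _ (hz y))
  obtain ⟨t, ht, hS, hprod, h3⟩ : ∃ t : Fin n → F, (∀ y, IsPhase q (t y)) ∧ ∑ y, t y * (w y * w y ^ q) = t i ∧
      ∏ y, t y = 1 ∧ 2 < (Finset.univ.filter fun y => t y ≠ t i).card := by
    rcases hbig with hn10 | hn8
    · exact exists_centre_phase hF h2 (by simpa using hn10) _ (fun y => norm_fix hF _) hν0
        (by rw [← herm_apply hF, hw]) i IsPhase.one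
    · exact exists_centre_eight hF h2 (even_of_two hF h2) (by simpa using hn8) _ hν0 i IsPhase.one
  obtain ⟨h0, hM0⟩ := hconj w hw hwM _ (hP.le (torus_mem' hF t ht hprod))
  obtain ⟨h0', hM'⟩ := hconj _ h0 hM0 _ hwM
  have hval : ∀ y, ((qref hF w 1 (hk w hw) : Matrix (Fin n) (Fin n) F) *ᵥ
      ((torus (units t ht) : GL (Fin n) F) : Matrix (Fin n) (Fin n) F) *ᵥ w) y = (t y + t i) * w y := by
    intro y
    rw [qref_mulVec hF, torus_val hF t ht w i, Pi.add_apply, Pi.smul_apply, smul_eq_mul, one_mul]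
    rw [show ⟪(fun y => t y * w y), w⟫ = t i by
      rw [herm_apply hF, ← hS]; exact Finset.sum_congr rfl fun y _ => mul_assoc _ _ _]
    ring
  refine hkey _ h0' i hM' (by rw [hval, hneg, zero_mul]) (lt_of_lt_of_le h3 (Finset.card_le_card fun y hy => ?_))
  refine Finset.mem_filter.2 ⟨Finset.mem_univ y, ?_⟩
  rw [hval]
  refine mul_ne_zero (fun e => (Finset.mem_filter.1 hy).2 ?_) (hz y)
  linear_combination e - t i * h2

/-- Under the hypotheses all elements are monomial. -/
theorem le_monomial : M ≤ monomialGroup (Fin n) F := by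
  intro g hg
  by_contra hgm
  by_cases h2 : (2 : F) = 0
  · exact no_centre hF hP h2 hg hgm
  have hq2 : q ≠ 2 := fun e => h2 (by
    haveI := Fintype.ofFinite F
    obtain ⟨p, hp⟩ := CharP.exists F
    obtain ⟨⟨m, hm⟩, hpp, hcard⟩ := FiniteField.card F p
    rw [← Nat.card_eq_fintype_card, hF, e] at hcard
    have h2p : 2 ∣ p := Nat.prime_two.dvd_of_dvd_pow (hcard ▸ dvd_pow_self 2 two_ne_zero)
    obtain rfl := (Nat.prime_dvd_prime_iff_eq Nat.prime_two hpp).1 h2p
    exact_mod_cast CharP.cast_eq_zero F 2)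
  have hq : 3 ≤ q := by have := CfsgLib.Forms.two_le_q hF; omega
  obtain ⟨h, hh, hhm, j, a, hja⟩ := exists_zero hF hP hq (odd_of_two hF h2) hg hgm
  by_cases hc : ∃ c : F, IsPhase q c ∧ c ^ n ≠ 1
  · obtain ⟨c, hc, hcn⟩ := hc
    exact no_zero_moving hF hP hq h2 hc hcn hh hhm hja
  · push Not at hc
    exact no_zero_swap hF hP hq h2 hc hh hhm hja

end CfsgLib.Geo.UFrame
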