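/-
Facts about one hermitian space used for tensor products: isotropic vectors, shears, adjoints.
-/
import Cfsg.Agent.Geo.UnitRefl
import Cfsg.Agent.Geo.UnitEichler
import Cfsg.Agent.Geo.UnitSubspace
import Cfsg.Agent.Geo.UnitFrame
import Cfsg.Agent.Unitary.Simple

set_option autoImplicit false

namespace CfsgLib.Geo.TensorU

open Matrix Cfsg Cfsg.Geo CfsgLib.Geo CfsgLib.Geo.UTv

variable {m q : ℕ} {F : Type*} [Field F] [Finite F] (hF : Nat.card F = q ^ 2)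

local notation "⟪" x ", " y "⟫" => Cfsg.hermForm _ F q x y

include hF

omit hF in
lemma add_l (x y z : Fin m → F) : ⟪x + y, z⟫ = ⟪x, z⟫ + ⟪y, z⟫ :=
  CfsgLib.Unitary.herm_add_left m x y z

lemma add_r (x y z : Fin m → F) : ⟪x, y + z⟫ = ⟪x, y⟫ + ⟪x, z⟫ :=
  Unit.add_right (isUnitaryForm hF) x y z

omit hF in
lemma smul_l (c : F) (x y : Fin m → F) : ⟪c • x, y⟫ = c * ⟪x, y⟫ :=
  CfsgLib.Unitary.herm_smul_left m c x y

lemma smul_r (c : F) (x y : Fin m → F) : ⟪x, c • y⟫ = c ^ q * ⟪x, y⟫ := by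
  rw [Unit.smul_right (isUnitaryForm hF), frobEquiv_apply]

lemma swap (x y : Fin m → F) : ⟪y, x⟫ = ⟪x, y⟫ ^ q := CfsgLib.Unitary.herm_swap hF x y

lemma pow_add (a b : F) : (a + b) ^ q = a ^ q + b ^ q := by
  rw [← frobEquiv_apply hF, map_add, frobEquiv_apply, frobEquiv_apply]

lemma pow_neg (a : F) : (-a) ^ q = -(a ^ q) := by
  rw [← frobEquiv_apply hF, map_neg, frobEquiv_apply]

lemma pow_sub (a b : F) : (a - b) ^ q = a ^ q - b ^ q := by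
  rw [← frobEquiv_apply hF, map_sub, frobEquiv_apply, frobEquiv_apply]

lemma zero_pow' : (0 : F) ^ q = 0 := by rw [← frobEquiv_apply hF, map_zero]

lemma swap0 {x y : Fin m → F} (h : ⟪x, y⟫ = 0) : ⟪y, x⟫ = 0 := by rw [swap hF x y, h, zero_pow' hF]

lemma zero_l (y : Fin m → F) : ⟪(0 : Fin m → F), y⟫ = 0 := by
  have := smul_l (q := q) (0 : F) (0 : Fin m → F) y
  rwa [zero_smul, zero_mul] at this

lemma zero_r (y : Fin m → F) : ⟪y, (0 : Fin m → F)⟫ = 0 := swap0 hF (zero_l hF y)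

lemma sub_l (x y z : Fin m → F) : ⟪x - y, z⟫ = ⟪x, z⟫ - ⟪y, z⟫ := CfsgLib.Unitary.herm_sub_left hF x y z

lemma sub_r (x y z : Fin m → F) : ⟪x, y - z⟫ = ⟪x, y⟫ - ⟪x, z⟫ := CfsgLib.Unitary.herm_sub_right hF x y z

lemma self_pow (x : Fin m → F) : ⟪x, x⟫ ^ q = ⟪x, x⟫ := (swap hF x x).symm

lemma eq_zero_of_forall {x : Fin m → F} (h : ∀ y, ⟪x, y⟫ = 0) : x = 0 := by
  by_contra h0
  obtain ⟨-, y, hy⟩ := (isUnitaryForm hF (n := m)).nondegenerate x h0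
  exact hy (h y)

lemma eq_of_forall {x x' : Fin m → F} (h : ∀ y, ⟪x, y⟫ = ⟪x', y⟫) : x = x' :=
  sub_eq_zero.1 (eq_zero_of_forall hF fun y => by rw [sub_l hF, h, sub_self])

lemma exists_one {x : Fin m → F} (hx : x ≠ 0) : ∃ y, ⟪x, y⟫ = 1 := by
  obtain ⟨y, -, hy⟩ := exists_form_of_notMem hF (⊥ : Submodule F (Fin m → F)) (u := x) (by simpa using hx)
  exact ⟨y, hy⟩

omit hF [Finite F] in
lemma unit_self (hm : 1 ≤ m) :
    ∃ x : Fin m → F, ⟪x, x⟫ = 1 :=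
  ⟨Pi.single ⟨0, hm⟩ 1, by rw [CfsgLib.Unitary.herm_single_left]; simp⟩

lemma skew_exists : ∃ c : F, c ≠ 0 ∧ c + c ^ q = 0 := by
  obtain ⟨c, h0, hc⟩ := Unit.exists_skew (isUnitaryForm hF (n := 1)).ne_refl (isUnitaryForm hF (n := 1)).involutive
  exact ⟨c, h0, by rw [← frobEquiv_apply hF, hc, add_neg_cancel]⟩

lemma norm_exists {t : F} (ht : t ^ q = t) : ∃ c : F, c * c ^ q = t := by
  obtain ⟨c, hc⟩ := Unit.exists_norm_eq (isUnitaryForm hF (n := 1)).ne_refl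
    (isUnitaryForm hF (n := 1)).involutive (t := t) (by rw [frobEquiv_apply, ht])
  exact ⟨c, by rwa [frobEquiv_apply] at hc⟩

lemma trace_exists {t : F} (ht : t ^ q = t) : ∃ c : F, c + c ^ q = t :=
  CfsgLib.Unitary.exists_trace_eq hF ht

lemma moved_exists : ∃ ζ : F, ζ ^ q ≠ ζ := by
  by_contra h
  push Not at h
  exact CfsgLib.Forms.frobQ_ne_id hF (RingHom.ext fun a => by rw [CfsgLib.Forms.frobQ_apply, h]; rfl)

/-! ### Isotropic vectors -/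

/-- A plane contains an isotropic point. -/
lemma exists_iso_mem {T : Submodule F (Fin m → F)} (hT : 2 ≤ Module.finrank F T) :
    ∃ z ∈ T, z ≠ 0 ∧ ⟪z, z⟫ = 0 := by
  obtain ⟨x, hx, hx0⟩ := (Submodule.ne_bot_iff T).1 fun e => by rw [e, finrank_bot] at hT; omega
  by_cases hxx : ⟪x, x⟫ = 0
  · exact ⟨x, hx, hx0, hxx⟩
  obtain ⟨y, hy, hyx⟩ : ∃ y ∈ T, y ∉ F ∙ x := by
    by_contra h
    push Not at h
    have h1 := Submodule.finrank_mono (show T ≤ F ∙ x from h)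
    rw [finrank_span_singleton hx0] at h1
    omega
  set y' := y - (⟪y, x⟫ / ⟪x, x⟫) • x with hy'
  have hy'T : y' ∈ T := T.sub_mem hy (T.smul_mem _ hx)
  have hy'0 : y' ≠ 0 := fun h => hyx (Submodule.mem_span_singleton.2 ⟨_, (sub_eq_zero.1 h).symm⟩)
  have hy'x : ⟪y', x⟫ = 0 := by rw [hy', sub_l hF, smul_l, div_mul_cancel₀ _ hxx, sub_self]
  by_cases hyy : ⟪y', y'⟫ = 0
  · exact ⟨y', hy'T, hy'0, hyy⟩
  obtain ⟨t, ht⟩ := norm_exists hF (t := -⟪x, x⟫ / ⟪y', y'⟫) (by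
    rw [div_pow, pow_neg hF, self_pow hF, self_pow hF])
  refine ⟨x + t • y', T.add_mem hx (T.smul_mem _ hy'T), fun h => ?_, ?_⟩
  · have := congrArg (fun z => ⟪z, x⟫) h
    simp only [add_l, smul_l, hy'x, mul_zero, add_zero, zero_l hF] at this
    exact hxx this
  · simp only [add_l, add_r hF, smul_l, smul_r hF, hy'x, swap0 hF hy'x, mul_zero, add_zero, zero_add]
    rw [← mul_assoc, mul_comm (t ^ q) t, ht, div_mul_cancel₀ _ hyy, add_neg_cancel]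

lemma exists_iso (hm : 2 ≤ m) : ∃ p : Fin m → F, p ≠ 0 ∧ ⟪p, p⟫ = 0 := by
  obtain ⟨p, -, h0, h⟩ := exists_iso_mem hF (m := m) (T := ⊤) (by rw [finrank_top, Module.finrank_fin_fun]; exact hm)
  exact ⟨p, h0, h⟩

lemma exists_hyp {p : Fin m → F} (hp0 : p ≠ 0) (hp : ⟪p, p⟫ = 0) :
    ∃ p', ⟪p, p'⟫ = 1 ∧ ⟪p', p⟫ = 1 ∧ ⟪p', p'⟫ = 0 := by
  obtain ⟨y, -, h1, h2, h3⟩ := CfsgLib.Unitary.exists_partner hF (H := ⊥) (x := p) (by simpa using hp0) hp
    (fun v hv => by rw [(Submodule.mem_bot F).1 hv]; exact zero_l hF p)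
  exact ⟨y, h1, h2, h3⟩

/-- An isotropic vector orthogonal to two given vectors. -/
lemma exists_iso_perp (hm : 4 ≤ m) (a b : Fin m → F) :
    ∃ z, z ≠ 0 ∧ ⟪z, z⟫ = 0 ∧ ⟪z, a⟫ = 0 ∧ ⟪z, b⟫ = 0 := by
  classical
  have h1 := finrank_perp hF (Submodule.span F ({a, b} : Set (Fin m → F)))
  have h2 : Module.finrank F (Submodule.span F ({a, b} : Set (Fin m → F))) ≤ 2 := by
    refine (finrank_span_le_card _).trans ?_
    simp only [Set.toFinset_insert, Set.toFinset_singleton]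
    exact Finset.card_le_two
  obtain ⟨z, hz, hz0, hzz⟩ := exists_iso_mem hF (T := perp q (Submodule.span F ({a, b} : Set (Fin m → F)))) (by omega)
  exact ⟨z, hz0, hzz, hz a (Submodule.subset_span (by simp)), hz b (Submodule.subset_span (by simp))⟩

/-- An isotropic vector orthogonal to `w` off its line. -/
lemma exists_iso_off (hm : 4 ≤ m) {w : Fin m → F} (hw0 : w ≠ 0) (hw : ⟪w, w⟫ = 0) :
    ∃ z, z ≠ 0 ∧ ⟪z, z⟫ = 0 ∧ ⟪z, w⟫ = 0 ∧ z ∉ F ∙ w := by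
  obtain ⟨w', -, hw'w, -⟩ := exists_hyp hF hw0 hw
  obtain ⟨z, hz0, hzz, hzw, hzw'⟩ := exists_iso_perp hF hm w w'
  refine ⟨z, hz0, hzz, hzw, fun h => hz0 ?_⟩
  obtain ⟨c, rfl⟩ := Submodule.mem_span_singleton.1 h
  rw [smul_l, swap hF w' w, hw'w, one_pow, mul_one] at hzw'
  rw [hzw', zero_smul]

/-- Spanning by a pair and isotropic corrections. -/
lemma mem_of_pair {z z' x : Fin m → F} (S : Submodule F (Fin m → F)) (hz : ⟪z, z⟫ = 0) (hz' : ⟪z', z'⟫ = 0)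
    (h1 : ⟪z, z'⟫ = 1) (h2 : ⟪z', z⟫ = 1) (hzS : z ∈ S) (hz'S : z' ∈ S)
    (h : ∀ t : F, ⟪x - ⟪x, z'⟫ • z - ⟪x, z⟫ • z' + t • z + z', x - ⟪x, z'⟫ • z - ⟪x, z⟫ • z' + t • z + z'⟫ = 0 →
      x - ⟪x, z'⟫ • z - ⟪x, z⟫ • z' + t • z + z' ∈ S) : x ∈ S := by
  set x0 := x - ⟪x, z'⟫ • z - ⟪x, z⟫ • z' with hx0
  have ha : ⟪x0, z⟫ = 0 := by
    rw [hx0, sub_l hF, sub_l hF, smul_l, smul_l, hz, h2, mul_zero, mul_one, sub_zero, sub_self]
  have hb : ⟪x0, z'⟫ = 0 := by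
    rw [hx0, sub_l hF, sub_l hF, smul_l, smul_l, h1, hz', mul_zero, mul_one, sub_self, sub_zero]
  obtain ⟨t, ht⟩ := trace_exists hF (t := -⟪x0, x0⟫) (by rw [pow_neg hF, self_pow hF])
  have hi := h t (by
    simp only [add_l, add_r hF, smul_l, smul_r hF, ha, hb, swap0 hF ha, swap0 hF hb, hz, hz', h1, h2]
    linear_combination ht)
  have h3 : x = (x0 + t • z + z') - t • z - z' + ⟪x, z'⟫ • z + ⟪x, z⟫ • z' := by rw [hx0]; abel
  rw [h3]
  exact S.add_mem (S.add_mem (S.sub_mem (S.sub_mem hi (S.smul_mem _ hzS)) hz'S) (S.smul_mem _ hzS)) (S.smul_mem _ hz'S)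

lemma mem_of_iso (hm : 2 ≤ m) (S : Submodule F (Fin m → F)) (h : ∀ z, ⟪z, z⟫ = 0 → z ∈ S) (x : Fin m → F) :
    x ∈ S := by
  obtain ⟨p, hp0, hp⟩ := exists_iso hF hm
  obtain ⟨p', h1, h2, h3⟩ := exists_hyp hF hp0 hp
  exact mem_of_pair hF S hp h3 h1 h2 (h p hp) (h p' h3) fun t ht => h _ ht

/-- The orthogonal of an isotropic vector is spanned by its isotropic vectors. -/
lemma mem_of_iso_perp (hm : 4 ≤ m) {w : Fin m → F} (hw0 : w ≠ 0) (hw : ⟪w, w⟫ = 0)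
    (S : Submodule F (Fin m → F)) (h : ∀ z, ⟪z, z⟫ = 0 → ⟪z, w⟫ = 0 → z ∈ S) {x : Fin m → F}
    (hx : ⟪x, w⟫ = 0) : x ∈ S := by
  obtain ⟨z, hz0, hz, hzw, hzn⟩ := exists_iso_off hF hm hw0 hw
  obtain ⟨z', hz'H, h1, h2, h3⟩ := CfsgLib.Unitary.exists_partner hF (H := F ∙ w) hzn hz (fun v hv => by
    obtain ⟨c, rfl⟩ := Submodule.mem_span_singleton.1 hv
    rw [smul_l, swap0 hF hzw, mul_zero])
  have hz'w : ⟪z', w⟫ = 0 := swap0 hF (hz'H w (Submodule.mem_span_singleton_self w))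
  refine mem_of_pair hF S hz h3 h1 h2 (h z hz hzw) (h z' h3 hz'w) fun t ht => h _ ht ?_
  simp only [add_l, sub_l hF, smul_l, hx, hzw, hz'w, mul_zero, sub_zero, add_zero]

/-- An endomorphism with every isotropic point as eigenpoint is a scalar. -/
lemma scalar_of_iso_eigen (hm : 2 ≤ m) (Γ : Module.End F (Fin m → F))
    (h : ∀ p : Fin m → F, ⟪p, p⟫ = 0 → Γ p ∈ F ∙ p) : ∃ c : F, ∀ x, Γ x = c • x := by
  obtain ⟨p, hp0, hp⟩ := exists_iso hF hm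
  obtain ⟨c, hc⟩ := Submodule.mem_span_singleton.1 (h p hp)
  refine ⟨c, fun x => ?_⟩
  suffices H : x ∈ LinearMap.ker (Γ - c • LinearMap.id) by
    simpa [sub_eq_zero] using LinearMap.mem_ker.1 H
  refine mem_of_iso hF hm _ (fun r hr => ?_) x
  rw [LinearMap.mem_ker, LinearMap.sub_apply, LinearMap.smul_apply, LinearMap.id_apply, sub_eq_zero]
  obtain ⟨d, hd⟩ := Submodule.mem_span_singleton.1 (h r hr)
  by_cases hmem : r ∈ F ∙ p
  · obtain ⟨e, rfl⟩ := Submodule.mem_span_singleton.1 hmem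
    rw [map_smul, ← hc, smul_comm]
  obtain ⟨t, ht0, htr⟩ : ∃ t : F, t ≠ 0 ∧ ⟪p + t • r, p + t • r⟫ = 0 := by
    rcases eq_or_ne ⟪p, r⟫ 0 with h0 | h0
    · exact ⟨1, one_ne_zero, by rw [one_smul, add_l, add_r hF, add_r hF, hp, hr, h0, swap0 hF h0]; ring⟩
    · obtain ⟨k, hk0, hk⟩ := skew_exists hF
      refine ⟨(k / ⟪p, r⟫) ^ q, pow_ne_zero _ (div_ne_zero hk0 h0), ?_⟩
      simp only [add_l, add_r hF, smul_l, smul_r hF, hp, hr, mul_zero, add_zero, zero_add,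
        CfsgLib.Forms.pow_q_q hF, swap hF p r, div_mul_cancel₀ _ h0]
      rw [← mul_pow, div_mul_cancel₀ _ h0, add_comm]
      exact hk
  obtain ⟨e, he⟩ := Submodule.mem_span_singleton.1 (h _ htr)
  rw [map_add, map_smul, ← hc, ← hd, smul_add, smul_smul, smul_smul] at he
  have h1 : (e - c) • p + (e * t - t * d) • r = 0 := by
    rw [sub_smul, sub_smul]; linear_combination (norm := module) he
  have hr0 : r ≠ 0 := fun e0 => hmem (e0 ▸ Submodule.zero_mem _)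
  have h2 : e * t - t * d = 0 := by
    by_contra hne
    refine hmem (Submodule.mem_span_singleton.2 ⟨-(e - c) / (e * t - t * d), ?_⟩)
    have h3 : (e * t - t * d) • r = -((e - c) • p) := eq_neg_of_add_eq_zero_right h1
    apply smul_right_injective (Fin m → F) hne
    simp only [smul_smul, mul_div_cancel₀ _ hne]
    rw [h3, neg_smul]
  have h4 : e - c = 0 := by
    rw [h2, zero_smul, add_zero] at h1
    exact (smul_eq_zero.1 h1).resolve_right hp0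
  rw [← hd]
  congr 1
  exact mul_left_cancel₀ ht0 (by linear_combination -h2 + t * h4)

/-! ### Isometries -/

/-- Projective transitivity on isotropic vectors. -/
lemma exists_line {p p' : Fin m → F} (hp0 : p ≠ 0) (hp : ⟪p, p⟫ = 0) (hp'0 : p' ≠ 0) (hp' : ⟪p', p'⟫ = 0) :
    ∃ g ∈ suGL m F q, ∃ a : F, a ≠ 0 ∧ (g : Matrix (Fin m) (Fin m) F) *ᵥ p = a • p' := by
  obtain ⟨g, hg⟩ := CfsgLib.Unitary.exists_GU_family hF ![p] ![p'] (LinearIndependent.of_subsingleton 0 hp0)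
    (LinearIndependent.of_subsingleton 0 hp'0) (fun i j => by
      fin_cases i; fin_cases j; simp [hp, hp'])
  obtain ⟨r, hpr, -, hrr⟩ := exists_hyp hF hp0 hp
  obtain ⟨s, a, b, ha, -, hsp, -, -⟩ := CfsgLib.Unitary.exists_SU_adjust hF g hp hrr hpr
  have h0 := hg 0
  simp only [Matrix.cons_val_fin_one] at h0
  rw [h0] at hsp
  exact ⟨suToGL s, suToGL_mem s, a, ha, hsp⟩

/-- A shear on a totally isotropic line. -/
lemma exists_shear {v w : Fin m → F} (hw : ⟪w, w⟫ = 0) (hvw : ⟪v, w⟫ = 0) (hn : v ∉ F ∙ w) (ξ : F) :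
    ∃ g ∈ suGL m F q, (g : Matrix (Fin m) (Fin m) F) *ᵥ v = v + ξ • w ∧
      (g : Matrix (Fin m) (Fin m) F) *ᵥ w = w := by
  obtain ⟨y, hy, hvy⟩ := exists_form_of_notMem hF (F ∙ w) hn
  have hyw : ⟪y, w⟫ = 0 := hy w (Submodule.mem_span_singleton_self w)
  set e := (-ξ) ^ q • y with he
  have hew : ⟪e, w⟫ = 0 := by rw [he, smul_l, hyw, mul_zero]
  obtain ⟨s, hs⟩ := trace_exists hF (t := -⟪e, e⟫) (by rw [pow_neg hF, self_pow hF])
  obtain ⟨A, hA, hAx⟩ := exists_eich hF hw hew (s := s) (by linear_combination hs)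
  refine ⟨A, hA, ?_, ?_⟩
  · rw [hAx, hvw, he, smul_r hF, hvy, CfsgLib.Forms.pow_q_q hF]
    module
  · rw [hAx, hw, swap0 hF hew]
    module

/-- The torus of a totally isotropic line. -/
lemma exists_diag {v w : Fin m → F} (hv : ⟪v, v⟫ = 0) (hw : ⟪w, w⟫ = 0) (hvw : ⟪v, w⟫ = 0)
    (hn : v ∉ F ∙ w) (hn' : w ∉ F ∙ v) {l : F} (hl : l ≠ 0) :
    ∃ g ∈ suGL m F q, (g : Matrix (Fin m) (Fin m) F) *ᵥ v = l • v ∧
      (g : Matrix (Fin m) (Fin m) F) *ᵥ w = l⁻¹ • w := by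
  have key : ∀ a : F, a ≠ 0 → ∃ g ∈ suGL m F q, (g : Matrix (Fin m) (Fin m) F) *ᵥ v = a • w ∧
      (g : Matrix (Fin m) (Fin m) F) *ᵥ w = (-a⁻¹) • v := by
    intro a ha
    obtain ⟨X, hX, hXv, hXw⟩ := exists_shear hF hw hvw hn a
    obtain ⟨Y, hY, hYw, hYv⟩ := exists_shear hF hv (swap0 hF hvw) hn' (-a⁻¹)
    refine ⟨X * Y * X, mul_mem (mul_mem hX hY) hX, ?_, ?_⟩
    · simp only [mul_mulVec, hXv, hXw, hYv, hYw, Matrix.mulVec_add, Matrix.mulVec_smul]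
      match_scalars <;> field_simp <;> ring
    · simp only [mul_mulVec, hXv, hXw, hYv, hYw, Matrix.mulVec_add, Matrix.mulVec_smul]
      match_scalars <;> field_simp <;> ring
  obtain ⟨A, hA, hAv, hAw⟩ := key l hl
  obtain ⟨B, hB, hBv, hBw⟩ := key (-1) (neg_ne_zero.2 one_ne_zero)
  refine ⟨B * A, mul_mem hB hA, ?_, ?_⟩
  · rw [mul_mulVec, hAv, Matrix.mulVec_smul, hBw]
    simp
  · rw [mul_mulVec, hAw, Matrix.mulVec_smul, hBv]
    simp

/-- Transitivity on isotropic vectors. -/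
lemma exists_map_iso (hm : 4 ≤ m) {p p' : Fin m → F} (hp0 : p ≠ 0) (hp : ⟪p, p⟫ = 0) (hp'0 : p' ≠ 0)
    (hp' : ⟪p', p'⟫ = 0) : ∃ g ∈ suGL m F q, (g : Matrix (Fin m) (Fin m) F) *ᵥ p = p' := by
  obtain ⟨g, hg, a, ha, hgp⟩ := exists_line hF hp0 hp hp'0 hp'
  obtain ⟨z, hz0, hz, hzp, hzn⟩ := exists_iso_off hF hm hp'0 hp'
  have hn' : p' ∉ F ∙ z := fun h => by
    obtain ⟨c, hc⟩ := Submodule.mem_span_singleton.1 h
    refine hzn (Submodule.mem_span_singleton.2 ⟨c⁻¹, ?_⟩)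
    rw [← hc, smul_smul, inv_mul_cancel₀ (fun h0 => hp'0 (by rw [← hc, h0, zero_smul])), one_smul]
  obtain ⟨d, hd, hdp, -⟩ := exists_diag hF hp' hz (swap0 hF hzp) hn' hzn (inv_ne_zero ha)
  exact ⟨d * g, mul_mem hd hg, by rw [mul_mulVec, hgp, Matrix.mulVec_smul, hdp, smul_smul, mul_inv_cancel₀ ha, one_smul]⟩

/-! ### Adjoints and orthogonals -/

/-- The adjoint of an endomorphism. -/
noncomputable def adj (_hF : Nat.card F = q ^ 2) (Z : Module.End F (Fin m → F)) : Module.End F (Fin m → F) where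
  toFun x i := ⟪x, Z (Pi.single i 1)⟫
  map_add' x y := funext fun _ => add_l x y _
  map_smul' c x := funext fun _ => smul_l c x _

lemma adj_spec (Z : Module.End F (Fin m → F)) (x y : Fin m → F) : ⟪adj hF Z x, y⟫ = ⟪x, Z y⟫ := by
  rw [UFrame.herm_apply hF (adj hF Z x) y]
  conv_rhs => rw [pi_eq_sum_univ' y, map_sum]
  let φ : (Fin m → F) →+ F := AddMonoidHom.mk' (fun a => ⟪x, a⟫) fun a b => add_r hF x a b
  symm
  refine (map_sum φ _ _).trans (Finset.sum_congr rfl fun i _ => ?_)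
  show ⟪x, Z (y i • Pi.single i 1)⟫ = _
  rw [map_smul, smul_r hF]
  exact mul_comm _ _

lemma adj_spec' (Z : Module.End F (Fin m → F)) (x y : Fin m → F) : ⟪y, adj hF Z x⟫ = ⟪Z y, x⟫ := by
  rw [swap hF (adj hF Z x) y, adj_spec, swap hF (Z y) x, CfsgLib.Forms.pow_q_q hF]

/-- `Z` is scalar once `ξᵠ Z + ξ Z*` always is. -/
lemma scalar_of_sym (Z : Module.End F (Fin m → F))
    (h : ∀ ξ : F, ∃ s : F, ∀ x, ξ ^ q • Z x + ξ • adj hF Z x = s • x) : ∃ c : F, ∀ x, Z x = c • x := by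
  obtain ⟨s₁, h1⟩ := h 1
  obtain ⟨ζ, hζ⟩ := moved_exists hF
  obtain ⟨s₂, h2⟩ := h ζ
  refine ⟨(s₂ - ζ * s₁) / (ζ ^ q - ζ), fun x => ?_⟩
  have e1 := h1 x
  rw [one_pow, one_smul, one_smul] at e1
  apply smul_right_injective (Fin m → F) (sub_ne_zero.2 hζ)
  simp only [smul_smul, mul_div_cancel₀ _ (sub_ne_zero.2 hζ)]
  rw [sub_smul, sub_smul, mul_smul, ← e1, ← h2 x]
  module

lemma le_perp_perp (W : Submodule F (Fin m → F)) : perp q (perp q W) = W := by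
  refine le_antisymm (fun x hx => mem_of_perp hF fun y hy => hx y hy) fun x hx y hy => swap0 hF (hy x hx)

end CfsgLib.Geo.TensorU
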