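/-
Stabilisers of orthogonal decompositions into non-degenerate subspaces of dimension at least two in SU.
-/
import Cfsg.Agent.Geo.UnitRefl
import Cfsg.Agent.Geo.SympLagrangianPair

set_option autoImplicit false

namespace CfsgLib.Geo.UTv

open Matrix Cfsg Cfsg.Geo CfsgLib.Geo

variable {n q : ℕ} {F : Type*} [Field F] [Finite F] (hF : Nat.card F = q ^ 2)
  {t k : ℕ} {D : Fin t → Submodule F (Fin n → F)}
  (hD : IsNondegenerateMDecomposition (Cfsg.hermForm n F q) k D)

local notation "⟪" x ", " y "⟫" => Cfsg.hermForm n F q x y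

/-- The component of a vector in a member of an orthogonal decomposition. -/
noncomputable def comp (i : Fin t) (x : Fin n → F) : Fin n → F :=
  (exists_split hF (hD.nondegenerate i) x).choose

include hF hD

lemma comp_mem (i : Fin t) (x : Fin n → F) : comp hF hD i x ∈ D i :=
  (exists_split hF (hD.nondegenerate i) x).choose_spec.1

lemma sub_comp_mem (i : Fin t) (x : Fin n → F) : x - comp hF hD i x ∈ perp q (D i) :=
  (exists_split hF (hD.nondegenerate i) x).choose_spec.2

lemma member_perp {i l : Fin t} (h : i ≠ l) {x : Fin n → F} (hx : x ∈ D l) : x ∈ perp q (D i) :=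
  fun w hw => hD.orthogonal l i (Ne.symm h) x hx w hw

lemma comp_eq {i : Fin t} {x a : Fin n → F} (ha : a ∈ D i) (h : x - a ∈ perp q (D i)) :
    comp hF hD i x = a := by
  refine sub_eq_zero.1 (eq_zero_of_mem_perp hF (hD.nondegenerate i)
    ((D i).sub_mem (comp_mem hF hD i x) ha) ?_)
  have := (perp q (D i)).sub_mem h (sub_comp_mem hF hD i x)
  rwa [sub_sub_sub_cancel_left] at this

lemma comp_add (i : Fin t) (x y : Fin n → F) : comp hF hD i (x + y) = comp hF hD i x + comp hF hD i y :=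
  comp_eq hF hD ((D i).add_mem (comp_mem hF hD i x) (comp_mem hF hD i y)) (by
    rw [add_sub_add_comm]
    exact (perp q (D i)).add_mem (sub_comp_mem hF hD i x) (sub_comp_mem hF hD i y))

lemma comp_smul (i : Fin t) (c : F) (x : Fin n → F) : comp hF hD i (c • x) = c • comp hF hD i x :=
  comp_eq hF hD ((D i).smul_mem _ (comp_mem hF hD i x)) (by
    rw [← smul_sub]; exact (perp q (D i)).smul_mem _ (sub_comp_mem hF hD i x))

lemma comp_of_mem {i : Fin t} {x : Fin n → F} (hx : x ∈ D i) : comp hF hD i x = x :=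
  comp_eq hF hD hx (by simp)

lemma comp_of_mem_ne {i j : Fin t} (hij : i ≠ j) {x : Fin n → F} (hx : x ∈ D j) : comp hF hD i x = 0 :=
  comp_eq hF hD (D i).zero_mem (by rw [sub_zero]; exact member_perp hF hD hij hx)

lemma comp_sum_family {y : Fin t → Fin n → F} (hy : ∀ j, y j ∈ D j) (i : Fin t) :
    comp hF hD i (∑ j, y j) = y i := by
  refine comp_eq hF hD (hy i) ?_
  rw [← Finset.add_sum_erase _ _ (Finset.mem_univ i), add_sub_cancel_left]
  exact Submodule.sum_mem _ fun j hj => member_perp hF hD (Ne.symm (Finset.ne_of_mem_erase hj)) (hy j)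

lemma sum_comp (x : Fin n → F) : ∑ i, comp hF hD i x = x := by
  obtain ⟨f, hf, hfx⟩ := (Submodule.mem_iSup_iff_exists_finsupp D x).1
    (hD.decomp.iSup_eq_top ▸ Submodule.mem_top)
  rw [Finsupp.sum_fintype _ _ (fun _ => rfl)] at hfx
  subst hfx
  exact Finset.sum_congr rfl fun i _ => comp_sum_family hF hD hf i

lemma herm_eq_sum (x y : Fin n → F) : ⟪x, y⟫ = ∑ i, ⟪comp hF hD i x, comp hF hD i y⟫ := by
  have h1 : ∀ i, ⟪comp hF hD i x, y⟫ = ⟪comp hF hD i x, comp hF hD i y⟫ := fun i => by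
    have := herm_perp hF (sub_comp_mem hF hD i y) (comp_mem hF hD i x)
    rwa [CfsgLib.Unitary.herm_sub_right hF, sub_eq_zero] at this
  let φ : (Fin n → F) →+ F :=
    AddMonoidHom.mk' (fun a => ⟪a, y⟫) fun a b => CfsgLib.Unitary.herm_add_left n a b y
  conv_lhs => rw [← sum_comp hF hD x]
  exact (map_sum φ _ _).trans (Finset.sum_congr rfl fun i _ => h1 i)

lemma card_pos_dim : ∀ i, D i ≠ ⊥ := fun i e => by
  have := hD.decomp.finrank_eq i
  rw [e, finrank_bot] at this
  exact absurd hD.decomp.pos (by omega)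

/-- An element moving only one member stabilises the decomposition. -/
lemma block_mem_stabilizer {i : Fin t} {g : GL (Fin n) F} (hg : g ∈ blockGU q (D i)) :
    g ∈ decompositionStabilizer D := by
  refine mem_decompositionStabilizer_of hD.decomp 1 fun l x hx => ?_
  rw [Equiv.Perm.one_apply]
  rcases eq_or_ne i l with rfl | hil
  · exact block_mem_self hg hx
  · rw [(hg.2 x).2 (member_perp hF hD hil hx)]; exact hx

variable {M : Subgroup (GL (Fin n) F)}

lemma full_member (hM : decompositionStabilizer D ⊓ suGL n F q ≤ M) {i : Fin t} {v : Fin n → F}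
    (hv : v ∈ D i) (hv0 : ⟪v, v⟫ = 0) : Full q M v :=
  full_of_mem hF hv0 fun c hc => hM ⟨mem_decompositionStabilizer_of hD.decomp 1 fun l x hx => by
    rw [utv_mulVec hF hv0, Equiv.Perm.one_apply]
    rcases eq_or_ne l i with rfl | hli
    · exact (D l).add_mem hx ((D l).smul_mem _ hv)
    · rwa [show ⟪x, v⟫ = 0 from hD.orthogonal l i hli x hx v hv, mul_zero, zero_smul, add_zero],
    utv_mem hF hv0 hc⟩

/-- A full centre gives every length on a pair of members of its support. -/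
lemma pair_of_full (hk : 2 ≤ k) (hM : decompositionStabilizer D ⊓ suGL n F q ≤ M) (hMI : M ≤ suGL n F q)
    {v : Fin n → F} (hv : Full q M v) {i j : Fin t} (hij : i ≠ j) (hi : comp hF hD i v ≠ 0)
    (hj : comp hF hD j v ≠ 0) {θ : F} (hθ : θ ^ q = θ) (hθ0 : θ ≠ 0) :
    ∃ a ∈ D i, ∃ b ∈ D j, ⟪a, a⟫ = θ ∧ ⟪b, b⟫ = -θ ∧ Full q M (a + b) := by
  have hf := isUnitaryForm hF (n := n)
  obtain ⟨l, hl, hlr⟩ := exists_norm_one hF
  have hl0 : l ≠ 0 := fun h => by rw [h, zero_mul] at hl; exact zero_ne_one hl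
  have hl1 : l ≠ 1 := fun h => hlr (by rw [h, one_pow])
  have hlq : l ^ q = l⁻¹ := eq_inv_of_mul_eq_one_right hl
  have hδ0 : 2 - l - l⁻¹ ≠ 0 := by
    intro h
    have h1 : (l - 1) * (l - 1) = 0 := by field_simp at h; linear_combination -h
    exact hl1 (sub_eq_zero.1 (mul_self_eq_zero.1 h1))
  set c : F := (2 - l - l⁻¹) / θ with hc
  have hc0 : c ≠ 0 := div_ne_zero hδ0 hθ0
  have hcq : c ^ q = c := by
    rw [hc, ← frobEquiv_apply hF, map_div₀, map_sub, map_sub, map_inv₀, map_ofNat, frobEquiv_apply,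
      frobEquiv_apply, hlq, hθ, inv_inv]
    ring
  have hncq : (-c) ^ q = -c := by rw [← frobEquiv_apply hF, map_neg, frobEquiv_apply, hcq]
  obtain ⟨u, hu, hvu, huu⟩ := exists_prod_length hF (hD.nondegenerate i) (by rw [hD.decomp.finrank_eq]; exact hk)
    (comp_mem hF hD i v) hi 1 hcq (Or.inl one_ne_zero)
  obtain ⟨w, hw, hvw, hww⟩ := exists_prod_length hF (hD.nondegenerate j) (by rw [hD.decomp.finrank_eq]; exact hk)
    (comp_mem hF hD j v) hj 1 hncq (Or.inl one_ne_zero)
  have e : ∀ (m : Fin t) (y : Fin n → F), y ∈ D m → ⟪v, y⟫ = ⟪comp hF hD m v, y⟫ := fun m y hy => by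
    have := sub_comp_mem hF hD m v y hy
    rwa [CfsgLib.Unitary.herm_sub_left hF, sub_eq_zero] at this
  have hli : l⁻¹ * l⁻¹ ^ q = 1 := by rw [inv_pow, ← mul_inv, hl, inv_one]
  obtain ⟨r, hr, hrd, hrx⟩ := exists_refl hF hu (huu ▸ hc0) hl
  obtain ⟨s, hs, hsd, hsx⟩ := exists_refl hF hw (hww ▸ neg_ne_zero.2 hc0) hli
  have hrs : r * s ∈ decompositionStabilizer D ⊓ suGL n F q := by
    refine ⟨mul_mem (block_mem_stabilizer hF hD hr) (block_mem_stabilizer hF hD hs),
      mul_mem hr.1 hs.1, mem_specialLinear.2 ?_⟩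
    rw [Units.val_mul, Matrix.det_mul, hrd, hsd, mul_inv_cancel₀ hl0]
  set a := ((l - 1) / c) • u with ha
  set b := ((l⁻¹ - 1) / (-c)) • w with hb
  have huw : ⟪u, w⟫ = 0 := hD.orthogonal i j hij u hu w hw
  have hwu : ⟪w, u⟫ = 0 := hD.orthogonal j i (Ne.symm hij) w hw u hu
  have hv1 : ⟪v, u⟫ = 1 := (e i u hu).trans hvu
  have hv2 : ⟪v, w⟫ = 1 := (e j w hw).trans hvw
  have hgv : ((r * s : GL (Fin n) F) : Matrix _ _ F) *ᵥ v = v + (a + b) := by
    rw [mul_mulVec, hsx, hrx, hww, hv2, CfsgLib.Unitary.herm_add_left, CfsgLib.Unitary.herm_smul_left, hwu,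
      hv1, huu, mul_zero, add_zero, mul_one, mul_one, ha, hb]
    abel
  have h2 := full_conj hF hMI hv (hM hrs)
  rw [hgv] at h2
  have hab : ⟪a, a⟫ = θ ∧ ⟪b, b⟫ = -θ := by
    have hθc : θ = (2 - l - l⁻¹) / c := by rw [hc, div_div_cancel₀ hδ0]
    rw [hθc, ha, hb]
    simp only [hf.smul_left, Unit.smul_right hf, huu, hww, map_div₀, map_sub, map_neg, map_inv₀, map_one,
      frobEquiv_apply, hlq, hcq, inv_inv]
    constructor <;> field_simp <;> ring
  refine ⟨a, (D i).smul_mem _ hu, b, (D j).smul_mem _ hw, hab.1, hab.2, ?_⟩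
  have h3 : ⟪v + (a + b), v⟫ = (l - l⁻¹) / c := by
    rw [hf.add_left, hv.1, zero_add, hf.add_left, ha, hb, hf.smul_left, hf.smul_left, hf.herm u v, hv1,
      hf.herm w v, hv2, map_one, mul_one, mul_one, div_neg]
    ring
  have h30 : ⟪v + (a + b), v⟫ ≠ 0 := by
    rw [h3]
    exact div_ne_zero (sub_ne_zero.2 fun h => hlr (hlq.trans h.symm)) hc0
  have hab0 : a + b = v + (a + b) + (-1 : F) • v := by module
  rw [hab0]
  refine full_add_smul hF hMI hv h2 h30 (-1) ?_
  rw [← hab0, hf.add_left, Unit.add_right hf, Unit.add_right hf,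
    show ⟪a, b⟫ = 0 from hD.orthogonal i j hij a ((D i).smul_mem _ hu) b ((D j).smul_mem _ hw),
    show ⟪b, a⟫ = 0 from hD.orthogonal j i (Ne.symm hij) b ((D j).smul_mem _ hw) a ((D i).smul_mem _ hu),
    hab.1, hab.2]
  ring

/-- A swap of two members in SU fixing all others. -/
lemma exists_swap (hk : 2 ≤ k) {i j : Fin t} (hij : i ≠ j) :
    ∃ g ∈ decompositionStabilizer D ⊓ suGL n F q, (∀ v ∈ D i, (g : Matrix _ _ F) *ᵥ v ∈ D j) ∧
      ∀ l, l ≠ i → l ≠ j → ∀ v ∈ D l, (g : Matrix _ _ F) *ᵥ v = v := by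
  have hf := isUnitaryForm hF (n := n)
  obtain ⟨bi, hbi⟩ := CfsgLib.Unitary.exists_orthonormal_family hF (D i) (hD.decomp.finrank_eq i)
    fun u hu h0 => by
      by_contra hne
      obtain ⟨-, y, hy, hy0⟩ := hD.nondegenerate i u hu hne
      exact hy0 (h0 y hy)
  obtain ⟨bj, hbj⟩ := CfsgLib.Unitary.exists_orthonormal_family hF (D j) (hD.decomp.finrank_eq j)
    fun u hu h0 => by
      by_contra hne
      obtain ⟨-, y, hy, hy0⟩ := hD.nondegenerate j u hu hne
      exact hy0 (h0 y hy)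
  have hbij : ∀ a b, ⟪(bi a : Fin n → F), (bj b : Fin n → F)⟫ = 0 := fun a b =>
    hD.orthogonal i j hij _ (bi a).2 _ (bj b).2
  have hbji : ∀ a b, ⟪(bj a : Fin n → F), (bi b : Fin n → F)⟫ = 0 := fun a b =>
    hD.orthogonal j i (Ne.symm hij) _ (bj a).2 _ (bi b).2
  have key : ∀ S : Finset (Fin k), ∃ g ∈ blockGU q (D i ⊔ D j), ∀ a,
      (g : Matrix _ _ F) *ᵥ (bi a : Fin n → F) = (if a ∈ S then (bj a : Fin n → F) else bi a) ∧
      (g : Matrix _ _ F) *ᵥ (bj a : Fin n → F) = if a ∈ S then (bi a : Fin n → F) else bj a := by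
    intro S
    induction S using Finset.induction_on with
    | empty => exact ⟨1, one_mem _, fun a => by simp⟩
    | insert x S hx ih =>
      obtain ⟨g, hg, hga⟩ := ih
      set u := (bi x : Fin n → F) - bj x with hu
      have h1 : ∀ a, ⟪(bi a : Fin n → F), u⟫ = if a = x then 1 else 0 := fun a => by
        rw [hu, CfsgLib.Unitary.herm_sub_right hF, hbi, hbij, sub_zero]
      have h2 : ∀ a, ⟪(bj a : Fin n → F), u⟫ = if a = x then -1 else 0 := fun a => by
        rw [hu, CfsgLib.Unitary.herm_sub_right hF, hbj, hbji, zero_sub]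
        split_ifs <;> simp
      have huu : ⟪u, u⟫ = 2 := by
        nth_rewrite 1 [hu]
        rw [CfsgLib.Unitary.herm_sub_left hF, h1, h2, if_pos rfl, if_pos rfl]; norm_num
      have hkp : IsQPair n q F u (-1) := by
        rw [IsQPair, huu, ← frobEquiv_apply hF (-1 : F), map_neg, map_one]; ring
      refine ⟨qref hF u (-1) hkp * g, mul_mem (qref_mem_block hF ((D i ⊔ D j).sub_mem
        (Submodule.mem_sup_left (bi x).2) (Submodule.mem_sup_right (bj x).2)) hkp) hg, fun a => ?_⟩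
      rw [mul_mulVec, mul_mulVec, (hga a).1, (hga a).2]
      by_cases haS : a ∈ S
      · have hax : a ≠ x := fun e => hx (e ▸ haS)
        simp only [haS, if_true, Finset.mem_insert, or_true, qref_mulVec hF hkp, h1, h2, if_neg hax, mul_zero,
          zero_smul, add_zero, and_self]
      · by_cases hax : a = x
        · subst hax
          simp only [haS, if_false, Finset.mem_insert, true_or, if_true, qref_mulVec hF hkp, h1, h2]
          constructor <;> simp only [hu] <;> module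
        · simp only [haS, if_false, Finset.mem_insert, hax, or_self, qref_mulVec hF hkp, h1, h2, mul_zero,
            zero_smul, add_zero, and_self]
  obtain ⟨g, hg, hga⟩ := key Finset.univ
  have hfix : ∀ l, l ≠ i → l ≠ j → ∀ v ∈ D l, (g : Matrix _ _ F) *ᵥ v = v := fun l hli hlj v hv =>
    (hg.2 v).2 fun w hw => by
      obtain ⟨y, hy, z, hz, rfl⟩ := Submodule.mem_sup.1 hw
      rw [Unit.add_right hf, show ⟪v, y⟫ = 0 from hD.orthogonal l i hli v hv y hy,
        show ⟪v, z⟫ = 0 from hD.orthogonal l j hlj v hv z hz, add_zero]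
  have himg : ∀ (a b : Fin t) (B : Module.Basis (Fin k) F (D a)),
      (∀ x, (g : Matrix _ _ F) *ᵥ (B x : Fin n → F) ∈ D b) → ∀ v ∈ D a, (g : Matrix _ _ F) *ᵥ v ∈ D b := by
    intro a b B hB v hv
    have h1 : (⟨v, hv⟩ : D a) ∈ Submodule.span F (Set.range B) := B.mem_span _
    have hle : Submodule.span F (Set.range B) ≤
        (D b).comap ((glEquiv g).toLinearMap.comp (D a).subtype) :=
      Submodule.span_le.2 (by rintro _ ⟨x, rfl⟩; simpa using hB x)
    simpa using hle h1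
  have hij' := himg i j bi fun x => by rw [(hga x).1, if_pos (Finset.mem_univ x)]; exact (bj x).2
  have hji' := himg j i bj fun x => by rw [(hga x).2, if_pos (Finset.mem_univ x)]; exact (bi x).2
  set d := (g : Matrix (Fin n) (Fin n) F).det
  have hd : d * d ^ q = 1 := by
    have h2 := congrArg Units.val (CfsgLib.Unitary.det_GU hF hg.1)
    rw [Units.val_pow_eq_pow_val, pow_succ'] at h2
    exact h2
  obtain ⟨r, hr, hrd, -⟩ := exists_refl hF (W := D j) (bj ⟨0, by omega⟩).2 (by rw [hbj, if_pos rfl]; exact one_ne_zero)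
    (l := d⁻¹) (by rw [inv_pow, ← mul_inv, hd, inv_one])
  refine ⟨r * g, ⟨mem_decompositionStabilizer_of hD.decomp (Equiv.swap i j) fun l v hv => ?_,
    mul_mem hr.1 hg.1, mem_specialLinear.2 ?_⟩, fun v hv => ?_, fun l hli hlj v hv => ?_⟩
  · rw [mul_mulVec]
    rcases eq_or_ne l i with rfl | hli
    · rw [Equiv.swap_apply_left]; exact block_mem_self hr (hij' v hv)
    rcases eq_or_ne l j with rfl | hlj
    · rw [Equiv.swap_apply_right, (hr.2 _).2 (member_perp hF hD (Ne.symm hij) (hji' v hv))]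
      exact hji' v hv
    rw [Equiv.swap_apply_of_ne_of_ne hli hlj, hfix l hli hlj v hv, (hr.2 _).2 (member_perp hF hD (Ne.symm hlj) hv)]
    exact hv
  · rw [Units.val_mul, Matrix.det_mul, hrd]
    exact inv_mul_cancel₀ fun h => by rw [h, zero_mul] at hd; exact zero_ne_one hd
  · rw [mul_mulVec]; exact block_mem_self hr (hij' v hv)
  · rw [mul_mulVec, hfix l hli hlj v hv, (hr.2 _).2 (member_perp hF hD (Ne.symm hlj) hv)]

/-- All centres with components of opposite non-zero lengths on two given members. -/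
def PairFull (M : Subgroup (GL (Fin n) F)) (i j : Fin t) : Prop :=
  ∀ a ∈ D i, ∀ b ∈ D j, ⟪a, a⟫ ≠ 0 → ⟪b, b⟫ = -⟪a, a⟫ → Full q M (a + b)

lemma pairFull_of_full (hk : 2 ≤ k) (hM : decompositionStabilizer D ⊓ suGL n F q ≤ M) (hMI : M ≤ suGL n F q)
    {v : Fin n → F} (hv : Full q M v) {i j : Fin t} (hij : i ≠ j) (hi : comp hF hD i v ≠ 0)
    (hj : comp hF hD j v ≠ 0) : ∀ a ∈ D i, ∀ b ∈ D j, ⟪a, a⟫ ≠ 0 → ⟪b, b⟫ = -⟪a, a⟫ → Full q M (a + b) := by
  intro a ha b hb ha0 hab
  obtain ⟨a', ha', b', hb', haa, hbb, hF'⟩ :=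
    pair_of_full hF hD hk hM hMI hv hij hi hj (herm_self_pow hF a) ha0
  have hd : ∀ l, 2 ≤ Module.finrank F (D l) := fun l => by rw [hD.decomp.finrank_eq]; exact hk
  obtain ⟨g, hg, hgd, hga⟩ := exists_map_vec hF (hD.nondegenerate i) (hd i) ha' ha haa (haa.symm ▸ ha0)
  obtain ⟨g', hg', hgd', hgb⟩ := exists_map_vec hF (hD.nondegenerate j) (hd j) hb' hb (hbb.trans hab.symm)
    (hbb.symm ▸ neg_ne_zero.2 ha0)
  have hm : g * g' ∈ M := hM ⟨mul_mem (block_mem_stabilizer hF hD hg) (block_mem_stabilizer hF hD hg'),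
    mul_mem hg.1 hg'.1, mem_specialLinear.2 (by rw [Units.val_mul, Matrix.det_mul, hgd, hgd', mul_one])⟩
  have h := full_conj hF hMI hF' hm
  rwa [Matrix.mulVec_add, mul_mulVec, mul_mulVec, (hg'.2 a').2 (member_perp hF hD (Ne.symm hij) ha'), hga, hgb,
    (hg.2 b).2 (member_perp hF hD hij hb)] at h

/-- Conjugating by a swap gives a centre on a neighbouring pair. -/
lemma exists_full_shift (hk : 2 ≤ k) (hM : decompositionStabilizer D ⊓ suGL n F q ≤ M) (hMI : M ≤ suGL n F q)
    {v : Fin n → F} (hv : Full q M v) {i j l : Fin t} (hij : i ≠ j) (hli : l ≠ i) (hlj : l ≠ j)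
    (hi : comp hF hD i v ≠ 0) (hj : comp hF hD j v ≠ 0) :
    ∃ w, Full q M w ∧ comp hF hD l w ≠ 0 ∧ comp hF hD j w ≠ 0 := by
  obtain ⟨a, ha, b, hb, haa, hbb, hF'⟩ :=
    pair_of_full hF hD hk hM hMI hv hij hi hj (θ := 1) (one_pow q) one_ne_zero
  obtain ⟨g, hg, hgi, hgfix⟩ := exists_swap hF hD hk (Ne.symm hli)
  have hb0 : b ≠ 0 := fun e => by
    rw [e, CfsgLib.Geo.LinLeft.zero_left ⟨CfsgLib.Unitary.herm_add_left n, CfsgLib.Unitary.herm_smul_left n⟩] at hbb
    exact one_ne_zero (neg_eq_zero.1 hbb.symm)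
  have h := full_conj hF hMI hF' (hM hg)
  rw [Matrix.mulVec_add, hgfix j (Ne.symm hij) (Ne.symm hlj) b hb] at h
  refine ⟨_, h, ?_, ?_⟩
  · rw [comp_add, comp_of_mem hF hD (hgi a ha), comp_of_mem_ne hF hD hlj hb, add_zero]
    intro e
    have := herm_mulVec hg.2 a a
    rw [e, haa, CfsgLib.Geo.LinLeft.zero_left ⟨CfsgLib.Unitary.herm_add_left n, CfsgLib.Unitary.herm_smul_left n⟩] at this
    exact one_ne_zero this.symm
  · rw [comp_add, comp_of_mem hF hD hb, comp_of_mem_ne hF hD (Ne.symm hlj) (hgi a ha), zero_add]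
    exact hb0

omit hD in
lemma exists_skew_avoid {m : ℕ} (hex : ¬ (m = 2 ∧ q = 2)) (hm : 2 ≤ m) (d : F) :
    ∃ ζ : F, ζ + ζ ^ q = 0 ∧ ζ ≠ 0 ∧ (ζ ≠ d ∨ 3 ≤ m) := by
  obtain ⟨c, hc0, hc⟩ := CfsgLib.Unitary.exists_skew hF
  by_cases h3 : 3 ≤ m
  · exact ⟨c, hc, hc0, Or.inr h3⟩
  by_cases hcd : c = d
  · obtain ⟨s, hs, hs0, hs1⟩ : ∃ s : F, s ^ q = s ∧ s ≠ 0 ∧ s ≠ 1 := by
      have hq := CfsgLib.Forms.two_le_q hF
      haveI := Fintype.ofFinite F
      classical
      obtain ⟨g, hg⟩ := IsCyclic.exists_ofOrder_eq_natCard (α := Fˣ)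
      rw [CfsgLib.Forms.card_units_eq hF] at hg
      have h1 : (g ^ (q + 1)) ^ (q - 1) = 1 := by rw [← pow_mul, ← hg]; exact pow_orderOf_eq_one g
      refine ⟨((g ^ (q + 1) : Fˣ) : F), ?_, Units.ne_zero _, fun e => ?_⟩
      · rw [← Units.val_pow_eq_pow_val]
        conv_lhs => rw [show q = q - 1 + 1 by omega, pow_succ, ← show q = q - 1 + 1 by omega, h1, one_mul]
      · have h2 := orderOf_le_of_pow_eq_one (by omega) (Units.ext e : g ^ (q + 1) = 1)
        rw [hg] at h2
        have h3' : 2 ≤ q - 1 := by omega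
        nlinarith
    refine ⟨s * c, CfsgLib.Unitary.skew_smul hc hs, mul_ne_zero hs0 hc0, Or.inl fun e => hs1 ?_⟩
    exact mul_right_cancel₀ hc0 (by rw [e, one_mul, hcd])
  · exact ⟨c, hc, hc0, Or.inl hcd⟩

/-- A centre crossing the decomposition. -/
lemma exists_crossing (hk : 2 ≤ k) (hex : ¬ (k = 2 ∧ q = 2)) (hM : decompositionStabilizer D ⊓ suGL n F q ≤ M)
    (hMI : M ≤ suGL n F q) (hMX : ¬ M ≤ decompositionStabilizer D) :
    ∃ v, Full q M v ∧ ∃ i j, i ≠ j ∧ comp hF hD i v ≠ 0 ∧ comp hF hD j v ≠ 0 := by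
  have hf := isUnitaryForm hF (n := n)
  obtain ⟨g, hgM, hgX⟩ := SetLike.not_le_iff_exists.1 hMX
  by_contra hcon
  push Not at hcon
  have hone : ∀ {i x}, x ∈ D i → ⟪x, x⟫ = 0 → ∀ {a b}, a ≠ b → comp hF hD a ((g : Matrix _ _ F) *ᵥ x) ≠ 0 →
      comp hF hD b ((g : Matrix _ _ F) *ᵥ x) = 0 := fun hx hx0 _ _ hab h =>
    hcon _ (full_conj hF hMI (full_member hF hD hM hx hx0) hgM) _ _ hab h
  have hne : ∀ x : Fin n → F, x ≠ 0 → ∃ a, comp hF hD a ((g : Matrix _ _ F) *ᵥ x) ≠ 0 := fun x hx => by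
    by_contra hall
    push Not at hall
    apply hx
    rw [← inv_mulVec_mulVec g x, ← sum_comp hF hD ((g : Matrix _ _ F) *ᵥ x),
      Finset.sum_eq_zero fun a _ => hall a, Matrix.mulVec_zero]
  have himg : ∀ i, ∃ j, ∀ x ∈ D i, (g : Matrix _ _ F) *ᵥ x ∈ D j := by
    intro i
    obtain ⟨x0, hx0, hx00⟩ := (Submodule.ne_bot_iff _).1 (card_pos_dim hF hD i)
    have hd : 2 ≤ Module.finrank F (D i) := by rw [hD.decomp.finrank_eq]; exact hk
    obtain ⟨z, hz, hxz, hzz⟩ := exists_prod_length hF (hD.nondegenerate i) hd hx0 hx00 1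
      (c := 0) (zero_pow (by have := CfsgLib.Forms.two_le_q hF; omega)) (Or.inl one_ne_zero)
    have hz0 : z ≠ 0 := fun e => by
      rw [e, Unit.zero_right hf] at hxz
      exact zero_ne_one hxz
    obtain ⟨j, hj⟩ := hne z hz0
    have hiso : ∀ x ∈ D i, ⟪x, x⟫ = 0 → (g : Matrix _ _ F) *ᵥ x ∈ D j := by
      intro x hx hxx
      rw [← sum_comp hF hD ((g : Matrix _ _ F) *ᵥ x)]
      refine (D j).sum_mem fun l _ => ?_
      rcases eq_or_ne l j with rfl | hlj
      · exact comp_mem hF hD l _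
      suffices comp hF hD l ((g : Matrix _ _ F) *ᵥ x) = 0 by rw [this]; exact (D j).zero_mem
      by_contra hl
      have hzl : comp hF hD l ((g : Matrix _ _ F) *ᵥ z) = 0 := hone hz hzz (Ne.symm hlj) hj
      have hxj : comp hF hD j ((g : Matrix _ _ F) *ᵥ x) = 0 := hone hx hxx hlj hl
      have hnon : ∀ {y}, y ∈ D i → ⟪y, y⟫ = 0 → ∀ {y'}, y' ∈ D i → ⟪y', y'⟫ = 0 → ⟪y, y'⟫ ≠ 0 → ∀ {a b}, a ≠ b →
          comp hF hD a ((g : Matrix _ _ F) *ᵥ y) ≠ 0 → comp hF hD b ((g : Matrix _ _ F) *ᵥ y') = 0 := by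
        intro y hy hyy y' hy' hy'y' hyy' a b hab h
        by_contra h'
        refine hyy' ?_
        rw [← herm_mulVec (hMI hgM), herm_eq_sum hF hD]
        refine Finset.sum_eq_zero fun m _ => ?_
        rcases eq_or_ne m a with rfl | hma
        · rw [hone hy' hy'y' (Ne.symm hab) h', Unit.zero_right hf]
        · rw [hone hy hyy (Ne.symm hma) h]; exact hf.smul_left 0 0 _ |> fun e => by simpa using e
      by_cases hzx : ⟪z, x⟫ = 0
      · -- a common partner
        obtain ⟨y, hy, hzy, hxy, hyy⟩ : ∃ y ∈ D i, ⟪z, y⟫ ≠ 0 ∧ ⟪x, y⟫ ≠ 0 ∧ ⟪y, y⟫ = 0 := by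
          have hx1 : x ≠ 0 := fun e => hl (by rw [e, Matrix.mulVec_zero]; exact comp_of_mem hF hD (D l).zero_mem)
          obtain ⟨y, hy, hxy, hyy⟩ := exists_prod_length hF (hD.nondegenerate i) hd hx hx1 1
            (c := 0) (zero_pow (by have := CfsgLib.Forms.two_le_q hF; omega)) (Or.inl one_ne_zero)
          by_cases hzy : ⟪z, y⟫ = 0
          · obtain ⟨w, hw, hzw, hww⟩ := exists_prod_length hF (hD.nondegenerate i) hd hz hz0 1
              (c := 0) (zero_pow (by have := CfsgLib.Forms.two_le_q hF; omega)) (Or.inl one_ne_zero)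
            by_cases hxw : ⟪x, w⟫ = 0
            · obtain ⟨c, hc0, hc⟩ := CfsgLib.Unitary.exists_skew hF
              rcases eq_or_ne ⟪y, w⟫ 0 with h0 | h0
              · refine ⟨y + w, (D i).add_mem hy hw, ?_, ?_, ?_⟩
                · rw [Unit.add_right hf, hzy, hzw, zero_add]; exact one_ne_zero
                · rw [Unit.add_right hf, hxy, hxw, add_zero]; exact one_ne_zero
                · rw [hf.add_left, Unit.add_right hf, Unit.add_right hf, hyy, hww, hf.herm w y, h0, map_zero]; ring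
              · refine ⟨y + (c / ⟪y, w⟫) ^ q • w, (D i).add_mem hy ((D i).smul_mem _ hw), ?_, ?_, ?_⟩
                · rw [Unit.add_right hf, hzy, zero_add, Unit.smul_right hf, hzw, mul_one, frobEquiv_apply,
                    CfsgLib.Forms.pow_q_q hF]
                  exact div_ne_zero hc0 h0
                · rw [Unit.add_right hf, hxy, Unit.smul_right hf, hxw, mul_zero, add_zero]; exact one_ne_zero
                · rw [hf.add_left, Unit.add_right hf, Unit.add_right hf, hf.smul_left, hf.smul_left,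
                    Unit.smul_right hf, Unit.smul_right hf, hyy, hww, hf.herm w y, frobEquiv_apply,
                    frobEquiv_apply, CfsgLib.Forms.pow_q_q hF, div_mul_cancel₀ _ h0, mul_zero, mul_zero,
                    zero_add, add_zero, ← mul_pow, div_mul_cancel₀ _ h0]
                  exact hc
            · exact ⟨w, hw, hzw ▸ one_ne_zero, hxw, hww⟩
          · exact ⟨y, hy, hzy, hxy ▸ one_ne_zero, hyy⟩
        have hy0 : y ≠ 0 := fun e => hzy (by rw [e, Unit.zero_right hf])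
        obtain ⟨m, hm⟩ := hne y hy0
        by_cases hmj : m = j
        · subst hmj
          exact hl (hnon hy hyy hx hxx (fun h0 => hxy (by rw [hf.herm, h0, map_zero])) (Ne.symm hlj) hm)
        · exact hm (hnon hz hzz hy hyy hzy (Ne.symm hmj) hj)
      · exact hl (hnon hz hzz hx hxx hzx (Ne.symm hlj) hj)
    refine ⟨j, ?_⟩
    obtain ⟨x', hx', hzx', -⟩ := exists_prod_length hF (hD.nondegenerate i) hd hz hz0 1
      (c := 0) (zero_pow (by have := CfsgLib.Forms.two_le_q hF; omega)) (Or.inl one_ne_zero)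
    exact Unit.mem_of_isotropic hf (S := D i) (T := (D j).comap (glEquiv g).toLinearMap) hz hx' hzz
      (hzx' ▸ one_ne_zero) fun v hv hvv => by simpa using hiso v hv hvv
  choose σ hσ using himg
  have hinj : Function.Injective σ := by
    intro i i' he
    by_contra hne'
    have hsub : ∀ l, (D l).map (glEquiv g).toLinearMap = D (σ l) := fun l => by
      refine Submodule.eq_of_le_of_finrank_le ?_ ?_
      · rintro _ ⟨x, hx, rfl⟩
        simpa using hσ l x hx
      · rw [LinearEquiv.finrank_map_eq, hD.decomp.finrank_eq, hD.decomp.finrank_eq]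
    obtain ⟨a, ha, ha0⟩ := (Submodule.ne_bot_iff _).1 (card_pos_dim hF hD i)
    have h1 : (g : Matrix _ _ F) *ᵥ a ∈ (D i').map (glEquiv g).toLinearMap := by
      rw [hsub, ← he]; exact hσ i _ ha
    obtain ⟨x, hx, hxe⟩ := h1
    have : x = a := (glEquiv g).injective (by simpa using hxe)
    subst this
    exact ha0 (Submodule.disjoint_def.1 (hD.decomp.indep.pairwiseDisjoint hne') _ ha hx)
  exact hgX (mem_decompositionStabilizer_of hD.decomp
    (Equiv.ofBijective σ (Finite.injective_iff_bijective.1 hinj)) hσ)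

/-- The stabiliser of the decomposition has no proper overgroup in SU. -/
theorem decomp_key (hk : 2 ≤ k) (hex : ¬ (k = 2 ∧ q = 2)) (hM : decompositionStabilizer D ⊓ suGL n F q ≤ M)
    (hMI : M ≤ suGL n F q) (hMX : ¬ M ≤ decompositionStabilizer D) : suGL n F q ≤ M := by
  classical
  have hf := isUnitaryForm hF (n := n)
  obtain ⟨v₀, hv₀, i₀, j₀, hij₀, hi₀, hj₀⟩ := exists_crossing hF hD hk hex hM hMI hMX
  have sym : ∀ {i j}, (∃ w, Full q M w ∧ comp hF hD i w ≠ 0 ∧ comp hF hD j w ≠ 0) →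
      ∃ w, Full q M w ∧ comp hF hD j w ≠ 0 ∧ comp hF hD i w ≠ 0 := fun ⟨w, a, b, c⟩ => ⟨w, a, c, b⟩
  have h1 : ∀ l, l ≠ i₀ → ∃ w, Full q M w ∧ comp hF hD i₀ w ≠ 0 ∧ comp hF hD l w ≠ 0 := by
    intro l hl
    rcases eq_or_ne l j₀ with rfl | hlj
    · exact ⟨v₀, hv₀, hi₀, hj₀⟩
    · exact sym (exists_full_shift hF hD hk hM hMI hv₀ (Ne.symm hij₀) hlj hl hj₀ hi₀)
  have hall : ∀ i j, i ≠ j → ∀ a ∈ D i, ∀ b ∈ D j, ⟪a, a⟫ ≠ 0 → ⟪b, b⟫ = -⟪a, a⟫ → Full q M (a + b) := by
    intro i j hij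
    obtain ⟨w, hw, hwi, hwj⟩ : ∃ w, Full q M w ∧ comp hF hD i w ≠ 0 ∧ comp hF hD j w ≠ 0 := by
      rcases eq_or_ne i i₀ with rfl | hi
      · exact h1 j (Ne.symm hij)
      rcases eq_or_ne j i₀ with rfl | hj
      · exact sym (h1 i hi)
      obtain ⟨w, hw, a, b⟩ := h1 j hj
      exact exists_full_shift hF hD hk hM hMI hw (Ne.symm hj) hi hij a b
    exact pairFull_of_full hF hD hk hM hMI hw hij hwi hwj
  let supp : (Fin n → F) → Finset (Fin t) := fun v => Finset.univ.filter fun i => comp hF hD i v ≠ 0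
  have hsplit : ∀ (v y : Fin n → F), ⟪v, v⟫ = 0 → Full q M y → ⟪v, y⟫ ≠ 0 → ⟪v, y⟫ + ⟪v, y⟫ ^ q = 0 →
      (⟪v - y, v - y⟫ = 0 → Full q M (v - y)) → Full q M v := by
    intro v y hv hy hvy hskew ih
    have h0 : ⟪v - y, v - y⟫ = 0 := by
      rw [CfsgLib.Unitary.herm_sub_left hF, CfsgLib.Unitary.herm_sub_right hF,
        CfsgLib.Unitary.herm_sub_right hF, hv, hy.1, CfsgLib.Unitary.herm_swap hF v y]
      linear_combination -hskew
    have := full_add_smul hF hMI hy (ih h0) (a := 1) (by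
      rw [CfsgLib.Unitary.herm_sub_left hF, hy.1, sub_zero]; exact hvy) (by rw [one_smul, sub_add_cancel]; exact hv)
    rwa [one_smul, sub_add_cancel] at this
  have hprod : ∀ v {m} (y : Fin n → F), y ∈ D m → ⟪v, y⟫ = ⟪comp hF hD m v, y⟫ := fun v m y hy => by
    have := sub_comp_mem hF hD m v y hy
    rwa [CfsgLib.Unitary.herm_sub_left hF, sub_eq_zero] at this
  refine suGL_le_of_full' hF ?_ ?_ ?_
  · have := hD.decomp.two_le
    by_contra hn0
    obtain ⟨a, ha, ha0⟩ := (Submodule.ne_bot_iff _).1 (card_pos_dim hF hD i₀)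
    exact ha0 (funext fun x => absurd x.2 (by omega))
  · rintro ⟨rfl, hq2⟩
    have hfin := Submodule.finrank_le (D i₀ ⊔ D j₀)
    have h2 := Submodule.finrank_sup_add_finrank_inf_eq (D i₀) (D j₀)
    rw [show D i₀ ⊓ D j₀ = ⊥ from (hD.decomp.indep.pairwiseDisjoint hij₀).eq_bot, finrank_bot,
      hD.decomp.finrank_eq, hD.decomp.finrank_eq] at h2
    rw [Module.finrank_fin_fun] at hfin
    omega
  -- induction on the size of the support
  suffices H : ∀ (N : ℕ) (v : Fin n → F), ⟪v, v⟫ = 0 → (supp v).card ≤ N → Full q M v from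
    fun v hv => H _ v hv le_rfl
  intro N
  induction N with
  | zero =>
    intro v hv hc
    have : v = 0 := by
      rw [← sum_comp hF hD v]
      exact Finset.sum_eq_zero fun i _ => by
        by_contra hne
        have : i ∈ supp v := Finset.mem_filter.2 ⟨Finset.mem_univ i, hne⟩
        have := Finset.card_pos.2 ⟨i, this⟩
        omega
    exact this ▸ full_zero (q := q)
  | succ N ih =>
    have stepA : ∀ v, ⟪v, v⟫ = 0 → (supp v).card ≤ N + 1 →
        (∃ i, ⟪comp hF hD i v, comp hF hD i v⟫ ≠ 0) → Full q M v := by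
      rintro v hv hc ⟨i, hi⟩
      have hi0 : comp hF hD i v ≠ 0 := fun e => hi (by rw [e, Unit.zero_right hf])
      obtain ⟨j, hji, hj⟩ : ∃ j, j ≠ i ∧ comp hF hD j v ≠ 0 := by
        by_contra hcon
        push Not at hcon
        refine hi ?_
        rw [← hv, herm_eq_sum hF hD v v, Finset.sum_eq_single i (fun j _ hji => by
          rw [hcon j hji, Unit.zero_right hf]) (by simp)]
      set ν := ⟪comp hF hD i v, comp hF hD i v⟫ with hν
      obtain ⟨ζ, hζ, hζ0, hζν⟩ := exists_skew_avoid hF hex hk ν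
      obtain ⟨b, hb, hvb, hbb⟩ := exists_prod_length hF (hD.nondegenerate j)
        (by rw [hD.decomp.finrank_eq]; exact hk) (comp_mem hF hD j v) hj (ζ - ν) (c := -ν)
        (by rw [← frobEquiv_apply hF, map_neg, frobEquiv_apply, herm_self_pow hF])
        (hζν.imp sub_ne_zero.2 fun h => by rw [hD.decomp.finrank_eq]; exact h)
      have hy : ⟪v, comp hF hD i v + b⟫ = ζ := by
        rw [Unit.add_right hf, hprod v _ (comp_mem hF hD i v), hprod v _ hb, hvb, ← hν]; ring
      refine hsplit v _ hv (hall i j (Ne.symm hji) _ (comp_mem hF hD i v) b hb hi hbb) (hy ▸ hζ0) (hy ▸ hζ)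
        fun h0 => ih _ h0 ?_
      have hsub : supp (v - (comp hF hD i v + b)) ⊆ (supp v).erase i := by
        intro l hl
        simp only [supp, Finset.mem_filter, Finset.mem_univ, true_and] at hl
        rw [show v - (comp hF hD i v + b) = v + (-1 : F) • (comp hF hD i v + b) by module, comp_add, comp_smul,
          comp_add] at hl
        refine Finset.mem_erase.2 ⟨fun e => hl ?_, Finset.mem_filter.2 ⟨Finset.mem_univ l, fun e => hl ?_⟩⟩
        · subst e
          rw [comp_of_mem hF hD (comp_mem hF hD l v), comp_of_mem_ne hF hD (Ne.symm hji) hb]; module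
        · have hli : l ≠ i := fun h => hi0 (h ▸ e)
          have hlj : l ≠ j := fun h => hj (h ▸ e)
          rw [e, comp_of_mem_ne hF hD hli (comp_mem hF hD i v), comp_of_mem_ne hF hD hlj hb]; module
      have h1 := Finset.card_le_card hsub
      have h2 : i ∈ supp v := Finset.mem_filter.2 ⟨Finset.mem_univ i, hi0⟩
      rw [Finset.card_erase_of_mem h2] at h1
      omega
    intro v hv hc
    by_cases hex' : ∃ i, ⟪comp hF hD i v, comp hF hD i v⟫ ≠ 0
    · exact stepA v hv hc hex'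
    push Not at hex'
    by_cases hsing : ∃ i, v ∈ D i
    · obtain ⟨i, hi⟩ := hsing
      exact full_member hF hD hM hi hv
    push Not at hsing
    obtain ⟨i, hi⟩ : ∃ i, comp hF hD i v ≠ 0 := by
      by_contra hall'
      push Not at hall'
      refine hsing i₀ ?_
      rw [← sum_comp hF hD v]
      exact (D i₀).sum_mem fun l _ => by rw [hall' l]; exact (D i₀).zero_mem
    obtain ⟨j, hji, hj⟩ : ∃ j, j ≠ i ∧ comp hF hD j v ≠ 0 := by
      by_contra hall'
      push Not at hall'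
      refine hsing i ?_
      rw [← sum_comp hF hD v]
      refine (D i).sum_mem fun l _ => ?_
      rcases eq_or_ne l i with rfl | hli
      · exact comp_mem hF hD l v
      · rw [hall' l hli]; exact (D i).zero_mem
    obtain ⟨ζ, hζ, hζ0⟩ : ∃ ζ : F, ζ + ζ ^ q = 0 ∧ ζ ≠ 0 := by
      obtain ⟨c, a, b⟩ := CfsgLib.Unitary.exists_skew hF
      exact ⟨c, b, a⟩
    obtain ⟨κ, hκ, hκ0, hκζ⟩ := exists_skew_avoid hF hex hk (-ζ)
    obtain ⟨κ', hκ', hsum, hk3⟩ : ∃ κ' : F, κ' + κ' ^ q = 0 ∧ ζ + κ' ≠ 0 ∧ (κ' ≠ 0 ∨ 3 ≤ k) := by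
      rcases hκζ with h | h
      · exact ⟨κ, hκ, fun e => h (by linear_combination e), Or.inl hκ0⟩
      · exact ⟨0, by rw [zero_pow (by have := CfsgLib.Forms.two_le_q hF; omega), add_zero],
          by rwa [add_zero], Or.inr h⟩
    obtain ⟨a, ha, hva, haa⟩ := exists_prod_length hF (hD.nondegenerate i)
      (by rw [hD.decomp.finrank_eq]; exact hk) (comp_mem hF hD i v) hi ζ (c := 1) (one_pow q) (Or.inl hζ0)
    obtain ⟨b, hb, hvb, hbb⟩ := exists_prod_length hF (hD.nondegenerate j)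
      (by rw [hD.decomp.finrank_eq]; exact hk) (comp_mem hF hD j v) hj κ' (c := -1)
      (by rw [← frobEquiv_apply hF, map_neg, map_one]) (hk3.imp_right fun h => by rw [hD.decomp.finrank_eq]; exact h)
    have hy : ⟪v, a + b⟫ = ζ + κ' := by
      rw [Unit.add_right hf, hprod v _ ha, hprod v _ hb, hva, hvb]
    refine hsplit v _ hv (hall i j (Ne.symm hji) a ha b hb (haa ▸ one_ne_zero) (by rw [hbb, haa]))
      (hy ▸ hsum) (by rw [hy, CfsgLib.Forms.add_pow_q hF]; linear_combination hζ + hκ')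
      fun h0 => stepA _ h0 ?_ ⟨i, ?_⟩
    · refine le_trans (Finset.card_le_card fun l hl => ?_) hc
      simp only [supp, Finset.mem_filter, Finset.mem_univ, true_and] at hl ⊢
      intro e
      have hli : l ≠ i := fun h => hi (h ▸ e)
      have hlj : l ≠ j := fun h => hj (h ▸ e)
      refine hl ?_
      rw [show v - (a + b) = v + (-1 : F) • (a + b) by module, comp_add, comp_smul, comp_add, e,
        comp_of_mem_ne hF hD hli ha, comp_of_mem_ne hF hD hlj hb]
      module
    · rw [show v - (a + b) = v + (-1 : F) • (a + b) by module, comp_add, comp_smul, comp_add,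
        comp_of_mem hF hD ha, comp_of_mem_ne hF hD (Ne.symm hji) hb, add_zero,
        show comp hF hD i v + (-1 : F) • a = comp hF hD i v - a by module, CfsgLib.Unitary.herm_sub_left hF,
        CfsgLib.Unitary.herm_sub_right hF, CfsgLib.Unitary.herm_sub_right hF, hex' i, hva, haa, hf.herm a _, hva,
        frobEquiv_apply]
      intro e
      exact one_ne_zero (by linear_combination e + hζ : (1 : F) = 0)

theorem decomp_proper (hk : 2 ≤ k) : ¬ suGL n F q ≤ decompositionStabilizer D := by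
  intro h
  have hf := isUnitaryForm hF (n := n)
  have h2 := hD.decomp.two_le
  let i : Fin t := ⟨0, by omega⟩
  let j : Fin t := ⟨1, by omega⟩
  have hij : i ≠ j := by simp [i, j]
  obtain ⟨a0, ha0, ha00⟩ := (Submodule.ne_bot_iff _).1 (card_pos_dim hF hD i)
  obtain ⟨b0, hb0, hb00⟩ := (Submodule.ne_bot_iff _).1 (card_pos_dim hF hD j)
  obtain ⟨a, ha, -, haa⟩ := exists_prod_length hF (hD.nondegenerate i) (by rw [hD.decomp.finrank_eq]; exact hk)
    ha0 ha00 1 (c := 1) (one_pow q) (Or.inl one_ne_zero)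
  obtain ⟨b, hb, -, hbb⟩ := exists_prod_length hF (hD.nondegenerate j) (by rw [hD.decomp.finrank_eq]; exact hk)
    hb0 hb00 1 (c := -1) (by rw [← frobEquiv_apply hF, map_neg, map_one]) (Or.inl one_ne_zero)
  obtain ⟨z, hz, hza, hzz⟩ := exists_aniso_perp hF (hD.nondegenerate i) ha
    (Or.inr ⟨haa ▸ one_ne_zero, by rw [hD.decomp.finrank_eq]; exact hk⟩)
  have hab : ⟪a, b⟫ = 0 := hD.orthogonal i j hij a ha b hb
  have hba : ⟪b, a⟫ = 0 := hD.orthogonal j i (Ne.symm hij) b hb a ha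
  have hv : ⟪a + b, a + b⟫ = 0 := by
    rw [hf.add_left, Unit.add_right hf, Unit.add_right hf, hab, hba, haa, hbb]; ring
  obtain ⟨c, hc0, hc⟩ := CfsgLib.Unitary.exists_skew hF
  obtain ⟨σ, hσ⟩ := exists_perm_of_mem (h (utv_mem hF hv hc))
  -- `z` is fixed, so its member is; `a` is not kept inside it
  have h1 := hσ i z hz
  rw [utv_mulVec hF hv, show ⟪z, a + b⟫ = 0 by
    rw [Unit.add_right hf, hza, show ⟪z, b⟫ = 0 from hD.orthogonal i j hij z hz b hb, add_zero],
    mul_zero, zero_smul, add_zero] at h1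
  have hsi : σ i = i := by
    by_contra hne
    exact hzz (by rw [Submodule.disjoint_def.1 (hD.decomp.indep.pairwiseDisjoint hne) z h1 hz, Unit.zero_right hf])
  have h3 := hσ i a ha
  rw [hsi, utv_mulVec hF hv, Unit.add_right hf, haa, hab, add_zero, mul_one] at h3
  have h4 : comp hF hD j (a + c • (a + b)) = 0 := comp_of_mem_ne hF hD (Ne.symm hij) h3
  rw [comp_add, comp_smul, comp_add, comp_of_mem hF hD hb, comp_of_mem_ne hF hD (Ne.symm hij) ha, zero_add,
    zero_add, smul_eq_zero] at h4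
  rcases h4 with h4 | h4
  · exact hc0 h4
  · rw [h4, Unit.zero_right hf] at hbb
    exact one_ne_zero (neg_eq_zero.1 hbb.symm)

end CfsgLib.Geo.UTv
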