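/-
Non-monomial overgroups of the monomial group in GU, and the maximality of frame stabilisers in SU.
-/
import Cfsg.Agent.Geo.UnitFrame
import Cfsg.Agent.Geo.UnitDecomp
import Cfsg.Agent.Geo.Transvection
import Cfsg.Agent.Geo.DecompCoords

set_option autoImplicit false

namespace CfsgLib.Geo.UFrame

open Matrix Cfsg Cfsg.Geo CfsgLib.Geo CfsgLib.Geo.UTv CfsgLib.Geo.Mono

variable {n q : ℕ} {F : Type*} [Field F] [Finite F] (hF : Nat.card F = q ^ 2)

local notation "⟪" x ", " y "⟫" => Cfsg.hermForm n F q x y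

/-- The vectors supported in a set of places. -/
def coordSub (S : Finset (Fin n)) : Submodule F (Fin n → F) where
  carrier := {v | ∀ x, x ∉ S → v x = 0}
  zero_mem' _ _ := rfl
  add_mem' {a b} ha hb x hx := by rw [Pi.add_apply, ha x hx, hb x hx, add_zero]
  smul_mem' c a ha x hx := by rw [Pi.smul_apply, ha x hx, smul_zero]

/-- The support of a vector. -/
noncomputable def supp (v : Fin n → F) : Finset (Fin n) :=
  letI := Classical.decEq F
  Finset.univ.filter fun x => v x ≠ 0

omit [Finite F] in
lemma mem_supp {v : Fin n → F} {x : Fin n} : x ∈ supp v ↔ v x ≠ 0 := by simp [supp]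

omit [Finite F] in
lemma single_mem {S : Finset (Fin n)} {x : Fin n} (hx : x ∈ S) (c : F) : Pi.single x c ∈ coordSub (F := F) S :=
  fun y hy => by
    have hne : y ≠ x := fun e => hy (e ▸ hx)
    simp [hne]

omit [Finite F] in
lemma supp_subset {S : Finset (Fin n)} {v : Fin n → F} (hv : v ∈ coordSub S) : supp v ⊆ S :=
  fun x hx => by_contra fun h => mem_supp.1 hx (hv x h)

omit [Finite F] in
lemma mem_coordSub_supp (v : Fin n → F) : v ∈ coordSub (supp v) :=
  fun _ hx => by_contra fun h => hx (mem_supp.2 h)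

omit [Finite F] in
lemma finrank_coordSub (S : Finset (Fin n)) : Module.finrank F (coordSub (F := F) S) = S.card := by
  classical
  let φ : coordSub (F := F) S ≃ₗ[F] (S → F) :=
    { toFun := fun v x => (v : Fin n → F) x
      map_add' := fun _ _ => rfl
      map_smul' := fun _ _ => rfl
      invFun := fun u => ⟨fun x => if h : x ∈ S then u ⟨x, h⟩ else 0, fun x hx => dif_neg hx⟩
      left_inv := fun v => Subtype.ext (funext fun x => by
        by_cases h : x ∈ S
        · simp [h]
        · simp [h, v.2 x h])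
      right_inv := fun u => funext fun x => by simp }
  rw [φ.finrank_eq, Module.finrank_fintype_fun_eq_card, Fintype.card_coe]

include hF

lemma coordSub_nondeg (S : Finset (Fin n)) : IsNondegenerateOn (Cfsg.hermForm n F q) (coordSub (F := F) S) := by
  intro w hw hw0
  obtain ⟨x, hx⟩ := Function.ne_iff.1 hw0
  have hxS : x ∈ S := supp_subset hw (mem_supp.2 hx)
  exact ⟨⟨Pi.single x 1, single_mem hxS 1, by rw [herm_single]; exact pow_ne_zero _ hx⟩,
    Pi.single x 1, single_mem hxS 1, by rw [herm_single_right hF]; exact hx⟩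

lemma mem_perp_coord {S : Finset (Fin n)} {x : Fin n → F} :
    x ∈ perp q (coordSub S) ↔ ∀ r ∈ S, x r = 0 := by
  refine ⟨fun h r hr => by rw [← herm_single_right hF x r]; exact h _ (single_mem hr 1), fun h w hw => ?_⟩
  rw [herm_apply hF]
  refine Finset.sum_eq_zero fun r _ => ?_
  by_cases hr : r ∈ S
  · rw [h r hr, zero_mul]
  · rw [hw r hr, zero_pow (by have := CfsgLib.Forms.two_le_q hF; omega), mul_zero]

lemma mem_block_coord {S : Finset (Fin n)} {g : GL (Fin n) F} (hg : g ∈ Cfsg.GU n F q) :
    g ∈ blockGU q (coordSub S) ↔ ∀ r, r ∉ S → col g r = Pi.single r 1 := by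
  refine ⟨fun h r hr => (h.2 _).2 ((mem_perp_coord hF).2 fun s hs => Pi.single_eq_of_ne (fun (e : s = r) => hr (e ▸ hs)) _),
    fun h => ⟨hg, fun x => ⟨fun r hr => ?_, fun hx => ?_⟩⟩⟩
  · have := mem_GU.1 hg x (Pi.single r 1)
    rw [← col, h r hr, herm_single_right hF, herm_single_right hF] at this
    rw [Pi.sub_apply, this, sub_self]
  · rw [pi_eq_sum_univ' x, Matrix.mulVec_sum]
    refine Finset.sum_congr rfl fun r _ => ?_
    rw [Matrix.mulVec_smul]
    by_cases hr : r ∈ S
    · rw [(mem_perp_coord hF).1 hx r hr, zero_smul, zero_smul]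
    · rw [← col, h r hr]

omit hF in
lemma block_coord_mono {A B : Finset (Fin n)} (h : A ⊆ B) :
    blockGU q (coordSub (F := F) A) ≤ blockGU q (coordSub (F := F) B) :=
  blockGU_mono fun _ hv x hx => hv x fun hA => hx (h hA)

lemma det_phase {g : GL (Fin n) F} (hg : g ∈ Cfsg.GU n F q) : IsPhase q (g : Matrix (Fin n) (Fin n) F).det := by
  have e : ((g⁻¹ : GL (Fin n) F) : Matrix (Fin n) (Fin n) F) =
      ((frobEquiv hF).toRingHom.mapMatrix (g : Matrix (Fin n) (Fin n) F)).transpose := by
    ext a b
    rw [inv_apply hF hg, Matrix.transpose_apply, RingHom.mapMatrix_apply, Matrix.map_apply]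
    exact (frobEquiv_apply hF _).symm
  have h1 : (g : Matrix (Fin n) (Fin n) F).det * ((g⁻¹ : GL (Fin n) F) : Matrix (Fin n) (Fin n) F).det = 1 := by
    rw [← Matrix.det_mul, ← Units.val_mul, mul_inv_cancel, Units.val_one, Matrix.det_one]
  rw [e, Matrix.det_transpose, ← RingHom.map_det] at h1
  rw [IsPhase, ← frobEquiv_apply hF]
  exact h1

lemma exists_third_phase (hq : 3 ≤ q) :
    ∃ l : F, IsPhase q l ∧ l ≠ 1 ∧ (l - 1) * (l - 1) ^ q ≠ 1 := by
  classical
  haveI := Fintype.ofFinite F
  by_contra hcon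
  push Not at hcon
  have key : ∀ t : F, IsPhase q t → t ≠ 1 → t * t - t + 1 = 0 := fun t ht h1 => by
    have h2 := hcon t ht h1
    have h3 : (t - 1) ^ q = t ^ q - 1 := by
      rw [← frobEquiv_apply hF (t - 1), map_sub, map_one, frobEquiv_apply]
    rw [h3] at h2
    have ht' : t * t ^ q = 1 := ht
    linear_combination (-t) * h2 + (t - 1) * ht'
  obtain ⟨r, hr, hr1, -⟩ := exists_phase_avoid hF (1 : F) 1
  have hsub : (Finset.univ.filter fun t : F => t * t ^ q = 1) ⊆ {1, r, 1 - r} := fun t ht => by
    simp only [Finset.mem_insert, Finset.mem_singleton]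
    rcases eq_or_ne t 1 with h | h
    · exact Or.inl h
    have h4 := key t (Finset.mem_filter.1 ht).2 h
    have h5 := key r hr hr1
    have : (t - r) * (t - (1 - r)) = 0 := by linear_combination h4 - h5
    rcases mul_eq_zero.1 this with h6 | h6
    · exact Or.inr (Or.inl (sub_eq_zero.1 h6))
    · exact Or.inr (Or.inr (sub_eq_zero.1 h6))
  have := (Finset.card_le_card hsub).trans Finset.card_le_three
  rw [card_phase hF] at this
  omega

/-! ### Overgroups in GU -/

omit hF in
/-- A non-monomial overgroup of the monomial unitary group of a coordinate block. -/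
structure Block (q : ℕ) (S : Finset (Fin n)) (H : Subgroup (GL (Fin n) F)) : Prop where
  mono : ∀ g ∈ blockGU q (coordSub (F := F) S), g ∈ monomialGroup (Fin n) F → g ∈ H
  sub : H ≤ blockGU q (coordSub (F := F) S)
  nonmono : ¬ H ≤ monomialGroup (Fin n) F

variable {S : Finset (Fin n)} {H : Subgroup (GL (Fin n) F)}

lemma mon_mem_block {π : Equiv.Perm (Fin n)} {c : Fin n → Fˣ} (hc : ∀ x, IsPhase q (c x : F))
    (hπ : ∀ r, r ∉ S → π r = r ∧ (c r : F) = 1) : mon π c ∈ blockGU q (coordSub (F := F) S) :=
  (mem_block_coord hF (mon_mem_GU hF π c hc)).2 fun r hr => funext fun x => by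
    obtain ⟨x, rfl⟩ := π.surjective x
    rw [col, mon_mulVec]
    obtain ⟨h1, h2⟩ := hπ r hr
    rcases eq_or_ne x r with rfl | hne
    · simp [h1, h2]
    · rw [Pi.single_eq_of_ne hne, Pi.single_eq_of_ne (fun e => hne (π.injective (e.trans h1.symm))), mul_zero]

variable (hB : Block q S H)
include hB

omit hF in
lemma Block.gu {g : GL (Fin n) F} (hg : g ∈ H) : g ∈ Cfsg.GU n F q := (hB.sub hg).1

lemma Block.torus_mem {t : Fin n → F} (ht : ∀ x, IsPhase q (t x)) (h1 : ∀ r, r ∉ S → t r = 1) :
    torus (units t ht) ∈ H :=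
  hB.mono _ (mon_mem_block hF (fun x => ht x) fun r hr => ⟨rfl, h1 r hr⟩) (Mono.mon_mem 1 _)

lemma Block.perm_mem {π : Equiv.Perm (Fin n)} (hπ : ∀ r, r ∉ S → π r = r) : mon π (1 : Fin n → Fˣ) ∈ H :=
  hB.mono _ (mon_mem_block hF (fun _ => by simp [IsPhase]) fun r hr => ⟨hπ r hr, rfl⟩) (Mono.mon_mem π _)

omit hF in
lemma Block.col_subset {g : GL (Fin n) F} (hg : g ∈ H) {b : Fin n} (hb : b ∈ S) : supp (col g b) ⊆ S :=
  supp_subset (block_mem_self (hB.sub hg) (single_mem hb 1))

/-- The reflection along a column. -/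
lemma Block.exists_colRefl {g : GL (Fin n) F} (hg : g ∈ H) {b : Fin n} (hb : b ∈ S) {l : F} (hl : IsPhase q l) :
    ∃ R ∈ H, ∀ x, (R : Matrix (Fin n) (Fin n) F) *ᵥ x = x + ((l - 1) * ⟪x, col g b⟫) • col g b := by
  let t : Fin n → F := Function.update 1 b l
  have ht : ∀ x, IsPhase q (t x) := fun x => by
    rcases eq_or_ne x b with rfl | h
    · simpa [t] using hl
    · simpa [t, Function.update_of_ne h] using IsPhase.one
  have hm : torus (units t ht) ∈ H := hB.torus_mem hF ht fun r hr => by
    simp [t, Function.update_of_ne (fun e : r = b => hr (e ▸ hb))]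
  refine ⟨g * torus (units t ht) * g⁻¹, H.mul_mem (H.mul_mem hg hm) (H.inv_mem hg), fun x => ?_⟩
  set y := ((g⁻¹ : GL (Fin n) F) : Matrix (Fin n) (Fin n) F) *ᵥ x with hy
  have hgy : (g : Matrix (Fin n) (Fin n) F) *ᵥ y = x := mulVec_inv_mulVec g x
  have hyb : y b = ⟪x, col g b⟫ := by
    rw [← herm_single_right hF y b, ← mem_GU.1 (hB.gu hg), hgy]
  have e : (fun r => t r * y r) = y + ((l - 1) * y b) • Pi.single b 1 := funext fun r => by
    rcases eq_or_ne r b with rfl | h
    · simp [t]; ring
    · simp [t, Function.update_of_ne h, h]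
  rw [mul_mulVec, mul_mulVec, torus_val hF t ht y b, e, Matrix.mulVec_add, Matrix.mulVec_smul, hgy, hyb]

lemma Block.exists_col :
    ∃ g ∈ H, ∃ b ∈ S, 2 ≤ (supp (col g b)).card := by
  obtain ⟨g, hg, hgm⟩ := SetLike.not_le_iff_exists.1 hB.nonmono
  obtain ⟨j, i, k, hik, hi, hk⟩ := exists_two_of_notMem hgm
  by_cases hj : j ∈ S
  · exact ⟨g, hg, j, hj, Finset.one_lt_card.2
      ⟨i, mem_supp.2 (by rw [col_apply]; exact hi), k, mem_supp.2 (by rw [col_apply]; exact hk), hik⟩⟩
  · exfalso
    have h1 : col g j = Pi.single j 1 := ((hB.sub hg).2 _).2 fun w hw => by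
      rw [herm_single, hw j hj, zero_pow (by have := CfsgLib.Forms.two_le_q hF; omega)]
    rw [← col_apply g j i, h1] at hi
    rw [← col_apply g j k, h1] at hk
    exact hik ((by_contra fun e => hi (Pi.single_eq_of_ne e 1) : i = j).trans
      (by_contra fun e => hk (Pi.single_eq_of_ne e 1) : k = j).symm)

/-- A plane block lies in the overgroup. -/
lemma Block.pair_block {g : GL (Fin n) F} (hg : g ∈ H) {b : Fin n} (hb : b ∈ S)
    (h2 : (supp (col g b)).card = 2) : blockGU q (coordSub (F := F) (supp (col g b))) ≤ H := by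
  classical
  haveI := Fintype.ofFinite F
  set v := col g b with hv
  have hTS : supp v ⊆ S := hB.col_subset hg hb
  obtain ⟨i, j, hij, hTij⟩ := Finset.card_eq_two.1 h2
  have hiT : i ∈ supp v := by rw [hTij]; simp
  have hjT : j ∈ supp v := by rw [hTij]; simp
  set P := coordSub (F := F) (supp v) with hP
  let K : Subgroup (GL (Fin n) F) := H ⊓ blockGU q P
  have htorK : ∀ (t : Fin n → F) (ht : ∀ x, IsPhase q (t x)), (∀ r, r ∉ supp v → t r = 1) →
      torus (units t ht) ∈ K := fun t ht h1 =>
    ⟨hB.torus_mem hF ht fun r hr => h1 r fun h => hr (hTS h), mon_mem_block hF (fun x => ht x) fun r hr => ⟨rfl, h1 r hr⟩⟩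
  obtain ⟨l, hl, hl1, hlν⟩ := exists_phase_avoid hF (1 : F) (1 - (v i * v i ^ q)⁻¹)
  obtain ⟨R, hRH, hR⟩ := hB.exists_colRefl hF hg hb hl
  have hRK : R ∈ K := ⟨hRH, (mem_block_coord hF (hB.gu hRH)).2 fun r hr => by
    rw [col, hR, ← hv, herm_single, show v r = 0 from by_contra fun h => hr (mem_supp.2 h),
      zero_pow (by have := CfsgLib.Forms.two_le_q hF; omega), mul_zero, zero_smul, add_zero]⟩
  have hvi : v i ≠ 0 := mem_supp.1 hiT
  have hvj : v j ≠ 0 := mem_supp.1 hjT
  have htrans := plane_transitive hF (P := P) (coordSub_nondeg hF _) ((finrank_coordSub _).trans h2)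
    (single_mem hiT 1) (single_mem hjT 1) (e := Pi.single i 1) (f := Pi.single j 1)
    (by rw [herm_single, Pi.single_eq_same, one_pow]) (by rw [herm_single, Pi.single_eq_same, one_pow])
    (by rw [herm_single_right hF, Pi.single_eq_of_ne (Ne.symm hij)])
    (K := K) (fun h hh => hh.2.1) (fun h hh x hx => block_mem_self hh.2 hx)
    (fun m hm => by
      let t : Fin n → F := Function.update 1 j m
      have ht : ∀ x, IsPhase q (t x) := fun x => by
        rcases eq_or_ne x j with rfl | h
        · simp only [t, Function.update_self]; exact hm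
        · simpa [t, Function.update_of_ne h] using IsPhase.one
      refine ⟨_, htorK t ht fun r hr => by simp [t, Function.update_of_ne (fun e : r = j => hr (e ▸ hjT))], 1, ?_, ?_⟩
      · rw [torus_val hF t ht _ i]
        funext r
        rcases eq_or_ne r i with rfl | h
        · simp [t, Function.update_of_ne hij]
        · simp [h]
      · rw [torus_val hF t ht _ i]
        funext r
        rcases eq_or_ne r j with rfl | h
        · simp [t]
        · simp [h])
    ⟨R, hRK, by
      rw [hR, ← hv, herm_single, herm_single_right hF, Pi.add_apply, Pi.smul_apply, Pi.single_eq_same, smul_eq_mul]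
      intro h0
      refine hlν ?_
      have hne : v i * v i ^ q ≠ 0 := mul_ne_zero hvi (pow_ne_zero _ hvi)
      have e : (l - 1) * (v i * v i ^ q) = -1 := by linear_combination h0
      rw [eq_sub_iff_add_eq, ← eq_sub_iff_add_eq']
      refine inv_eq_of_mul_eq_one_left ?_
      linear_combination -e, by
      rw [hR, ← hv, herm_single, herm_single_right hF, Pi.add_apply, Pi.smul_apply, Pi.single_eq_of_ne (Ne.symm hij),
        zero_add, smul_eq_mul]
      exact mul_ne_zero (mul_ne_zero (sub_ne_zero.2 hl1) (pow_ne_zero _ hvi)) hvj⟩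
  intro k hk
  obtain ⟨h, hhK, c, hc⟩ := htrans _ (block_mem_self hk (single_mem hiT 1)) (by
    rw [mem_GU.1 hk.1, herm_single, Pi.single_eq_same, one_pow])
  have hcp : IsPhase q c := by
    have e := congrArg (fun r => ⟪r, r⟫) hc
    simp only [mem_GU.1 hhK.2.1, CfsgLib.Unitary.herm_smul_left, Unit.smul_right (isUnitaryForm hF), mem_GU.1 hk.1,
      herm_single, Pi.single_eq_same, one_pow, mul_one, frobEquiv_apply] at e
    show c * c ^ q = 1
    rw [mul_comm]; exact e.symm
  let t : Fin n → F := Function.update 1 i c⁻¹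
  have ht : ∀ x, IsPhase q (t x) := fun x => by
    rcases eq_or_ne x i with rfl | h
    · simpa [t] using hcp.inv
    · simpa [t, Function.update_of_ne h] using IsPhase.one
  set h' := h * torus (units t ht) with hh'
  have hh'K : h' ∈ K := K.mul_mem hhK (htorK t ht fun r hr => by
    simp [t, Function.update_of_ne (fun e : r = i => hr (e ▸ hiT))])
  have hh'i : col h' i = col k i := by
    rw [col, hh', mul_mulVec, torus_val hF t ht _ i]
    have e : (fun r => t r * (Pi.single i (1 : F) : Fin n → F) r) = c⁻¹ • Pi.single i 1 := funext fun r => by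
      rcases eq_or_ne r i with rfl | h
      · simp [t]
      · simp [h]
    rw [e, Matrix.mulVec_smul, hc, smul_smul, inv_mul_cancel₀ hcp.ne_zero, one_smul]
  set z := h'⁻¹ * k with hz
  have hzB : z ∈ blockGU q P := mul_mem (inv_mem hh'K.2) hk
  have hzi : col z i = Pi.single i 1 := by
    rw [col, hz, mul_mulVec, ← col, ← hh'i, col, inv_mulVec_mulVec]
  have hzm : z ∈ monomialGroup (Fin n) F := mem_mono_of_perm fun a => by
    by_cases ha : a ∈ supp v
    · rw [hTij] at ha
      rcases Finset.mem_insert.1 ha with rfl | ha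
      · exact ⟨a, fun y hy => by rw [← col_apply, hzi, Pi.single_eq_of_ne hy]⟩
      rw [Finset.mem_singleton] at ha
      subst ha
      refine ⟨a, fun y hy => ?_⟩
      rw [← col_apply]
      by_cases hyT : y ∈ supp v
      · rw [hTij, Finset.mem_insert, Finset.mem_singleton] at hyT
        rcases hyT with rfl | rfl
        · have := herm_cols hF hzB.1 a y
          rw [hzi, herm_single_right hF, if_neg hy.symm] at this
          exact this
        · exact absurd rfl hy
      · exact block_mem_self hzB (single_mem hjT 1) y hyT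
    · exact ⟨a, fun y hy => by rw [← col_apply, (mem_block_coord hF hzB.1).1 hzB a ha, Pi.single_eq_of_ne hy]⟩
  have hzH : z ∈ H := hB.mono z (block_coord_mono hTS hzB) hzm
  have := H.mul_mem hh'K.1 hzH
  rwa [hz, mul_inv_cancel_left] at this

/-- A minimal column of size three or more is impossible for `q ≥ 3`. -/
lemma Block.min_two (hq : 3 ≤ q) {g : GL (Fin n) F} (hg : g ∈ H) {b : Fin n} (hb : b ∈ S)
    (hmin : ∀ h ∈ H, ∀ a ∈ S, 2 ≤ (supp (col h a)).card → (supp (col g b)).card ≤ (supp (col h a)).card)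
    (h3 : 3 ≤ (supp (col g b)).card) : False := by
  classical
  haveI := Fintype.ofFinite F
  set s := (supp (col g b)).card with hs
  -- entries of reflections
  have hRne : ∀ h ∈ H, ∀ a ∈ S, (supp (col h a)).card = s → ∀ i ∈ supp (col h a), ∀ l : F, IsPhase q l →
      1 + (l - 1) * (col h a i * col h a i ^ q) ≠ 0 := by
    intro h hh a ha hcard i hi l hl h0
    obtain ⟨R, hRH, hR⟩ := hB.exists_colRefl hF hh ha hl
    have hl1 : l - 1 ≠ 0 := fun e => by rw [e, zero_mul, add_zero] at h0; exact one_ne_zero h0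
    have hvi := mem_supp.1 hi
    have hsupp : supp (col R i) = (supp (col h a)).erase i := by
      ext r
      rw [mem_supp, Finset.mem_erase, mem_supp, col, hR, herm_single, Pi.add_apply, Pi.smul_apply, smul_eq_mul]
      rcases eq_or_ne r i with rfl | hr
      · simp only [Pi.single_eq_same, ne_eq, not_true_eq_false, false_and, iff_false, not_not]
        linear_combination h0
      · rw [Pi.single_eq_of_ne hr, zero_add, mul_ne_zero_iff]
        exact ⟨fun h => ⟨hr, h.2⟩, fun h => ⟨mul_ne_zero hl1 (pow_ne_zero _ hvi), h.2⟩⟩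
    have hle := hmin R hRH i (hB.col_subset hh ha hi) (by
      rw [hsupp, Finset.card_erase_of_mem hi, hcard]; omega)
    rw [hsupp, Finset.card_erase_of_mem hi, hcard] at hle
    omega
  obtain ⟨h, hh, a, ha, hcard, i, hi, hν⟩ : ∃ h ∈ H, ∃ a ∈ S, (supp (col h a)).card = s ∧
      ∃ i ∈ supp (col h a), col h a i * col h a i ^ q ≠ 1 := by
    by_contra hcon
    push Not at hcon
    obtain ⟨l, hl, hl1, hlδ⟩ := exists_third_phase hF hq
    obtain ⟨R, hRH, hR⟩ := hB.exists_colRefl hF hg hb hl
    obtain ⟨i, hi⟩ : (supp (col g b)).Nonempty := Finset.card_pos.1 (by omega)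
    obtain ⟨r, hr⟩ : ((supp (col g b)).erase i).Nonempty := Finset.card_pos.1 (by
      rw [Finset.card_erase_of_mem hi]; omega)
    rw [Finset.mem_erase] at hr
    have hvi := mem_supp.1 hi
    have hsupp : supp (col R i) = supp (col g b) := by
      ext y
      rw [mem_supp, mem_supp, col, hR, herm_single, Pi.add_apply, Pi.smul_apply, smul_eq_mul]
      rcases eq_or_ne y i with rfl | hy
      · simp only [Pi.single_eq_same, ne_eq, hvi, not_false_eq_true, iff_true]
        intro h0
        exact hRne g hg b hb hs.symm y hi l hl (by linear_combination h0)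
      · rw [Pi.single_eq_of_ne hy, zero_add, mul_ne_zero_iff]
        exact ⟨fun h => h.2, fun h => ⟨mul_ne_zero (sub_ne_zero.2 hl1) (pow_ne_zero _ hvi), h⟩⟩
    have h1 := hcon R hRH i (hB.col_subset hg hb hi) (by rw [hsupp]) r (by rw [hsupp]; exact hr.2)
    rw [col, hR, herm_single, Pi.add_apply, Pi.smul_apply, smul_eq_mul, Pi.single_eq_of_ne hr.1, zero_add,
      mul_pow, mul_pow, CfsgLib.Forms.pow_q_q hF] at h1
    have e1 := hcon g hg b hb hs.symm i hi
    have e2 := hcon g hg b hb hs.symm r hr.2
    refine hlδ ?_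
    linear_combination h1 - ((l - 1) * (l - 1) ^ q) * (col g b r * col g b r ^ q) * e1 -
      ((l - 1) * (l - 1) ^ q) * e2
  -- the plane
  set v := col h a with hv
  have hf := isUnitaryForm hF (n := n)
  set e : Fin n → F := Pi.single i 1 with he
  set ν := v i * v i ^ q with hνd
  have hvi : v i ≠ 0 := mem_supp.1 hi
  have hTS : supp v ⊆ S := hB.col_subset hh ha
  have hee : ⟪e, e⟫ = 1 := by rw [he, herm_single, Pi.single_eq_same, one_pow]
  have hvv : ⟪v, v⟫ = 1 := by rw [hv, herm_cols hF (hB.gu hh), if_pos rfl]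
  have hve : ⟪v, e⟫ = v i := herm_single_right hF v i
  have hev : ⟪e, v⟫ = v i ^ q := herm_single i v
  set f0 := v - v i • e with hf0
  have hf00 : ⟪f0, f0⟫ = 1 - ν := by
    simp only [hf0, CfsgLib.Unitary.herm_sub_left hF, CfsgLib.Unitary.herm_sub_right hF, hf.smul_left,
      Unit.smul_right hf, frobEquiv_apply, hee, hvv, hve, hev, hνd]
    ring
  obtain ⟨s0, hs0⟩ := Unit.exists_norm_eq hf.ne_refl hf.involutive (t := 1 / (1 - ν)) (by
    rw [map_div₀, map_one, map_sub, map_one, frobEquiv_apply, hνd, norm_fix hF])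
  rw [frobEquiv_apply] at hs0
  set f := s0 • f0 with hfdef
  have hν1' : 1 - ν ≠ 0 := sub_ne_zero.2 (Ne.symm hν)
  have hs00 : s0 ≠ 0 := fun h0 => by rw [h0, zero_mul] at hs0; exact one_div_ne_zero hν1' hs0.symm
  have hff : ⟪f, f⟫ = 1 := by
    rw [hfdef, hf.smul_left, Unit.smul_right hf, hf00, frobEquiv_apply, ← mul_assoc, hs0, div_mul_cancel₀ _ hν1']
  have hfi : f i = 0 := by simp [hfdef, hf0, he]
  have hfr : ∀ r, r ≠ i → f r = s0 * v r := fun r hr => by simp [hfdef, hf0, he, hr]
  have hef : ⟪e, f⟫ = 0 := by rw [he, herm_single, hfi, zero_pow (by omega)]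
  have hfe : ⟪f, e⟫ = 0 := by rw [he, herm_single_right hF, hfi]
  set P := Submodule.span F ({e, f} : Set (Fin n → F)) with hPdef
  have hvP : v ∈ P := Submodule.mem_span_pair.2 ⟨v i, s0⁻¹, by
    rw [hfdef, hf0, smul_smul, inv_mul_cancel₀ hs00]; module⟩
  have hnd : IsNondegenerateOn (Cfsg.hermForm n F q) P := by
    intro x hxP hx0
    obtain ⟨r1, r2, rfl⟩ := Submodule.mem_span_pair.1 hxP
    have k1 : ⟪r1 • e + r2 • f, e⟫ = r1 := by rw [hf.add_left, hf.smul_left, hf.smul_left, hee, hfe]; ring
    have k2 : ⟪r1 • e + r2 • f, f⟫ = r2 := by rw [hf.add_left, hf.smul_left, hf.smul_left, hef, hff]; ring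
    rcases em (r1 = 0) with h1 | h1
    · have h2 : r2 ≠ 0 := fun h2 => hx0 (by simp [h1, h2])
      exact ⟨⟨f, Submodule.subset_span (by simp), by rw [hf.herm, k2]; exact (map_ne_zero _).2 h2⟩,
        f, Submodule.subset_span (by simp), by rw [k2]; exact h2⟩
    · exact ⟨⟨e, Submodule.subset_span (by simp), by rw [hf.herm, k1]; exact (map_ne_zero _).2 h1⟩,
        e, Submodule.subset_span (by simp), by rw [k1]; exact h1⟩
  have hdim : Module.finrank F P = 2 := by
    have hli : LinearIndependent F ![e, f] := by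
      rw [LinearIndependent.pair_iff]
      intro r1 r2 h
      have k1 := congrArg (fun x => ⟪x, e⟫) h
      have k2 := congrArg (fun x => ⟪x, f⟫) h
      simp only [hf.add_left, hf.smul_left, hee, hfe, hef, hff, mul_one, mul_zero, add_zero, zero_add,
        LinLeft.zero_left ⟨hf.add_left, hf.smul_left⟩] at k1 k2
      exact ⟨k1, k2⟩
    have := finrank_span_eq_card hli
    rw [Matrix.range_cons_cons_empty, Fintype.card_fin] at this
    exact this
  let K : Subgroup (GL (Fin n) F) := H ⊓ subspaceStabilizer P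
  obtain ⟨l, hl, hl1, -⟩ := exists_phase_avoid hF (1 : F) 1
  obtain ⟨R, hRH, hR⟩ := hB.exists_colRefl hF hh ha hl
  have hRK : R ∈ K := ⟨hRH, mem_subspaceStabilizer.2 fun x hx => by
    rw [hR]; exact P.add_mem hx (P.smul_mem _ hvP)⟩
  have htrans := plane_transitive hF hnd hdim (Submodule.subset_span (by simp)) (Submodule.subset_span (by simp))
    hee hff hef (K := K) (fun k hk => hB.gu hk.1) (fun k hk => mem_subspaceStabilizer.1 hk.2)
    (fun m hm => by
      let t : Fin n → F := fun r => if r ∈ (supp v).erase i then m else 1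
      have ht : ∀ x, IsPhase q (t x) := fun x => by simp only [t]; split_ifs <;> [exact hm; exact IsPhase.one]
      have hte : ((torus (units t ht) : GL (Fin n) F) : Matrix (Fin n) (Fin n) F) *ᵥ e = e := by
        rw [torus_val hF t ht e i]
        funext r
        rcases eq_or_ne r i with rfl | hr <;> simp [t, he, *]
      have htf : ((torus (units t ht) : GL (Fin n) F) : Matrix (Fin n) (Fin n) F) *ᵥ f = m • f := by
        rw [torus_val hF t ht f i]
        funext r
        rcases eq_or_ne r i with rfl | hr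
        · simp [hfi]
        · by_cases hr' : r ∈ supp v
          · simp [t, hr, hr']
          · have : v r = 0 := by_contra fun h0 => hr' (mem_supp.2 h0)
            simp [hfr r hr, this]
      refine ⟨_, ⟨hB.torus_mem hF ht fun r hr => ?_, mem_subspaceStabilizer.2 fun x hx => ?_⟩, 1,
        by rw [hte, one_smul], by rw [htf, one_mul]⟩
      · simp only [t]; rw [if_neg fun h0 => hr (hTS (Finset.mem_erase.1 h0).2)]
      · obtain ⟨r1, r2, rfl⟩ := Submodule.mem_span_pair.1 hx
        rw [Matrix.mulVec_add, Matrix.mulVec_smul, Matrix.mulVec_smul, hte, htf, smul_smul]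
        exact Submodule.mem_span_pair.2 ⟨r1, r2 * m, rfl⟩)
    ⟨R, hRK, by
      rw [hR, ← hv, hev, hf.add_left, hf.smul_left, hee, hve]
      intro h0
      exact hRne h hh a ha hcard i hi l hl (by linear_combination h0), by
      rw [hR, ← hv, hev, hf.add_left, hf.smul_left, hef, zero_add]
      refine mul_ne_zero (mul_ne_zero (sub_ne_zero.2 hl1) (pow_ne_zero _ hvi)) ?_
      have hvf : ⟪f0, f⟫ = ⟪v, f⟫ := by
        rw [hf0, CfsgLib.Unitary.herm_sub_left hF, hf.smul_left, hef, mul_zero, sub_zero]
      rw [← hvf, hfdef, Unit.smul_right hf, hf00]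
      exact mul_ne_zero ((map_ne_zero _).2 hs00) hν1'⟩
  obtain ⟨k, hk, c, hc⟩ := htrans f (Submodule.subset_span (by simp)) hff
  have hc0 : c ≠ 0 := fun h0 => by
    rw [h0, zero_smul] at hc
    have h1 := mem_GU.1 (hB.gu hk.1) e e
    rw [hc, hee, LinLeft.zero_left ⟨hf.add_left, hf.smul_left⟩] at h1
    exact zero_ne_one h1
  have hsupp : supp (col k i) = (supp v).erase i := by
    ext r
    rw [mem_supp, Finset.mem_erase, mem_supp, col, ← he, hc, Pi.smul_apply, smul_eq_mul]
    rcases eq_or_ne r i with rfl | hr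
    · simp [hfi]
    · simp [hfr r hr, hc0, hs00, hr]
  have hle := hmin k hk.1 i (hTS hi) (by rw [hsupp, Finset.card_erase_of_mem hi, hcard]; omega)
  rw [hsupp, Finset.card_erase_of_mem hi, hcard] at hle
  omega

/-- The case of four elements. -/
lemma Block.block_two (hq : q = 2) {g : GL (Fin n) F} (hg : g ∈ H) {b : Fin n} (hb : b ∈ S)
    (h2 : 2 ≤ (supp (col g b)).card)
    (hmin : ∀ h ∈ H, ∀ a ∈ S, 2 ≤ (supp (col h a)).card → (supp (col g b)).card ≤ (supp (col h a)).card) :
    (supp (col g b)).card = 3 ∧ blockGU q (coordSub (F := F) (supp (col g b))) ≤ H := by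
  classical
  haveI := Fintype.ofFinite F
  have hf := isUnitaryForm hF (n := n)
  have hc4 : Fintype.card F = 4 := by rw [← Nat.card_eq_fintype_card, hF, hq]; rfl
  have hph : ∀ x : F, x ≠ 0 → IsPhase q x := fun x hx => by
    have := FiniteField.pow_card_sub_one_eq_one x hx
    rw [hc4] at this
    rw [IsPhase, hq]; linear_combination this
  have h20 : (2 : F) = 0 := by
    have h4 : ((4 : ℕ) : F) = 0 := by rw [← hc4, Nat.cast_card_eq_zero]
    exact mul_self_eq_zero.1 (by linear_combination h4)
  have hsum : ∀ w : Fin n → F, ⟪w, w⟫ = ((supp w).card : F) := fun w => by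
    rw [herm_apply hF, ← Finset.sum_subset (Finset.subset_univ (supp w))
      (fun r _ hr => by rw [show w r = 0 from by_contra fun h => hr (mem_supp.2 h), zero_mul]),
      Finset.sum_congr rfl fun r hr => hph _ (mem_supp.1 hr), Finset.sum_const, nsmul_eq_mul, mul_one]
  have heven : ∀ m : ℕ, Even m → (m : F) = 0 := fun m ⟨r, hr⟩ => by
    rw [hr, Nat.cast_add, ← two_mul, h20, zero_mul]
  set v := col g b with hv
  set T := supp v with hT
  have hTS : T ⊆ S := hB.col_subset hg hb
  have hodd : Odd T.card := Nat.not_even_iff_odd.1 fun he => by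
    have h1 : ⟪v, v⟫ = 1 := by rw [hv, herm_cols hF (hB.gu hg), if_pos rfl]
    rw [hsum, heven _ he] at h1
    exact zero_ne_one h1
  obtain ⟨ω, hω, hω1, -⟩ := exists_phase_avoid hF (1 : F) 1
  have hω3 : ω * ω + ω + 1 = 0 := by
    have hω' : ω * ω ^ q = 1 := hω
    rw [hq] at hω'
    exact mul_left_cancel₀ (sub_ne_zero.2 hω1) (by linear_combination hω')
  obtain ⟨R, hRH, hR⟩ := hB.exists_colRefl hF hg hb hω
  have hT3 : T.card = 3 := by
    by_contra hne
    have h5 : 5 ≤ T.card := by obtain ⟨r, hr⟩ := hodd; omega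
    obtain ⟨i, j, l, hi, hj, hl, hij, hil, hjl⟩ := Finset.two_lt_card_iff.1 (show 2 < T.card by omega)
    let t : Fin n → F := fun r => if r = i then ω else if r = j ∨ r = l then ω * ω else 1
    have ht : ∀ x, IsPhase q (t x) := fun x => by
      simp only [t]; split_ifs <;> [exact hω; exact hω.mul hω; exact IsPhase.one]
    have htS : ∀ r, r ∉ S → t r = 1 := fun r hr => by
      have e1 : r ≠ i := fun e => hr (hTS (e ▸ hi))
      have e2 : r ≠ j := fun e => hr (hTS (e ▸ hj))
      have e3 : r ≠ l := fun e => hr (hTS (e ▸ hl))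
      simp [t, e1, e2, e3]
    set m := R * torus (units t ht) * g with hm
    have hmH : m ∈ H := H.mul_mem (H.mul_mem hRH (hB.torus_mem hF ht htS)) hg
    have hσ : ⟪fun r => t r * v r, v⟫ = ω := by
      have h0 : ⟪fun r => t r * v r, v⟫ = ∑ r ∈ T, t r := by
        rw [herm_apply hF, ← Finset.sum_subset (Finset.subset_univ T)
          (fun r _ hr => by rw [show v r = 0 from by_contra fun h => hr (mem_supp.2 h), mul_zero, zero_mul])]
        refine Finset.sum_congr rfl fun r hr => ?_
        rw [mul_assoc, show v r * v r ^ q = 1 from hph _ (mem_supp.1 hr), mul_one]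
      rw [h0, ← Finset.add_sum_erase _ _ hi, ← Finset.add_sum_erase _ _ (Finset.mem_erase.2 ⟨Ne.symm hij, hj⟩),
        ← Finset.add_sum_erase _ _ (Finset.mem_erase.2 ⟨Ne.symm hjl, Finset.mem_erase.2 ⟨Ne.symm hil, hl⟩⟩),
        Finset.sum_congr rfl (fun r hr => show t r = 1 by
          simp only [Finset.mem_erase] at hr; simp [t, hr.1, hr.2.1, hr.2.2.1]),
        Finset.sum_const, nsmul_eq_mul, mul_one,
        heven _ (by
          rw [Finset.card_erase_of_mem (Finset.mem_erase.2 ⟨Ne.symm hjl, Finset.mem_erase.2 ⟨Ne.symm hil, hl⟩⟩),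
            Finset.card_erase_of_mem (Finset.mem_erase.2 ⟨Ne.symm hij, hj⟩), Finset.card_erase_of_mem hi]
          obtain ⟨r, hr⟩ := hodd; exact ⟨r - 1, by omega⟩)]
      simp [t, Ne.symm hij, Ne.symm hil]
      linear_combination (ω * ω) * h20
    have hent : ∀ r, col m b r = (t r + 1) * v r := fun r => by
      rw [col, hm, mul_mulVec, mul_mulVec, ← col, ← hv, torus_val hF t ht v b, hR, ← hv, hσ, Pi.add_apply,
        Pi.smul_apply, smul_eq_mul]
      linear_combination v r * hω3 - (ω * v r + v r) * h20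
    have hsupp : supp (col m b) = {i, j, l} := by
      ext r
      rw [mem_supp, hent]
      simp only [Finset.mem_insert, Finset.mem_singleton]
      by_cases hr : r = i ∨ r = j ∨ r = l
      · simp only [hr, iff_true]
        have hrT : r ∈ T := by rcases hr with rfl | rfl | rfl <;> assumption
        refine mul_ne_zero ?_ (mem_supp.1 hrT)
        have hw : ω + 1 ≠ 0 := fun h => hω1 (by linear_combination h - h20)
        have hw2 : ω * ω + 1 ≠ 0 := fun h => hω.ne_zero (by linear_combination hω3 - h)
        rcases hr with rfl | hr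
        · simpa [t] using hw
        · rcases eq_or_ne r i with rfl | hri
          · simpa [t] using hw
          · simpa [t, hri, hr] using hw2
      · simp only [hr, iff_false, not_not]
        push Not at hr
        simp [t, hr.1, hr.2.1, hr.2.2]
        exact Or.inl (by linear_combination h20)
    have hle := hmin m hmH b hb (by
      rw [hsupp, Finset.card_insert_of_notMem (by simp [hij, hil]), Finset.card_pair hjl]; omega)
    rw [hsupp, Finset.card_insert_of_notMem (by simp [hij, hil]), Finset.card_pair hjl] at hle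
    omega
  refine ⟨hT3, ?_⟩
  set P := coordSub (F := F) T with hP
  let K : Subgroup (GL (Fin n) F) := H ⊓ blockGU q P
  have htorK : ∀ (t : Fin n → F) (ht : ∀ x, IsPhase q (t x)), (∀ r, r ∉ T → t r = 1) →
      torus (units t ht) ∈ K := fun t ht h1 =>
    ⟨hB.torus_mem hF ht fun r hr => h1 r fun h => hr (hTS h), mon_mem_block hF (fun x => ht x) fun r hr => ⟨rfl, h1 r hr⟩⟩
  have hRK : R ∈ K := ⟨hRH, (mem_block_coord hF (hB.gu hRH)).2 fun r hr => by
    rw [col, hR, ← hv, herm_single, show v r = 0 from by_contra fun h => hr (mem_supp.2 h),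
      zero_pow (by omega), mul_zero, zero_smul, add_zero]⟩
  intro k hk
  obtain ⟨i, hi⟩ : T.Nonempty := Finset.card_pos.1 (by omega)
  set w := col k i with hw
  have hwP : w ∈ P := block_mem_self hk (single_mem hi 1)
  have hwT : supp w ⊆ T := supp_subset hwP
  have hw1 : ((supp w).card : F) = 1 := by rw [← hsum, hw, herm_cols hF hk.1, if_pos rfl]
  obtain ⟨h', hh'K, hh'i⟩ : ∃ h' ∈ K, col h' i = w := by
    rcases (show (supp w).card = 1 ∨ supp w = T by
      have h3 := Finset.card_le_card hwT
      rcases Nat.even_or_odd (supp w).card with he | ho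
      · rw [heven _ he] at hw1; exact absurd hw1 zero_ne_one
      · obtain ⟨r, hr⟩ := ho
        rcases (show (supp w).card = 1 ∨ (supp w).card = 3 by omega) with h | h
        · exact Or.inl h
        · exact Or.inr (Finset.eq_of_subset_of_card_le hwT (by omega))) with h1 | h1
    · obtain ⟨j, hj⟩ := Finset.card_eq_one.1 h1
      have hjT : j ∈ T := hwT (by simp [hj])
      have hwj : w j ≠ 0 := mem_supp.1 (by simp [hj])
      let t : Fin n → F := Function.update 1 j (w j)
      have ht : ∀ x, IsPhase q (t x) := fun x => by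
        rcases eq_or_ne x j with rfl | h
        · simpa [t] using hph _ hwj
        · simpa [t, Function.update_of_ne h] using IsPhase.one
      have hπ : ∀ r, r ∉ T → Equiv.swap i j r = r := fun r hr =>
        Equiv.swap_apply_of_ne_of_ne (fun e => hr (e ▸ hi)) (fun e => hr (e ▸ hjT))
      refine ⟨torus (units t ht) * mon (Equiv.swap i j) 1, K.mul_mem
        (htorK t ht fun r hr => by simp [t, Function.update_of_ne (fun e : r = j => hr (e ▸ hjT))])
        ⟨hB.perm_mem hF fun r hr => hπ r fun h => hr (hTS h),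
          mon_mem_block hF (fun _ => by simp [IsPhase]) fun r hr => ⟨hπ r hr, rfl⟩⟩, ?_⟩
      rw [col, mul_mulVec, torus_val hF t ht _ i]
      funext r
      obtain ⟨r, rfl⟩ := (Equiv.swap i j).surjective r
      rw [mon_mulVec]
      rcases eq_or_ne r i with rfl | hr
      · simp [t]
      · have hne : Equiv.swap i j r ≠ j := fun e => hr ((Equiv.swap i j).injective
          (e.trans (Equiv.swap_apply_left i j).symm))
        have : w (Equiv.swap i j r) = 0 := by
          by_contra h0; exact hne (by simpa [hj] using mem_supp.2 h0)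
        simp [hr, this]
    · set u := col R i with hu
      have huent : ∀ r, u r = (Pi.single i (1 : F) : Fin n → F) r + (ω - 1) * v i ^ q * v r := fun r => by
        rw [hu, col, hR, ← hv, herm_single, Pi.add_apply, Pi.smul_apply, smul_eq_mul]
      have hu0 : ∀ r ∈ T, u r ≠ 0 := fun r hr => by
        have hvi := mem_supp.1 hi
        have hp : v i * v i ^ q = 1 := hph _ hvi
        rcases eq_or_ne r i with rfl | hri
        · rw [huent, Pi.single_eq_same]
          intro h0
          exact hω.ne_zero (by linear_combination h0 - (ω - 1) * hp)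
        · rw [huent, Pi.single_eq_of_ne hri, zero_add]
          exact mul_ne_zero (mul_ne_zero (sub_ne_zero.2 hω1) (pow_ne_zero _ hvi)) (mem_supp.1 hr)
      let t : Fin n → F := fun r => if r ∈ T then w r / u r else 1
      have ht : ∀ x, IsPhase q (t x) := fun x => by
        simp only [t]; split_ifs with h
        · exact hph _ (div_ne_zero (mem_supp.1 (h1 ▸ h)) (hu0 x h))
        · exact IsPhase.one
      refine ⟨torus (units t ht) * R, K.mul_mem (htorK t ht fun r hr => by simp [t, hr]) hRK, ?_⟩
      rw [col, mul_mulVec, ← col, ← hu, torus_val hF t ht u i]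
      funext r
      by_cases hr : r ∈ T
      · simp [t, hr, div_mul_cancel₀ _ (hu0 r hr)]
      · rw [hwP r hr, huent, Pi.single_eq_of_ne (fun e : r = i => hr (e ▸ hi)),
          show v r = 0 from by_contra fun h => hr (mem_supp.2 h)]
        simp
  set z := h'⁻¹ * k with hz
  have hzB : z ∈ blockGU q P := mul_mem (inv_mem hh'K.2) hk
  have hzi : col z i = Pi.single i 1 := by
    rw [col, hz, mul_mulVec, ← col, ← hw, ← hh'i, col, inv_mulVec_mulVec]
  have hzm : z ∈ monomialGroup (Fin n) F := mem_mono_of_perm fun a => by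
    by_cases hai : a = i
    · subst hai; exact ⟨a, fun y hy => by rw [← col_apply, hzi, Pi.single_eq_of_ne hy]⟩
    by_cases ha : a ∈ T
    · have hzia : col z a i = 0 := by
        have := herm_cols hF hzB.1 a i
        rw [hzi, herm_single_right hF, if_neg hai] at this
        exact this
      have hsub : supp (col z a) ⊆ T.erase i := fun r hr => Finset.mem_erase.2
        ⟨fun e => mem_supp.1 hr (e ▸ hzia), supp_subset (block_mem_self hzB (single_mem ha 1)) hr⟩
      have hle := Finset.card_le_card hsub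
      rw [Finset.card_erase_of_mem hi, hT3] at hle
      have h1 : ((supp (col z a)).card : F) = 1 := by rw [← hsum, herm_cols hF hzB.1, if_pos rfl]
      have h2 : (supp (col z a)).card = 1 := by
        rcases Nat.even_or_odd (supp (col z a)).card with he | ho
        · rw [heven _ he] at h1; exact absurd h1 zero_ne_one
        · obtain ⟨r, hr⟩ := ho; omega
      obtain ⟨j, hj⟩ := Finset.card_eq_one.1 h2
      refine ⟨j, fun y hy => ?_⟩
      rw [← col_apply]
      exact by_contra fun h => hy (Finset.mem_singleton.1 (hj ▸ mem_supp.2 h))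
    · exact ⟨a, fun y hy => by rw [← col_apply, (mem_block_coord hF hzB.1).1 hzB a ha, Pi.single_eq_of_ne hy]⟩
  have hzH : z ∈ H := hB.mono z (block_coord_mono hTS hzB) hzm
  have := H.mul_mem hh'K.1 hzH
  rwa [hz, mul_inv_cancel_left] at this

/-- A non-monomial overgroup contains the unitary group of two places, or of three places for `q = 2`. -/
theorem Block.exists_block : ∃ B ⊆ S, 2 ≤ B.card ∧ (B.card = 2 ∧ 3 ≤ q ∨ B.card = 3 ∧ q = 2) ∧
    blockGU q (coordSub (F := F) B) ≤ H := by
  classical
  have hex : ∃ s, ∃ g ∈ H, ∃ b ∈ S, (supp (col g b)).card = s ∧ 2 ≤ s := by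
    obtain ⟨g, hg, b, hb, h⟩ := hB.exists_col hF
    exact ⟨_, g, hg, b, hb, rfl, h⟩
  obtain ⟨g, hg, b, hb, hcard, h2⟩ := Nat.find_spec hex
  have hmin : ∀ h ∈ H, ∀ a ∈ S, 2 ≤ (supp (col h a)).card →
      (supp (col g b)).card ≤ (supp (col h a)).card := fun h hh a ha h2' =>
    hcard.le.trans (Nat.find_min' hex ⟨h, hh, a, ha, rfl, h2'⟩)
  rw [← hcard] at h2
  rcases (show q = 2 ∨ 3 ≤ q by have := CfsgLib.Forms.two_le_q hF; omega) with hq | hq
  · obtain ⟨h3, hle⟩ := hB.block_two hF hq hg hb h2 hmin
    exact ⟨_, hB.col_subset hg hb, h2, Or.inr ⟨h3, hq⟩, hle⟩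
  · have h3 : ¬ 3 ≤ (supp (col g b)).card := hB.min_two hF hq hg hb hmin
    exact ⟨_, hB.col_subset hg hb, h2, Or.inl ⟨by omega, hq⟩, hB.pair_block hF hg hb (by omega)⟩

end CfsgLib.Geo.UFrame
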