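import Mathlib.RingTheory.Nilpotent.Basic
import Mathlib.Algebra.CharP.Lemmas
import Mathlib.Tactic.LinearCombination
import Mathlib.SetTheory.Cardinal.Finite

/-!
The Cayley transform and square roots of principal units in a commutative ring with involution.
-/

set_option autoImplicit false
set_option linter.style.haveILetI false

namespace CfsgLib.Geo.InvolCayley

variable {R : Type*} [CommRing R]

theorem isUnit_unit_add {a c : R} (hc : IsUnit c) (ha : IsNilpotent a) : IsUnit (c + a) :=
  ha.isUnit_add_left_of_commute hc (Commute.all _ _)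

/-- The norm-one group is twice the skew part when every skew element is nilpotent. -/
theorem card_norm_one (τ : R →+* R) (h2 : IsUnit (2 : R)) [Nontrivial R]
    (hskew : ∀ a, τ a = -a → IsNilpotent a)
    (hres : ∀ g, τ g * g = 1 → IsNilpotent (g - 1) ∨ IsNilpotent (g + 1)) :
    Nat.card {g : R // τ g * g = 1} = 2 * Nat.card {a : R // τ a = -a} := by
  classical
  have hp : ∀ a, τ a = -a → IsUnit (1 + a) := fun a ha => isUnit_unit_add isUnit_one (hskew a ha)
  have hm : ∀ a, τ a = -a → IsUnit (1 - a) := fun a ha => by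
    rw [sub_eq_add_neg]; exact isUnit_unit_add isUnit_one (hskew a ha).neg
  let s : Bool → R := fun b => if b then 1 else -1
  have hs : ∀ b, τ (s b) = s b ∧ s b * s b = 1 := fun b => by cases b <;> simp [s]
  let Φ : Bool × {a : R // τ a = -a} → R := fun x =>
    s x.1 * ((1 - x.2.1) * Ring.inverse (1 + x.2.1))
  have hmem : ∀ x, τ (Φ x) * Φ x = 1 := by
    rintro ⟨b, a, ha⟩
    have e1 : Ring.inverse (1 + a) * (1 + a) = 1 := Ring.inverse_mul_cancel _ (hp a ha)
    have e2 : τ (Ring.inverse (1 + a)) * (1 - a) = 1 := by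
      have := congrArg τ e1
      rwa [map_mul, map_one, map_add, map_one, ha, ← sub_eq_add_neg] at this
    simp only [Φ, map_mul, map_sub, map_one, ha, sub_neg_eq_add, (hs b).1]
    linear_combination ((τ (Ring.inverse (1 + a)) * (1 - a)) * (Ring.inverse (1 + a) * (1 + a))) *
      (hs b).2 + (τ (Ring.inverse (1 + a)) * (1 - a)) * e1 + e2
  have hbit : ∀ (b : Bool) (a : {a : R // τ a = -a}), IsNilpotent (Φ (b, a) - s b) := by
    rintro b ⟨a, ha⟩
    have e1 : Ring.inverse (1 + a) * (1 + a) = 1 := Ring.inverse_mul_cancel _ (hp a ha)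
    have : Φ (b, ⟨a, ha⟩) - s b = a * (-2 * s b * Ring.inverse (1 + a)) := by
      simp only [Φ]; linear_combination (s b) * e1
    rw [this]
    exact Commute.isNilpotent_mul_right (Commute.all _ _) (hskew a ha)
  let f : Bool × {a : R // τ a = -a} → {g : R // τ g * g = 1} := fun x => ⟨Φ x, hmem x⟩
  have hf : Function.Bijective f := by
    constructor
    · rintro ⟨b, a, ha⟩ ⟨b', a', ha'⟩ h
      have h' : Φ (b, ⟨a, ha⟩) = Φ (b', ⟨a', ha'⟩) := congrArg Subtype.val h
      have hbb : b = b' := by
        by_contra hne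
        have n1 := hbit b ⟨a, ha⟩
        have n2 := hbit b' ⟨a', ha'⟩
        rw [h'] at n1
        have n3 := Commute.isNilpotent_sub (Commute.all _ _) n2 n1
        rw [sub_sub_sub_cancel_left] at n3
        have : IsUnit (s b - s b') := by
          cases b <;> cases b' <;> simp [s] at hne ⊢
          · convert h2.neg using 1; ring
          · convert h2 using 1; ring
        exact n3.not_isUnit this
      subst hbb
      have e1 : Ring.inverse (1 + a) * (1 + a) = 1 := Ring.inverse_mul_cancel _ (hp a ha)
      have e1' : Ring.inverse (1 + a') * (1 + a') = 1 := Ring.inverse_mul_cancel _ (hp a' ha')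
      simp only [Φ] at h'
      have : (2 : R) * (a' - a) = 0 := by
        linear_combination (s b * (1 + a) * (1 + a')) * h' - (1 - a) * (1 + a') * e1 +
          (1 - a') * (1 + a) * e1' + ((1 - a') * Ring.inverse (1 + a') * (1 + a) * (1 + a') -
            (1 - a) * Ring.inverse (1 + a) * (1 + a) * (1 + a')) * (hs b).2
      have : a = a' := (sub_eq_zero.mp (h2.mul_right_eq_zero.mp this)).symm
      subst this
      rfl
    · rintro ⟨g, hg⟩
      obtain ⟨b, hb⟩ : ∃ b, IsNilpotent (g - s b) := by
        rcases hres g hg with h | h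
        · exact ⟨true, by simpa [s] using h⟩
        · exact ⟨false, by simpa [s] using h⟩
      set g' := s b * g with hg'
      have hgg : τ g' * g' = 1 := by
        rw [hg', map_mul, (hs b).1]; linear_combination τ g * g * (hs b).2 + hg
      have hu : IsUnit (1 + g') := by
        rw [show 1 + g' = 2 + s b * (g - s b) by rw [hg']; linear_combination (hs b).2]
        exact isUnit_unit_add h2 (Commute.isNilpotent_mul_left (Commute.all _ _) hb)
      set a := (1 - g') * Ring.inverse (1 + g') with hadef
      have e1 : Ring.inverse (1 + g') * (1 + g') = 1 := Ring.inverse_mul_cancel _ hu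
      have e2 : τ (Ring.inverse (1 + g')) * (1 + τ g') = 1 := by
        have := congrArg τ e1; rwa [map_mul, map_one, map_add, map_one] at this
      have ha : τ a = -a := by
        rw [hadef, map_mul, map_sub, map_one]
        linear_combination (-2 * Ring.inverse (1 + g') * τ (Ring.inverse (1 + g'))) * hgg -
          (1 - τ g') * τ (Ring.inverse (1 + g')) * e1 - (1 - g') * Ring.inverse (1 + g') * e2
      refine ⟨(b, ⟨a, ha⟩), Subtype.ext ?_⟩
      have e3 : Ring.inverse (1 + a) * (1 + a) = 1 := Ring.inverse_mul_cancel _ (hp a ha)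
      have e4 : 1 - a = g' * (1 + a) := by rw [hadef]; linear_combination (1 - g') * (-e1)
      show s b * ((1 - a) * Ring.inverse (1 + a)) = g
      rw [e4]
      linear_combination (s b * g') * e3 + g * (hs b).2
  rw [← Nat.card_congr (Equiv.ofBijective f hf), Nat.card_prod, Nat.card_eq_fintype_card (α := Bool),
    Fintype.card_bool]

/-- Fixed principal units have fixed square roots in odd characteristic. -/
theorem exists_sqrt {p : ℕ} [Fact p.Prime] [CharP R p] (hp : p ≠ 2) {τ : R →+* R} {h : R}
    (hh : IsNilpotent (h - 1)) (hfix : τ h = h) : ∃ r : R, τ r = r ∧ r * r = h := by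
  obtain ⟨n, hn⟩ := hh
  have hn' : (h - 1) ^ p ^ n = 0 :=
    pow_eq_zero_of_le (Nat.lt_pow_self (Fact.out : p.Prime).one_lt).le hn
  rw [sub_pow_char_pow, one_pow, sub_eq_zero] at hn'
  refine ⟨h ^ ((p ^ n + 1) / 2), by rw [map_pow, hfix], ?_⟩
  obtain ⟨k, hk⟩ := ((Fact.out : p.Prime).odd_of_ne_two hp).pow (n := n)
  rw [← pow_add, show (p ^ n + 1) / 2 + (p ^ n + 1) / 2 = p ^ n + 1 by omega, pow_succ, hn', one_mul]

end CfsgLib.Geo.InvolCayley
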