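import Cfsg.Prelude.Def_JordanBlocks

/-!
# Centralisers of unipotent matrices of given Jordan type in the general linear group
-/

set_option autoImplicit false
set_option linter.style.haveILetI false
set_option linter.unusedSectionVars false

namespace CfsgLib.Geo.JordanCentralizer

open Matrix Finset

variable {F : Type*} [Field F] {t : ℕ} (d : Fin t → ℕ)

/-- The index set of the blocks. -/
abbrev Ix := (k : Fin t) × Fin (d k)

/-- The parameters of a matrix commuting with the Jordan matrix. -/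
abbrev Param := (p : Fin t × Fin t) × Fin (min (d p.1) (d p.2))

theorem param_lt {k l : Fin t} {i : Fin (d k)} {j : Fin (d l)} (h : (j : ℕ) + (d k - d l) ≤ i) :
    (i : ℕ) - j - (d k - d l) < min (d k) (d l) := by
  have := i.isLt
  omega

/-- The commuting matrix with given parameters. -/
def ofParam (v : Param d → F) : Matrix (Ix d) (Ix d) F :=
  Matrix.of fun p q => if h : (q.2 : ℕ) + (d p.1 - d q.1) ≤ p.2 then
    v ⟨(p.1, q.1), ⟨(p.2 : ℕ) - q.2 - (d p.1 - d q.1), param_lt d h⟩⟩ else 0

/-- The nilpotent part of the Jordan matrix. -/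
def shift : Matrix (Ix d) (Ix d) F :=
  Matrix.of fun p q => if p.1 = q.1 ∧ (p.2 : ℕ) = (q.2 : ℕ) + 1 then 1 else 0

theorem jordan_eq : Cfsg.jordanTypeMatrix d F = 1 + shift (F := F) d := by
  ext ⟨k, i⟩ ⟨l, j⟩
  unfold Cfsg.jordanTypeMatrix shift
  by_cases hkl : k = l
  · subst hkl
    rw [blockDiagonal'_apply_eq]
    simp only [Cfsg.jordanBlock, of_apply, Matrix.add_apply, one_apply, Sigma.mk.injEq, heq_eq_eq, true_and]
    by_cases hij : i = j
    · subst hij
      simp
    · rw [if_neg (fun h => hij (Fin.ext h)), if_neg hij, zero_add]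
  · rw [blockDiagonal'_apply_ne _ _ _ hkl]
    simp [Matrix.add_apply, one_apply, hkl]

theorem commute_iff_shift (M : Matrix (Ix d) (Ix d) F) :
    M * Cfsg.jordanTypeMatrix d F = Cfsg.jordanTypeMatrix d F * M ↔ M * shift (F := F) d = shift (F := F) d * M := by
  rw [jordan_eq, mul_add, add_mul, mul_one, one_mul, add_right_inj]

theorem mul_shift_apply (M : Matrix (Ix d) (Ix d) F) (p : Ix d) (l : Fin t) (j : Fin (d l)) :
    (M * shift (F := F) d) p ⟨l, j⟩ = if h : (j : ℕ) + 1 < d l then M p ⟨l, ⟨j + 1, h⟩⟩ else 0 := by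
  rw [Matrix.mul_apply]
  split_ifs with h
  · rw [Finset.sum_eq_single (⟨l, ⟨j + 1, h⟩⟩ : Ix d)]
    · simp [shift]
    · rintro ⟨k, i⟩ - hne
      rw [shift, of_apply, if_neg, mul_zero]
      rintro ⟨hk, hi⟩
      simp only at hk hi
      subst hk
      exact hne (by rw [Fin.ext (show (i : ℕ) = (⟨j + 1, h⟩ : Fin (d k)) from hi)])
    · simp
  · refine Finset.sum_eq_zero ?_
    rintro ⟨k, i⟩ -
    rw [shift, of_apply, if_neg, mul_zero]
    rintro ⟨hk, hi⟩
    simp only at hk hi
    subst hk
    exact h (hi ▸ i.isLt)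

theorem shift_mul_apply (M : Matrix (Ix d) (Ix d) F) (k : Fin t) (i : Fin (d k)) (q : Ix d) :
    (shift (F := F) d * M) ⟨k, i⟩ q = if 0 < (i : ℕ) then M ⟨k, ⟨i - 1, by omega⟩⟩ q else 0 := by
  rw [Matrix.mul_apply]
  split_ifs with h
  · rw [Finset.sum_eq_single (⟨k, ⟨i - 1, by omega⟩⟩ : Ix d)]
    · rw [shift, of_apply, if_pos ⟨rfl, by simp only; omega⟩, one_mul]
    · rintro ⟨l, j⟩ - hne
      rw [shift, of_apply, if_neg, zero_mul]
      rintro ⟨hk, hi⟩
      simp only at hk hi
      subst hk
      exact hne (by rw [Fin.ext (show (j : ℕ) = (⟨i - 1, by omega⟩ : Fin (d k)) by simp only; omega)])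
    · simp
  · refine Finset.sum_eq_zero ?_
    rintro ⟨l, j⟩ -
    rw [shift, of_apply, if_neg, zero_mul]
    rintro ⟨-, hi⟩
    simp only at hi
    omega

theorem shift_mulVec_apply (x : Ix d → F) (k : Fin t) (i : Fin (d k)) :
    (shift (F := F) d *ᵥ x) ⟨k, i⟩ = if 0 < (i : ℕ) then x ⟨k, ⟨i - 1, by omega⟩⟩ else 0 := by
  simp only [Matrix.mulVec, dotProduct]
  split_ifs with h
  · rw [Finset.sum_eq_single (⟨k, ⟨i - 1, by omega⟩⟩ : Ix d)]
    · rw [shift, of_apply, if_pos ⟨rfl, by simp only; omega⟩, one_mul]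
    · rintro ⟨l, j⟩ - hne
      rw [shift, of_apply, if_neg, zero_mul]
      rintro ⟨hk, hi⟩
      simp only at hk hi
      subst hk
      exact hne (by rw [Fin.ext (show (j : ℕ) = (⟨i - 1, by omega⟩ : Fin (d k)) by simp only; omega)])
    · simp
  · refine Finset.sum_eq_zero ?_
    rintro ⟨l, j⟩ -
    rw [shift, of_apply, if_neg, zero_mul]
    rintro ⟨-, hi⟩
    simp only at hi
    omega

theorem ofParam_commute (v : Param d → F) : ofParam d v * shift (F := F) d = shift (F := F) d * ofParam d v := by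
  ext ⟨k, i⟩ ⟨l, j⟩
  rw [mul_shift_apply, shift_mul_apply]
  have := i.isLt
  by_cases h1 : (j : ℕ) + 1 + (d k - d l) ≤ i
  · rw [dif_pos (show (j : ℕ) + 1 < d l by omega), if_pos (show 0 < (i : ℕ) by omega)]
    rw [ofParam, of_apply, of_apply, dif_pos (by exact h1), dif_pos (by simp only; omega)]
    congr 2
    ext
    simp only
    omega
  · split_ifs with h2 h3 h3
    · rw [ofParam, of_apply, of_apply, dif_neg (by exact h1), dif_neg (by simp only; omega)]
    · rw [ofParam, of_apply, dif_neg (by exact h1)]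
    · rw [ofParam, of_apply, dif_neg (by simp only; omega)]
    · rfl

variable {d} (hd : ∀ k, 1 ≤ d k)

theorem entry_eq {M : Matrix (Ix d) (Ix d) F} (hM : M * shift (F := F) d = shift (F := F) d * M) (k l : Fin t) :
    ∀ (j : ℕ) (hj : j < d l) (i : Fin (d k)), M ⟨k, i⟩ ⟨l, ⟨j, hj⟩⟩ =
      if j ≤ i then M ⟨k, ⟨i - j, by omega⟩⟩ ⟨l, ⟨0, by omega⟩⟩ else 0
  | 0, hj, i => by simp
  | j + 1, hj, i => by
    have h := congrFun (congrFun hM ⟨k, i⟩) ⟨l, ⟨j, by omega⟩⟩
    rw [mul_shift_apply, shift_mul_apply, dif_pos (by simpa using hj)] at h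
    simp only at h
    rw [h]
    by_cases h0 : 0 < (i : ℕ)
    · rw [if_pos h0, entry_eq hM k l j (by omega) ⟨i - 1, by omega⟩]
      simp only
      by_cases h1 : j + 1 ≤ (i : ℕ)
      · rw [if_pos (show j ≤ (i : ℕ) - 1 by omega), if_pos h1]
        congr 3
        omega
      · rw [if_neg (show ¬ j ≤ (i : ℕ) - 1 by omega), if_neg h1]
    · rw [if_neg h0, if_neg (by omega)]

theorem column_zero {M : Matrix (Ix d) (Ix d) F} (hM : M * shift (F := F) d = shift (F := F) d * M) (k l : Fin t)
    (s : Fin (d k)) (h0 : 0 < d l) (hs : (s : ℕ) < d k - d l) : M ⟨k, s⟩ ⟨l, ⟨0, h0⟩⟩ = 0 := by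
  have hlast := congrFun (congrFun hM ⟨k, ⟨s + d l, by omega⟩⟩) ⟨l, ⟨d l - 1, by omega⟩⟩
  rw [mul_shift_apply, shift_mul_apply, dif_neg (by simp only; omega), if_pos (by simp only; omega),
    entry_eq hM k l _ _ _, if_pos (by simp only; omega)] at hlast
  rw [hlast]
  congr 2
  ext
  simp only
  omega

include hd in
/-- Commuting matrices and parameters. -/
def paramEquiv : {M : Matrix (Ix d) (Ix d) F // M * shift (F := F) d = shift (F := F) d * M} ≃ (Param d → F) where
  toFun M := fun x => M.1 ⟨x.1.1, ⟨(x.2 : ℕ) + (d x.1.1 - d x.1.2), by have := x.2.isLt; omega⟩⟩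
    ⟨x.1.2, ⟨0, hd _⟩⟩
  invFun v := ⟨ofParam d v, ofParam_commute d v⟩
  left_inv := by
    rintro ⟨M, hM⟩
    refine Subtype.ext ?_
    ext ⟨k, i⟩ ⟨l, ⟨j, hj⟩⟩
    simp only [ofParam, of_apply]
    rw [entry_eq hM k l j hj i]
    split_ifs with h1 h2 h2
    · congr 3
      omega
    · omega
    · exact (column_zero hM k l _ _ (by simp only; omega)).symm
    · rfl
  right_inv := by
    intro v
    funext x
    obtain ⟨⟨k, l⟩, r⟩ := x
    simp only [ofParam, of_apply]
    rw [dif_pos (by omega)]
    congr 2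
    ext
    simp only
    omega

/-- The matrix of a commuting matrix on the socle. -/
def socle (v : Param d → F) : Matrix (Fin t) (Fin t) F :=
  Matrix.of fun k l => if d l ≤ d k then
    (if h : 0 < min (d k) (d l) then v ⟨(k, l), ⟨0, h⟩⟩ else 0) else 0

include hd in
theorem mulVec_socle (v : Param d → F) {x : Ix d → F} (hx : ∀ p : Ix d, (p.2 : ℕ) + 1 < d p.1 → x p = 0)
    (k : Fin t) (i : Fin (d k)) :
    (ofParam d v *ᵥ x) ⟨k, i⟩ = if (i : ℕ) + 1 = d k then
      (socle v *ᵥ fun l => x ⟨l, ⟨d l - 1, by have := hd l; omega⟩⟩) k else 0 := by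
  have hsum : (ofParam d v *ᵥ x) ⟨k, i⟩ =
      ∑ l, ofParam d v ⟨k, i⟩ ⟨l, ⟨d l - 1, by have := hd l; omega⟩⟩ *
        x ⟨l, ⟨d l - 1, by have := hd l; omega⟩⟩ := by
    simp only [Matrix.mulVec, dotProduct]
    rw [Fintype.sum_sigma]
    refine Finset.sum_congr rfl fun l _ => Fintype.sum_eq_single _ fun j hj => ?_
    rw [hx ⟨l, j⟩ ?_, mul_zero]
    have : (j : ℕ) ≠ d l - 1 := fun h => hj (Fin.ext h)
    have := j.isLt
    show (j : ℕ) + 1 < d l
    omega
  rw [hsum]
  simp only [Matrix.mulVec, dotProduct]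
  have := hd k
  have := i.isLt
  split_ifs with hi
  · refine Finset.sum_congr rfl fun l _ => ?_
    congr 1
    simp only [ofParam, socle, of_apply]
    have := hd l
    by_cases hle : d l ≤ d k
    · rw [dif_pos (by omega), if_pos hle, dif_pos (by omega)]
      congr 2
      ext
      simp only
      omega
    · rw [dif_neg (by omega), if_neg hle]
  · refine Finset.sum_eq_zero fun l _ => ?_
    have := hd l
    simp only [ofParam, of_apply]
    rw [dif_neg (by omega), zero_mul]

include hd in
theorem det_ne_zero_iff (v : Param d → F) : (ofParam d v).det ≠ 0 ↔ (socle v).det ≠ 0 := by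
  constructor
  · intro h hS
    obtain ⟨c, hc0, hc⟩ := Matrix.exists_mulVec_eq_zero_iff.2 hS
    refine h (Matrix.exists_mulVec_eq_zero_iff.1
      ⟨fun p => if (p.2 : ℕ) + 1 = d p.1 then c p.1 else 0, ?_, ?_⟩)
    · intro hz
      refine hc0 (funext fun l => ?_)
      have h' := congrFun hz ⟨l, ⟨d l - 1, by have := hd l; omega⟩⟩
      simp only [Pi.zero_apply] at h'
      rw [if_pos (by have := hd l; omega)] at h'
      exact h'
    · funext ⟨k, i⟩
      rw [mulVec_socle hd v (fun p hp => if_neg (by omega))]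
      have he : (fun l => if d l - 1 + 1 = d l then c l else 0) = c := funext fun l => by
        rw [if_pos (by have := hd l; omega)]
      simp only [he, hc, Pi.zero_apply, ite_self]
  · intro hS h
    obtain ⟨x, hx0, hx⟩ := Matrix.exists_mulVec_eq_zero_iff.2 h
    have key : ∀ r : ℕ, ∀ x : Ix d → F, ofParam d v *ᵥ x = 0 →
        (∀ p : Ix d, (p.2 : ℕ) + r < d p.1 → x p = 0) → x = 0 := by
      intro r
      induction r with
      | zero => exact fun x _ h => funext fun p => h p (by simp [p.2.isLt])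
      | succ r ih =>
        intro x hx hsupp
        have hN : shift (F := F) d *ᵥ x = 0 := by
          refine ih _ ?_ ?_
          · rw [Matrix.mulVec_mulVec, ofParam_commute, ← Matrix.mulVec_mulVec, hx, Matrix.mulVec_zero]
          · rintro ⟨k, i⟩ hp
            rw [shift_mulVec_apply]
            split_ifs with hi
            · exact hsupp _ (by simp only at hp ⊢; omega)
            · rfl
        have hlast : ∀ p : Ix d, (p.2 : ℕ) + 1 < d p.1 → x p = 0 := by
          rintro ⟨k, i⟩ hp
          have h' := congrFun hN ⟨k, ⟨i + 1, hp⟩⟩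
          rw [shift_mulVec_apply, if_pos (by simp only; omega), Pi.zero_apply] at h'
          rw [← h']
          congr 3
        have hc : socle v *ᵥ (fun l => x ⟨l, ⟨d l - 1, by have := hd l; omega⟩⟩) = 0 := by
          funext k
          have h' := congrFun hx ⟨k, ⟨d k - 1, by have := hd k; omega⟩⟩
          rw [mulVec_socle hd v hlast, if_pos (by have := hd k; simp only; omega)] at h'
          exact h'
        have hc0 : (fun l => x ⟨l, ⟨d l - 1, by have := hd l; omega⟩⟩) = (0 : Fin t → F) := by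
          by_contra hne
          exact hS (Matrix.exists_mulVec_eq_zero_iff.1 ⟨_, hne, hc⟩)
        funext ⟨k, i⟩
        by_cases hp : (i : ℕ) + 1 < d k
        · exact hlast _ hp
        · have hi : i = ⟨d k - 1, by have := hd k; omega⟩ := Fin.ext (by
            have := i.isLt
            simp only
            omega)
          rw [hi]
          exact congrFun hc0 k
    refine hx0 (key (univ.sup d) x hx fun p hp => ?_)
    have := Finset.le_sup (f := d) (Finset.mem_univ p.1)
    omega

/-- The diagonal parameters, block size by block size. -/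
def diagEmb (a : Fin (univ.sup d + 1)) (k l : {k : Fin t // d k = (a : ℕ)}) (h : 0 < (a : ℕ)) : Param d :=
  ⟨(k.1, l.1), ⟨0, by simp [k.2, l.2, h]⟩⟩

include hd in
theorem socle_det_ne_zero_iff (v : Param d → F) :
    (socle v).det ≠ 0 ↔ ∀ a : Fin (univ.sup d + 1),
      (Matrix.of fun k l : {k : Fin t // d k = (a : ℕ)} => socle v k.1 l.1).det ≠ 0 := by
  classical
  have hT : (socle v).transpose.BlockTriangular d := fun i j hij => by
    simp only [transpose_apply, socle, of_apply]
    rw [if_neg (by omega)]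
  rw [← Matrix.det_transpose, hT.det, Finset.prod_ne_zero_iff]
  have heq : ∀ a : ℕ, ((socle v).transpose.toSquareBlock d a) =
      (Matrix.of fun k l : {k : Fin t // d k = a} => socle v k.1 l.1).transpose := fun a => rfl
  constructor
  · intro h a
    by_cases hne : ∃ k, d k = (a : ℕ)
    · obtain ⟨k, hk⟩ := hne
      have h' := h a (Finset.mem_image.2 ⟨k, Finset.mem_univ _, hk⟩)
      rwa [heq, Matrix.det_transpose] at h'
    · haveI : IsEmpty {k : Fin t // d k = (a : ℕ)} := ⟨fun k => hne ⟨k.1, k.2⟩⟩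
      rw [Matrix.det_isEmpty]
      exact one_ne_zero
  · intro h a ha
    obtain ⟨k, -, rfl⟩ := Finset.mem_image.1 ha
    rw [heq, Matrix.det_transpose]
    exact h ⟨d k, Nat.lt_succ_of_le (Finset.le_sup (Finset.mem_univ k))⟩

/-- A diagonal parameter. -/
def IsDiag (x : Param d) : Prop := d x.1.1 = d x.1.2 ∧ (x.2 : ℕ) = 0

instance : DecidablePred (IsDiag (d := d)) := fun x => inferInstanceAs (Decidable (_ ∧ _))

include hd in
/-- The diagonal parameters as entries of square matrices. -/
def diagEquiv : {x : Param d // IsDiag x} ≃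
    (a : Fin (univ.sup d + 1)) × ({k : Fin t // d k = (a : ℕ)} × {k : Fin t // d k = (a : ℕ)}) where
  toFun x := ⟨⟨d x.1.1.1, Nat.lt_succ_of_le (Finset.le_sup (Finset.mem_univ x.1.1.1))⟩,
    (⟨x.1.1.1, rfl⟩, ⟨x.1.1.2, x.2.1.symm⟩)⟩
  invFun y := ⟨⟨(y.2.1.1, y.2.2.1), ⟨0, lt_min (hd _) (hd _)⟩⟩, ⟨y.2.1.2.trans y.2.2.2.symm, rfl⟩⟩
  left_inv := by
    rintro ⟨⟨⟨k, l⟩, r⟩, h1, h2⟩
    simp only at h2
    refine Subtype.ext (Sigma.ext rfl (heq_of_eq (Fin.ext ?_)))
    exact h2.symm
  right_inv := by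
    rintro ⟨⟨a, ha⟩, ⟨k, hk⟩, ⟨l, hl⟩⟩
    simp only at hk hl
    subst hk
    rfl

/-- The number of blocks of a given size. -/
abbrev mult (a : ℕ) : ℕ := (Finset.univ.filter (fun k : Fin t => d k = a)).card

theorem card_block (a : ℕ) : Nat.card {k : Fin t // d k = a} = mult (d := d) a := by
  rw [Nat.card_eq_fintype_card, Fintype.card_subtype]

theorem card_param (D : ℕ) (hD : ∀ k, d k < D) :
    Nat.card (Param d) =
      ∑ i ∈ range D, ∑ j ∈ range D, mult (d := d) i * mult (d := d) j * min i j := by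
  rw [Nat.card_eq_fintype_card, Fintype.card_sigma, Fintype.sum_prod_type]
  simp only [Fintype.card_fin]
  rw [← Finset.sum_fiberwise_of_maps_to (g := d) (t := range D) fun k _ => mem_range.2 (hD k)]
  refine Finset.sum_congr rfl fun i _ => ?_
  rw [Finset.sum_congr rfl (g := fun _ => ∑ j ∈ range D, mult (d := d) j * min i j) fun k hk => by
    rw [← Finset.sum_fiberwise_of_maps_to (g := d) (t := range D) fun l _ => mem_range.2 (hD l)]
    refine Finset.sum_congr rfl fun j _ => ?_
    rw [Finset.sum_congr rfl (g := fun _ => min i j) fun l hl => by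
      rw [(mem_filter.1 hk).2, (mem_filter.1 hl).2]]
    rw [sum_const, smul_eq_mul]]
  rw [sum_const, smul_eq_mul, Finset.mul_sum]
  exact Finset.sum_congr rfl fun j _ => by ring

theorem sum_min (D : ℕ) (m : ℕ → ℕ) (h0 : m 0 = 0) :
    ∑ i ∈ range D, ∑ j ∈ range D, m i * m j * min i j =
      2 * (∑ i ∈ range D, ∑ j ∈ range D, if i < j then i * m i * m j else 0) +
        ∑ i ∈ range D, (i - 1) * m i ^ 2 + ∑ i ∈ range D, m i ^ 2 := by
  have h1 : ∀ i j : ℕ, m i * m j * min i j = (if i < j then i * m i * m j else 0) +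
      (if j < i then j * m j * m i else 0) + (if i = j then (i - 1) * m i ^ 2 + m i ^ 2 else 0) := by
    intro i j
    rcases lt_trichotomy i j with h | rfl | h
    · rw [if_pos h, if_neg (by omega), if_neg (by omega), min_eq_left h.le]; ring
    · rw [if_neg (lt_irrefl i), if_pos rfl, min_self, zero_add]
      rcases Nat.eq_zero_or_pos i with rfl | hi
      · simp [h0]
      · obtain ⟨i, rfl⟩ : ∃ e, i = e + 1 := ⟨i - 1, by omega⟩
        simp only [Nat.add_sub_cancel]; ring
    · rw [if_neg (by omega), if_pos h, if_neg (by omega), min_eq_right h.le]; ring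
  simp only [h1, Finset.sum_add_distrib, Finset.sum_ite_eq]
  rw [Finset.sum_comm (f := fun i j => if j < i then j * m j * m i else 0),
    Finset.sum_congr rfl (f := fun i => if i ∈ range D then (i - 1) * m i ^ 2 + m i ^ 2 else 0)
      (g := fun i => (i - 1) * m i ^ 2 + m i ^ 2) fun i hi => if_pos hi,
    Finset.sum_add_distrib]
  ring

include hd in
/-- The order of the centraliser. -/
theorem card_centralizer [Fintype F] {q : ℕ} (hF : Fintype.card F = q) :
    Nat.card {g : GL (Ix d) F // (g : Matrix (Ix d) (Ix d) F) * Cfsg.jordanTypeMatrix d F =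
        Cfsg.jordanTypeMatrix d F * (g : Matrix (Ix d) (Ix d) F)} =
      q ^ (2 * (∑ i ∈ range (univ.sup d + 1), ∑ j ∈ range (univ.sup d + 1),
          if i < j then i * mult (d := d) i * mult (d := d) j else 0) +
        ∑ i ∈ range (univ.sup d + 1), (i - 1) * mult (d := d) i ^ 2) *
      ∏ i ∈ range (univ.sup d + 1), ∏ j : Fin (mult (d := d) i), (q ^ mult (d := d) i - q ^ (j : ℕ)) := by
  classical
  set D := univ.sup d + 1
  have hD : ∀ k, d k < D := fun k => Nat.lt_succ_of_le (Finset.le_sup (Finset.mem_univ k))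
  let K := fun a : Fin D => {k : Fin t // d k = (a : ℕ)}
  -- commuting units as parameters with nonsingular diagonal blocks
  let e1 : {g : GL (Ix d) F // (g : Matrix (Ix d) (Ix d) F) * Cfsg.jordanTypeMatrix d F =
      Cfsg.jordanTypeMatrix d F * (g : Matrix (Ix d) (Ix d) F)} ≃
      {M : {M : Matrix (Ix d) (Ix d) F // M * shift (F := F) d = shift (F := F) d * M} // M.1.det ≠ 0} :=
    { toFun := fun g => ⟨⟨g.1, (commute_iff_shift (F := F) d _).1 g.2⟩,
        ((Matrix.isUnit_iff_isUnit_det _).1 g.1.isUnit).ne_zero⟩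
      invFun := fun M => ⟨Matrix.GeneralLinearGroup.mkOfDetNeZero M.1.1 M.2,
        (commute_iff_shift (F := F) d _).2 M.1.2⟩
      left_inv := fun g => Subtype.ext (Units.ext rfl)
      right_inv := fun M => rfl }
  let e2 : {M : {M : Matrix (Ix d) (Ix d) F // M * shift (F := F) d = shift (F := F) d * M} // M.1.det ≠ 0} ≃
      {v : Param d → F // ∀ a : Fin D, (Matrix.of fun k l : K a => socle v k.1 l.1).det ≠ 0} :=
    (paramEquiv hd).subtypeEquiv fun M => by
      rw [← socle_det_ne_zero_iff hd, ← det_ne_zero_iff hd]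
      conv_lhs => rw [← (paramEquiv hd).left_inv M]
      rfl
  let e3 : (Param d → F) ≃ ((a : Fin D) → Matrix (K a) (K a) F) × ({x : Param d // ¬ IsDiag x} → F) :=
    ((Equiv.sumCompl (IsDiag (d := d))).symm.arrowCongr (Equiv.refl F)).trans
      ((Equiv.sumArrowEquivProdArrow _ _ _).trans
        ((((diagEquiv hd).arrowCongr (Equiv.refl F)).trans
          ((Equiv.piCurry fun _ _ => F).trans
            (Equiv.piCongrRight fun a => (Equiv.curry (K a) (K a) F).trans Matrix.of))).prodCongr
          (Equiv.refl _)))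
  have he3 : ∀ (v : Param d → F) (a : Fin D), (e3 v).1 a = Matrix.of fun k l : K a => socle v k.1 l.1 := by
    intro v a
    ext k l
    simp only [socle, of_apply]
    rw [if_pos (le_of_eq (l.2.trans k.2.symm)), dif_pos (lt_min (hd _) (hd _))]
    rfl
  let e4 : {v : Param d → F // ∀ a : Fin D, (Matrix.of fun k l : K a => socle v k.1 l.1).det ≠ 0} ≃
      ((a : Fin D) → {A : Matrix (K a) (K a) F // A.det ≠ 0}) × ({x : Param d // ¬ IsDiag x} → F) :=
    (e3.subtypeEquiv (q := fun p => (∀ a, (p.1 a).det ≠ 0)) fun v => by simp only [he3]).trans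
      { toFun := fun p => (fun a => ⟨p.1.1 a, p.2 a⟩, p.1.2)
        invFun := fun p => ⟨(fun a => (p.1 a).1, p.2), fun a => (p.1 a).2⟩
        left_inv := fun p => rfl
        right_inv := fun p => rfl }
  rw [Nat.card_congr ((e1.trans e2).trans e4), Nat.card_prod, Nat.card_pi, mul_comm]
  congr 1
  · rw [Nat.card_fun, Nat.card_eq_fintype_card (α := F), hF]
    congr 1
    have h := Nat.card_congr (Equiv.sumCompl (IsDiag (d := d)))
    rw [Nat.card_sum, Nat.card_congr (diagEquiv hd), Nat.card_sigma, card_param D hD,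
      sum_min D (fun i => mult (d := d) i) (Finset.card_eq_zero.2 (Finset.filter_eq_empty_iff.2
        fun k _ h => by have := hd k; omega))] at h
    have hsq : ∑ a : Fin D, Nat.card (K a × K a) = ∑ i ∈ range D, mult (d := d) i ^ 2 := by
      rw [Finset.sum_range]
      refine Finset.sum_congr rfl fun a _ => ?_
      rw [Nat.card_prod, card_block, sq]
    rw [hsq] at h
    omega
  · rw [Finset.prod_range]
    refine Finset.prod_congr rfl fun a _ => ?_
    let eK : K a ≃ Fin (mult (d := d) (a : ℕ)) := Fintype.equivFinOfCardEq (by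
      rw [← Nat.card_eq_fintype_card]
      exact card_block (a : ℕ))
    let e5 : {A : Matrix (K a) (K a) F // A.det ≠ 0} ≃ GL (Fin (mult (d := d) (a : ℕ))) F :=
      ((Matrix.reindex eK eK).subtypeEquiv (q := fun A => A.det ≠ 0)
        fun A => by rw [Matrix.det_reindex_self]).trans
      { toFun := fun A => Matrix.GeneralLinearGroup.mkOfDetNeZero A.1 A.2
        invFun := fun g => ⟨g, ((Matrix.isUnit_iff_isUnit_det _).1 g.isUnit).ne_zero⟩
        left_inv := fun A => rfl
        right_inv := fun g => Units.ext rfl }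
    rw [Nat.card_congr e5, Matrix.card_GL_field, hF]

end CfsgLib.Geo.JordanCentralizer
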