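import Cfsg.Agent.Geo.JordanCentralizer
import Cfsg.Agent.Unitary.ConjugacyGL

/-!
# Centralisers of unipotent elements of given Jordan type in the general unitary group
-/

set_option autoImplicit false
set_option linter.style.haveILetI false
set_option linter.unusedSectionVars false

namespace CfsgLib.Geo.JordanCentralizerGU

open Matrix Finset CfsgLib.Geo.JordanCentralizer CfsgLib.Unitary

local notation "DiagP" => CfsgLib.Geo.JordanCentralizer.IsDiag

variable {K : Type*} [Field K] {t : ℕ} {d : Fin t → ℕ}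

theorem antidiag {A B : ℕ} (x : ℕ → ℕ → K) (hA : ∀ i j, A ≤ i → x i j = 0)
    (hB : ∀ i j, B ≤ j → x i j = 0) (h : ∀ i j, x (i + 1) j + x i (j + 1) + x (i + 1) (j + 1) = 0) :
    (∀ i j, (A ≤ i + j ∨ B ≤ i + j) → x i j = 0) ∧
      (A = B → ∀ i j, i + j + 1 = A → x i j = (-1) ^ i * x 0 (i + j)) := by
  have key : ∀ (r i j : ℕ), A + B ≤ i + j + r → (A ≤ i + j ∨ B ≤ i + j) → x i j = 0 := by
    intro r
    induction r with
    | zero =>
      intro i j hs _
      rcases le_or_gt A i with h1 | h1
      · exact hA i j h1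
      · exact hB i j (by omega)
    | succ r ih =>
      intro i j hs hij
      rcases hij with hij | hij
      · have : ∀ j i, i + j + (r + 1) ≥ A + B → A ≤ i + j → x i j = 0 := by
          intro j
          induction j with
          | zero => exact fun i _ hi => hA i 0 (by omega)
          | succ j ihj =>
            intro i hs' hi
            have h1 := h i j
            rw [ihj (i + 1) (by omega) (by omega), ih (i + 1) (j + 1) (by omega) (Or.inl (by omega))] at h1
            simpa using h1
        exact this j i hs hij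
      · have : ∀ i j, i + j + (r + 1) ≥ A + B → B ≤ i + j → x i j = 0 := by
          intro i
          induction i with
          | zero => exact fun j _ hj => hB 0 j (by omega)
          | succ i ihi =>
            intro j hs' hj
            have h1 := h i j
            rw [ihi (j + 1) (by omega) (by omega), ih (i + 1) (j + 1) (by omega) (Or.inr (by omega))] at h1
            simpa using h1
        exact this i j hs hij
  refine ⟨fun i j hij => key (A + B) i j (by omega) hij, fun hAB i => ?_⟩
  induction i with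
  | zero => intro j _; simp
  | succ i ih =>
    intro j hj
    have h1 := h i j
    rw [ih (j + 1) (by omega), key (A + B) (i + 1) (j + 1) (by omega) (Or.inl (by omega)), add_zero,
      show i + (j + 1) = i + 1 + j by omega] at h1
    rw [eq_neg_of_add_eq_zero_left h1, pow_succ]
    ring

variable (hd : ∀ k, 1 ≤ d k) {σ : K →+* K}

/-- The last index of a block. -/
def last (k : Fin t) : Ix d := ⟨k, ⟨d k - 1, by have := hd k; omega⟩⟩

/-- The first index of a block. -/
def first (k : Fin t) : Ix d := ⟨k, ⟨0, by have := hd k; omega⟩⟩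

/-- The diagonal blocks of a matrix on the socle. -/
def diag (M : Matrix (Ix d) (Ix d) K) (a : ℕ) :
    Matrix {k : Fin t // d k = a} {k : Fin t // d k = a} K :=
  Matrix.of fun k l => M (last hd k.1) (last hd l.1)

/-- The pairing between the first and the last vectors of blocks of the same size. -/
def pairing (H : Matrix (Ix d) (Ix d) K) (a : ℕ) :
    Matrix {k : Fin t // d k = a} {k : Fin t // d k = a} K :=
  Matrix.of fun k l => H (first hd k.1) (last hd l.1)

theorem exists_param {M : Matrix (Ix d) (Ix d) K} (hd : ∀ k, 1 ≤ d k) (hM : M * shift (F := K) d = shift (F := K) d * M) :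
    ∃ v, M = ofParam d v :=
  ⟨paramEquiv hd ⟨M, hM⟩, (congrArg Subtype.val ((paramEquiv hd).left_inv ⟨M, hM⟩)).symm⟩

theorem ofParam_last (v : Param d → K) (k l : Fin t) (i : Fin (d k)) :
    ofParam d v ⟨k, i⟩ (last hd l) =
      if (i : ℕ) + 1 = d k ∧ d l ≤ d k then socle v k l else 0 := by
  have := hd k
  have := hd l
  have := i.isLt
  simp only [ofParam, last, socle, of_apply]
  split_ifs with h1 h2 h3 h4 <;> first | rfl | omega | (congr 2; ext; simp only; omega)

theorem ofParam_first (v : Param d → K) (k l : Fin t) (h : d l ≤ d k) :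
    ofParam d v (first hd k) (first hd l) = if d k = d l then socle v k l else 0 := by
  have := hd k
  have := hd l
  simp only [ofParam, first, socle, of_apply]
  by_cases he : d k = d l
  · rw [if_pos he, dif_pos (by omega), if_pos h, dif_pos (by omega)]
    congr 2
    ext
    simp only
    omega
  · rw [if_neg he, dif_neg (by omega)]

theorem diag_ofParam (v : Param d → K) (a : ℕ) :
    diag hd (ofParam d v) a = Matrix.of fun k l : {k : Fin t // d k = a} => socle v k.1 l.1 := by
  ext k l
  simp only [diag, of_apply]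
  show ofParam d v ⟨k.1, _⟩ (last hd l.1) = _
  have := k.2
  have := l.2
  have := hd k.1
  rw [ofParam_last, if_pos ⟨by simp only; omega, by omega⟩]

theorem diag_one (a : ℕ) : diag hd (1 : Matrix (Ix d) (Ix d) K) a = 1 := by
  ext k l
  by_cases h : k = l
  · subst h
    simp [diag]
  · rw [one_apply_ne h]
    simp only [diag, of_apply]
    exact one_apply_ne fun he => h (Subtype.ext (congrArg Sigma.fst he))

theorem diag_mul {M M' : Matrix (Ix d) (Ix d) K} (hM : M * shift (F := K) d = shift (F := K) d * M)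
    (hM' : M' * shift (F := K) d = shift (F := K) d * M') (a : ℕ) :
    diag hd (M * M') a = diag hd M a * diag hd M' a := by
  classical
  obtain ⟨v, rfl⟩ := exists_param hd hM
  obtain ⟨w, rfl⟩ := exists_param hd hM'
  ext k l
  simp only [diag, of_apply, Matrix.mul_apply]
  rw [Fintype.sum_sigma]
  rw [← Finset.sum_subtype (Finset.univ.filter fun m : Fin t => d m = a) (by simp)
    (fun m => ofParam d v (last hd k.1) (last hd m) * ofParam d w (last hd m) (last hd l.1)),
    Finset.sum_filter]
  refine Finset.sum_congr rfl fun m _ => ?_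
  rw [Fintype.sum_eq_single (⟨d m - 1, by have := hd m; omega⟩ : Fin (d m))]
  · by_cases hm : d m = a
    · rw [if_pos hm]; rfl
    · rw [if_neg hm]
      have hk := k.2
      have hl := l.2
      show ofParam d v ⟨k.1, _⟩ (last hd m) * ofParam d w ⟨m, _⟩ (last hd l.1) = 0
      rw [ofParam_last, ofParam_last]
      split_ifs with h1 h2 <;> first | omega | simp
  · intro i hi
    rw [ofParam_last hd w m l.1 i, if_neg, mul_zero]
    intro h
    exact hi (Fin.ext (by simp only; omega))

theorem diag_det_ne_zero_iff {M : Matrix (Ix d) (Ix d) K} (hM : M * shift (F := K) d = shift (F := K) d * M) :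
    M.det ≠ 0 ↔ ∀ a : Fin (univ.sup d + 1), (diag hd M a).det ≠ 0 := by
  obtain ⟨v, rfl⟩ := exists_param hd hM
  simp only [diag_ofParam]
  rw [det_ne_zero_iff hd, socle_det_ne_zero_iff hd]

section Form

variable {H : Matrix (Ix d) (Ix d) K} (hJH : adj σ (Cfsg.jordanTypeMatrix d K) * H * Cfsg.jordanTypeMatrix d K = H)
include hJH

theorem form_rel : adj σ (shift (F := K) d) * H + H * shift (F := K) d +
    adj σ (shift (F := K) d) * H * shift (F := K) d = 0 := by
  have h := hJH
  rw [jordan_eq, adj_add, adj_one] at h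
  rw [← sub_eq_zero] at h
  rw [← h]
  noncomm_ring

theorem form_zero (k l : Fin t) :
    (∀ (i : Fin (d k)) (j : Fin (d l)), (d k ≤ (i : ℕ) + j ∨ d l ≤ (i : ℕ) + j) → H ⟨k, i⟩ ⟨l, j⟩ = 0) ∧
      (d k = d l → H (last hd k) (first hd l) = (-1) ^ (d k - 1) * H (first hd k) (last hd l)) := by
  set x : ℕ → ℕ → K := fun i j => if h : i < d k ∧ j < d l then H ⟨k, ⟨i, h.1⟩⟩ ⟨l, ⟨j, h.2⟩⟩ else 0 with hx
  have hrel : ∀ i j, x (i + 1) j + x i (j + 1) + x (i + 1) (j + 1) = 0 := by
    intro i j
    by_cases hi : i < d k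
    · by_cases hj : j < d l
      · have h := congrFun (congrFun (form_rel hJH) ⟨k, ⟨i, hi⟩⟩) ⟨l, ⟨j, hj⟩⟩
        have hadj : ∀ (M : Matrix (Ix d) (Ix d) K) (q : Ix d), (adj σ (shift (F := K) d) * M) ⟨k, ⟨i, hi⟩⟩ q =
            if h : i + 1 < d k then M ⟨k, ⟨i + 1, h⟩⟩ q else 0 := by
          intro M q
          have hT : adj σ (shift (F := K) d) = (shift (F := K) d)ᵀ := by
            ext p r
            simp only [adj, shift, transpose_apply, Matrix.map_apply, of_apply]
            split_ifs <;> simp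
          rw [hT]
          have := mul_shift_apply d Mᵀ q k ⟨i, hi⟩
          rw [← Matrix.transpose_transpose M, ← Matrix.transpose_mul, transpose_apply, this]
          simp
        rw [Matrix.add_apply, Matrix.add_apply, hadj, mul_shift_apply, mul_shift_apply,
          Matrix.zero_apply] at h
        simp only [hadj] at h
        simp only [hx]
        by_cases h1 : i + 1 < d k <;> by_cases h2 : j + 1 < d l
        · rw [dif_pos ⟨h1, hj⟩, dif_pos ⟨hi, h2⟩, dif_pos ⟨h1, h2⟩]
          rw [dif_pos h1, dif_pos h2, dif_pos h2, dif_pos h1] at h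
          exact h
        · rw [dif_pos ⟨h1, hj⟩, dif_neg (fun e => h2 e.2), dif_neg (fun e => h2 e.2)]
          rw [dif_pos h1, dif_neg h2, dif_neg h2] at h
          exact h
        · rw [dif_neg (fun e => h1 e.1), dif_pos ⟨hi, h2⟩, dif_neg (fun e => h1 e.1)]
          rw [dif_neg h1, dif_pos h2, dif_pos h2, dif_neg h1] at h
          exact h
        · rw [dif_neg (fun e => h1 e.1), dif_neg (fun e => h2 e.2), dif_neg (fun e => h1 e.1)]
          simp
      · simp only [hx]
        rw [dif_neg (fun e => hj e.2), dif_neg (fun e => hj (by omega)), dif_neg (fun e => hj (by omega))]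
        simp
    · simp only [hx]
      rw [dif_neg (fun e => hi (by omega)), dif_neg (fun e => hi e.1), dif_neg (fun e => hi (by omega))]
      simp
  obtain ⟨h0, h1⟩ := antidiag (A := d k) (B := d l) x
    (fun i j hi => dif_neg (fun e => by omega)) (fun i j hj => dif_neg (fun e => by omega)) hrel
  refine ⟨fun i j hij => ?_, fun he => ?_⟩
  · have h := h0 i j hij
    simp only [hx] at h
    rwa [dif_pos ⟨i.isLt, j.isLt⟩] at h
  · have h := h1 he (d k - 1) 0 (by have := hd k; omega)
    have := hd k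
    simp only [hx, add_zero] at h
    rw [dif_pos ⟨by omega, by omega⟩, dif_pos ⟨by omega, by omega⟩] at h
    simpa [first, last, he] using h

theorem form_last (k l : Fin t) (h : d l ≠ d k) (hle : d k ≤ d l) : H (first hd k) (last hd l) = 0 :=
  (form_zero hd hJH k l).1 _ _ (Or.inl (by
    have := hd k
    show d k ≤ 0 + (d l - 1)
    omega))

theorem pairing_det_ne_zero (hH : H.det ≠ 0) (a : ℕ) : (pairing hd H a).det ≠ 0 := by
  classical
  set T : Matrix (Fin t) (Fin t) K := Matrix.of fun k l => H (first hd k) (last hd l) with hTdef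
  have hT : T.det ≠ 0 := by
    intro h0
    obtain ⟨c, hc0, hc⟩ := Matrix.exists_mulVec_eq_zero_iff.2 h0
    refine hH (Matrix.exists_mulVec_eq_zero_iff.1 ⟨fun p => if (p.2 : ℕ) + 1 = d p.1 then c p.1 else 0, ?_, ?_⟩)
    · intro hz
      refine hc0 (funext fun l => ?_)
      have h' := congrFun hz (last hd l)
      change (if (d l - 1) + 1 = d l then c l else 0) = 0 at h'
      rw [if_pos (by have := hd l; omega)] at h'
      exact h'
    · funext ⟨k, i⟩
      simp only [Matrix.mulVec, dotProduct, Pi.zero_apply]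
      rw [Fintype.sum_sigma]
      have hsum : ∀ l, ∑ j : Fin (d l), H ⟨k, i⟩ ⟨l, j⟩ * (if (j : ℕ) + 1 = d l then c l else 0) =
          H ⟨k, i⟩ (last hd l) * c l := by
        intro l
        rw [Fintype.sum_eq_single (⟨d l - 1, by have := hd l; omega⟩ : Fin (d l))]
        · rw [if_pos (by have := hd l; simp only; omega)]
          rfl
        · intro j hj
          rw [if_neg (fun e => hj (Fin.ext (by simp only; omega))), mul_zero]
      rw [Finset.sum_congr rfl fun l _ => hsum l]
      rcases Nat.eq_zero_or_pos (i : ℕ) with hi | hi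
      · have h' := congrFun hc k
        simp only [Matrix.mulVec, dotProduct, hTdef, of_apply, Pi.zero_apply] at h'
        rw [show (⟨k, i⟩ : Ix d) = first hd k from by rw [first]; congr 1; exact Fin.ext hi]
        exact h'
      · refine Finset.sum_eq_zero fun l _ => ?_
        have h' := (form_zero hd hJH k l).1 i ⟨d l - 1, by have := hd l; omega⟩
          (Or.inr (by simp only; omega))
        rw [show H ⟨k, i⟩ (last hd l) = 0 from h', zero_mul]
  have hTb : T.BlockTriangular (fun k => OrderDual.toDual (d k)) := fun i j hij => by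
    have hlt : d i < d j := hij
    exact form_last hd hJH i j (by omega) (by omega)
  by_cases hne : ∃ k, d k = a
  · obtain ⟨k, rfl⟩ := hne
    rw [hTb.det, Finset.prod_ne_zero_iff] at hT
    exact hT (OrderDual.toDual (d k)) (Finset.mem_image.2 ⟨k, Finset.mem_univ _, rfl⟩)
  · haveI : IsEmpty {k : Fin t // d k = a} := ⟨fun k => hne ⟨k.1, k.2⟩⟩
    rw [Matrix.det_isEmpty]
    exact one_ne_zero

theorem adj_pairing (hH : adj σ H = H) (a : ℕ) :
    adj σ (pairing hd H a) = ((-1 : K) ^ (a - 1)) • pairing hd H a := by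
  ext k l
  have h1 := (form_zero hd hJH k.1 l.1).2 (k.2.trans l.2.symm)
  have h2 := congrFun (congrFun hH (last hd k.1)) (first hd l.1)
  simp only [adj, transpose_apply, Matrix.map_apply] at h2
  simp only [adj, transpose_apply, Matrix.map_apply, pairing, of_apply, Matrix.smul_apply, smul_eq_mul]
  rw [h2, h1, k.2]

theorem pairing_mul_diag {M M' : Matrix (Ix d) (Ix d) K} (hM : M * shift (F := K) d = shift (F := K) d * M)
    (hM' : M' * shift (F := K) d = shift (F := K) d * M') (h : adj σ M * H = H * M') (a : ℕ) :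
    pairing hd H a * diag hd M' a = adj σ (diag hd M a) * pairing hd H a := by
  classical
  obtain ⟨v, rfl⟩ := exists_param hd hM
  obtain ⟨w, rfl⟩ := exists_param hd hM'
  ext k l
  have hk := k.2
  have hl := l.2
  have hR : (H * ofParam d w) (first hd k.1) (last hd l.1) = (pairing hd H a * diag hd (ofParam d w) a) k l := by
    simp only [diag, pairing, of_apply, Matrix.mul_apply]
    rw [Fintype.sum_sigma]
    rw [← Finset.sum_subtype (Finset.univ.filter fun m : Fin t => d m = a) (by simp)
      (fun m => H (first hd k.1) (last hd m) * ofParam d w (last hd m) (last hd l.1)), Finset.sum_filter]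
    refine Finset.sum_congr rfl fun m _ => ?_
    rw [Fintype.sum_eq_single (⟨d m - 1, by have := hd m; omega⟩ : Fin (d m))]
    · by_cases hm : d m = a
      · rw [if_pos hm]; rfl
      · rw [if_neg hm]
        by_cases hle : d l.1 ≤ d m
        · rw [show (⟨m, ⟨d m - 1, _⟩⟩ : Ix d) = last hd m from rfl,
            form_last hd hJH k.1 m (by omega) (by omega), zero_mul]
        · rw [ofParam_last hd w m l.1, if_neg (fun e => hle e.2), mul_zero]
    · intro i hi
      rw [ofParam_last hd w m l.1 i, if_neg, mul_zero]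
      intro e
      exact hi (Fin.ext (by simp only; omega))
  have hL : (adj σ (ofParam d v) * H) (first hd k.1) (last hd l.1) =
      (adj σ (diag hd (ofParam d v) a) * pairing hd H a) k l := by
    simp only [diag, pairing, adj, of_apply, Matrix.mul_apply, transpose_apply, Matrix.map_apply]
    rw [Fintype.sum_sigma]
    rw [← Finset.sum_subtype (Finset.univ.filter fun m : Fin t => d m = a) (by simp)
      (fun m => σ (ofParam d v (last hd m) (last hd k.1)) * H (first hd m) (last hd l.1)), Finset.sum_filter]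
    refine Finset.sum_congr rfl fun m _ => ?_
    rw [Fintype.sum_eq_single (⟨0, by have := hd m; omega⟩ : Fin (d m))]
    · show σ (ofParam d v (first hd m) (first hd k.1)) * H (first hd m) (last hd l.1) = _
      by_cases hm : d m = a
      · rw [if_pos hm, ofParam_first hd v m k.1 (by omega), if_pos (by omega)]
        congr 2
        show socle v m k.1 = ofParam d v ⟨m, _⟩ (last hd k.1)
        rw [ofParam_last, if_pos ⟨by have := hd m; simp only; omega, by omega⟩]
      · rw [if_neg hm]
        by_cases hle : a ≤ d m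
        · rw [ofParam_first hd v m k.1 (by omega), if_neg (by omega), map_zero, zero_mul]
        · rw [form_last hd hJH m l.1 (by omega) (by omega), mul_zero]
    · intro i hi
      have hi' : (i : ℕ) ≠ 0 := fun e => hi (Fin.ext e)
      rw [show H ⟨m, i⟩ (last hd l.1) = 0 from (form_zero hd hJH m l.1).1 _ _
        (Or.inr (by show d l.1 ≤ (i : ℕ) + (d l.1 - 1); omega)), mul_zero]
  rw [← hR, ← hL, h]

end Form

/-- The unitary group of a form similar to a hermitian one has the order of the general unitary group. -/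
theorem card_unitary [Finite K] {q : ℕ} (hK : Nat.card K = q ^ 2) {κ : Type*} [Fintype κ] [DecidableEq κ]
    {m : ℕ} (hm : Fintype.card κ = m) {h : Matrix κ κ K} {c : K} (hc : c ≠ 0)
    (hh : adj (CfsgLib.Forms.frobQ hK) (c • h) = c • h) (hdet : h.det ≠ 0) :
    Nat.card {A : Matrix κ κ K // adj (CfsgLib.Forms.frobQ hK) A * h * A = h} = Nat.card (Cfsg.GU m K q) := by
  classical
  set σ := CfsgLib.Forms.frobQ hK with hσdef
  have hu : IsUnit (c • h) := (Matrix.isUnit_iff_isUnit_det _).2 (by
    rw [Matrix.det_smul]; exact isUnit_iff_ne_zero.2 (mul_ne_zero (pow_ne_zero _ hc) hdet))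
  obtain ⟨C, -, hC⟩ := exists_norm_root (CfsgLib.Forms.frobQ_invol hK) (CfsgLib.Forms.frobQ_ne_id hK) hh hu
  rw [← hσdef] at hC
  obtain ⟨C', hC'⟩ : ∃ C', C * C' = 1 := by
    have h2 : IsUnit ((adj σ C).det * C.det) := by
      rw [← Matrix.det_mul, hC]
      exact (Matrix.isUnit_iff_isUnit_det _).1 hu
    exact ((Matrix.isUnit_iff_isUnit_det C).2 (IsUnit.mul_iff.1 h2).2).exists_right_inv
  have hC'' : C' * C = 1 := mul_eq_one_comm.1 hC'
  have hadjC : adj σ C' * adj σ C = 1 := by rw [← adj_mul, hC', adj_one]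
  have hadjC' : adj σ C * adj σ C' = 1 := by rw [← adj_mul, hC'', adj_one]
  let e := Fintype.equivFinOfCardEq hm
  have hre : ∀ A : Matrix κ κ K, adj σ (Matrix.reindex e e A) = Matrix.reindex e e (adj σ A) := fun A => rfl
  have hrm : ∀ A B : Matrix κ κ K, Matrix.reindex e e A * Matrix.reindex e e B = Matrix.reindex e e (A * B) :=
    fun A B => by simp
  let e1 : {A : Matrix κ κ K // adj σ A * h * A = h} ≃ {B : Matrix κ κ K // adj σ B * B = 1} :=
    { toFun := fun A => ⟨C * A.1 * C', by
        have h1 : adj σ A.1 * (c • h) * A.1 = c • h := by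
          rw [mul_smul_comm, smul_mul_assoc, A.2]
        rw [← hC] at h1
        calc adj σ (C * A.1 * C') * (C * A.1 * C') = adj σ C' * (adj σ A.1 * (adj σ C * C) * A.1) * C' := by
              simp only [adj_mul, mul_assoc]
          _ = (adj σ C' * adj σ C) * (C * C') := by rw [h1]; simp only [mul_assoc]
          _ = 1 := by rw [hadjC, hC', mul_one]⟩
      invFun := fun B => ⟨C' * B.1 * C, by
        have h1 : adj σ (C' * B.1 * C) * (c • h) * (C' * B.1 * C) = c • h := by
          rw [← hC]
          calc adj σ (C' * B.1 * C) * (adj σ C * C) * (C' * B.1 * C)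
              = adj σ C * (adj σ B.1 * ((adj σ C' * adj σ C) * (C * C')) * B.1) * C := by
                simp only [adj_mul, mul_assoc]
            _ = adj σ C * C := by rw [hadjC, hC', mul_one, mul_one, B.2, mul_one]
        rw [mul_smul_comm, smul_mul_assoc] at h1
        exact smul_right_injective _ hc h1⟩
      left_inv := fun A => Subtype.ext (by
        calc C' * (C * A.1 * C') * C = (C' * C) * A.1 * (C' * C) := by simp only [mul_assoc]
          _ = A.1 := by rw [hC'', one_mul, mul_one])
      right_inv := fun B => Subtype.ext (by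
        calc C * (C' * B.1 * C) * C' = (C * C') * B.1 * (C * C') := by simp only [mul_assoc]
          _ = B.1 := by rw [hC', one_mul, mul_one]) }
  let e2 : {B : Matrix κ κ K // adj σ B * B = 1} ≃ {B : Matrix (Fin m) (Fin m) K // adj σ B * B = 1} :=
    (Matrix.reindex e e).subtypeEquiv fun B => by
      rw [hre, hrm]
      constructor
      · intro h1; rw [h1]; simp
      · intro h1
        apply (Matrix.reindex e e).injective
        rw [h1]; simp
  let e3 : {B : Matrix (Fin m) (Fin m) K // adj σ B * B = 1} ≃ Cfsg.GU m K q :=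
    { toFun := fun B => ⟨⟨B.1, adj σ B.1, mul_eq_one_comm.1 B.2, B.2⟩, (mem_GU_iff_adj hK).2 B.2⟩
      invFun := fun g => ⟨(g : GL (Fin m) K), (mem_GU_iff_adj hK).1 g.2⟩
      left_inv := fun B => rfl
      right_inv := fun g => Subtype.ext (Units.ext rfl) }
  exact Nat.card_congr (e1.trans (e2.trans e3))

/-- The matrices commuting with the Jordan matrix, as a subalgebra. -/
noncomputable def commutant (d : Fin t → ℕ) : Subalgebra K (Matrix (Ix d) (Ix d) K) :=
  Subalgebra.centralizer K {shift (F := K) d}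

theorem mem_commutant {M : Matrix (Ix d) (Ix d) K} :
    M ∈ commutant d ↔ M * shift (F := K) d = shift (F := K) d * M := by
  simp [commutant, Subalgebra.mem_centralizer_iff, eq_comm]

theorem diag_add (M M' : Matrix (Ix d) (Ix d) K) (a : ℕ) : diag hd (M + M') a = diag hd M a + diag hd M' a :=
  rfl

theorem diag_smul (c : K) (M : Matrix (Ix d) (Ix d) K) (a : ℕ) : diag hd (c • M) a = c • diag hd M a := rfl

theorem diag_sub (M M' : Matrix (Ix d) (Ix d) K) (a : ℕ) : diag hd (M - M') a = diag hd M a - diag hd M' a :=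
  rfl

theorem isUnit_of_diag {M : Matrix (Ix d) (Ix d) K} (hM : M ∈ commutant d)
    (h : ∀ a : Fin (univ.sup d + 1), (diag hd M a).det ≠ 0) : IsUnit M :=
  (Matrix.isUnit_iff_isUnit_det M).2 (isUnit_iff_ne_zero.2
    ((diag_det_ne_zero_iff hd (mem_commutant.1 hM)).2 h))

theorem inv_mem_commutant {M M' : Matrix (Ix d) (Ix d) K} (hM : M ∈ commutant d) (h : M * M' = 1) :
    M' ∈ commutant d := by
  have h' := mul_eq_one_comm.1 h
  rw [mem_commutant] at hM ⊢
  calc M' * shift (F := K) d = M' * (shift (F := K) d * M) * M' := by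
        rw [mul_assoc, mul_assoc, h, mul_one]
    _ = M' * (M * shift (F := K) d) * M' := by rw [hM]
    _ = shift (F := K) d * M' := by rw [← mul_assoc M' M, h', one_mul]

/-- The zero set of the diagonal blocks. -/
theorem card_diag_zero [Fintype K] :
    Nat.card {M : commutant (K := K) d // ∀ a : Fin (univ.sup d + 1), diag hd M.1 a = 0} =
      Fintype.card K ^ Nat.card {x : Param d // ¬ DiagP x} := by
  classical
  let e : {M : commutant (K := K) d // ∀ a : Fin (univ.sup d + 1), diag hd M.1 a = 0} ≃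
      {v : Param d → K // ∀ x, DiagP x → v x = 0} :=
    ((Equiv.subtypeEquivRight fun M => mem_commutant).trans (paramEquiv hd)).subtypeEquiv fun M => by
      obtain ⟨v, hv⟩ := (paramEquiv hd).symm.surjective ⟨M.1, mem_commutant.1 M.2⟩
      have hMv : M.1 = ofParam d v := (congrArg Subtype.val hv).symm
      show (∀ a : Fin (univ.sup d + 1), diag hd M.1 a = 0) ↔
        ∀ x, DiagP x → paramEquiv hd ⟨M.1, mem_commutant.1 M.2⟩ x = 0
      rw [show paramEquiv hd ⟨M.1, mem_commutant.1 M.2⟩ = v by rw [← hv, Equiv.apply_symm_apply]]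
      simp only [hMv, diag_ofParam]
      constructor
      · intro h x hx
        obtain ⟨⟨⟨k, l⟩, r⟩, rfl⟩ : ∃ y, x = y := ⟨x, rfl⟩
        obtain ⟨h1, h2⟩ := hx
        simp only at h1 h2
        have h' := congrFun (congrFun (h ⟨d k, Nat.lt_succ_of_le (Finset.le_sup (Finset.mem_univ k))⟩)
          ⟨k, rfl⟩) ⟨l, h1.symm⟩
        simp only [of_apply, socle, Matrix.zero_apply] at h'
        rw [if_pos h1.ge, dif_pos (lt_min (hd k) (hd l))] at h'
        rw [← h']
        congr 2
        exact Fin.ext h2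
      · intro h a
        ext k l
        simp only [of_apply, socle, Matrix.zero_apply]
        rw [if_pos (le_of_eq (l.2.trans k.2.symm)), dif_pos (lt_min (hd _) (hd _))]
        exact h _ ⟨k.2.trans l.2.symm, rfl⟩
  let e' : {v : Param d → K // ∀ x, DiagP x → v x = 0} ≃ ({x : Param d // ¬ DiagP x} → K) :=
    { toFun := fun v x => v.1 x.1
      invFun := fun f => ⟨fun x => if h : DiagP x then 0 else f ⟨x, h⟩, fun x hx => dif_pos hx⟩
      left_inv := fun v => Subtype.ext (funext fun x => by
        by_cases h : DiagP x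
        · simp [h, v.2 x h]
        · simp [h])
      right_inv := fun f => funext fun x => by simp [x.2] }
  rw [Nat.card_congr (e.trans e'), Nat.card_fun, Nat.card_eq_fintype_card (α := K)]

section Count

variable [Fintype K] {q : ℕ} (hK : Nat.card K = q ^ 2) {H H' : Matrix (Ix d) (Ix d) K}

theorem exponent_eq (hd : ∀ k, 1 ≤ d k) :
    Nat.card {x : Param d // ¬ DiagP x} = 2 * (∑ i ∈ range (univ.sup d + 1), ∑ j ∈ range (univ.sup d + 1),
          if i < j then i * mult (d := d) i * mult (d := d) j else 0) +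
        ∑ i ∈ range (univ.sup d + 1), (i - 1) * mult (d := d) i ^ 2 := by
  classical
  set D := univ.sup d + 1
  have hD : ∀ k, d k < D := fun k => Nat.lt_succ_of_le (Finset.le_sup (Finset.mem_univ k))
  have h := Nat.card_congr (Equiv.sumCompl (CfsgLib.Geo.JordanCentralizer.IsDiag (d := d)))
  rw [Nat.card_sum, Nat.card_congr (diagEquiv hd), Nat.card_sigma, card_param D hD,
    sum_min D (fun i => mult (d := d) i) (Finset.card_eq_zero.2 (Finset.filter_eq_empty_iff.2
      fun k _ h => by have := hd k; omega))] at h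
  have hsq : ∑ a : Fin D, Nat.card ({k : Fin t // d k = (a : ℕ)} × {k : Fin t // d k = (a : ℕ)}) =
      ∑ i ∈ range D, mult (d := d) i ^ 2 := by
    rw [Finset.sum_range]
    refine Finset.sum_congr rfl fun a _ => ?_
    rw [Nat.card_prod, card_block, sq]
  rw [hsq] at h
  omega

include hd in
/-- The order of the unitary part of the commutant. -/
theorem card_unitary_commutant (hH : adj (CfsgLib.Forms.frobQ hK) H = H) (hHH' : H * H' = 1)
    (hJH : adj (CfsgLib.Forms.frobQ hK) (Cfsg.jordanTypeMatrix d K) * H * Cfsg.jordanTypeMatrix d K = H) :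
    Nat.card {M : commutant (K := K) d // adj (CfsgLib.Forms.frobQ hK) M.1 * H * M.1 = H} =
      q ^ Nat.card {x : Param d // ¬ DiagP x} *
        ∏ a : Fin (univ.sup d + 1), Nat.card (Cfsg.GU (mult (d := d) (a : ℕ)) K q) := by
  classical
  set σ := CfsgLib.Forms.frobQ hK with hσdef
  have hσ : ∀ a, σ (σ a) = a := CfsgLib.Forms.frobQ_invol hK
  have hσne : σ ≠ RingHom.id K := CfsgLib.Forms.frobQ_ne_id hK
  have hH'H : H' * H = 1 := mul_eq_one_comm.1 hHH'
  have hH'adj : adj σ H' = H' := by
    have h1 : H * adj σ H' = 1 := by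
      conv_lhs => arg 1; rw [← hH]
      rw [← adj_mul, hH'H, adj_one]
    calc adj σ H' = (H' * H) * adj σ H' := by rw [hH'H, one_mul]
      _ = H' * (H * adj σ H') := mul_assoc ..
      _ = H' := by rw [h1, mul_one]
  have hHdet : H.det ≠ 0 := fun h0 => by
    have := congrArg Matrix.det hHH'
    simp [h0] at this
  set A := commutant (K := K) d with hA
  set D := univ.sup d + 1
  let τ : Matrix (Ix d) (Ix d) K → Matrix (Ix d) (Ix d) K := fun M => H' * adj σ M * H
  have hτ : ∀ M, adj σ M * H = H * τ M := fun M => by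
    simp only [τ, ← mul_assoc, hHH', one_mul]
  have hττ : ∀ M, τ (τ M) = M := fun M => by
    simp only [τ, adj_mul, adj_adj hσ, hH, hH'adj]
    calc H' * (H * (M * H')) * H = (H' * H) * M * (H' * H) := by simp only [mul_assoc]
      _ = M := by rw [hH'H, one_mul, mul_one]
  have hτmul : ∀ M N, τ (M * N) = τ N * τ M := fun M N => by
    simp only [τ, adj_mul]
    calc H' * (adj σ N * adj σ M) * H = H' * adj σ N * (H * H') * adj σ M * H := by
          rw [hHH', mul_one]; simp only [mul_assoc]
      _ = _ := by simp only [mul_assoc]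
  have hτadd : ∀ M N, τ (M + N) = τ M + τ N := fun M N => by
    simp only [τ, adj_add, mul_add, add_mul]
  have hτsmul : ∀ (c : K) M, τ (c • M) = σ c • τ M := fun c M => by
    simp only [τ, adj_smul, mul_smul_comm, smul_mul_assoc]
  have hτone : τ 1 = 1 := by simp only [τ, adj_one, mul_one, hH'H]
  have hJA : Cfsg.jordanTypeMatrix d K ∈ A := by
    rw [mem_commutant, jordan_eq]
    simp only [add_mul, mul_add, one_mul, mul_one]
  have hJinv : Cfsg.jordanTypeMatrix d K * τ (Cfsg.jordanTypeMatrix d K) = 1 := by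
    refine mul_eq_one_comm.1 ?_
    simp only [τ]
    rw [mul_assoc H', mul_assoc, hJH, hH'H]
  have hτA : ∀ M ∈ A, τ M ∈ A := by
    intro M hM
    have hMJ := (commute_iff_shift d M).2 (mem_commutant.1 hM)
    have h1 : τ M * τ (Cfsg.jordanTypeMatrix d K) = τ (Cfsg.jordanTypeMatrix d K) * τ M := by
      rw [← hτmul, ← hτmul, hMJ]
    rw [mem_commutant, ← commute_iff_shift]
    have h2 := mul_eq_one_comm.1 hJinv
    calc τ M * Cfsg.jordanTypeMatrix d K
        = (Cfsg.jordanTypeMatrix d K * τ (Cfsg.jordanTypeMatrix d K)) * τ M * Cfsg.jordanTypeMatrix d K := by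
          rw [hJinv, one_mul]
      _ = Cfsg.jordanTypeMatrix d K * (τ M * τ (Cfsg.jordanTypeMatrix d K)) * Cfsg.jordanTypeMatrix d K := by
          rw [h1]; simp only [mul_assoc]
      _ = Cfsg.jordanTypeMatrix d K * τ M := by
          simp only [mul_assoc, h2, mul_one]
  have hpair : ∀ M ∈ A, ∀ a : ℕ, pairing hd H a * diag hd (τ M) a = adj σ (diag hd M a) * pairing hd H a :=
    fun M hM a => pairing_mul_diag hd hJH (mem_commutant.1 hM) (mem_commutant.1 (hτA M hM)) (hτ M) a
  have hinj : ∀ (a : ℕ) (X Y : Matrix {k : Fin t // d k = a} {k : Fin t // d k = a} K),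
      pairing hd H a * X = pairing hd H a * Y → X = Y := fun a X Y he =>
    ((Matrix.isUnit_iff_isUnit_det _).2 (isUnit_iff_ne_zero.2 (pairing_det_ne_zero hd hJH hHdet a))).mul_left_cancel he
  -- elements congruent to one are norms
  have hnorm : ∀ s ∈ A, τ s = s → (∀ a : Fin D, diag hd s a = 1) →
      ∃ z w, z ∈ A ∧ w ∈ A ∧ z * w = 1 ∧ (∀ a : Fin D, diag hd z a = 1) ∧ τ z * z = s := by
    intro s hs hfix hdiag
    have hsu : IsUnit s := isUnit_of_diag hd hs fun a => by rw [hdiag a]; simp
    obtain ⟨u, hu⟩ := hsu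
    have hinv : ∃ k ∈ Algebra.adjoin K {s}, s * k = 1 := by
      haveI : Finite (Matrix (Ix d) (Ix d) K) := inferInstanceAs (Finite (Ix d → Ix d → K))
      refine ⟨(u : Matrix (Ix d) (Ix d) K) ^ (orderOf u - 1), pow_mem (hu ▸ Algebra.self_mem_adjoin_singleton K _) _, ?_⟩
      rw [← hu, ← pow_succ', Nat.sub_add_cancel (orderOf_pos u), ← Units.val_pow_eq_pow_val,
        pow_orderOf_eq_one, Units.val_one]
    obtain ⟨-, hnorm⟩ := adjoin_solve hσ hσne (S := H) (S' := H') hHH' (G := s)
      (by rw [show H' * adj σ s * H = s from hfix]; exact Algebra.self_mem_adjoin_singleton K _)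
      (by rw [show H' * adj σ s * H = s from hfix]; exact hfix)
    obtain ⟨z, hz, hzs⟩ := hnorm s (Algebra.self_mem_adjoin_singleton K _) hfix hinv
    have hscal : z ∈ A ∧ ∃ c : K, ∀ a : Fin D, diag hd z a = c • 1 := by
      clear hzs
      induction hz using Algebra.adjoin_induction with
      | mem x hx =>
        rw [Set.mem_singleton_iff.1 hx]
        exact ⟨hs, 1, fun a => by rw [hdiag a, one_smul]⟩
      | algebraMap c =>
        refine ⟨Subalgebra.algebraMap_mem _ _, c, fun a => ?_⟩
        rw [Algebra.algebraMap_eq_smul_one, diag_smul, diag_one]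
      | add x y _ _ hx hy =>
        obtain ⟨hxA, c, hc⟩ := hx
        obtain ⟨hyA, c', hc'⟩ := hy
        exact ⟨add_mem hxA hyA, c + c', fun a => by rw [diag_add, hc, hc', add_smul]⟩
      | mul x y _ _ hx hy =>
        obtain ⟨hxA, c, hc⟩ := hx
        obtain ⟨hyA, c', hc'⟩ := hy
        refine ⟨mul_mem hxA hyA, c * c', fun a => ?_⟩
        rw [diag_mul hd (mem_commutant.1 hxA) (mem_commutant.1 hyA), hc, hc', smul_mul_smul_comm, one_mul]
    obtain ⟨hzA, c, hc⟩ := hscal
    obtain ⟨c, hc, hc1⟩ : ∃ c : K, (∀ a : Fin D, diag hd z a = c • 1) ∧ σ c * c = 1 := by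
      rcases isEmpty_or_nonempty (Fin t) with he | hne
      · refine ⟨1, fun a => ?_, by simp⟩
        ext k
        exact isEmptyElim k.1
      · obtain ⟨k₀⟩ := hne
        refine ⟨c, hc, ?_⟩
        set a : Fin D := ⟨d k₀, Nat.lt_succ_of_le (Finset.le_sup (Finset.mem_univ k₀))⟩
        have h1 : pairing hd H a * diag hd (τ z * z) a = pairing hd H a * ((σ c * c) • 1) := by
          rw [diag_mul hd (mem_commutant.1 (hτA z hzA)) (mem_commutant.1 hzA), ← mul_assoc, hpair z hzA a, hc,
            adj_smul, adj_one]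
          simp only [smul_mul_assoc, mul_smul_comm, one_mul, mul_one, smul_smul, mul_comm c]
        rw [show τ z * z = s from hzs, hdiag] at h1
        have h2 := congrFun (congrFun (hinj _ _ _ h1) ⟨k₀, rfl⟩) ⟨k₀, rfl⟩
        simpa using h2.symm
    have hc0 : c ≠ 0 := fun h0 => by rw [h0] at hc1; simp at hc1
    have hz'u : IsUnit (c⁻¹ • z) := isUnit_of_diag hd (A.smul_mem hzA c⁻¹) fun a => by
      rw [diag_smul, hc, smul_smul, inv_mul_cancel₀ hc0, one_smul]; simp
    obtain ⟨w, hw⟩ := hz'u.exists_right_inv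
    refine ⟨c⁻¹ • z, w, A.smul_mem hzA _, inv_mem_commutant (A.smul_mem hzA _) hw, hw, fun a => ?_, ?_⟩
    · rw [diag_smul, hc, smul_smul, inv_mul_cancel₀ hc0, one_smul]
    · rw [hτsmul, smul_mul_smul_comm, map_inv₀, ← mul_inv, hc1, inv_one, one_smul]
      exact hzs
  -- the sets of matrices
  let U := {M : A // adj σ M.1 * H * M.1 = H}
  let U1 := {M : U // ∀ a : Fin D, diag hd M.1.1 a = 1}
  let P1 := {M : A // ∀ a : Fin D, diag hd M.1 a = 1}
  let R := {M : A // ∀ a : Fin D, diag hd M.1 a = 0}
  let S1 := {M : A // τ M.1 = M.1 ∧ ∀ a : Fin D, diag hd M.1 a = 1}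
  let R0 := {M : A // τ M.1 = M.1 ∧ ∀ a : Fin D, diag hd M.1 a = 0}
  have hunit : ∀ M : Matrix (Ix d) (Ix d) K, adj σ M * H * M = H ↔ τ M * M = 1 := fun M => by
    rw [hτ, mul_assoc]
    constructor
    · intro h
      calc τ M * M = (H' * H) * (τ M * M) := by rw [hH'H, one_mul]
        _ = 1 := by rw [mul_assoc, h, hH'H]
    · intro h; rw [h, mul_one]
  let shiftR : R ≃ P1 :=
    { toFun := fun r => ⟨⟨1 + r.1.1, add_mem (one_mem A) r.1.2⟩, fun a => by
        rw [show ((⟨1 + r.1.1, add_mem (one_mem A) r.1.2⟩ : A) : Matrix (Ix d) (Ix d) K) = 1 + r.1.1 from rfl,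
          diag_add, diag_one, r.2 a, add_zero]⟩
      invFun := fun x => ⟨⟨x.1.1 - 1, sub_mem x.1.2 (one_mem A)⟩, fun a => by
        rw [show ((⟨x.1.1 - 1, sub_mem x.1.2 (one_mem A)⟩ : A) : Matrix (Ix d) (Ix d) K) = x.1.1 - 1 from rfl,
          diag_sub, diag_one, x.2 a, sub_self]⟩
      left_inv := fun r => Subtype.ext (Subtype.ext (add_sub_cancel_left 1 r.1.1))
      right_inv := fun x => Subtype.ext (Subtype.ext (add_sub_cancel 1 x.1.1)) }
  let shiftS : R0 ≃ S1 :=
    { toFun := fun r => ⟨⟨1 + r.1.1, add_mem (one_mem A) r.1.2⟩, by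
        refine ⟨?_, fun a => ?_⟩
        · show τ (1 + r.1.1) = 1 + r.1.1
          rw [hτadd, hτone, r.2.1]
        · show diag hd (1 + r.1.1) a = 1
          rw [diag_add, diag_one, r.2.2 a, add_zero]⟩
      invFun := fun x => ⟨⟨x.1.1 - 1, sub_mem x.1.2 (one_mem A)⟩, by
        refine ⟨?_, fun a => ?_⟩
        · show τ (x.1.1 - 1) = x.1.1 - 1
          rw [eq_sub_iff_add_eq]
          conv_lhs => arg 2; rw [← hτone]
          rw [← hτadd, sub_add_cancel, x.2.1]
        · show diag hd (x.1.1 - 1) a = 0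
          rw [diag_sub, diag_one, x.2.2 a, sub_self]⟩
      left_inv := fun r => Subtype.ext (Subtype.ext (add_sub_cancel_left 1 r.1.1))
      right_inv := fun x => Subtype.ext (Subtype.ext (add_sub_cancel 1 x.1.1)) }
  -- every element congruent to one is a unitary times a chosen root of a symmetric one
  have hroot : ∀ s : S1, ∃ z w, z ∈ A ∧ w ∈ A ∧ z * w = 1 ∧ (∀ a : Fin D, diag hd z a = 1) ∧ τ z * z = s.1.1 :=
    fun s => hnorm s.1.1 s.1.2 s.2.1 s.2.2
  choose Z W hZ hW hZW hZd hZs using hroot
  have hWd : ∀ s (a : Fin D), diag hd (W s) a = 1 := fun s a => by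
    have h := diag_mul hd (mem_commutant.1 (hZ s)) (mem_commutant.1 (hW s)) (a : ℕ)
    rw [hZW, diag_one, hZd, one_mul] at h
    exact h.symm
  have hS1 : ∀ x : P1, τ (τ x.1.1 * x.1.1) = τ x.1.1 * x.1.1 ∧ ∀ a : Fin D, diag hd (τ x.1.1 * x.1.1) a = 1 := by
    intro x
    refine ⟨by rw [hτmul, hττ], fun a => hinj _ _ _ ?_⟩
    rw [diag_mul hd (mem_commutant.1 (hτA _ x.1.2)) (mem_commutant.1 x.1.2), ← mul_assoc, hpair _ x.1.2, x.2,
      adj_one, one_mul]
  let toS : P1 → S1 := fun x => ⟨⟨τ x.1.1 * x.1.1, mul_mem (hτA _ x.1.2) x.1.2⟩, hS1 x⟩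
  have hUW : ∀ x : P1, τ (x.1.1 * W (toS x)) * (x.1.1 * W (toS x)) = 1 := fun x => by
    rw [hτmul, mul_assoc, ← mul_assoc (τ x.1.1), show τ x.1.1 * x.1.1 = τ (Z (toS x)) * Z (toS x) from (hZs (toS x)).symm,
      mul_assoc (τ (Z (toS x))), hZW, mul_one, ← hτmul, hZW, hτone]
  let eP : P1 ≃ U1 × S1 :=
    { toFun := fun x => (⟨⟨⟨x.1.1 * W (toS x), mul_mem x.1.2 (hW _)⟩, (hunit _).2 (hUW x)⟩, fun a => by
          show diag hd (x.1.1 * W (toS x)) a = 1
          rw [diag_mul hd (mem_commutant.1 x.1.2) (mem_commutant.1 (hW _)), x.2, hWd, one_mul]⟩, toS x)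
      invFun := fun p => ⟨⟨p.1.1.1.1 * Z p.2, mul_mem p.1.1.1.2 (hZ _)⟩, fun a => by
          show diag hd (p.1.1.1.1 * Z p.2) a = 1
          rw [diag_mul hd (mem_commutant.1 p.1.1.1.2) (mem_commutant.1 (hZ _)), p.1.2, hZd, one_mul]⟩
      left_inv := fun x => Subtype.ext (Subtype.ext (by
        show x.1.1 * W (toS x) * Z (toS x) = x.1.1
        rw [mul_assoc, mul_eq_one_comm.1 (hZW _), mul_one]))
      right_inv := fun p => by
        have hu : τ p.1.1.1.1 * p.1.1.1.1 = 1 := (hunit _).1 p.1.1.2
        set x : P1 := ⟨⟨p.1.1.1.1 * Z p.2, mul_mem p.1.1.1.2 (hZ _)⟩, fun a => by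
          show diag hd (p.1.1.1.1 * Z p.2) a = 1
          rw [diag_mul hd (mem_commutant.1 p.1.1.1.2) (mem_commutant.1 (hZ _)), p.1.2, hZd, one_mul]⟩ with hx
        have hs : toS x = p.2 := Subtype.ext (Subtype.ext (by
          show τ (p.1.1.1.1 * Z p.2) * (p.1.1.1.1 * Z p.2) = p.2.1.1
          rw [hτmul, mul_assoc, ← mul_assoc (τ p.1.1.1.1), hu, one_mul, hZs]))
        refine Prod.ext (Subtype.ext (Subtype.ext (Subtype.ext ?_))) hs
        show p.1.1.1.1 * Z p.2 * W (toS x) = p.1.1.1.1
        rw [hs, mul_assoc, hZW, mul_one] }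
  -- the symmetric elements are half of all
  obtain ⟨θ, hθ⟩ : ∃ θ, σ θ ≠ θ := by
    by_contra h; push Not at h; exact hσne (RingHom.ext h)
  have hθ' : θ - σ θ ≠ 0 := sub_ne_zero.2 (Ne.symm hθ)
  set κ := (θ - σ θ)⁻¹ with hκ
  have hσκ : σ κ = -κ := by rw [hκ, map_inv₀, map_sub, hσ, ← neg_sub θ (σ θ), inv_neg]
  have hτsub : ∀ M N, τ (M - N) = τ M - τ N := fun M N => by
    rw [eq_sub_iff_add_eq, ← hτadd, sub_add_cancel]
  have hR0 : ∀ r : R, τ (κ • (r.1.1 - τ r.1.1)) = κ • (r.1.1 - τ r.1.1) := fun r => by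
    rw [hτsmul, hτsub, hττ, hσκ, neg_smul, ← smul_neg, neg_sub]
  have hdiag0 : ∀ M ∈ A, (∀ a : Fin D, diag hd M a = 0) → ∀ a : Fin D, diag hd (τ M) a = 0 := by
    intro M hM h a
    refine hinj _ _ _ ?_
    rw [hpair M hM, h, mul_zero]
    have : adj σ (0 : Matrix {k : Fin t // d k = (a : ℕ)} {k : Fin t // d k = (a : ℕ)} K) = 0 := by
      ext i j; simp [adj]
    rw [this, zero_mul]
  let eR : R ≃ R0 × R0 :=
    { toFun := fun r =>
        (⟨⟨r.1.1 - θ • (κ • (r.1.1 - τ r.1.1)), sub_mem r.1.2 (A.smul_mem (A.smul_mem (sub_mem r.1.2 (hτA _ r.1.2)) _) _)⟩, by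
          refine ⟨?_, fun a => ?_⟩
          · show τ (r.1.1 - θ • (κ • (r.1.1 - τ r.1.1))) = r.1.1 - θ • (κ • (r.1.1 - τ r.1.1))
            rw [hτsub, hτsmul, hR0 r]
            have h1 : (θ - σ θ) • (κ • (r.1.1 - τ r.1.1)) = r.1.1 - τ r.1.1 := by
              rw [smul_smul, hκ, mul_inv_cancel₀ hθ', one_smul]
            rw [sub_smul] at h1
            linear_combination (norm := abel) h1
          · show diag hd (r.1.1 - θ • (κ • (r.1.1 - τ r.1.1))) a = 0
            rw [diag_sub, diag_smul, diag_smul, diag_sub, r.2 a, hdiag0 _ r.1.2 r.2 a]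
            simp⟩,
         ⟨⟨κ • (r.1.1 - τ r.1.1), A.smul_mem (sub_mem r.1.2 (hτA _ r.1.2)) _⟩, hR0 r, fun a => by
            show diag hd (κ • (r.1.1 - τ r.1.1)) a = 0
            rw [diag_smul, diag_sub, r.2 a, hdiag0 _ r.1.2 r.2 a]
            simp⟩)
      invFun := fun p => ⟨⟨p.1.1.1 + θ • p.2.1.1, add_mem p.1.1.2 (A.smul_mem p.2.1.2 _)⟩, fun a => by
          show diag hd (p.1.1.1 + θ • p.2.1.1) a = 0
          rw [diag_add, diag_smul, p.1.2.2 a, p.2.2.2 a]
          simp⟩
      left_inv := fun r => Subtype.ext (Subtype.ext (sub_add_cancel _ _))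
      right_inv := fun p => by
        have h1 : κ • ((p.1.1.1 + θ • p.2.1.1) - τ (p.1.1.1 + θ • p.2.1.1)) = p.2.1.1 := by
          rw [hτadd, hτsmul, p.1.2.1, p.2.2.1, add_sub_add_left_eq_sub, ← sub_smul, smul_smul, hκ,
            inv_mul_cancel₀ hθ', one_smul]
        refine Prod.ext (Subtype.ext (Subtype.ext ?_)) (Subtype.ext (Subtype.ext h1))
        show p.1.1.1 + θ • p.2.1.1 - θ • (κ • ((p.1.1.1 + θ • p.2.1.1) - τ (p.1.1.1 + θ • p.2.1.1))) = p.1.1.1
        rw [h1, add_sub_cancel_right] }
  haveI : Finite (Matrix (Ix d) (Ix d) K) := inferInstanceAs (Finite (Ix d → Ix d → K))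
  set x := Nat.card {x : Param d // ¬ DiagP x}
  have hR : Nat.card R = (q ^ x) * (q ^ x) := by
    rw [card_diag_zero hd, ← Nat.card_eq_fintype_card, hK, ← pow_mul, mul_comm, ← pow_add]
    congr 1; ring
  have hR0card : Nat.card R0 = q ^ x := by
    have h := hR
    rw [Nat.card_congr eR, Nat.card_prod] at h
    exact Nat.mul_self_inj.1 h
  have hU1 : Nat.card U1 = q ^ x := by
    have h := hR
    rw [Nat.card_congr (shiftR.trans eP), Nat.card_prod, ← Nat.card_congr shiftS, hR0card] at h
    exact Nat.eq_of_mul_eq_mul_right (Nat.pos_of_ne_zero fun h0 => by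
      have : 0 < q := Nat.pos_of_ne_zero fun hq => by rw [hq] at hK; simp at hK
      exact (pow_ne_zero x this.ne') h0) h
  -- the image
  let Ua := fun a : Fin D => {B : Matrix {k : Fin t // d k = (a : ℕ)} {k : Fin t // d k = (a : ℕ)} K //
    adj σ B * pairing hd H a * B = pairing hd H a}
  have himg : ∀ (u : U) (a : Fin D), adj σ (diag hd u.1.1 a) * pairing hd H a * diag hd u.1.1 a = pairing hd H a := by
    intro u a
    rw [← hpair _ u.1.2, mul_assoc, ← diag_mul hd (mem_commutant.1 (hτA _ u.1.2)) (mem_commutant.1 u.1.2),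
      (hunit _).1 u.2, diag_one, mul_one]
  have hlift : ∀ f : (a : Fin D) → Ua a, ∃ u : U, ∀ a : Fin D, diag hd u.1.1 a = (f a).1 := by
    intro f
    let v : Param d → K := fun p => if h : DiagP p then
      (f ⟨d p.1.1, Nat.lt_succ_of_le (Finset.le_sup (Finset.mem_univ _))⟩).1 ⟨p.1.1, rfl⟩ ⟨p.1.2, h.1.symm⟩
      else 0
    have hx0A : ofParam d v ∈ A := mem_commutant.2 (ofParam_commute d v)
    have hx0 : ∀ a : Fin D, diag hd (ofParam d v) a = (f a).1 := by
      rintro ⟨a, ha⟩
      ext ⟨k, hk⟩ ⟨l, hl⟩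
      simp only at hk hl
      subst hk
      rw [diag_ofParam]
      simp only [of_apply, socle]
      rw [if_pos (le_of_eq hl), dif_pos (lt_min (hd _) (hd _))]
      simp only [v]
      rw [dif_pos ⟨hl.symm, rfl⟩]
    obtain ⟨z, w, hz, hw, hzw, hzd, hzs⟩ := hnorm (τ (ofParam d v) * ofParam d v) (mul_mem (hτA _ hx0A) hx0A)
      (by rw [hτmul, hττ]) fun a => hinj _ _ _ (by
        rw [diag_mul hd (mem_commutant.1 (hτA _ hx0A)) (mem_commutant.1 hx0A), ← mul_assoc, hpair _ hx0A, hx0,
          (f a).2, mul_one])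
    refine ⟨⟨⟨ofParam d v * w, mul_mem hx0A hw⟩, (hunit _).2 ?_⟩, fun a => ?_⟩
    · show τ (ofParam d v * w) * (ofParam d v * w) = 1
      rw [hτmul, mul_assoc, ← mul_assoc (τ (ofParam d v)), ← hzs, mul_assoc (τ z), hzw, mul_one, ← hτmul, hzw,
        hτone]
    · show diag hd (ofParam d v * w) a = (f a).1
      have h := diag_mul hd (mem_commutant.1 hz) (mem_commutant.1 hw) (a : ℕ)
      rw [hzw, diag_one, hzd, one_mul] at h
      rw [diag_mul hd (mem_commutant.1 hx0A) (mem_commutant.1 hw), hx0, ← h, mul_one]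
  choose L hL using hlift
  have hUmul : ∀ u u' : U, τ (u.1.1 * u'.1.1) * (u.1.1 * u'.1.1) = 1 := fun u u' => by
    rw [hτmul, mul_assoc, ← mul_assoc (τ u.1.1), (hunit _).1 u.2, one_mul, (hunit _).1 u'.2]
  have hUinv : ∀ u : U, τ (τ u.1.1) * τ u.1.1 = 1 := fun u => by
    rw [hττ]; exact mul_eq_one_comm.1 ((hunit _).1 u.2)
  let img : U → ((a : Fin D) → Ua a) := fun u a => ⟨diag hd u.1.1 a, himg u a⟩
  let inv' : U → U := fun u => ⟨⟨τ u.1.1, hτA _ u.1.2⟩, (hunit _).2 (hUinv u)⟩
  let mul' : U → U → U := fun u u' => ⟨⟨u.1.1 * u'.1.1, mul_mem u.1.2 u'.1.2⟩, (hunit _).2 (hUmul u u')⟩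
  let eU : U ≃ U1 × ((a : Fin D) → Ua a) :=
    { toFun := fun u => (⟨mul' u (inv' (L (img u))), fun a => by
          show diag hd (u.1.1 * τ (L (img u)).1.1) a = 1
          have h := diag_mul hd (mem_commutant.1 (L (img u)).1.2) (mem_commutant.1 (hτA _ (L (img u)).1.2)) (a : ℕ)
          rw [mul_eq_one_comm.1 ((hunit _).1 (L (img u)).2), diag_one, hL] at h
          rw [diag_mul hd (mem_commutant.1 u.1.2) (mem_commutant.1 (hτA _ (L (img u)).1.2))]
          exact h.symm⟩, img u)
      invFun := fun p => mul' p.1.1 (L p.2)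
      left_inv := fun u => Subtype.ext (Subtype.ext (by
        show u.1.1 * τ (L (img u)).1.1 * (L (img u)).1.1 = u.1.1
        rw [mul_assoc, (hunit _).1 (L (img u)).2, mul_one]))
      right_inv := fun p => by
        have hi : img (mul' p.1.1 (L p.2)) = p.2 := funext fun a => Subtype.ext (by
          show diag hd (p.1.1.1.1 * (L p.2).1.1) a = (p.2 a).1
          rw [diag_mul hd (mem_commutant.1 p.1.1.1.2) (mem_commutant.1 (L p.2).1.2), p.1.2, hL, one_mul])
        refine Prod.ext (Subtype.ext (Subtype.ext (Subtype.ext ?_))) hi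
        show p.1.1.1.1 * (L p.2).1.1 * τ (L (img (mul' p.1.1 (L p.2)))).1.1 = p.1.1.1.1
        rw [hi, mul_assoc, mul_eq_one_comm.1 ((hunit _).1 (L p.2).2), mul_one] }
  rw [Nat.card_congr eU, Nat.card_prod, hU1, Nat.card_pi]
  congr 1
  refine Finset.prod_congr rfl fun a _ => ?_
  obtain ⟨c, hc0, hc⟩ : ∃ c : K, c ≠ 0 ∧ σ c * (-1 : K) ^ ((a : ℕ) - 1) = c := by
    rcases Nat.even_or_odd ((a : ℕ) - 1) with h | h
    · exact ⟨1, one_ne_zero, by rw [h.neg_one_pow, map_one, one_mul]⟩
    · exact ⟨θ - σ θ, hθ', by rw [h.neg_one_pow, map_sub, hσ]; ring⟩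
  exact card_unitary hK ((Fintype.card_subtype _)) hc0 (by
    rw [adj_smul, adj_pairing hd hJH hH, smul_smul, hc]) (pairing_det_ne_zero hd hJH hHdet _)

include hd hK in
/-- The order of the centraliser in the unitary group. -/
theorem card_centralizer {n : ℕ} (e : Ix d ≃ Fin n) (u : Cfsg.GU n K q)
    (hu : IsConj (Matrix.reindex e e (Cfsg.jordanTypeMatrix d K)) ((u : GL (Fin n) K) : Matrix (Fin n) (Fin n) K)) :
    (Nat.card (Subgroup.centralizer ({u} : Set (Cfsg.GU n K q))) : ℤ) =
      (q : ℤ) ^ (2 * (∑ i ∈ range (univ.sup d + 1), ∑ j ∈ range (univ.sup d + 1),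
          if i < j then i * mult (d := d) i * mult (d := d) j else 0) +
        ∑ i ∈ range (univ.sup d + 1), (i - 1) * mult (d := d) i ^ 2) *
      ∏ i ∈ range (univ.sup d + 1), ((q : ℤ) ^ (mult (d := d) i * (mult (d := d) i - 1) / 2) *
        ∏ j : Fin (mult (d := d) i), ((q : ℤ) ^ ((j : ℕ) + 1) - (-1) ^ ((j : ℕ) + 1))) := by
  classical
  set σ := CfsgLib.Forms.frobQ hK with hσdef
  have hσ : ∀ a, σ (σ a) = a := CfsgLib.Forms.frobQ_invol hK
  obtain ⟨c, hc⟩ := hu
  set J := Cfsg.jordanTypeMatrix d K with hJ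
  set back := Matrix.reindexAlgEquiv K K e.symm with hback
  set C := back (c : Matrix (Fin n) (Fin n) K) with hCdef
  set C' := back ((c⁻¹ : (Matrix (Fin n) (Fin n) K)ˣ) : Matrix (Fin n) (Fin n) K) with hC'def
  have hCC' : C * C' = 1 := by rw [hCdef, hC'def, ← map_mul, Units.mul_inv, map_one]
  have hC'C : C' * C = 1 := mul_eq_one_comm.1 hCC'
  set V := back ((u : GL (Fin n) K) : Matrix (Fin n) (Fin n) K) with hV
  have hCJ : C * J = V * C := by
    have h : (c : Matrix (Fin n) (Fin n) K) * Matrix.reindex e e J =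
        ((u : GL (Fin n) K) : Matrix (Fin n) (Fin n) K) * c := hc
    have h' := congrArg back h
    rw [map_mul, map_mul] at h'
    have hJ' : back (Matrix.reindex e e J) = J := by
      ext i j; simp [hback]
    rw [hJ'] at h'
    exact h'
  have hback_adj : ∀ M : Matrix (Fin n) (Fin n) K, back (adj σ M) = adj σ (back M) := fun M => rfl
  have hVu : adj σ V * V = 1 := by
    rw [hV, ← hback_adj, ← map_mul, (mem_GU_iff_adj hK).1 u.2, map_one]
  set H := adj σ C * C with hH
  set H' := C' * adj σ C' with hH'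
  have hHH' : H * H' = 1 := by
    rw [hH, hH', mul_assoc, ← mul_assoc C, hCC', one_mul, ← adj_mul, hC'C, adj_one]
  have hHadj : adj σ H = H := by rw [hH, adj_mul, adj_adj hσ]
  have hJH : adj σ J * H * J = H := by
    calc adj σ J * (adj σ C * C) * J = adj σ (C * J) * (C * J) := by simp only [adj_mul, mul_assoc]
      _ = adj σ C * (adj σ V * V) * C := by rw [hCJ]; simp only [adj_mul, mul_assoc]
      _ = H := by rw [hVu, mul_one]
  have h1 : J = C' * V * C := by
    rw [mul_assoc, ← hCJ, ← mul_assoc, hC'C, one_mul]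
  have key : ∀ M : {M : commutant (K := K) d // adj σ M.1 * H * M.1 = H},
      adj σ (back.symm (C * M.1.1 * C')) * back.symm (C * M.1.1 * C') = 1 := by
    intro M
    apply EquivLike.injective back
    rw [map_mul back, hback_adj, map_one, AlgEquiv.apply_symm_apply]
    calc adj σ (C * M.1.1 * C') * (C * M.1.1 * C') = adj σ C' * (adj σ M.1.1 * H * M.1.1) * C' := by
          simp only [hH, adj_mul, mul_assoc]
      _ = (adj σ C' * adj σ C) * (C * C') := by rw [M.2, hH]; simp only [mul_assoc]
      _ = 1 := by rw [← adj_mul, hCC', adj_one, mul_one]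
  let e0 : Subgroup.centralizer ({u} : Set (Cfsg.GU n K q)) ≃
      {M : commutant (K := K) d // adj σ M.1 * H * M.1 = H} :=
    { toFun := fun g =>
        ⟨⟨C' * back ((g.1 : GL (Fin n) K) : Matrix (Fin n) (Fin n) K) * C, by
          rw [mem_commutant, ← commute_iff_shift, ← hJ, h1]
          have hg : back ((g.1 : GL (Fin n) K) : Matrix (Fin n) (Fin n) K) * V =
              V * back ((g.1 : GL (Fin n) K) : Matrix (Fin n) (Fin n) K) := by
            rw [hV, ← map_mul, ← map_mul]
            exact congrArg back (congrArg (fun z : Cfsg.GU n K q => ((z : GL (Fin n) K) : Matrix (Fin n) (Fin n) K))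
              (Subgroup.mem_centralizer_singleton_iff.1 g.2))
          set X := back ((g.1 : GL (Fin n) K) : Matrix (Fin n) (Fin n) K)
          calc C' * X * C * (C' * V * C) = C' * (X * (C * C') * V) * C := by simp only [mul_assoc]
            _ = C' * (V * (C * C') * X) * C := by rw [hCC', mul_one, mul_one, hg]
            _ = C' * V * C * (C' * X * C) := by simp only [mul_assoc]⟩, by
          have hg : adj σ (back ((g.1 : GL (Fin n) K) : Matrix (Fin n) (Fin n) K)) *
              back ((g.1 : GL (Fin n) K) : Matrix (Fin n) (Fin n) K) = 1 := by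
            rw [← hback_adj, ← map_mul, (mem_GU_iff_adj hK).1 g.1.2, map_one]
          set X := back ((g.1 : GL (Fin n) K) : Matrix (Fin n) (Fin n) K)
          show adj σ (C' * X * C) * (adj σ C * C) * (C' * X * C) = adj σ C * C
          calc adj σ (C' * X * C) * (adj σ C * C) * (C' * X * C)
              = adj σ C * (adj σ X * ((adj σ C' * adj σ C) * (C * C')) * X) * C := by simp only [adj_mul, mul_assoc]
            _ = _ := by rw [← adj_mul, hCC', adj_one, one_mul, mul_one, hg, mul_one]⟩
      invFun := fun M =>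
        ⟨⟨⟨back.symm (C * M.1.1 * C'), adj σ (back.symm (C * M.1.1 * C')),
            mul_eq_one_comm.1 (key M), key M⟩, (mem_GU_iff_adj hK).2 (key M)⟩, by
          rw [Subgroup.mem_centralizer_singleton_iff]
          refine Subtype.ext (Units.ext (EquivLike.injective back ?_))
          show back (back.symm (C * M.1.1 * C') * ((u : GL (Fin n) K) : Matrix (Fin n) (Fin n) K)) =
            back (((u : GL (Fin n) K) : Matrix (Fin n) (Fin n) K) * back.symm (C * M.1.1 * C'))
          simp only [map_mul, AlgEquiv.apply_symm_apply, ← hV]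
          have hMJ := (commute_iff_shift d _).2 (mem_commutant.1 M.1.2)
          have hV' : V = C * J * C' := by rw [hCJ, mul_assoc, hCC', mul_one]
          calc C * M.1.1 * C' * V = C * (M.1.1 * (C' * C) * J) * C' := by rw [hV']; simp only [mul_assoc]
            _ = C * (J * (C' * C) * M.1.1) * C' := by rw [hC'C, mul_one, mul_one, hMJ]
            _ = V * (C * M.1.1 * C') := by rw [hV']; simp only [mul_assoc]⟩
      left_inv := fun g => Subtype.ext (Subtype.ext (Units.ext (by
        show back.symm (C * (C' * back ((g.1 : GL (Fin n) K) : Matrix (Fin n) (Fin n) K) * C) * C') = _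
        rw [show ∀ X : Matrix (Ix d) (Ix d) K, C * (C' * X * C) * C' = X from fun X => by
          calc C * (C' * X * C) * C' = (C * C') * X * (C * C') := by simp only [mul_assoc]
            _ = X := by rw [hCC', one_mul, mul_one], AlgEquiv.symm_apply_apply])))
      right_inv := fun M => Subtype.ext (Subtype.ext (by
        show C' * back (back.symm (C * M.1.1 * C')) * C = M.1.1
        rw [AlgEquiv.apply_symm_apply]
        calc C' * (C * M.1.1 * C') * C = (C' * C) * M.1.1 * (C' * C) := by simp only [mul_assoc]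
          _ = M.1.1 := by rw [hC'C, one_mul, mul_one])) }
  rw [Nat.card_congr e0, card_unitary_commutant hd hK hHadj hHH' hJH, exponent_eq hd, Nat.cast_mul, Nat.cast_pow,
    Nat.cast_prod, ← Fin.prod_univ_eq_prod_range]
  congr 1
  refine Finset.prod_congr rfl fun a _ => ?_
  rw [card_GU hK, Nat.cast_mul, Nat.cast_pow, Nat.cast_prod,
    ← Fin.prod_univ_eq_prod_range (fun i => ((if Even i then q ^ (i + 1) + 1 else q ^ (i + 1) - 1 : ℕ) : ℤ))]
  congr 1
  refine Finset.prod_congr rfl fun j _ => ?_
  have hq : 1 ≤ q := Nat.pos_of_ne_zero fun h0 => by rw [h0] at hK; simp at hK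
  split_ifs with h
  · rw [(Even.add_one h).neg_one_pow]; push_cast; ring
  · rw [(Nat.not_even_iff_odd.1 h).add_one.neg_one_pow, Nat.cast_sub (Nat.one_le_pow _ _ hq)]
    push_cast; ring

end Count

end CfsgLib.Geo.JordanCentralizerGU
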