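import Cfsg.Agent.Geo.JordanSp
import Cfsg.Agent.S2585
import Cfsg.Agent.Classical.SemisimpleCore
import Cfsg.Prelude.Def_Classical
import Mathlib.LinearAlgebra.QuadraticForm.Basic

/-!
Jordan types of unipotent elements of orthogonal groups.
-/

set_option autoImplicit false
set_option linter.style.haveILetI false

namespace CfsgLib.Geo.JordanO

open Matrix CfsgLib.SemiConj CfsgLib.Geo.JordanSp

variable {F : Type*} [Field F]

section parity

variable {ι : Type*} [Fintype ι] [DecidableEq ι] {G G' A : Matrix ι ι F}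

theorem G_adj (hG : G * G' = 1) (M : Matrix ι ι F) : G * adjG G G' M = Mᵀ * G := by
  rw [adjG, ← mul_assoc, ← mul_assoc, hG, one_mul]

theorem iso_data (hG : G * G' = 1) (hA : Aᵀ * G * A = G) :
    adjG G G' A * A = 1 ∧ A * adjG G G' A = 1 ∧ Commute (adjG G G' A) (A - 1) := by
  have h1 : adjG G G' A * A = 1 := by
    rw [adjG, mul_assoc, mul_assoc, ← mul_assoc Aᵀ, hA, mul_eq_one_comm.1 hG]
  have h2 := mul_eq_one_comm.1 h1
  exact ⟨h1, h2, (show Commute (adjG G G' A) A from h1.trans h2.symm).sub_right (Commute.one_right _)⟩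

theorem adj_pow_nil (hG : G * G' = 1) (hA : Aᵀ * G * A = G) (s : ℕ) :
    ((A - 1) ^ s)ᵀ * G = G * ((-adjG G G' A) ^ s * (A - 1) ^ s) := by
  obtain ⟨h1, -, h3⟩ := iso_data hG hA
  have hN : adjG G G' (A - 1) = -adjG G G' A * (A - 1) := by
    rw [adjG_sub, adjG_one hG, neg_mul, mul_sub, h1, mul_one, neg_sub]
  rw [← G_adj hG, adjG_pow hG, hN, h3.neg_left.mul_pow]

theorem isUnit_adj (hG : G * G' = 1) (hA : Aᵀ * G * A = G) : IsUnit (adjG G G' A) :=
  IsUnit.of_mul_eq_one A (iso_data hG hA).1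

theorem even_rank_even (hG : G * G' = 1) (hskew : Gᵀ = -G) (halt : ∀ x, x ⬝ᵥ G *ᵥ x = 0)
    (hA : Aᵀ * G * A = G) (s : ℕ) : Even ((A - 1) ^ (2 * s)).rank := by
  set M := ((A - 1) ^ s)ᵀ * G * (A - 1) ^ s with hM
  have h1 : Mᵀ = -M := by
    rw [hM, transpose_mul, transpose_mul, transpose_transpose, hskew, neg_mul, mul_neg, mul_assoc]
  have h2 : ∀ x, x ⬝ᵥ M *ᵥ x = 0 := fun x => by
    rw [hM, ← mulVec_mulVec, ← mulVec_mulVec, dotProduct_mulVec x, vecMul_transpose]
    exact halt _
  have h := even_rank_alt h1 h2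
  rw [hM, adj_pow_nil hG hA, mul_assoc, mul_assoc, ← pow_add, ← two_mul,
    Matrix.rank_mul_eq_right_of_isUnit_det _ _
      ((Matrix.isUnit_iff_isUnit_det _).mp (IsUnit.of_mul_eq_one G' hG)),
    Matrix.rank_mul_eq_right_of_isUnit_det _ _
      ((Matrix.isUnit_iff_isUnit_det _).mp ((isUnit_adj hG hA).neg.pow s))] at h
  exact h

theorem even_rank_odd (h2 : (2 : F) ≠ 0) (hG : G * G' = 1) (hsymm : Gᵀ = G) (hA : Aᵀ * G * A = G)
    (hu : IsUnit (A + 1)) (s : ℕ) : Even ((A - 1) ^ (2 * s + 1)).rank := by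
  obtain ⟨e1, e2, e3⟩ := iso_data hG hA
  set u := adjG G G' A with hudef
  set N := A - 1 with hN
  set M := (N ^ s)ᵀ * G * (A - u) * N ^ s with hM
  have hK : (G * (A - u))ᵀ = -(G * (A - u)) := by
    have hAu : G * u = Aᵀ * G := G_adj hG A
    have huA : uᵀ * G = G * A := by
      have h := congrArg Matrix.transpose hAu
      rwa [transpose_mul, transpose_mul, transpose_transpose, hsymm] at h
    rw [transpose_mul, transpose_sub, hsymm, sub_mul, ← hAu, huA, mul_sub, neg_sub]
  have h1 : Mᵀ = -M := by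
    rw [hM, mul_assoc _ G, transpose_mul, transpose_mul, transpose_transpose, hK, neg_mul, mul_neg,
      ← mul_assoc (N ^ s)ᵀ (G * (A - u))]
  have h2' : ∀ x, x ⬝ᵥ M *ᵥ x = 0 := fun x => by
    have h : x ⬝ᵥ M *ᵥ x = -(x ⬝ᵥ M *ᵥ x) := by
      conv_lhs => rw [dotProduct_mulVec, ← mulVec_transpose, h1, neg_mulVec, neg_dotProduct, dotProduct_comm]
    have h' : (2 : F) * (x ⬝ᵥ M *ᵥ x) = 0 := by linear_combination h
    exact (mul_eq_zero.mp h').resolve_left h2
  have hM' : M = G * ((-u) ^ s * (u * (A + 1))) * N ^ (2 * s + 1) := by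
    have hAd : A - u = u * (A + 1) * N := by
      rw [hN, mul_assoc, show (A + 1) * (A - 1) = A * A - 1 by noncomm_ring, mul_sub, ← mul_assoc, e1,
        one_mul, mul_one]
    have hc : Commute (N ^ s) (u * (A + 1)) :=
      (e3.mul_left ((((Commute.refl A).sub_right (Commute.one_right A))).add_left
        (Commute.one_left _))).symm.pow_left s
    rw [hM, adj_pow_nil hG hA, ← hudef, ← hN, hAd]
    simp only [mul_assoc]
    rw [← mul_assoc u (A + 1), ← mul_assoc (N ^ s) (u * (A + 1)), hc.eq]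
    simp only [mul_assoc, ← pow_succ', ← pow_add]
    rw [show s + (s + 1) = 2 * s + 1 by ring]
  have h := even_rank_alt h1 h2'
  rw [hM', Matrix.rank_mul_eq_right_of_isUnit_det] at h
  · exact h
  · refine (Matrix.isUnit_iff_isUnit_det _).mp ?_
    exact (IsUnit.of_mul_eq_one G' hG).mul (((isUnit_adj hG hA).neg.pow s).mul ((isUnit_adj hG hA).mul hu))

end parity

variable {n : ℕ}

theorem polar_matrix {Q : QuadraticForm F (Fin n → F)} (hQ : (QuadraticMap.polarBilin Q).Nondegenerate)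
    (A : Cfsg.isometryGroup F ⇑Q) :
    ∃ G G' : Matrix (Fin n) (Fin n) F, G * G' = 1 ∧ Gᵀ = G ∧
      (∀ x, x ⬝ᵥ G *ᵥ x = 2 * Q x) ∧
      ((A : GL (Fin n) F) : Matrix (Fin n) (Fin n) F)ᵀ * G * ((A : GL (Fin n) F) : Matrix (Fin n) (Fin n) F) = G := by
  set B : LinearMap.BilinForm F (Fin n → F) := QuadraticMap.polarBilin Q with hB
  set G := LinearMap.BilinForm.toMatrix' B with hG
  have hGB : ∀ x y, x ⬝ᵥ G *ᵥ y = QuadraticMap.polar Q x y := fun x y => by
    rw [← Matrix.toBilin'_apply', hG, Matrix.toBilin'_toMatrix']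
    rfl
  have hBn : LinearMap.BilinForm.Nondegenerate B := hQ
  have hdet : G.det ≠ 0 := LinearMap.BilinForm.nondegenerate_iff_det_ne_zero (Pi.basisFun F (Fin n)) |>.mp hBn |> fun h => by
    convert h using 2
    ext i j
    simp [hG, LinearMap.BilinForm.toMatrix'_apply, LinearMap.BilinForm.toMatrix_apply]
  refine ⟨G, G⁻¹, Matrix.mul_nonsing_inv _ (isUnit_iff_ne_zero.2 hdet), ?_, ?_, ?_⟩
  · ext i j
    rw [transpose_apply, hG, LinearMap.BilinForm.toMatrix'_apply, LinearMap.BilinForm.toMatrix'_apply]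
    exact QuadraticMap.polar_comm _ _ _
  · intro x
    rw [hGB, QuadraticMap.polar_self, nsmul_eq_mul]; rfl
  · refine Matrix.toBilin'.injective (LinearMap.ext₂ fun x y => ?_)
    rw [Matrix.toBilin'_apply', Matrix.toBilin'_apply', ← mulVec_mulVec, ← mulVec_mulVec, dotProduct_mulVec x,
      vecMul_transpose, hGB, hGB]
    have hiso : ∀ z, Q (((A : GL (Fin n) F) : Matrix (Fin n) (Fin n) F) *ᵥ z) = Q z := fun z => A.2 z z
    simp only [QuadraticMap.polar, ← mulVec_add, hiso]

theorem isConj_jordan [Finite F] {t : ℕ} {d : Fin t → ℕ} (hsum : ∑ k, d k = n)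
    {M : Matrix (Fin n) (Fin n) F} (hM : ∀ k, ((M - 1) ^ k).rank = ∑ i, (d i - k))
    (e : ((k : Fin t) × Fin (d k)) ≃ Fin n) :
    IsConj (Matrix.reindex e e (Cfsg.jordanTypeMatrix d F)) M := by
  set X := Matrix.reindex e e (Cfsg.jordanTypeMatrix d F)
  have hX : ∀ k, ((X - 1) ^ k).rank = ∑ i, (d i - k) := fun k => by
    rw [rank_pow_reindex, rank_jordanType]
  have h0 : ∑ i, (d i - n) = 0 := Finset.sum_eq_zero fun i _ => Nat.sub_eq_zero_of_le
    (hsum ▸ Finset.single_le_sum (fun k _ => Nat.zero_le (d k)) (Finset.mem_univ i))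
  have hz : ∀ N : Matrix (Fin n) (Fin n) F, (∀ k, ((N - 1) ^ k).rank = ∑ i, (d i - k)) → (N - 1) ^ n = 0 := by
    intro N hN
    have h := hN n
    rw [h0] at h
    refine Matrix.toLin'.injective ?_
    rw [map_zero]
    exact LinearMap.range_eq_bot.mp (Submodule.finrank_eq_zero.mp h)
  have hu : ∀ N : Matrix (Fin n) (Fin n) F, (N - 1) ^ n = 0 → IsUnit N := fun N hN => by
    have := IsNilpotent.isUnit_one_add (r := N - 1) ⟨_, hN⟩
    rwa [add_sub_cancel] at this
  obtain ⟨g, hg⟩ := hu _ (hz X hX)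
  obtain ⟨g', hg'⟩ := hu _ (hz M hM)
  have h := (Units.coeHom _).map_isConj (GUUnipotent.isConj_of_rank (g := g) (h := g')
    (by rw [hg]; exact hz X hX) (by rw [hg']; exact hz M hM) (fun k => by rw [hg, hg', hX, hM]))
  rwa [Units.coeHom_apply, Units.coeHom_apply, hg, hg'] at h

theorem rank_of_isConj {X M : Matrix (Fin n) (Fin n) F} (h : IsConj X M) (k : ℕ) :
    ((X - 1) ^ k).rank = ((M - 1) ^ k).rank := by
  obtain ⟨c, hc⟩ := h
  have hsc : SemiconjBy (c : Matrix (Fin n) (Fin n) F) ((X - 1) ^ k) ((M - 1) ^ k) := by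
    refine SemiconjBy.pow_right ?_ _
    show _ * (X - 1) = (M - 1) * _
    rw [mul_sub, sub_mul, hc.eq, mul_one, one_mul]
  have hdet := (Matrix.isUnit_iff_isUnit_det _).mp c.isUnit
  have h1 := congrArg Matrix.rank hsc.eq
  rwa [Matrix.rank_mul_eq_right_of_isUnit_det _ _ hdet, Matrix.rank_mul_eq_left_of_isUnit_det _ _ hdet] at h1

theorem jordanType_in_O_char_two_iff [Fintype F] [CharP F 2] {m t : ℕ} (d : Fin t → ℕ) (hsum : ∑ k, d k = 2 * m) :
    (∃ Q : QuadraticForm F (Fin (2 * m) → F), (QuadraticMap.polarBilin Q).Nondegenerate ∧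
      ∃ e : ((k : Fin t) × Fin (d k)) ≃ Fin (2 * m), ∃ A : ↥(Cfsg.isometryGroup F ⇑Q),
        IsConj (Matrix.reindex e e (Cfsg.jordanTypeMatrix d F))
          ((A : GL (Fin (2 * m)) F) : Matrix (Fin (2 * m)) (Fin (2 * m)) F)) ↔
      ∀ j : ℕ, Odd j → Even (Finset.univ.filter (fun k : Fin t => d k = j)).card := by
  classical
  set l := (Finset.univ : Finset (Fin t)).val.map d
  have hmap : ∀ k, (l.map fun x => x - k).sum = ∑ i, (d i - k) := fun k => by
    simp only [l, Multiset.map_map, Function.comp_apply]; rfl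
  have hcount : ∀ j, l.count j = (Finset.univ.filter (fun k : Fin t => d k = j)).card := fun j => by
    rw [Multiset.count_map, Finset.card_def, Finset.filter_val]
    congr 1
    exact Multiset.filter_congr fun x _ => eq_comm
  constructor
  · rintro ⟨Q, hQ, e, A, hc⟩ j hj
    rw [← hcount]
    refine even_count_of_sums (fun s => ?_) hj
    obtain ⟨G, G', hG, hsymm, hdiag, hA⟩ := polar_matrix hQ A
    rw [hmap, ← rank_jordanType (F := F), ← rank_pow_reindex e, rank_of_isConj hc]
    refine even_rank_even hG ?_ (fun x => by rw [hdiag, CharTwo.two_eq_zero, zero_mul]) hA s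
    rw [hsymm]; ext i j; rw [Matrix.neg_apply, CharTwo.neg_eq]
  · intro h
    obtain ⟨r, A, hs, hA⟩ := exists_type (F := F) _ l rfl (fun j hj => by rw [hcount]; exact h j hj)
    have hsl : l.sum = ∑ k, d k := rfl
    obtain rfl : r = m := by omega
    obtain ⟨Q, hQp, hQA⟩ := Cfsg.Agent.S2585.result A
    let f : Fin r ⊕ Fin r ≃ Fin (2 * r) := finSumFinEquiv.trans (finCongr (two_mul r).symm)
    let L : (Fin (2 * r) → F) ≃ₗ[F] (Fin r ⊕ Fin r → F) := LinearEquiv.funCongrLeft F F f
    let Q' : QuadraticForm F (Fin (2 * r) → F) := Q.comp L.toLinearMap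
    have hQ'p : ∀ u v, QuadraticMap.polar Q' u v = Cfsg.sympForm r F (L u) (L v) := fun u v => by
      rw [← hQp]
      simp [Q', QuadraticMap.polar, map_add]
    let M := Matrix.reindex f f (A : Matrix (Fin r ⊕ Fin r) (Fin r ⊕ Fin r) F)
    have hAinv : M * Matrix.reindex f f ((A⁻¹ : Matrix.symplecticGroup (Fin r) F) :
        Matrix (Fin r ⊕ Fin r) (Fin r ⊕ Fin r) F) = 1 := by
      show Matrix.reindexAlgEquiv F F f _ * Matrix.reindexAlgEquiv F F f _ = 1
      rw [← map_mul, ← Submonoid.coe_mul, mul_inv_cancel, OneMemClass.coe_one, map_one]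
    let g : GL (Fin (2 * r)) F := ⟨M, _, hAinv, mul_eq_one_comm.1 hAinv⟩
    have hL : ∀ v, L (M *ᵥ v) = (A : Matrix (Fin r ⊕ Fin r) (Fin r ⊕ Fin r) F) *ᵥ L v := fun v => by
      funext i
      show (M *ᵥ v) (f i) = _
      simp only [M, Matrix.reindex_apply, Matrix.submatrix_mulVec_equiv]
      simp [L, LinearEquiv.funCongrLeft_apply, LinearMap.funLeft]
    have hg : g ∈ Cfsg.isometryGroup F ⇑Q' := fun u _ => by
      show Q (L (M *ᵥ u)) = Q (L u)
      rw [hL, hQA]
    refine ⟨Q', ?_, (Fintype.equivOfCardEq (by simp [hsum])), ⟨g, hg⟩, ?_⟩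
    · have key : ∀ u, (∀ v, QuadraticMap.polar Q' u v = 0) → u = 0 := fun u hu => by
        refine L.map_eq_zero_iff.mp (CfsgLib.Symp.eq_zero_of_form_eq_zero fun w => ?_)
        have := hu (L.symm w)
        rw [hQ'p, L.apply_symm_apply] at this
        rw [CfsgLib.Symp.form_swap, neg_eq_zero]
        exact this
      exact ⟨fun u hu => key u hu, fun u hu => key u fun v => by rw [QuadraticMap.polar_comm]; exact hu v⟩
    · refine isConj_jordan hsum (fun k => ?_) _
      rw [← hmap, ← hA, rank_pow_reindex]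

/-- An orthogonal element of given block sizes. -/
def Good (F : Type*) [Field F] (n : ℕ) (r : ℕ → ℕ) : Prop :=
  ∃ G A : Matrix (Fin n) (Fin n) F, Gᵀ = G ∧ G * G = 1 ∧ Aᵀ * G * A = G ∧ ∀ k, ((A - 1) ^ k).rank = r k

theorem good_of_equiv {ι : Type*} [Fintype ι] [DecidableEq ι] (e : ι ≃ Fin n) {G A : Matrix ι ι F}
    {r : ℕ → ℕ} (h1 : Gᵀ = G) (h2 : G * G = 1) (h3 : Aᵀ * G * A = G)
    (h4 : ∀ k, ((A - 1) ^ k).rank = r k) : Good F n r := by
  refine ⟨Matrix.reindex e e G, Matrix.reindex e e A, ?_, ?_, ?_, fun k => by rw [rank_pow_reindex, h4]⟩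
  · simp only [Matrix.reindex_apply, Matrix.transpose_submatrix, h1]
  · simp only [Matrix.reindex_apply, Matrix.submatrix_mul_equiv, h2]
    exact Matrix.submatrix_one_equiv _
  · simp only [Matrix.reindex_apply, Matrix.transpose_submatrix, Matrix.submatrix_mul_equiv, h3]

theorem good_add [Finite F] {a b : ℕ} {r s : ℕ → ℕ} (ha : Good F a r) (hb : Good F b s) :
    Good F (a + b) (fun k => r k + s k) := by
  obtain ⟨G, A, h1, h2, h3, h4⟩ := ha
  obtain ⟨G', A', h1', h2', h3', h4'⟩ := hb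
  refine good_of_equiv finSumFinEquiv (G := Matrix.fromBlocks G 0 0 G') (A := Matrix.fromBlocks A 0 0 A')
    ?_ ?_ ?_ fun k => ?_
  · simp [Matrix.fromBlocks_transpose, h1, h1']
  · simp [Matrix.fromBlocks_multiply, h2, h2']
  · simp [Matrix.fromBlocks_transpose, Matrix.fromBlocks_multiply, h3, h3']
  · rw [fromBlocks_sub_one, Matrix.fromBlocks_diagonal_pow, rank_fromBlocks_diag, h4, h4']

theorem good_pair [Finite F] (x : ℕ) : Good F (x + x) (fun k => 2 * (x - k)) := by
  obtain ⟨h1, h2⟩ := jordanBlock_regular (F := F) x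
  have hu : IsUnit (Cfsg.jordanBlock x F) := by
    have := IsNilpotent.isUnit_one_add (r := Cfsg.jordanBlock x F - 1) ⟨x, h1⟩
    rwa [add_sub_cancel] at this
  obtain ⟨g, hg⟩ := hu
  refine good_of_equiv finSumFinEquiv (G := Matrix.fromBlocks 0 1 1 0)
    (A := Matrix.fromBlocks (g : Matrix (Fin x) (Fin x) F) 0 0 ((g⁻¹ : GL (Fin x) F).val)ᵀ) ?_ ?_ ?_ fun k => ?_
  · simp [Matrix.fromBlocks_transpose]
  · simp [Matrix.fromBlocks_multiply]
  · simp [Matrix.fromBlocks_transpose, Matrix.fromBlocks_multiply, ← Matrix.transpose_mul]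
  · rw [fromBlocks_sub_one, Matrix.fromBlocks_diagonal_pow,
      rank_fromBlocks_diag, ← Matrix.transpose_one (n := Fin x), ← Matrix.transpose_sub,
      ← Matrix.transpose_pow, Matrix.rank_transpose, Matrix.transpose_one, rank_pow_inv, hg,
      rank_pow_regular (Fintype.card_fin x) h1 h2]
    ring

theorem good_odd [Finite F] (h2 : (2 : F) ≠ 0) (r : ℕ) : Good F (2 * r + 1) (fun k => 2 * r + 1 - k) := by
  obtain ⟨hN, hrk⟩ := jordanBlock_regular (F := F) (2 * r + 1)
  set N := Cfsg.jordanBlock (2 * r + 1) F - 1 with hNdef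
  let G : Matrix (Fin (2 * r + 1)) (Fin (2 * r + 1)) F := Matrix.of fun i j =>
    if (i : ℕ) + j = 2 * r then (-1) ^ (i : ℕ) else 0
  have hNe : ∀ i j, N i j = if (i : ℕ) = j + 1 then 1 else 0 := by
    intro i j
    simp only [hNdef, Cfsg.jordanBlock, Matrix.sub_apply, Matrix.of_apply, Matrix.one_apply, Fin.ext_iff]
    split_ifs <;> first | omega | simp
  have hGs : Gᵀ = G := by
    ext i j
    simp only [G, transpose_apply, Matrix.of_apply, add_comm (j : ℕ)]
    split_ifs with h
    · rw [neg_one_pow_eq_pow_mod_two, neg_one_pow_eq_pow_mod_two (n := (i : ℕ)),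
        show (j : ℕ) % 2 = (i : ℕ) % 2 by omega]
    · rfl
  have hGG : G * G = 1 := by
    ext i j
    rw [Matrix.mul_apply, Finset.sum_eq_single ⟨2 * r - i, by omega⟩]
    · simp only [G, Matrix.of_apply, Matrix.one_apply, Fin.ext_iff]
      rw [if_pos (by omega)]
      split_ifs with h h' h'
      · rw [← pow_add, show (i : ℕ) + (2 * r - i) = 2 * r by omega, pow_mul, neg_one_sq, one_pow]
      · omega
      · omega
      · rw [mul_zero]
    · intro b _ hb
      have : (i : ℕ) + b ≠ 2 * r := fun h => hb (Fin.ext (by simp only; omega))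
      simp [G, this]
    · simp
  have hskew : Nᵀ * G + G * N = 0 := by
    ext i j
    rw [Matrix.add_apply, Matrix.mul_apply, Matrix.mul_apply, Matrix.zero_apply]
    have e1 : ∑ b, Nᵀ i b * G b j = if (i : ℕ) + 1 + j = 2 * r then (-1) ^ ((i : ℕ) + 1) else 0 := by
      by_cases hi : (i : ℕ) + 1 < 2 * r + 1
      · rw [Finset.sum_eq_single ⟨i + 1, hi⟩]
        · simp [G, transpose_apply, hNe]
        · intro b _ hb
          rw [transpose_apply, hNe, if_neg (fun h => hb (Fin.ext h)), zero_mul]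
        · simp
      · rw [Finset.sum_eq_zero fun b _ => by rw [transpose_apply, hNe, if_neg (by omega), zero_mul],
          if_neg (by omega)]
    have e2 : ∑ b, G i b * N b j = if (i : ℕ) + 1 + j = 2 * r then (-1) ^ (i : ℕ) else 0 := by
      by_cases hj : (j : ℕ) + 1 < 2 * r + 1
      · rw [Finset.sum_eq_single ⟨j + 1, hj⟩]
        · simp [G, hNe, add_assoc, add_comm 1 (j : ℕ)]
        · intro b _ hb
          rw [hNe, if_neg (fun h => hb (Fin.ext h)), mul_zero]
        · simp
      · rw [Finset.sum_eq_zero fun b _ => by rw [hNe, if_neg (by omega), mul_zero], if_neg (by omega)]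
    rw [e1, e2]
    split_ifs <;> simp [pow_succ]
  obtain ⟨P, hP⟩ := IsNilpotent.isUnit_one_add (r := N) ⟨_, hN⟩
  set A := (1 - N) * (↑P⁻¹ : Matrix (Fin (2 * r + 1)) (Fin (2 * r + 1)) F) with hAdef
  have hA : Aᵀ * G * A = G := by
    have h3 : (1 - N)ᵀ * G * (1 - N) = (1 + N)ᵀ * G * (1 + N) := by
      have hNG : Nᵀ * G = -(G * N) := eq_neg_of_add_eq_zero_left hskew
      simp only [transpose_sub, transpose_add, transpose_one, sub_mul, add_mul, one_mul, mul_sub, mul_add,
        mul_one, hNG, neg_mul]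
      noncomm_ring
    rw [hAdef, transpose_mul,
      show (↑P⁻¹ : Matrix (Fin (2 * r + 1)) (Fin (2 * r + 1)) F)ᵀ * (1 - N)ᵀ * G * ((1 - N) * ↑P⁻¹) =
        (↑P⁻¹ : Matrix (Fin (2 * r + 1)) (Fin (2 * r + 1)) F)ᵀ * ((1 - N)ᵀ * G * (1 - N)) * ↑P⁻¹ by
        simp only [mul_assoc], h3, ← hP,
      show (↑P⁻¹ : Matrix (Fin (2 * r + 1)) (Fin (2 * r + 1)) F)ᵀ *
          ((↑P : Matrix (Fin (2 * r + 1)) (Fin (2 * r + 1)) F)ᵀ * G * ↑P) * ↑P⁻¹ =
        ((↑P⁻¹ : Matrix (Fin (2 * r + 1)) (Fin (2 * r + 1)) F)ᵀ * (↑P)ᵀ) * G * (↑P * ↑P⁻¹) by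
        simp only [mul_assoc], ← transpose_mul, Units.mul_inv, transpose_one, one_mul, mul_one]
  have hA1 : A - 1 = (-(2 : F) • (↑P⁻¹ : Matrix (Fin (2 * r + 1)) (Fin (2 * r + 1)) F)) * N := by
    have hc : Commute (↑P⁻¹ : Matrix (Fin (2 * r + 1)) (Fin (2 * r + 1)) F) N :=
      (show Commute (↑P : Matrix (Fin (2 * r + 1)) (Fin (2 * r + 1)) F) N by
        rw [hP]; exact (Commute.one_left _).add_left (Commute.refl _)).units_inv_left
    calc A - 1 = (1 - N) * (↑P⁻¹ : Matrix _ _ F) - (1 + N) * ↑P⁻¹ := by rw [hAdef, ← hP, Units.mul_inv]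
      _ = -(2 : F) • (N * (↑P⁻¹ : Matrix _ _ F)) := by rw [← sub_mul, neg_smul, two_smul]; noncomm_ring
      _ = _ := by rw [← hc.eq, smul_mul_assoc]
  refine good_of_equiv (Equiv.refl _) hGs hGG hA fun k => ?_
  have hc : Commute (-(2 : F) • (↑P⁻¹ : Matrix (Fin (2 * r + 1)) (Fin (2 * r + 1)) F)) N :=
    ((show Commute (↑P : Matrix (Fin (2 * r + 1)) (Fin (2 * r + 1)) F) N by
      rw [hP]; exact (Commute.one_left _).add_left (Commute.refl _)).units_inv_left).smul_left _
  rw [hA1, hc.mul_pow, Matrix.rank_mul_eq_right_of_isUnit_det,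
    rank_pow_regular (Fintype.card_fin _) hN hrk]
  refine (Matrix.isUnit_iff_isUnit_det _).mp (IsUnit.pow k ?_)
  refine IsUnit.of_mul_eq_one ((-(2 : F))⁻¹ • (↑P : Matrix (Fin (2 * r + 1)) (Fin (2 * r + 1)) F)) ?_
  rw [smul_mul_smul_comm, Units.inv_mul, mul_inv_cancel₀ (neg_ne_zero.2 h2), one_smul]

theorem exists_type_O [Finite F] (h2 : (2 : F) ≠ 0) : ∀ (c : ℕ) (l : Multiset ℕ), Multiset.card l = c →
    (∀ j, Even j → 0 < j → Even (l.count j)) → Good F l.sum (fun k => (l.map fun x => x - k).sum) := by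
  intro c
  induction c using Nat.strong_induction_on with
  | _ c ih =>
    intro l hc hl
    rcases Multiset.empty_or_exists_mem l with rfl | ⟨x, hx⟩
    · refine ⟨1, 1, transpose_one, one_mul 1, by rw [transpose_one, one_mul, one_mul], fun k => ?_⟩
      have h : ∀ B : Matrix (Fin 0) (Fin 0) F, B.rank = 0 := fun B => by
        simpa using B.rank_le_card_width
      exact h _
    obtain ⟨l', rfl⟩ := Multiset.exists_cons_of_mem hx
    rw [Multiset.card_cons] at hc
    rcases Nat.even_or_odd x with hev | ⟨r, hr⟩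
    · rcases Nat.eq_zero_or_pos x with rfl | hpos
      · have h := ih _ (by omega) l' rfl fun j hj hj0 => by
          have := hl j hj hj0
          rwa [Multiset.count_cons_of_ne (by omega)] at this
        simpa using h
      have hx' : x ∈ l' := by
        have h := hl x hev hpos
        rw [Multiset.count_cons_self] at h
        rw [← Multiset.count_pos]
        obtain ⟨a, ha⟩ := h
        omega
      obtain ⟨l'', rfl⟩ := Multiset.exists_cons_of_mem hx'
      rw [Multiset.card_cons] at hc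
      have h := ih _ (by omega) l'' rfl fun j hj hj0 => by
        obtain ⟨a, ha⟩ := hl j hj hj0
        rw [Multiset.count_cons, Multiset.count_cons] at ha
        refine Nat.even_iff.mpr ?_
        split_ifs at ha <;> omega
      have := good_add (good_pair (F := F) x) h
      simp only [Multiset.sum_cons, Multiset.map_cons]
      convert this using 1
      · ring
      · funext k; ring
    · have h := ih _ (by omega) l' rfl fun j hj hj0 => by
        have := hl j hj hj0
        rwa [Multiset.count_cons_of_ne (by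
          rintro rfl; exact Nat.not_even_iff_odd.mpr ⟨r, hr⟩ hj)] at this
      subst hr
      have := good_add (good_odd (F := F) h2 r) h
      simpa [Multiset.sum_cons] using this

theorem jordanType_in_O_iff [Fintype F] (h2 : (2 : F) ≠ 0) {t : ℕ} (d : Fin t → ℕ) (hsum : ∑ k, d k = n) :
    (∃ Q : QuadraticForm F (Fin n → F), (QuadraticMap.polarBilin Q).Nondegenerate ∧
      ∃ e : ((k : Fin t) × Fin (d k)) ≃ Fin n, ∃ A : ↥(Cfsg.isometryGroup F ⇑Q),
        IsConj (Matrix.reindex e e (Cfsg.jordanTypeMatrix d F))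
          ((A : GL (Fin n) F) : Matrix (Fin n) (Fin n) F)) ↔
      ∀ j : ℕ, Even j → 0 < j → Even (Finset.univ.filter (fun k : Fin t => d k = j)).card := by
  classical
  set l := (Finset.univ : Finset (Fin t)).val.map d
  have hmap : ∀ k, (l.map fun x => x - k).sum = ∑ i, (d i - k) := fun k => by
    simp only [l, Multiset.map_map, Function.comp_apply]; rfl
  have hcount : ∀ j, l.count j = (Finset.univ.filter (fun k : Fin t => d k = j)).card := fun j => by
    rw [Multiset.count_map, Finset.card_def, Finset.filter_val]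
    congr 1
    exact Multiset.filter_congr fun x _ => eq_comm
  constructor
  · rintro ⟨Q, hQ, e, A, hc⟩ j hj hj0
    rw [← hcount]
    obtain ⟨G, G', hG, hsymm, -, hA⟩ := polar_matrix hQ A
    have hu : IsUnit (((A : GL (Fin n) F) : Matrix (Fin n) (Fin n) F) + 1) := by
      set M := ((A : GL (Fin n) F) : Matrix (Fin n) (Fin n) F)
      have hnil : (M - 1) ^ n = 0 := by
        have h := rank_of_isConj hc n
        rw [rank_pow_reindex, rank_jordanType, Finset.sum_eq_zero fun i _ => Nat.sub_eq_zero_of_le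
          (hsum ▸ Finset.single_le_sum (fun k _ => Nat.zero_le (d k)) (Finset.mem_univ i))] at h
        refine Matrix.toLin'.injective ?_
        rw [map_zero]
        exact LinearMap.range_eq_bot.mp (Submodule.finrank_eq_zero.mp h.symm)
      have h2u : IsUnit ((2 : F) • (1 : Matrix (Fin n) (Fin n) F)) :=
        IsUnit.of_mul_eq_one ((2 : F)⁻¹ • 1) (by rw [smul_mul_smul_comm, one_mul, mul_inv_cancel₀ h2, one_smul])
      have := IsNilpotent.isUnit_add_left_of_commute ⟨n, hnil⟩ h2u ((Commute.one_right _).smul_right (2 : F))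
      rwa [show (2 : F) • (1 : Matrix (Fin n) (Fin n) F) + (M - 1) = M + 1 by rw [two_smul]; abel] at this
    have hpar : ∀ s, Even (∑ i, (d i - (2 * s + 1))) := fun s => by
      rw [← rank_jordanType (F := F), ← rank_pow_reindex e, rank_of_isConj hc]
      exact even_rank_odd h2 hG hsymm hA hu s
    obtain ⟨s, rfl⟩ : ∃ s, j = 2 * s + 2 := ⟨j / 2 - 1, by obtain ⟨a, rfl⟩ := hj; omega⟩
    have hsplit : ∀ l : Multiset ℕ, (l.map fun x => x - (2 * s + 1)).sum =
        (l.map fun x => x - (2 * (s + 1) + 1)).sum + l.count (2 * s + 2) +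
          2 * l.countP (fun x => 2 * s + 3 ≤ x) := by
      intro l
      induction l using Multiset.induction_on with
      | empty => simp
      | cons a l ih =>
        simp only [Multiset.map_cons, Multiset.sum_cons, Multiset.count_cons, Multiset.countP_cons]
        split_ifs <;> omega
    obtain ⟨a, ha⟩ := hpar s
    obtain ⟨b, hb⟩ := hpar (s + 1)
    have := hsplit l
    rw [hmap, hmap] at this
    exact Nat.even_iff.mpr (by omega)
  · intro h
    have hgood := exists_type_O (F := F) h2 _ l rfl (fun j hj hj0 => by rw [hcount]; exact h j hj hj0)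
    rw [show l.sum = n from hsum] at hgood
    obtain ⟨G, M, hGs, hGG, hM, hr⟩ := hgood
    let Q : QuadraticForm F (Fin n → F) := LinearMap.BilinMap.toQuadraticMap (Matrix.toBilin' G)
    have hp : ∀ u v, QuadraticMap.polar Q u v = 2 * (u ⬝ᵥ G *ᵥ v) := fun u v => by
      rw [LinearMap.BilinMap.polar_toQuadraticMap, Matrix.toBilin'_apply', Matrix.toBilin'_apply',
        two_mul, dotProduct_comm v, dotProduct_mulVec u, ← mulVec_transpose, hGs]
    have hMu : (G * Mᵀ * G) * M = 1 := by rw [mul_assoc, mul_assoc, ← mul_assoc Mᵀ, hM, hGG]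
    let g : GL (Fin n) F := ⟨M, _, mul_eq_one_comm.1 hMu, hMu⟩
    have hg : g ∈ Cfsg.isometryGroup F ⇑Q := fun u _ => by
      show Matrix.toBilin' G (M *ᵥ u) (M *ᵥ u) = Matrix.toBilin' G u u
      rw [Matrix.toBilin'_apply', Matrix.toBilin'_apply']
      conv_rhs => rw [← hM]
      rw [← mulVec_mulVec, ← mulVec_mulVec, dotProduct_mulVec u Mᵀ, vecMul_transpose]
    refine ⟨Q, ?_, Fintype.equivOfCardEq (by simp [hsum]), ⟨g, hg⟩,
      isConj_jordan hsum (fun k => by rw [← hmap]; exact hr k) _⟩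
    have key : ∀ u, (∀ v, QuadraticMap.polar Q u v = 0) → u = 0 := fun u hu => by
      refine dotProduct_eq_zero u fun w => ?_
      have := hu (G *ᵥ w)
      rw [hp, mulVec_mulVec, hGG, one_mulVec] at this
      exact (mul_eq_zero.mp this).resolve_left h2
    exact ⟨fun u hu => key u hu, fun u hu => key u fun v => by rw [QuadraticMap.polar_comm]; exact hu v⟩

end CfsgLib.Geo.JordanO
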