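import Cfsg.Agent.Geo.SpRegUnip
import Cfsg.Agent.SpecAbsorb.SpModels
import Mathlib.LinearAlgebra.Matrix.Rank
import Mathlib.NumberTheory.LegendreSymbol.QuadraticChar.Basic

/-!
The two classes of regular unipotent elements of a symplectic group in odd characteristic.
-/

set_option autoImplicit false
set_option linter.style.haveILetI false

namespace CfsgLib.Geo.SpRegUnip

open Matrix

variable {F : Type*} [Field F] {m : ℕ}

theorem top_intertwine {u u' : Matrix.symplecticGroup (Fin m) F} {D : SMat F m}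
    (h : D * (u : SMat F m) = (u' : SMat F m) * D) :
    D * nil u = nil u' * D ∧ D * top u = top u' * D := by
  have h1 : D * nil u = nil u' * D := by rw [nil, nil, mul_sub, sub_mul, h, mul_one, one_mul]
  refine ⟨h1, ?_⟩
  exact (show SemiconjBy D (nil u) (nil u') from h1).pow_right _

theorem bv_transport {D M M' : SMat F m} {ν : F} (h : D * M = M' * D) (hD : adj D * D = ν • 1)
    (x : Fin m ⊕ Fin m → F) : bv M' (D *ᵥ x) = ν * bv M x := by
  rw [bv_mulVec, mul_assoc, ← h, ← mul_assoc, hD, smul_mul_assoc, one_mul, bv_smul]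

theorem isConj_of_bv [Finite F] (h2 : (2 : F) ≠ 0) (hm : 1 ≤ m)
    {u u' : Matrix.symplecticGroup (Fin m) F} (hu : Reg u) (hu' : Reg u')
    {v v' : Fin m ⊕ Fin m → F} (hb : bv (top u) v = bv (top u') v') (hb0 : bv (top u) v ≠ 0) :
    IsConj u u' := by
  classical
  haveI : Fintype F := Fintype.ofFinite F
  obtain ⟨hN, h1, hV⟩ := nil_data hm hu
  obtain ⟨hN', h1', -⟩ := nil_data hm hu'
  obtain ⟨e, he⟩ := CfsgLib.GLElem.exists_conj_regular hV hN h1 hN' h1'
  set G := LinearMap.toMatrix' e.toLinearMap with hG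
  have hGx : ∀ x, G *ᵥ x = e x := fun x => LinearMap.toMatrix'_mulVec _ x
  have hGN : G * nil u = nil u' * G := Matrix.toLin'.injective (LinearMap.ext fun x => by
    have := he x
    rw [Matrix.toLinAlgEquiv'_apply, Matrix.toLinAlgEquiv'_apply] at this
    rw [Matrix.toLin'_apply, Matrix.toLin'_apply, ← mulVec_mulVec, ← mulVec_mulVec, hGx, hGx, this])
  have hv : top u *ᵥ v ≠ 0 := fun h => hb0 (by rw [bv, ← mulVec_mulVec, h, mulVec_zero, dotProduct_zero])
  have hv' : top u' *ᵥ v' ≠ 0 := fun h => hb0 (by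
    rw [hb, bv, ← mulVec_mulVec, h, mulVec_zero, dotProduct_zero])
  have hGT : G * top u = top u' * G := (show SemiconjBy G (nil u) (nil u') from hGN).pow_right _
  have hw : top u' *ᵥ (G *ᵥ v) ≠ 0 := by
    rw [mulVec_mulVec, ← hGT, ← mulVec_mulVec, hGx]
    exact fun h => hv (e.map_eq_zero_iff.mp h)
  obtain ⟨k, hk, hkv⟩ := (cyclic hm hu' hw).2 v'
  have hkc : Commute k (nil u') := (commute_of_mem_span (Commute.refl _) hk).symm
  set g := k * G with hg
  have hgu : g * (u : SMat F m) = (u' : SMat F m) * g := by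
    rw [u_eq (u := u), u_eq (u := u'), mul_add, add_mul, mul_one, one_mul, hg, mul_assoc, hGN,
      ← mul_assoc, hkc.eq, mul_assoc]
  obtain ⟨hgN, hgT⟩ := top_intertwine hgu
  have hgv : g *ᵥ v = v' := by rw [hg, ← mulVec_mulVec, hkv]
  set H := adj g * g with hH
  have hHu : H * (u : SMat F m) = (u : SMat F m) * H := by
    have h3 := congrArg adj hgu
    rw [adj_mul g (u : SMat F m), adj_mul (u' : SMat F m) g] at h3
    calc H * (u : SMat F m) = adj g * (u' : SMat F m) * g := by rw [hH, mul_assoc, hgu, mul_assoc]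
      _ = (u : SMat F m) * (adj (u : SMat F m) * adj g) * (u' : SMat F m) * g := by
          rw [← mul_assoc (u : SMat F m) (adj _), u_mul_inv, one_mul]
      _ = (u : SMat F m) * H := by
          rw [h3, mul_assoc (u : SMat F m) _ (u' : SMat F m), mul_assoc (adj g), inv_mul_u, mul_one,
            mul_assoc]
  have hHc : Commute H (nil u) := (show Commute H (u : SMat F m) from hHu).sub_right (Commute.one_right _)
  obtain ⟨c, d, hd, hHd⟩ := decomp hm hu hHc
  obtain ⟨e1, -, e3⟩ := top_mul hm hu c hd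
  rw [← hHd] at e1
  have hc : c = 1 := by
    have h4 : bv (top u') v' = c * bv (top u) v := by
      rw [← hgv, bv_mulVec, mul_assoc, ← hgT, ← mul_assoc, e1, bv_smul]
    rw [← hb] at h4
    exact (mul_eq_right₀ hb0).mp h4.symm
  obtain ⟨p, hp⟩ := CharP.exists F
  haveI := Fact.mk (CharP.char_is_prime F p)
  haveI : Nonempty (Fin m ⊕ Fin m) := ⟨Sum.inl ⟨0, hm⟩⟩
  obtain ⟨n, hn⟩ := e3
  have hn' : (nil u * d) ^ p ^ n = 0 :=
    pow_eq_zero_of_le (Nat.lt_pow_self (Fact.out : p.Prime).one_lt).le hn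
  have hHp : H ^ p ^ n = 1 := by
    rw [hHd, hc, one_smul, add_pow_char_pow_of_commute p _ (Commute.one_left _), one_pow, hn', add_zero]
  have hp2 : p ≠ 2 := by
    rintro rfl
    exact h2 (by exact_mod_cast CharP.cast_eq_zero F 2)
  obtain ⟨j, hj⟩ := ((Fact.out : p.Prime).odd_of_ne_two hp2).pow (n := n)
  set Y := g * H ^ j with hY
  have hYY : adj Y * Y = 1 := by
    rw [hY, adj_mul, adj_pow, show adj H = H by rw [hH, adj_mul, adj_adj],
      show H ^ j * adj g * (g * H ^ j) = H ^ j * H * H ^ j by simp only [hH, mul_assoc],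
      ← pow_succ, ← pow_add, show j + 1 + j = p ^ n by omega, hHp]
  refine isConj_iff.mpr ⟨⟨Y, mem_sp_iff.mpr hYY⟩, mul_inv_eq_iff_eq_mul.mpr (Subtype.ext ?_)⟩
  show Y * (u : SMat F m) = (u' : SMat F m) * Y
  rw [hY, mul_assoc, ((show Commute H (u : SMat F m) from hHu).pow_left j).eq, ← mul_assoc, hgu,
    mul_assoc]

theorem exists_reg {k : ℕ} (hk : 1 ≤ k) : ∃ u : Matrix.symplecticGroup (Fin k) F, Reg u := by
  classical
  let A : Matrix (Fin k) (Fin k) F := 1 + CfsgLib.MatOrder.shift F k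
  let B : Matrix (Fin k) (Fin k) F := Matrix.of fun i l => if i ≤ l then (-1) ^ ((l : ℕ) - i) else 0
  have hA : ∀ i l, A i l = if l = i then 1 else if (l : ℕ) = i + 1 then 1 else 0 := fun i l => by
    rcases eq_or_ne l i with rfl | h
    · simp [A, CfsgLib.MatOrder.shift]
    · simp [A, CfsgLib.MatOrder.shift, h, Matrix.one_apply_ne h.symm]
  have hAB : A * B = 1 := by
    ext i l
    rw [show A * B = B + CfsgLib.MatOrder.shift F k * B by simp [A, add_mul], Matrix.add_apply, Matrix.mul_apply]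
    by_cases hi : (i : ℕ) + 1 < k
    · rw [Finset.sum_eq_single ⟨i + 1, hi⟩]
      · simp only [B, CfsgLib.MatOrder.shift, Matrix.of_apply, if_true, one_mul, Fin.le_def]
        rcases lt_trichotomy (i : ℕ) l with h | h | h
        · rw [if_pos h.le, if_pos (by omega), Matrix.one_apply_ne (Fin.ne_of_val_ne h.ne),
            show (l : ℕ) - i = (l - (i + 1)) + 1 by omega, pow_succ]
          ring
        · rw [if_pos h.le, if_neg (by omega), show i = l from Fin.ext h, Matrix.one_apply_eq]
          simp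
        · rw [if_neg (by omega), if_neg (by omega), Matrix.one_apply_ne (Fin.ne_of_val_ne h.ne'), add_zero]
      · intro b _ hb
        rw [CfsgLib.MatOrder.shift, Matrix.of_apply, if_neg (fun e => hb (Fin.ext e)), zero_mul]
      · simp
    · rw [Finset.sum_eq_zero fun b _ => by
        rw [CfsgLib.MatOrder.shift, Matrix.of_apply, if_neg (by omega), zero_mul], add_zero]
      simp only [B, Matrix.of_apply, Fin.le_def]
      rcases eq_or_ne i l with rfl | h
      · simp
      · rw [Matrix.one_apply_ne h, if_neg]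
        have := Fin.val_ne_of_ne h
        omega
  let S : Matrix (Fin k) (Fin k) F := Matrix.single ⟨k - 1, by omega⟩ ⟨k - 1, by omega⟩ 1
  have hS : Sᵀ = S := by simp [S, Matrix.transpose_single]
  let G : GL (Fin k) F := ⟨A, B, hAB, mul_eq_one_comm.1 hAB⟩
  let w : Matrix.symplecticGroup (Fin k) F :=
    ⟨Matrix.fromBlocks 1 S 0 1, SymplecticGroup.fromBlocks_mem_iff.2 ⟨by simp, by simp [hS], by simp⟩⟩
  let u := CfsgLib.Symp.Torus.levi G * w
  have hu : (u : SMat F k) = Matrix.fromBlocks A (A * S) 0 Bᵀ := by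
    show Matrix.fromBlocks A 0 0 Bᵀ * Matrix.fromBlocks 1 S 0 1 = _
    simp [Matrix.fromBlocks_multiply]
  let e : Fin k ⊕ Fin k ≃ Fin (2 * k) :=
    ((Equiv.sumCongr (Equiv.refl _) Fin.revPerm).trans finSumFinEquiv).trans (finCongr (two_mul k).symm)
  have hel : ∀ i, (e (Sum.inl i) : ℕ) = i := fun i => by simp [e]
  have her : ∀ i, (e (Sum.inr i) : ℕ) = k + (k - (i + 1)) := fun i => by simp [e]; omega
  let M := (Matrix.reindexAlgEquiv F F e) (nil u)
  have hM : ∀ x y, M (e x) (e y) = (u : SMat F k) x y - (if x = y then 1 else 0) := by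
    intro x y
    simp [M, nil, Matrix.one_apply]
  have hlow : ∀ i j : Fin (2 * k), (j : ℕ) ≤ i → M i j = 0 := fun x y hxy => by
    obtain ⟨x, rfl⟩ := e.surjective x
    obtain ⟨y, rfl⟩ := e.surjective y
    rw [hM, hu]
    rcases x with i | i <;> rcases y with l | l <;> simp only [hel, her] at hxy
    · rw [Matrix.fromBlocks_apply₁₁, hA]
      rcases eq_or_ne l i with rfl | h
      · simp
      · rw [if_neg h, if_neg (by omega), if_neg (by simpa using h.symm), sub_zero]
    · omega
    · simp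
    · rw [Matrix.fromBlocks_apply₂₂, Matrix.transpose_apply]
      simp only [B, Matrix.of_apply, Fin.le_def]
      rcases eq_or_ne l i with rfl | h
      · simp
      · have := Fin.val_ne_of_ne h
        rw [if_neg (by omega), if_neg (by simpa using h.symm), sub_zero]
  have hsup : ∀ i j : Fin (2 * k), (j : ℕ) = i + 1 → M i j ≠ 0 := fun x y hxy => by
    obtain ⟨x, rfl⟩ := e.surjective x
    obtain ⟨y, rfl⟩ := e.surjective y
    rw [hM, hu]
    rcases x with i | i <;> rcases y with l | l <;> simp only [hel, her] at hxy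
    · rw [Matrix.fromBlocks_apply₁₁, hA, if_neg (Fin.ne_of_val_ne (by omega)), if_pos hxy,
        if_neg (by simp only [Sum.inl.injEq]; exact Fin.ne_of_val_ne (by omega)), sub_zero]
      exact one_ne_zero
    · have hi : i = ⟨k - 1, by omega⟩ := Fin.ext (by simp only; omega)
      have hl : l = ⟨k - 1, by omega⟩ := Fin.ext (by simp only; omega)
      rw [Matrix.fromBlocks_apply₁₂, if_neg (by simp), sub_zero]
      simp [S, hi, hl, hA]
    · omega
    · rw [Matrix.fromBlocks_apply₂₂, Matrix.transpose_apply]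
      simp only [B, Matrix.of_apply, Fin.le_def]
      rw [if_pos (by omega), if_neg (by simp only [Sum.inr.injEq]; exact Fin.ne_of_val_ne (by omega)),
        show (i : ℕ) - l = 1 by omega, sub_zero, pow_one]
      exact neg_ne_zero.2 one_ne_zero
  have hpow : M ^ (2 * k) = 0 := CfsgLib.SpecAbsorb.pow_dim_eq_zero hlow hsup le_rfl
  have hrank : M.rank = 2 * k - 1 := by
    refine le_antisymm ?_ ?_
    · by_contra hlt
      have hfull : M.rank = 2 * k := by
        have := M.rank_le_card_width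
        rw [Fintype.card_fin] at this
        omega
      have hdet : IsUnit M := by
        rw [← Matrix.mulVec_surjective_iff_isUnit]
        intro y
        have : LinearMap.range M.mulVecLin = ⊤ :=
          Submodule.eq_top_of_finrank_eq (by rw [Module.finrank_fin_fun]; exact hfull)
        exact LinearMap.range_eq_top.mp this y
      haveI : Nonempty (Fin (2 * k)) := ⟨⟨0, by omega⟩⟩
      exact (hdet.pow (2 * k)).ne_zero hpow
    · let r : Fin (2 * k - 1) → Fin (2 * k) := fun i => ⟨i, by omega⟩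
      let c : Fin (2 * k - 1) → Fin (2 * k) := fun i => ⟨i + 1, by omega⟩
      have hU : IsUnit (M.submatrix r c) := by
        rw [Matrix.isUnit_iff_isUnit_det, Matrix.det_of_isUpperTriangular, isUnit_iff_ne_zero,
          Finset.prod_ne_zero_iff]
        · exact fun i _ => hsup _ _ rfl
        · intro i j hij
          exact hlow _ _ (by simp only [r, c, id_eq] at hij ⊢; omega)
      have h' := Matrix.rank_submatrix_le M r c
      rw [Matrix.rank_of_isUnit _ hU, Fintype.card_fin] at h'
      exact h'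
  refine ⟨u, (Matrix.reindexAlgEquiv F F e).injective ?_, ?_⟩
  · rw [map_pow, map_zero]; exact hpow
  · rw [← hrank]
    exact (Matrix.rank_reindex e e _).symm

theorem card_classes [Finite F] (h2 : (2 : F) ≠ 0) (hm : 1 ≤ m) :
    Nat.card {C : ConjClasses (Matrix.symplecticGroup (Fin m) F) //
      ∃ u, ConjClasses.mk u = C ∧ Reg u} = 2 := by
  classical
  haveI : Fintype F := Fintype.ofFinite F
  obtain ⟨ν, hν⟩ := FiniteField.exists_nonsquare
    (F := F) (fun h => h2 (by
      haveI := ringChar.charP F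
      have : ((2 : ℕ) : F) = 0 := by rw [← h]; exact CharP.cast_eq_zero F _
      exact_mod_cast this))
  have hν0 : ν ≠ 0 := fun h => hν (h ▸ IsSquare.zero)
  obtain ⟨u₀, hu₀⟩ := exists_reg (F := F) hm
  -- the similitude
  set D : SMat F m := Matrix.fromBlocks (ν • 1) 0 0 1 with hD
  set Di : SMat F m := Matrix.fromBlocks (ν⁻¹ • 1) 0 0 1 with hDi
  have hDD : D * Di = 1 ∧ Di * D = 1 := by
    constructor <;> simp [hD, hDi, Matrix.fromBlocks_multiply, smul_smul, hν0]
  have hDa : adj D * D = ν • 1 := by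
    have h : Matrix.J (Fin m) F * (adj D * D) = ν • Matrix.J (Fin m) F := by
      rw [← mul_assoc, J_adj, hD, Matrix.J]
      simp [Matrix.fromBlocks_transpose, Matrix.fromBlocks_multiply, Matrix.fromBlocks_smul]
    have := congrArg (-Matrix.J (Fin m) F * ·) h
    rwa [← mul_assoc, mul_eq_one_comm.1 (hJ (F := F) (m := m)), one_mul, mul_smul_comm,
      mul_eq_one_comm.1 (hJ (F := F) (m := m))] at this
  have hu1mem : D * (u₀ : SMat F m) * Di ∈ Matrix.symplecticGroup (Fin m) F := by
    rw [mem_sp_iff, adj_mul, adj_mul]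
    have h3 : adj Di * adj (u₀ : SMat F m) * adj D * D = ν • (adj Di * adj (u₀ : SMat F m)) := by
      rw [mul_assoc, hDa, mul_smul_comm, mul_one]
    have h4 : adj Di * adj D = 1 := by rw [← adj_mul, hDD.1, adj_one]
    have h5 : ν • adj Di = D := by
      calc ν • adj Di = adj Di * (adj D * D) := by rw [hDa, mul_smul_comm, mul_one]
        _ = D := by rw [← mul_assoc, h4, one_mul]
    calc adj Di * (adj (u₀ : SMat F m) * adj D) * (D * (u₀ : SMat F m) * Di)
        = (adj Di * adj (u₀ : SMat F m) * adj D * D) * ((u₀ : SMat F m) * Di) := by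
          simp only [mul_assoc]
      _ = 1 := by
          rw [h3, ← smul_mul_assoc, h5, mul_assoc, ← mul_assoc (adj (u₀ : SMat F m)), inv_mul_u,
            one_mul, hDD.1]
  set u₁ : Matrix.symplecticGroup (Fin m) F := ⟨_, hu1mem⟩ with hu₁def
  have hDu : D * (u₀ : SMat F m) = (u₁ : SMat F m) * D := by
    show _ = D * (u₀ : SMat F m) * Di * D
    rw [mul_assoc, hDD.2, mul_one]
  obtain ⟨hDN, hDT⟩ := top_intertwine hDu
  have hconj : nil u₁ = D * nil u₀ * Di := by rw [hDN, mul_assoc, hDD.1, mul_one]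
  have hu₁ : Reg u₁ := by
    refine ⟨?_, ?_⟩
    · have h6 : D * nil u₀ ^ (2 * m) = nil u₁ ^ (2 * m) * D :=
        (show SemiconjBy D (nil u₀) (nil u₁) from hDN).pow_right _
      rw [show nil u₀ ^ (2 * m) = 0 from hu₀.1, mul_zero] at h6
      calc nil u₁ ^ (2 * m) = nil u₁ ^ (2 * m) * D * Di := by rw [mul_assoc, hDD.1, mul_one]
        _ = 0 := by rw [← h6, zero_mul]
    · show (nil u₁).rank = _
      rw [hconj, Matrix.rank_mul_eq_left_of_isUnit_det _ _
          ((Matrix.isUnit_iff_isUnit_det _).mp (IsUnit.of_mul_eq_one D hDD.2)),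
        Matrix.rank_mul_eq_right_of_isUnit_det _ _
          ((Matrix.isUnit_iff_isUnit_det _).mp (IsUnit.of_mul_eq_one Di hDD.1))]
      exact hu₀.2
  obtain ⟨v₀, -, hb₀, hval₀⟩ := bv_values h2 hm hu₀
  have hb₁ : bv (top u₁) (D *ᵥ v₀) = ν * bv (top u₀) v₀ := bv_transport hDT hDa v₀
  refine Nat.card_eq_two_iff.mpr ⟨⟨_, u₀, rfl, hu₀⟩, ⟨_, u₁, rfl, hu₁⟩, fun h => ?_, ?_⟩
  · obtain ⟨Y, hY⟩ := isConj_iff.mp (ConjClasses.mk_eq_mk_iff_isConj.mp (congrArg Subtype.val h))
    have hYu : Y.1 * (u₀ : SMat F m) = (u₁ : SMat F m) * Y.1 :=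
      congrArg Subtype.val (mul_inv_eq_iff_eq_mul.mp hY)
    have hYY : adj Y.1 * Y.1 = (1 : F) • (1 : SMat F m) := by rw [one_smul]; exact mem_sp_iff.mp Y.2
    have h7 := bv_transport (top_intertwine hYu).2 hYY ((Y⁻¹).1 *ᵥ (D *ᵥ v₀))
    rw [one_mul, mulVec_mulVec, ← Submonoid.coe_mul, mul_inv_cancel] at h7
    obtain ⟨c, hc⟩ := hval₀ ((Y⁻¹).1 *ᵥ (D *ᵥ v₀))
    simp only [OneMemClass.coe_one, one_mulVec] at h7
    rw [hb₁, hc] at h7
    exact hν ⟨c, mul_right_cancel₀ hb₀ h7⟩
  · refine Set.eq_univ_of_forall ?_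
    rintro ⟨_, u, rfl, hu⟩
    obtain ⟨v, -, hb, -⟩ := bv_values h2 hm hu
    by_cases hsq : IsSquare (bv (top u₀) v₀ / bv (top u) v)
    · refine Or.inl (Subtype.ext (ConjClasses.mk_eq_mk_iff_isConj.mpr ?_))
      obtain ⟨r, hr⟩ := hsq
      refine isConj_of_bv h2 hm hu hu₀ (v := r • v) (v' := v₀) ?_ ?_
      · rw [← mul_div_cancel₀ (bv (top u₀) v₀) hb, hr]
        simp [bv, mulVec_smul, dotProduct_smul, smul_dotProduct]; ring
      · have hr0 : r ≠ 0 := fun h => by
          rw [h, mul_zero, div_eq_zero_iff] at hr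
          exact hr.elim hb₀ hb
        have : bv (top u) (r • v) = r * r * bv (top u) v := by
          simp [bv, mulVec_smul, dotProduct_smul, smul_dotProduct]; ring
        rw [this]
        exact mul_ne_zero (mul_ne_zero hr0 hr0) hb
    · refine Or.inr (Subtype.ext (ConjClasses.mk_eq_mk_iff_isConj.mpr ?_))
      obtain ⟨r, hr⟩ : IsSquare (ν * (bv (top u₀) v₀ / bv (top u) v)) := by
        have hne : bv (top u₀) v₀ / bv (top u) v ≠ 0 := div_ne_zero hb₀ hb
        rw [← quadraticChar_one_iff_isSquare (mul_ne_zero hν0 hne), map_mul,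
          quadraticChar_neg_one_iff_not_isSquare.mpr hν,
          quadraticChar_neg_one_iff_not_isSquare.mpr hsq]
        norm_num
      have : bv (top u) (r • v) = r * r * bv (top u) v := by
        simp [bv, mulVec_smul, dotProduct_smul, smul_dotProduct]; ring
      refine isConj_of_bv h2 hm hu hu₁ (v := r • v) (v' := D *ᵥ v₀) ?_ ?_
      · rw [hb₁, this, ← hr, mul_assoc, div_mul_cancel₀ _ hb]
      · rw [this, ← hr, mul_assoc, div_mul_cancel₀ _ hb]
        exact mul_ne_zero hν0 hb₀

end CfsgLib.Geo.SpRegUnip
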