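import Cfsg.Prelude.Def_JordanBlocks
import Cfsg.Agent.Geo.GUUnipotent
import Cfsg.Agent.Geo.SpRegClasses
import Cfsg.Agent.Classical.SymplecticBlocks
import Cfsg.Agent.PrimeGraphBC.Iso
import Cfsg.Agent.GLElem.RegularCentralizer

/-!
Jordan types of unipotent elements of symplectic groups.
-/

set_option autoImplicit false
set_option linter.style.haveILetI false

namespace CfsgLib.Geo.JordanSp

open Matrix

variable {F : Type*} [Field F]

/-- An alternating matrix has even rank. -/
theorem even_rank_alt {ι : Type*} [Fintype ι] [DecidableEq ι] {M : Matrix ι ι F}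
    (hskew : Mᵀ = -M) (halt : ∀ x, x ⬝ᵥ M *ᵥ x = 0) : Even M.rank := by
  obtain ⟨W, hW⟩ := Submodule.exists_isCompl (LinearMap.ker M.mulVecLin)
  have hB : ∀ x y : ι → F, Matrix.toBilin' M x y = x ⬝ᵥ M *ᵥ y := fun x y =>
    Matrix.toBilin'_apply' _ _ _
  have hA : ((Matrix.toBilin' M).restrict W).IsAlt := fun x => by
    show Matrix.toBilin' M (x : ι → F) (x : ι → F) = 0
    rw [hB, halt]
  have hswap : ∀ x y : ι → F, x ⬝ᵥ M *ᵥ y = -(y ⬝ᵥ M *ᵥ x) := fun x y => by
    rw [dotProduct_comm y, dotProduct_mulVec, ← mulVec_transpose, hskew, neg_mulVec, neg_dotProduct]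
  have hnd : ∀ x : W, (∀ y : W, (x : ι → F) ⬝ᵥ M *ᵥ (y : ι → F) = 0) → x = 0 := by
    intro x hx
    have hall : ∀ v : ι → F, (x : ι → F) ⬝ᵥ M *ᵥ v = 0 := by
      intro v
      obtain ⟨a, ha, b, hb, rfl⟩ := Submodule.mem_sup.1
        (show v ∈ LinearMap.ker M.mulVecLin ⊔ W from hW.sup_eq_top ▸ Submodule.mem_top)
      rw [LinearMap.mem_ker, mulVecLin_apply] at ha
      rw [mulVec_add, ha, zero_add]
      exact hx ⟨b, hb⟩
    have hker : (x : ι → F) ∈ LinearMap.ker M.mulVecLin := by
      rw [LinearMap.mem_ker, mulVecLin_apply]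
      refine dotProduct_eq_zero _ fun v => ?_
      rw [dotProduct_comm, hswap, hall, neg_zero]
    exact Subtype.ext ((Submodule.disjoint_def.1 hW.disjoint) _ hker x.2)
  obtain ⟨m, hm⟩ := CfsgLib.PrimeGraphBC.even_finrank_of_alt hA
    ⟨fun x hx => hnd x fun y => by rw [← hB]; exact hx y,
     fun y hy => hnd y fun x => by
      rw [hswap, ← hB, show Matrix.toBilin' M (x : ι → F) (y : ι → F) = 0 from hy x, neg_zero]⟩
  have h1 := Submodule.finrank_add_eq_of_isCompl hW
  have h2 := M.mulVecLin.finrank_range_add_finrank_ker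
  exact ⟨m, by unfold Matrix.rank; omega⟩

open CfsgLib.Geo.SpRegUnip in
/-- For a symplectic element the even powers of `A - 1` have even rank. -/
theorem even_rank_pow {m : ℕ} (A : Matrix.symplecticGroup (Fin m) F) (s : ℕ) :
    Even ((((A : SMat F m) - 1) ^ (2 * s)).rank) := by
  set N := nil A
  set u := adj (A : SMat F m)
  have hadj : adj N = -(u * N) := by
    show adj ((A : SMat F m) - 1) = -(adj (A : SMat F m) * ((A : SMat F m) - 1))
    rw [adj_sub, adj_one, mul_sub, inv_mul_u, mul_one, neg_sub]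
  set J := Matrix.J (Fin m) F
  set M : SMat F m := (N ^ s)ᵀ * J * N ^ s with hM
  have hM' : M = J * ((-u) ^ s * N ^ (2 * s)) := by
    rw [hM, ← J_adj, adj_pow, hadj, ← neg_mul,
      (commute_inv (u := A)).neg_left.mul_pow, mul_assoc, mul_assoc, two_mul, pow_add]
  have hskew : Mᵀ = -M := by
    rw [hM, transpose_mul, transpose_mul, transpose_transpose, J_transpose, neg_mul, mul_neg, mul_assoc]
  have halt : ∀ x, x ⬝ᵥ M *ᵥ x = 0 := by
    intro x
    rw [hM, ← mulVec_mulVec, ← mulVec_mulVec, dotProduct_mulVec x, vecMul_transpose]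
    exact CfsgLib.Symp.form_self _
  have h := even_rank_alt hskew halt
  rw [hM', Matrix.rank_mul_eq_right_of_isUnit_det _ _ (Matrix.isUnit_det_J _ _),
    Matrix.rank_mul_eq_right_of_isUnit_det] at h
  · exact h
  · refine (Matrix.isUnit_iff_isUnit_det _).mp ?_
    exact (IsUnit.of_mul_eq_one (A : SMat F m) inv_mul_u).neg.pow s

/-- Ranks of powers of a regular unipotent matrix. -/
theorem rank_pow_regular {ι : Type*} [Fintype ι] [DecidableEq ι] {d : ℕ} (hι : Fintype.card ι = d)
    {A : Matrix ι ι F} (h0 : (A - 1) ^ d = 0) (h1 : (A - 1).rank = d - 1) (k : ℕ) :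
    ((A - 1) ^ k).rank = d - k := by
  set N : Module.End F (ι → F) := Matrix.toLinAlgEquiv' (A - 1)
  have hrk : ∀ j, ((A - 1) ^ j).rank + Module.finrank F (LinearMap.ker (N ^ j)) = d := by
    intro j
    have h := (N ^ j).finrank_range_add_finrank_ker
    rw [Module.finrank_fintype_fun_eq_card, hι] at h
    have e : ((A - 1) ^ j).rank = Module.finrank F (LinearMap.range (N ^ j)) := by
      rw [← map_pow]; rfl
    rw [e]; exact h
  have hK : Module.finrank F (LinearMap.ker N) ≤ 1 := by
    have := hrk 1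
    rw [pow_one, pow_one, h1] at this
    omega
  rcases le_or_gt d k with hk | hk
  · rw [Nat.sub_eq_zero_of_le hk, pow_eq_zero_of_le hk h0, Matrix.rank_zero]
  · have hu := CfsgLib.GLElem.finrank_ker_pow_le hK k
    have hu' := CfsgLib.GLElem.finrank_ker_pow_le hK (d - k)
    have hle : LinearMap.range (N ^ (d - k)) ≤ LinearMap.ker (N ^ k) := by
      rintro _ ⟨x, rfl⟩
      rw [LinearMap.mem_ker, ← Module.End.mul_apply, ← pow_add, Nat.add_sub_cancel' hk.le, ← map_pow, h0,
        map_zero, LinearMap.zero_apply]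
    have := Submodule.finrank_mono hle
    have h2 := (N ^ (d - k)).finrank_range_add_finrank_ker
    rw [Module.finrank_fintype_fun_eq_card, hι] at h2
    have := hrk k
    omega

theorem rank_pow_inv {ι : Type*} [Fintype ι] [DecidableEq ι] (g : GL ι F) (k : ℕ) :
    ((((g⁻¹ : GL ι F) : Matrix ι ι F) - 1) ^ k).rank = (((g : Matrix ι ι F) - 1) ^ k).rank := by
  have e : ((g⁻¹ : GL ι F) : Matrix ι ι F) - 1 =
      -((g⁻¹ : GL ι F) : Matrix ι ι F) * ((g : Matrix ι ι F) - 1) := by
    rw [mul_sub, neg_mul, Units.inv_mul, mul_one]; abel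
  rw [e, Commute.mul_pow]
  · exact Matrix.rank_mul_eq_right_of_isUnit_det _ _
      ((Matrix.isUnit_iff_isUnit_det _).mp ((g⁻¹).isUnit.neg.pow k))
  · exact ((Units.commute_coe_inv g).symm.sub_right (Commute.one_right _)).neg_left

theorem card_range [Finite F] {ι : Type*} [Fintype ι] (M : Matrix ι ι F) :
    Nat.card F ^ M.rank = Nat.card (LinearMap.range M.mulVecLin) :=
  (Module.natCard_eq_pow_finrank (K := F)).symm

theorem rank_fromBlocks_diag [Finite F] {a b : Type*} [Fintype a] [DecidableEq a] [Fintype b] [DecidableEq b]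
    (A : Matrix a a F) (B : Matrix b b F) : (Matrix.fromBlocks A 0 0 B).rank = A.rank + B.rank := by
  refine Nat.pow_right_injective (Finite.one_lt_card (α := F)) ?_
  show Nat.card F ^ _ = Nat.card F ^ _
  rw [pow_add, card_range, card_range, card_range, ← Nat.card_prod]
  refine Nat.card_congr
    { toFun := fun y => (⟨y.1 ∘ Sum.inl, ?_⟩, ⟨y.1 ∘ Sum.inr, ?_⟩)
      invFun := fun p => ⟨Sum.elim p.1.1 p.2.1, ?_⟩
      left_inv := fun y => Subtype.ext (Sum.elim_comp_inl_inr y.1)
      right_inv := fun p => rfl }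
  · obtain ⟨v, hv⟩ := y.2
    exact ⟨v ∘ Sum.inl, by simp [← hv, Matrix.fromBlocks_mulVec]⟩
  · obtain ⟨v, hv⟩ := y.2
    exact ⟨v ∘ Sum.inr, by simp [← hv, Matrix.fromBlocks_mulVec]⟩
  · obtain ⟨v, hv⟩ := p.1.2
    obtain ⟨w, hw⟩ := p.2.2
    exact ⟨Sum.elim v w, by simp [← hv, ← hw, Matrix.fromBlocks_mulVec]⟩

theorem fromBlocks_sub_one {a b : Type*} [DecidableEq a] [DecidableEq b] (A : Matrix a a F)
    (B : Matrix b b F) : Matrix.fromBlocks A 0 0 B - 1 = Matrix.fromBlocks (A - 1) 0 0 (B - 1) := by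
  ext i j
  rcases i with i | i <;> rcases j with j | j <;> simp [Matrix.one_apply]

theorem rank_blockDiagonal' [Finite F] {t : ℕ} {d : Fin t → ℕ}
    (M : (k : Fin t) → Matrix (Fin (d k)) (Fin (d k)) F) :
    (Matrix.blockDiagonal' M).rank = ∑ k, (M k).rank := by
  refine Nat.pow_right_injective (Finite.one_lt_card (α := F)) ?_
  show Nat.card F ^ _ = Nat.card F ^ _
  rw [← Finset.prod_pow_eq_pow_sum, card_range, Finset.prod_congr rfl fun k _ => card_range (M k), ← Nat.card_pi]
  have key : ∀ (v : ((k : Fin t) × Fin (d k)) → F) (k : Fin t) (i : Fin (d k)),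
      (Matrix.blockDiagonal' M *ᵥ v) ⟨k, i⟩ = (M k *ᵥ fun j => v ⟨k, j⟩) i := by
    intro v k i
    simp only [Matrix.mulVec, dotProduct, Fintype.sum_sigma]
    rw [Finset.sum_eq_single k]
    · simp [Matrix.blockDiagonal'_apply_eq]
    · intro b _ hb
      exact Finset.sum_eq_zero fun j _ => by rw [Matrix.blockDiagonal'_apply_ne M _ _ hb.symm, zero_mul]
    · simp
  refine Nat.card_congr
    { toFun := fun y k => ⟨fun i => y.1 ⟨k, i⟩, ?_⟩
      invFun := fun p => ⟨fun x => (p x.1).1 x.2, ?_⟩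
      left_inv := fun y => Subtype.ext (funext fun x => rfl)
      right_inv := fun p => funext fun k => Subtype.ext rfl }
  · obtain ⟨v, hv⟩ := y.2
    exact ⟨fun j => v ⟨k, j⟩, funext fun i => by rw [← hv]; exact (key v k i).symm⟩
  · choose v hv using fun k => (p k).2
    refine ⟨fun x => v x.1 x.2, funext fun ⟨k, i⟩ => ?_⟩
    show (Matrix.blockDiagonal' M *ᵥ _) ⟨k, i⟩ = _
    rw [key]
    exact congrFun (hv k) i

theorem jordanBlock_regular (d : ℕ) :
    (Cfsg.jordanBlock d F - 1) ^ d = 0 ∧ (Cfsg.jordanBlock d F - 1).rank = d - 1 := by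
  set J := Cfsg.jordanBlock d F - 1
  have hJ : ∀ i j : Fin d, J i j = if (i : ℕ) = j + 1 then 1 else 0 := by
    intro i j
    simp only [J, Cfsg.jordanBlock, Matrix.sub_apply, Matrix.of_apply, Matrix.one_apply, Fin.ext_iff]
    split_ifs <;> first | omega | simp
  rcases Nat.eq_zero_or_pos d with rfl | hd
  · exact ⟨Subsingleton.elim _ _, Nat.le_zero.mp (J.rank_le_card_width.trans_eq (Fintype.card_fin 0))⟩
  have hlow : ∀ i j : Fin d, (j : ℕ) ≤ i → Jᵀ i j = 0 := fun i j h => by
    rw [transpose_apply, hJ, if_neg (by omega)]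
  have hsup : ∀ i j : Fin d, (j : ℕ) = i + 1 → Jᵀ i j ≠ 0 := fun i j h => by
    rw [transpose_apply, hJ, if_pos h]; exact one_ne_zero
  refine ⟨?_, ?_⟩
  · have h := congrArg Matrix.transpose (CfsgLib.SpecAbsorb.pow_dim_eq_zero hlow hsup le_rfl)
    rwa [transpose_pow, transpose_transpose, transpose_zero] at h
  · refine le_antisymm ?_ ?_
    · have hz : J ⟨0, hd⟩ = 0 := funext fun j => by rw [hJ, if_neg (by simp)]; rfl
      have hr : LinearMap.range J.mulVecLin ≤ LinearMap.ker (LinearMap.proj (⟨0, hd⟩ : Fin d)) := by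
        rintro _ ⟨v, rfl⟩
        show (J *ᵥ v) ⟨0, hd⟩ = 0
        rw [Matrix.mulVec, hz, zero_dotProduct]
      have h1 := Submodule.finrank_mono hr
      have h2 := (LinearMap.proj (⟨0, hd⟩ : Fin d) : (Fin d → F) →ₗ[F] F).finrank_range_add_finrank_ker
      rw [Module.finrank_fin_fun, LinearMap.range_eq_top.2 (LinearMap.proj_surjective _), finrank_top,
        Module.finrank_self] at h2
      exact h1.trans (by omega)
    · let r : Fin (d - 1) → Fin d := fun i => ⟨i + 1, by omega⟩
      let c : Fin (d - 1) → Fin d := fun i => ⟨i, by omega⟩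
      have hI : J.submatrix r c = 1 := by
        ext i j
        simp [hJ, r, c, Matrix.one_apply, Fin.ext_iff]
      have h' := Matrix.rank_submatrix_le J r c
      rw [hI, Matrix.rank_one, Fintype.card_fin] at h'
      exact h'

theorem rank_jordanType [Finite F] {t : ℕ} (d : Fin t → ℕ) (k : ℕ) :
    ((Cfsg.jordanTypeMatrix d F - 1) ^ k).rank = ∑ i, (d i - k) := by
  rw [Cfsg.jordanTypeMatrix, ← Matrix.blockDiagonal'_one, ← Matrix.blockDiagonal'_sub,
    ← Matrix.blockDiagonal'_pow, rank_blockDiagonal']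
  exact Finset.sum_congr rfl fun i _ =>
    rank_pow_regular (Fintype.card_fin _) (jordanBlock_regular (d i)).1 (jordanBlock_regular (d i)).2 k

/-- The odd parts have even multiplicities when all `Σ (x - 2s)` are even. -/
theorem even_count_of_sums {l : Multiset ℕ} (h : ∀ s, Even ((l.map fun x => x - 2 * s).sum))
    {j : ℕ} (hj : Odd j) : Even (l.count j) := by
  have hsplit : ∀ (l : Multiset ℕ) (s : ℕ), (l.map fun x => x - 2 * s).sum =
      (l.map fun x => x - 2 * (s + 1)).sum + l.count (2 * s + 1) + 2 * l.countP (fun x => 2 * s + 2 ≤ x) := by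
    intro l s
    induction l using Multiset.induction_on with
    | empty => simp
    | cons a l ih =>
      simp only [Multiset.map_cons, Multiset.sum_cons, Multiset.count_cons, Multiset.countP_cons]
      split_ifs <;> omega
  obtain ⟨s, rfl⟩ := hj
  obtain ⟨a, ha⟩ := h s
  obtain ⟨b, hb⟩ := h (s + 1)
  have := hsplit l s
  exact Nat.even_iff.mpr (by omega)

theorem reindex_mem {a b : Type*} [Fintype a] [DecidableEq a] [Fintype b] [DecidableEq b] (f : a ≃ b)
    {A : Matrix (a ⊕ a) (a ⊕ a) F} (hA : A ∈ Matrix.symplecticGroup a F) :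
    Matrix.reindex (Equiv.sumCongr f f) (Equiv.sumCongr f f) A ∈ Matrix.symplecticGroup b F := by
  rw [SymplecticGroup.mem_iff] at hA ⊢
  have hJ : Matrix.J b F = Matrix.reindex (Equiv.sumCongr f f) (Equiv.sumCongr f f) (Matrix.J a F) := by
    ext i j
    rcases i with i | i <;> rcases j with j | j <;> simp [Matrix.J, Matrix.one_apply]
  rw [hJ]
  simp only [Matrix.reindex_apply, Matrix.transpose_submatrix, Matrix.submatrix_mul_equiv, hA]

theorem rank_pow_reindex {a b : Type*} [Fintype a] [DecidableEq a] [Fintype b] [DecidableEq b] (e : a ≃ b)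
    (A : Matrix a a F) (k : ℕ) : ((Matrix.reindex e e A - 1) ^ k).rank = ((A - 1) ^ k).rank := by
  rw [show Matrix.reindex e e A - 1 = Matrix.reindexAlgEquiv F F e (A - 1) by rw [map_sub, map_one]; rfl,
    ← map_pow]
  exact Matrix.rank_reindex e e _

open CfsgLib.Geo.SpRegUnip in
theorem exists_block [Finite F] (x : ℕ) :
    (∀ r, x = 2 * r → ∃ A : Matrix.symplecticGroup (Fin r) F, ∀ k, (((A : SMat F r) - 1) ^ k).rank = x - k) ∧
      ∃ A : Matrix.symplecticGroup (Fin x) F, ∀ k, (((A : SMat F x) - 1) ^ k).rank = 2 * (x - k) := by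
  constructor
  · rintro r rfl
    rcases Nat.eq_zero_or_pos r with rfl | hr
    · refine ⟨1, fun k => ?_⟩
      have : ∀ B : SMat F 0, B.rank = 2 * 0 - k := fun B => by
        have := B.rank_le_card_width
        simp at this
        omega
      exact this _
    obtain ⟨u, h1, h2⟩ := exists_reg (F := F) hr
    exact ⟨u, rank_pow_regular (by simp [two_mul]) h1 h2⟩
  · obtain ⟨h1, h2⟩ := jordanBlock_regular (F := F) x
    have hu : IsUnit (Cfsg.jordanBlock x F) := by
      have := IsNilpotent.isUnit_one_add (r := Cfsg.jordanBlock x F - 1) ⟨x, h1⟩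
      rwa [add_sub_cancel] at this
    obtain ⟨g, hg⟩ := hu
    refine ⟨CfsgLib.Symp.Torus.levi g, fun k => ?_⟩
    show (((Matrix.fromBlocks (g : Matrix (Fin x) (Fin x) F) 0 0 ((g⁻¹ : GL (Fin x) F).val)ᵀ : SMat F x) - 1) ^ k).rank = _
    rw [fromBlocks_sub_one, Matrix.fromBlocks_diagonal_pow,
      rank_fromBlocks_diag, ← Matrix.transpose_one (n := Fin x), ← Matrix.transpose_sub,
      ← Matrix.transpose_pow, Matrix.rank_transpose, Matrix.transpose_one, rank_pow_inv, hg,
      rank_pow_regular (Fintype.card_fin x) h1 h2]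
    ring

open CfsgLib.Geo.SpRegUnip in
theorem exists_sum [Finite F] {a b : ℕ} (A : Matrix.symplecticGroup (Fin a) F)
    (B : Matrix.symplecticGroup (Fin b) F) : ∃ C : Matrix.symplecticGroup (Fin (a + b)) F,
      ∀ k, (((C : SMat F (a + b)) - 1) ^ k).rank =
        (((A : SMat F a) - 1) ^ k).rank + (((B : SMat F b) - 1) ^ k).rank := by
  refine ⟨⟨_, reindex_mem finSumFinEquiv (CfsgLib.Symp.blockMat_mem A.2 B.2)⟩, fun k => ?_⟩
  show (((Matrix.reindex (Equiv.sumCongr finSumFinEquiv finSumFinEquiv) (Equiv.sumCongr finSumFinEquiv finSumFinEquiv)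
      (CfsgLib.Symp.blockMat (A : SMat F a) (B : SMat F b)) : SMat F (a + b)) - 1) ^ k).rank = _
  rw [rank_pow_reindex, CfsgLib.Symp.blockMat,
    show (Matrix.fromBlocks (A : SMat F a) 0 0 (B : SMat F b)).submatrix
        (Equiv.sumSumSumComm (Fin a) (Fin b) (Fin a) (Fin b)) (Equiv.sumSumSumComm (Fin a) (Fin b) (Fin a) (Fin b)) =
      Matrix.reindex (Equiv.sumSumSumComm (Fin a) (Fin b) (Fin a) (Fin b)).symm
        (Equiv.sumSumSumComm (Fin a) (Fin b) (Fin a) (Fin b)).symm
        (Matrix.fromBlocks (A : SMat F a) 0 0 (B : SMat F b)) from rfl,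
    rank_pow_reindex, fromBlocks_sub_one,
    Matrix.fromBlocks_diagonal_pow, rank_fromBlocks_diag]

theorem exists_type [Finite F] : ∀ (c : ℕ) (l : Multiset ℕ), Multiset.card l = c →
    (∀ j, Odd j → Even (l.count j)) → ∃ (r : ℕ) (A : Matrix.symplecticGroup (Fin r) F),
      l.sum = 2 * r ∧ ∀ k, (((A : Matrix (Fin r ⊕ Fin r) (Fin r ⊕ Fin r) F) - 1) ^ k).rank =
        (l.map fun x => x - k).sum := by
  intro c
  induction c using Nat.strong_induction_on with
  | _ c ih =>
    intro l hc hl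
    rcases Multiset.empty_or_exists_mem l with rfl | ⟨x, hx⟩
    · refine ⟨0, 1, by simp, fun k => ?_⟩
      have : ∀ B : Matrix (Fin 0 ⊕ Fin 0) (Fin 0 ⊕ Fin 0) F, B.rank = 0 := fun B => by
        have := B.rank_le_card_width
        simpa using this
      rw [this]; simp
    obtain ⟨l', rfl⟩ := Multiset.exists_cons_of_mem hx
    rw [Multiset.card_cons] at hc
    rcases Nat.even_or_odd x with ⟨r, hr⟩ | hodd
    · obtain ⟨r', A', hs', hA'⟩ := ih _ (by omega) l' rfl fun j hj => by
        have := hl j hj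
        rwa [Multiset.count_cons_of_ne (by rintro rfl; exact Nat.not_even_iff_odd.mpr hj ⟨r, hr⟩)] at this
      obtain ⟨A, hA⟩ := (exists_block (F := F) x).1 r (by omega)
      obtain ⟨C, hC⟩ := exists_sum A A'
      refine ⟨r + r', C, by rw [Multiset.sum_cons, hs']; omega, fun k => ?_⟩
      rw [hC, hA, hA', Multiset.map_cons, Multiset.sum_cons]
    · have hx' : x ∈ l' := by
        have h := hl x hodd
        rw [Multiset.count_cons_self] at h
        rw [← Multiset.count_pos]
        obtain ⟨a, ha⟩ := h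
        omega
      obtain ⟨l'', rfl⟩ := Multiset.exists_cons_of_mem hx'
      rw [Multiset.card_cons] at hc
      obtain ⟨r', A', hs', hA'⟩ := ih _ (by omega) l'' rfl fun j hj => by
        have := hl j hj
        obtain ⟨a, ha⟩ := this
        rw [Multiset.count_cons, Multiset.count_cons] at ha
        refine Nat.even_iff.mpr ?_
        split_ifs at ha <;> omega
      obtain ⟨A, hA⟩ := (exists_block (F := F) x).2
      obtain ⟨C, hC⟩ := exists_sum A A'
      refine ⟨x + r', C, by rw [Multiset.sum_cons, Multiset.sum_cons, hs']; omega, fun k => ?_⟩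
      rw [hC, hA, hA', Multiset.map_cons, Multiset.sum_cons, Multiset.map_cons, Multiset.sum_cons]
      ring

/-- Jordan types occurring in `Sp`. -/
theorem jordanType_in_sp_iff [Finite F] {m t : ℕ} (d : Fin t → ℕ) (hsum : ∑ k, d k = 2 * m) :
    (∃ e : ((k : Fin t) × Fin (d k)) ≃ (Fin m ⊕ Fin m), ∃ A : Matrix.symplecticGroup (Fin m) F,
      IsConj (Matrix.reindex e e (Cfsg.jordanTypeMatrix d F)) (A : Matrix (Fin m ⊕ Fin m) (Fin m ⊕ Fin m) F)) ↔
      ∀ j : ℕ, Odd j → Even (Finset.univ.filter (fun k : Fin t => d k = j)).card := by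
  classical
  set l := (Finset.univ : Finset (Fin t)).val.map d
  have hmap : ∀ k, (l.map fun x => x - k).sum = ∑ i, (d i - k) := fun k => by
    simp only [l, Multiset.map_map, Function.comp_apply]; rfl
  have hcount : ∀ j, l.count j = (Finset.univ.filter (fun k : Fin t => d k = j)).card := fun j => by
    rw [Multiset.count_map, Finset.card_def, Finset.filter_val]
    congr 1
    exact Multiset.filter_congr fun x _ => eq_comm
  constructor
  · rintro ⟨e, A, c, hc⟩ j hj
    rw [← hcount]
    refine even_count_of_sums (fun s => ?_) hj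
    rw [hmap, ← rank_jordanType (F := F), ← rank_pow_reindex e]
    have h := even_rank_pow A s
    set X := Matrix.reindex e e (Cfsg.jordanTypeMatrix d F)
    have hsc : SemiconjBy (c : Matrix (Fin m ⊕ Fin m) (Fin m ⊕ Fin m) F) ((X - 1) ^ (2 * s))
        (((A : Matrix (Fin m ⊕ Fin m) (Fin m ⊕ Fin m) F) - 1) ^ (2 * s)) := by
      refine SemiconjBy.pow_right ?_ _
      show _ * (X - 1) = (_ - 1) * _
      rw [mul_sub, sub_mul, hc.eq, mul_one, one_mul]
    have hdet := (Matrix.isUnit_iff_isUnit_det _).mp c.isUnit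
    have h1 := congrArg Matrix.rank hsc.eq
    rw [Matrix.rank_mul_eq_right_of_isUnit_det _ _ hdet, Matrix.rank_mul_eq_left_of_isUnit_det _ _ hdet] at h1
    rwa [h1]
  · intro h
    obtain ⟨r, A, hs, hA⟩ := exists_type (F := F) _ l rfl (fun j hj => by rw [hcount]; exact h j hj)
    have hsl : l.sum = ∑ k, d k := rfl
    obtain rfl : r = m := by omega
    let e : ((k : Fin t) × Fin (d k)) ≃ (Fin r ⊕ Fin r) :=
      Fintype.equivOfCardEq (by simp [hsum, two_mul])
    refine ⟨e, A, ?_⟩
    let f := (finSumFinEquiv : Fin r ⊕ Fin r ≃ Fin (r + r))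
    let φ := Matrix.reindexAlgEquiv F F f
    set X := Matrix.reindex e e (Cfsg.jordanTypeMatrix d F)
    have hrank : ∀ k, (((φ X) - 1) ^ k).rank = (((φ A.1) - 1) ^ k).rank := fun k => by
      show ((Matrix.reindex f f X - 1) ^ k).rank = ((Matrix.reindex f f A.1 - 1) ^ k).rank
      rw [rank_pow_reindex, rank_pow_reindex, rank_pow_reindex, rank_jordanType, hA, hmap]
    have hzero : ((φ X) - 1) ^ (r + r) = 0 ∧ ((φ A.1) - 1) ^ (r + r) = 0 := by
      have h0 : (((φ A.1) - 1) ^ (r + r)).rank = 0 := by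
        show ((Matrix.reindex f f A.1 - 1) ^ (r + r)).rank = 0
        rw [rank_pow_reindex, hA, hmap]
        refine Finset.sum_eq_zero fun i _ => Nat.sub_eq_zero_of_le ?_
        rw [← two_mul, ← hsum]
        exact Finset.single_le_sum (fun k _ => Nat.zero_le (d k)) (Finset.mem_univ i)
      have hz : ∀ M : Matrix (Fin (r + r)) (Fin (r + r)) F, M.rank = 0 → M = 0 := fun M hM => by
        have := Submodule.finrank_eq_zero.mp hM
        refine Matrix.toLin'.injective ?_
        rw [map_zero]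
        exact LinearMap.range_eq_bot.mp this
      exact ⟨hz _ (by rw [hrank]; exact h0), hz _ h0⟩
    have hu : ∀ M : Matrix (Fin (r + r)) (Fin (r + r)) F, (M - 1) ^ (r + r) = 0 → IsUnit M := fun M hM => by
      have := IsNilpotent.isUnit_one_add (r := M - 1) ⟨_, hM⟩
      rwa [add_sub_cancel] at this
    obtain ⟨g, hg⟩ := hu _ hzero.1
    obtain ⟨g', hg'⟩ := hu _ hzero.2
    have hconj := (Units.coeHom _).map_isConj (GUUnipotent.isConj_of_rank (g := g) (h := g')
      (by rw [hg]; exact hzero.1) (by rw [hg']; exact hzero.2) (fun k => by rw [hg, hg']; exact hrank k))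
    rw [Units.coeHom_apply, Units.coeHom_apply, hg, hg'] at hconj
    have := φ.symm.toMonoidHom.map_isConj hconj
    simpa using this

end CfsgLib.Geo.JordanSp
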