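/-
Stabilisers of decompositions into subspaces of dimension at least two are maximal in the special linear group.
-/
import Cfsg.Agent.Geo.DecompCoords
import Cfsg.Agent.Geo.Transvection
import Cfsg.Agent.Geo.UnitaryOvergroup

set_option autoImplicit false

namespace CfsgLib.Geo.Decomp

open Matrix Cfsg Cfsg.Geo CfsgLib.Geo

variable {ι : Type} [Fintype ι] [DecidableEq ι] {F : Type*} [Field F] {t m : ℕ}
  {D : Fin t → Submodule F (ι → F)} (Θ : (Fin t → Fin m → F) ≃ₗ[F] (ι → F))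

/-- The projection on the `k`-th member. -/
def proj (k : Fin t) : (ι → F) →ₗ[F] (ι → F) :=
  Θ.toLinearMap ∘ₗ LinearMap.single F (fun _ : Fin t => Fin m → F) k ∘ₗ LinearMap.proj k ∘ₗ Θ.symm.toLinearMap

/-- The covector restricted to the `k`-th member. -/
def res (φ : ι → F) (k : Fin t) : ι → F := fun i => φ ⬝ᵥ proj Θ k (Pi.single i 1)

lemma sum_proj (v : ι → F) : ∑ k, proj Θ k v = v := by
  simp only [proj, LinearMap.comp_apply, LinearEquiv.coe_coe, LinearMap.proj_apply, LinearMap.single_apply]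
  rw [← map_sum, Finset.univ_sum_single, LinearEquiv.apply_symm_apply]

variable (hΘ : ∀ i v, v ∈ D i ↔ ∀ j, j ≠ i → Θ.symm v j = 0)

lemma res_dot (φ : ι → F) (k : Fin t) (x : ι → F) : res Θ φ k ⬝ᵥ x = φ ⬝ᵥ proj Θ k x := by
  conv_rhs => rw [pi_eq_sum_univ' x, map_sum, dotProduct_sum]
  rw [dotProduct]
  exact Finset.sum_congr rfl fun i _ => by rw [map_smul, dotProduct_smul, smul_eq_mul, mul_comm]; rfl

lemma sum_res (φ : ι → F) : ∑ k, res Θ φ k = φ := by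
  refine funext fun i => ?_
  rw [Finset.sum_apply]
  show ∑ k, φ ⬝ᵥ proj Θ k (Pi.single i 1) = _
  rw [← dotProduct_sum, sum_proj, dotProduct_single_one]

include hΘ

lemma proj_mem (k : Fin t) (v : ι → F) : proj Θ k v ∈ D k := by
  rw [hΘ]; intro j hj
  simp [proj, Pi.single_eq_of_ne hj]

lemma proj_of_mem {k : Fin t} {v : ι → F} (hv : v ∈ D k) : proj Θ k v = v := by
  rw [show proj Θ k v = Θ (Pi.single k (Θ.symm v k)) from rfl]
  conv_rhs => rw [← Θ.apply_symm_apply v]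
  congr 1
  funext j
  by_cases hj : j = k
  · subst hj; simp
  · rw [Pi.single_eq_of_ne hj, (hΘ k v).1 hv j hj]

lemma proj_of_mem_ne {k j : Fin t} (h : j ≠ k) {v : ι → F} (hv : v ∈ D k) : proj Θ j v = 0 := by
  rw [show proj Θ j v = Θ (Pi.single j (Θ.symm v j)) from rfl, (hΘ k v).1 hv j h, Pi.single_zero, map_zero]

lemma mem_of_proj {k : Fin t} {v : ι → F} (h : ∀ j, j ≠ k → proj Θ j v = 0) : v ∈ D k := by
  rw [← sum_proj Θ v, Finset.sum_eq_single k (fun j _ hj => h j hj) (by simp)]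
  exact proj_mem Θ hΘ k v

lemma res_eq_zero {φ : ι → F} {k j : Fin t} (h : j ≠ k) {v : ι → F} (hv : v ∈ D j) : res Θ φ k ⬝ᵥ v = 0 := by
  rw [res_dot, proj_of_mem_ne Θ hΘ (Ne.symm h) hv, dotProduct_zero]

lemma res_of_mem {φ : ι → F} {k : Fin t} {v : ι → F} (hv : v ∈ D k) : res Θ φ k ⬝ᵥ v = φ ⬝ᵥ v := by
  rw [res_dot, proj_of_mem Θ hΘ hv]

/-- A covector on one member separating a vector from a subspace. -/
lemma exists_block_covector (k : Fin t) (K : Submodule F (ι → F)) {u : ι → F} (hu : u ∈ D k) (hK : K ≤ D k)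
    (huK : u ∉ K) : ∃ φ : ι → F, (∀ j, j ≠ k → ∀ v ∈ D j, φ ⬝ᵥ v = 0) ∧ (∀ v ∈ K, φ ⬝ᵥ v = 0) ∧ φ ⬝ᵥ u = 1 := by
  obtain ⟨φ, hφ, hφu⟩ := exists_covector K huK
  exact ⟨res Θ φ k, fun j hj v hv => res_eq_zero Θ hΘ hj hv,
    fun v hv => by rw [res_of_mem Θ hΘ (hK hv)]; exact hφ v hv, by rw [res_of_mem Θ hΘ hu]; exact hφu⟩

/-- Rank one updates along one member preserve every member. -/
lemma update_mem_stab {a φ : ι → F} {k : Fin t} (ha : a ∈ D k) (hφ : ∀ j, j ≠ k → ∀ v ∈ D j, φ ⬝ᵥ v = 0)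
    {g : GL ι F} (hg : ∀ x, (g : Matrix ι ι F) *ᵥ x = x + (φ ⬝ᵥ x) • a) :
    g ∈ decompositionStabilizer D := by
  refine ⟨1, fun i => ?_⟩
  have hle : (D i).map (glEquiv g).toLinearMap ≤ D i := by
    rintro _ ⟨v, hv, rfl⟩
    rw [LinearEquiv.coe_coe, glEquiv_apply, hg]
    by_cases hik : i = k
    · subst hik; exact (D i).add_mem hv ((D i).smul_mem _ ha)
    · rw [hφ i hik v hv, zero_smul, add_zero]; exact hv
  have h := Submodule.eq_of_le_of_finrank_le hle (le_of_eq (LinearEquiv.finrank_map_eq (glEquiv g) (D i)).symm)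
  have e : (Matrix.toLin' (g : Matrix ι ι F)) = (glEquiv g).toLinearMap :=
    LinearMap.ext fun x => by simp [Matrix.toLin'_apply]
  rw [e, Equiv.Perm.one_apply]
  exact h

variable {M : Subgroup (GL ι F)} (hM : decompositionStabilizer D ⊓ specialLinear ι F ≤ M)
include hM

lemma hasTv_block {a φ : ι → F} {k : Fin t} (ha : a ∈ D k) (hφ : ∀ j, j ≠ k → ∀ v ∈ D j, φ ⬝ᵥ v = 0)
    (h : φ ⬝ᵥ a = 0) : HasTv M a φ :=
  ⟨h, hM ⟨update_mem_stab Θ hΘ ha hφ (tvec_mulVec a φ h), tvec_mem_specialLinear _ _ _⟩⟩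

lemma exists_indep (hm : 2 ≤ m) (hdim : ∀ i, Module.finrank F (D i) = m) (l : Fin t) (u : ι → F) :
    ∃ b ∈ D l, b ∉ F ∙ u := by
  by_contra hc
  push Not at hc
  have := Submodule.finrank_mono (show D l ≤ F ∙ u from fun x hx => hc x hx)
  have h1 := finrank_span_le_card (R := F) ({u} : Set (ι → F))
  simp [hdim] at this h1
  omega

/-- From a transvection centred in one member with axis leaving it: all rank one maps between two members. -/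
lemma full_pair (hm : 2 ≤ m) (hdim : ∀ i, Module.finrank F (D i) = m) {b χ : ι → F} {i l : Fin t}
    (hil : i ≠ l) (hb : b ∈ D i) (hb0 : b ≠ 0) (hbχ : HasTv M b χ) {c : ι → F} (hc : c ∈ D l)
    (hχc : χ ⬝ᵥ c ≠ 0) :
    ∀ x ∈ D i, ∀ θ : ι → F, (∀ j, j ≠ l → ∀ v ∈ D j, θ ⬝ᵥ v = 0) → HasTv M x θ := by
  -- axes
  have special : ∀ θ : ι → F, (∀ j, j ≠ l → ∀ v ∈ D j, θ ⬝ᵥ v = 0) →
      ∀ c' ∈ D l, θ ⬝ᵥ c' = 0 → χ ⬝ᵥ c' ≠ 0 → HasTv M b θ := by
    intro θ hθ c' hc' h0 hne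
    have h := hbχ.comm (hasTv_block Θ hΘ hM hc' (φ := (χ ⬝ᵥ c')⁻¹ • θ)
      (fun j hj v hv => by rw [smul_dotProduct, hθ j hj v hv, smul_zero]) (by rw [smul_dotProduct, h0, smul_zero]))
      (by rw [smul_dotProduct, hθ i hil b hb, smul_zero])
    rwa [smul_smul, mul_inv_cancel₀ hne, one_smul] at h
  obtain ⟨c0, hc0, hc0c⟩ : ∃ c0 ∈ D l, c0 ∉ F ∙ c ∧ χ ⬝ᵥ c0 = 0 := by
    obtain ⟨d, hd, hdc⟩ := exists_indep Θ hΘ hM hm hdim l c
    refine ⟨d - ((χ ⬝ᵥ d) / (χ ⬝ᵥ c)) • c, (D l).sub_mem hd ((D l).smul_mem _ hc), fun h => hdc ?_, ?_⟩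
    · have := (F ∙ c).add_mem h ((F ∙ c).smul_mem ((χ ⬝ᵥ d) / (χ ⬝ᵥ c)) (Submodule.mem_span_singleton_self c))
      simpa using this
    · rw [dotProduct_sub, dotProduct_smul, smul_eq_mul, div_mul_cancel₀ _ hχc, sub_self]
  have good : ∀ θ : ι → F, (∀ j, j ≠ l → ∀ v ∈ D j, θ ⬝ᵥ v = 0) → θ ⬝ᵥ c0 ≠ 0 → HasTv M b θ := by
    intro θ hθ h0
    refine special θ hθ (c - ((θ ⬝ᵥ c) / (θ ⬝ᵥ c0)) • c0) ((D l).sub_mem hc ((D l).smul_mem _ hc0)) ?_ ?_
    · rw [dotProduct_sub, dotProduct_smul, smul_eq_mul, div_mul_cancel₀ _ h0, sub_self]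
    · rw [dotProduct_sub, dotProduct_smul, hc0c.2, smul_zero, sub_zero]; exact hχc
  obtain ⟨ω, hω, -, hωc0⟩ := exists_block_covector Θ hΘ l ⊥ hc0 bot_le (by
    intro h; exact hc0c.1 (by rw [(Submodule.mem_bot F).1 h]; exact Submodule.zero_mem _))
  have hall : ∀ θ : ι → F, (∀ j, j ≠ l → ∀ v ∈ D j, θ ⬝ᵥ v = 0) → HasTv M b θ := by
    intro θ hθ
    by_cases h0 : θ ⬝ᵥ c0 = 0
    · have h1 := (good (θ - ω) (fun j hj v hv => by rw [sub_dotProduct, hθ j hj v hv, hω j hj v hv, sub_zero])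
        (by rw [sub_dotProduct, h0, hωc0]; simp)).add_axis (good ω hω (by rw [hωc0]; exact one_ne_zero))
      rwa [sub_add_cancel] at h1
    · exact good θ hθ h0
  -- centres
  have indep : ∀ x ∈ D i, x ∉ F ∙ b → ∀ θ : ι → F, (∀ j, j ≠ l → ∀ v ∈ D j, θ ⬝ᵥ v = 0) → HasTv M x θ := by
    intro x hx hxb θ hθ
    obtain ⟨η, hη, hηx, hηb⟩ := exists_block_covector Θ hΘ i (F ∙ x) hb (by
      rw [Submodule.span_singleton_le_iff_mem]; exact hx) (fun h => by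
        obtain ⟨e, rfl⟩ := Submodule.mem_span_singleton.1 h
        have he : e ≠ 0 := fun h0 => hb0 (by rw [h0, zero_smul])
        exact hxb (Submodule.mem_span_singleton.2 ⟨e⁻¹, by rw [smul_smul, inv_mul_cancel₀ he, one_smul]⟩))
    have h := (hasTv_block Θ hΘ hM hx hη (hηx x (Submodule.mem_span_singleton_self x))).comm (hall θ hθ)
      (hθ i hil x hx)
    rwa [hηb, one_smul] at h
  intro x hx θ hθ
  by_cases hxb : x ∈ F ∙ b
  · obtain ⟨d, hd, hdb⟩ := exists_indep Θ hΘ hM hm hdim i b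
    have h1 := (indep (x + d) ((D i).add_mem hx hd) (fun h => hdb (by simpa using (F ∙ b).sub_mem h hxb)) θ hθ).sub_center
      (indep d hd hdb θ hθ)
    rwa [add_sub_cancel_right] at h1
  · exact indep x hx hxb θ hθ

/-- A transvection whose centre meets a member where the axis allows a single centre. -/
lemma crossing_of_good {v ψ : ι → F} (h : HasTv M v ψ) {l : Fin t} {b : ι → F} (hb : b ∈ D l)
    (hψb : ψ ⬝ᵥ b = 0) (hbv : proj Θ l v ∉ F ∙ b) {k : Fin t} (hkl : k ≠ l) {c : ι → F} (hc : c ∈ D k)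
    (hψc : ψ ⬝ᵥ c ≠ 0) :
    HasTv M b ψ ∧ ψ ⬝ᵥ c ≠ 0 := by
  obtain ⟨χ, hχ, hχb, hχv⟩ := exists_block_covector Θ hΘ l (F ∙ b) (proj_mem Θ hΘ l v)
    (by rw [Submodule.span_singleton_le_iff_mem]; exact hb) hbv
  have h1 := (hasTv_block Θ hΘ hM hb hχ (hχb b (Submodule.mem_span_singleton_self b))).comm h hψb
  have e : χ ⬝ᵥ v = 1 := by
    rw [← hχv]
    conv_lhs => rw [← sum_proj Θ v, dotProduct_sum]
    exact Finset.sum_eq_single l (fun j _ hj => hχ j hj _ (proj_mem Θ hΘ j v)) (by simp)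
  rw [e, one_smul] at h1
  exact ⟨h1, hψc⟩

variable [Fintype F]

/-- A transvection with centre outside every member gives one crossing two members. -/
theorem exists_crossing (hm : 2 ≤ m) (hdim : ∀ i, Module.finrank F (D i) = m) (ht : m = 2 → 3 ≤ t)
    (hq : m = 2 → Fintype.card F ≠ 2) {v ψ : ι → F} (h : HasTv M v ψ) (hv : ∀ i, v ∉ D i) (hψ : ψ ≠ 0) :
    ∃ (i l : Fin t) (b χ c : ι → F), i ≠ l ∧ b ∈ D i ∧ b ≠ 0 ∧ HasTv M b χ ∧ c ∈ D l ∧ χ ⬝ᵥ c ≠ 0 := by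
  have hcomp : ∀ (φ : ι → F), φ ≠ 0 → ∃ k, ∃ c ∈ D k, φ ⬝ᵥ c ≠ 0 := by
    intro φ hφ
    by_contra hc
    push Not at hc
    refine hφ (funext fun i => ?_)
    rw [← dotProduct_single_one φ i, ← sum_proj Θ (Pi.single i 1), dotProduct_sum]
    exact Finset.sum_eq_zero fun k _ => hc k _ (proj_mem Θ hΘ k _)
  have hsupp : ∀ i : Fin t, ∃ j, j ≠ i ∧ proj Θ j v ≠ 0 := fun i => by
    by_contra hc
    push Not at hc
    exact hv i (mem_of_proj Θ hΘ hc)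
  -- good members
  have good : ∀ (φ : ι → F), HasTv M v φ → ∀ l, proj Θ l v ≠ 0 → ∀ b ∈ D l, b ≠ 0 → φ ⬝ᵥ b = 0 →
      proj Θ l v ∉ F ∙ b → (∃ k, k ≠ l ∧ ∃ c ∈ D k, φ ⬝ᵥ c ≠ 0) →
      ∃ (i l : Fin t) (b χ c : ι → F), i ≠ l ∧ b ∈ D i ∧ b ≠ 0 ∧ HasTv M b χ ∧ c ∈ D l ∧ χ ⬝ᵥ c ≠ 0 := by
    rintro φ hφ l - b hb hb0 hφb hbv ⟨k, hkl, c, hc, hφc⟩
    exact ⟨l, k, b, φ, c, Ne.symm hkl, hb, hb0, (crossing_of_good Θ hΘ hM hφ hb hφb hbv hkl hc hφc).1, hc, hφc⟩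
  -- a member where the axis vanishes
  have vanish : ∀ (φ : ι → F), HasTv M v φ → φ ≠ 0 → ∀ l, proj Θ l v ≠ 0 → (∀ b ∈ D l, φ ⬝ᵥ b = 0) →
      ∃ (i l : Fin t) (b χ c : ι → F), i ≠ l ∧ b ∈ D i ∧ b ≠ 0 ∧ HasTv M b χ ∧ c ∈ D l ∧ χ ⬝ᵥ c ≠ 0 := by
    intro φ hφ hφ0 l hl h0
    obtain ⟨b, hb, hbv⟩ := exists_indep Θ hΘ hM hm hdim l (proj Θ l v)
    have hb0 : b ≠ 0 := fun e => hbv (by rw [e]; exact Submodule.zero_mem _)
    obtain ⟨k, c, hc, hφc⟩ := hcomp φ hφ0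
    refine good φ hφ l hl b hb hb0 (h0 b hb) (fun e => ?_) ⟨k, fun e => hφc (h0 c (e ▸ hc)), c, hc, hφc⟩
    obtain ⟨d, hd⟩ := Submodule.mem_span_singleton.1 e
    have hd0 : d ≠ 0 := fun h' => hl (by rw [← hd, h', zero_smul])
    exact hbv (Submodule.mem_span_singleton.2 ⟨d⁻¹, by rw [← hd, smul_smul, inv_mul_cancel₀ hd0, one_smul]⟩)
  obtain ⟨k0, c0, hc0, hψc0⟩ := hcomp ψ hψ
  by_cases hconc : ∀ k, k ≠ k0 → ∀ c ∈ D k, ψ ⬝ᵥ c = 0
  · obtain ⟨l, hl, hlv⟩ := hsupp k0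
    exact vanish ψ h hψ l hlv (hconc l hl)
  push Not at hconc
  obtain ⟨k1, hk10, c1, hc1, hψc1⟩ := hconc
  have hspread : ∀ l, ∃ k, k ≠ l ∧ ∃ c ∈ D k, ψ ⬝ᵥ c ≠ 0 := fun l => by
    by_cases hl : l = k0
    · exact ⟨k1, hl ▸ hk10, c1, hc1, hψc1⟩
    · exact ⟨k0, Ne.symm hl, c0, hc0, hψc0⟩
  by_cases hgood : ∃ l, proj Θ l v ≠ 0 ∧ ∃ b ∈ D l, b ≠ 0 ∧ ψ ⬝ᵥ b = 0 ∧ proj Θ l v ∉ F ∙ b
  · obtain ⟨l, hl, b, hb, hb0, hψb, hbv⟩ := hgood
    exact good ψ h l hl b hb hb0 hψb hbv (hspread l)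
  push Not at hgood
  -- now every member is a plane on which the axis kills exactly the component
  have hbad : ∀ l, proj Θ l v ≠ 0 →
      ψ ⬝ᵥ proj Θ l v = 0 ∧ m = 2 ∧ ∃ w ∈ D l, ψ ⬝ᵥ w = 1 := by
    intro l hl
    have hne : ∃ w ∈ D l, ψ ⬝ᵥ w ≠ 0 := by
      by_contra hc
      push Not at hc
      obtain ⟨b, hb, hbv⟩ := exists_indep Θ hΘ hM hm hdim l (proj Θ l v)
      have hb0 : b ≠ 0 := fun e => hbv (by rw [e]; exact Submodule.zero_mem _)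
      obtain ⟨d, hd⟩ := Submodule.mem_span_singleton.1 (hgood l hl b hb hb0 (hc b hb))
      have hd0 : d ≠ 0 := fun h' => hl (by rw [← hd, h', zero_smul])
      exact hbv (Submodule.mem_span_singleton.2 ⟨d⁻¹, by rw [← hd, smul_smul, inv_mul_cancel₀ hd0, one_smul]⟩)
    obtain ⟨w, hw, hψw⟩ := hne
    have hker : ∀ b ∈ D l, b - ((ψ ⬝ᵥ b) / (ψ ⬝ᵥ w)) • w ∈ D l ∧ ψ ⬝ᵥ (b - ((ψ ⬝ᵥ b) / (ψ ⬝ᵥ w)) • w) = 0 :=
      fun b hb => ⟨(D l).sub_mem hb ((D l).smul_mem _ hw), by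
        rw [dotProduct_sub, dotProduct_smul, smul_eq_mul, div_mul_cancel₀ _ hψw, sub_self]⟩
    obtain ⟨b, hb, hbw⟩ := exists_indep Θ hΘ hM hm hdim l w
    obtain ⟨hb', hψb'⟩ := hker b hb
    have hb'0 : b - ((ψ ⬝ᵥ b) / (ψ ⬝ᵥ w)) • w ≠ 0 := fun e => hbw (by
      rw [sub_eq_zero.1 e]; exact Submodule.smul_mem _ _ (Submodule.mem_span_singleton_self w))
    obtain ⟨d, hd⟩ := Submodule.mem_span_singleton.1 (hgood l hl _ hb' hb'0 hψb')
    refine ⟨by rw [← hd, dotProduct_smul, hψb', smul_zero], ?_, (ψ ⬝ᵥ w)⁻¹ • w, (D l).smul_mem _ hw, by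
      rw [dotProduct_smul, smul_eq_mul, inv_mul_cancel₀ hψw]⟩
    have hle : D l ≤ Submodule.span F {proj Θ l v, w} := by
      intro x hx
      obtain ⟨hx', hψx'⟩ := hker x hx
      have hx'v : x - ((ψ ⬝ᵥ x) / (ψ ⬝ᵥ w)) • w ∈ Submodule.span F {proj Θ l v, w} := by
        rcases eq_or_ne (x - ((ψ ⬝ᵥ x) / (ψ ⬝ᵥ w)) • w) 0 with e | e
        · rw [e]; exact Submodule.zero_mem _
        · obtain ⟨d', hd'⟩ := Submodule.mem_span_singleton.1 (hgood l hl _ hx' e hψx')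
          have hd0 : d' ≠ 0 := fun h' => hl (by rw [← hd', h', zero_smul])
          have e2 : x - ((ψ ⬝ᵥ x) / (ψ ⬝ᵥ w)) • w = d'⁻¹ • proj Θ l v := by
            rw [← hd', smul_smul, inv_mul_cancel₀ hd0, one_smul]
          rw [e2]; exact Submodule.smul_mem _ _ (Submodule.subset_span (by simp))
      have := Submodule.add_mem _ hx'v (Submodule.smul_mem _ ((ψ ⬝ᵥ x) / (ψ ⬝ᵥ w))
        (Submodule.subset_span (show w ∈ ({proj Θ l v, w} : Set (ι → F)) by simp)))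
      rwa [sub_add_cancel] at this
    classical
    have h1 := Submodule.finrank_mono hle
    have h2 := finrank_span_le_card (R := F) ({proj Θ l v, w} : Set (ι → F))
    have h3 : ({proj Θ l v, w} : Set (ι → F)).toFinset.card ≤ 2 := by
      simp only [Set.toFinset_insert, Set.toFinset_singleton]
      exact Finset.card_le_two
    rw [hdim l] at h1
    omega
  obtain ⟨k, -, hk⟩ := hsupp k0
  obtain ⟨l, hlk, hl⟩ := hsupp k
  obtain ⟨hvk, hm2, wk, hwk, hwk1⟩ := hbad k hk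
  obtain ⟨hvl, -, wl, hwl, hwl1⟩ := hbad l hl
  obtain ⟨lam, hlam0, hlam1⟩ : ∃ lam : F, lam ≠ 0 ∧ lam ≠ 1 := by
    classical
    by_contra hc
    push Not at hc
    have hsub : (Finset.univ : Finset F) ⊆ {0, 1} := fun x _ => by
      rcases eq_or_ne x 0 with rfl | h0
      · simp
      · simp [hc x h0]
    have h1 := (Finset.card_le_card hsub).trans Finset.card_le_two
    have h2 := Fintype.one_lt_card (α := F)
    rw [Finset.card_univ] at h1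
    exact hq hm2 (by omega)
  -- a dilation on one member fixing the centre
  have mkdil : ∀ (j : Fin t) (w θ : ι → F) (μ : F), w ∈ D j → θ ⬝ᵥ w = 1 → μ ≠ 0 →
      (∀ i, i ≠ j → ∀ x ∈ D i, θ ⬝ᵥ x = 0) → θ ⬝ᵥ v = 0 →
      ∃ g ∈ decompositionStabilizer D, (g : Matrix ι ι F).det = μ ∧ (g : Matrix ι ι F) *ᵥ v = v ∧
        ∀ φ x, φ ⬝ᵥ ((g : Matrix ι ι F) *ᵥ x) = φ ⬝ᵥ x + (μ - 1) * (φ ⬝ᵥ w) * (θ ⬝ᵥ x) := by
    intro j w θ μ hw hθw hμ hθ hθv
    have hd : 1 + θ ⬝ᵥ ((μ - 1) • w) ≠ 0 := by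
      rw [dotProduct_smul, hθw, smul_eq_mul, mul_one, add_sub_cancel]; exact hμ
    refine ⟨Unit.dil _ θ hd, update_mem_stab Θ hΘ ((D j).smul_mem _ hw) hθ (Unit.dil_mulVec _ θ hd), ?_, ?_,
      fun φ x => ?_⟩
    · rw [Unit.det_dil, dotProduct_smul, hθw, smul_eq_mul, mul_one, add_sub_cancel]
    · rw [Unit.dil_mulVec, hθv, zero_smul, add_zero]
    · rw [Unit.dil_mulVec, dotProduct_add, dotProduct_smul, dotProduct_smul, smul_eq_mul, smul_eq_mul]; ring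
  have twist : ∀ (φ : ι → F), HasTv M v φ → ∀ j j' : Fin t, ∀ w w' θ θ' : ι → F, w ∈ D j → w' ∈ D j' →
      θ ⬝ᵥ w = 1 → θ' ⬝ᵥ w' = 1 → (∀ i, i ≠ j → ∀ x ∈ D i, θ ⬝ᵥ x = 0) →
      (∀ i, i ≠ j' → ∀ x ∈ D i, θ' ⬝ᵥ x = 0) → θ ⬝ᵥ v = 0 → θ' ⬝ᵥ v = 0 → j ≠ j' →
      HasTv M v (((lam - 1) * (φ ⬝ᵥ w)) • θ + ((lam⁻¹ - 1) * (φ ⬝ᵥ w')) • θ') := by
    intro φ hφ j j' w w' θ θ' hw hw' hθw hθw' hθ hθ' hθv hθv' hjj
    obtain ⟨g, hg, hgd, hgv, hgφ⟩ := mkdil j w θ lam hw hθw hlam0 hθ hθv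
    obtain ⟨g', hg', hgd', hgv', hgφ'⟩ := mkdil j' w' θ' lam⁻¹ hw' hθw' (inv_ne_zero hlam0) hθ' hθv'
    have hx : g * g' ∈ M := hM ⟨mul_mem hg hg', mem_specialLinear.2 (by
      rw [Units.val_mul, Matrix.det_mul, hgd, hgd', mul_inv_cancel₀ hlam0])⟩
    have h2 := hφ.conj (g := (g * g')⁻¹) (M.inv_mem hx)
    rw [inv_inv] at h2
    have e1 : ((g * g')⁻¹ : GL ι F).val *ᵥ v = v := by
      conv_lhs => rw [show v = ((g * g' : GL ι F) : Matrix ι ι F) *ᵥ v by rw [mul_mulVec, hgv', hgv]]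
      exact inv_mulVec_mulVec _ _
    rw [e1] at h2
    have h3 := h2.sub_axis hφ
    have e2 : φ ᵥ* ((g * g' : GL ι F) : Matrix ι ι F) - φ =
        ((lam - 1) * (φ ⬝ᵥ w)) • θ + ((lam⁻¹ - 1) * (φ ⬝ᵥ w')) • θ' := by
      refine funext fun i => ?_
      have hi : (φ ᵥ* ((g * g' : GL ι F) : Matrix ι ι F)) i =
          φ ⬝ᵥ (((g * g' : GL ι F) : Matrix ι ι F) *ᵥ Pi.single i 1) := by
        rw [Matrix.mulVec_single_one]; rfl
      rw [Pi.sub_apply, hi, mul_mulVec, hgφ, hgφ', Pi.add_apply, Pi.smul_apply, Pi.smul_apply, smul_eq_mul,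
        smul_eq_mul, ← dotProduct_single_one θ i, ← dotProduct_single_one θ' i, ← dotProduct_single_one φ i]
      have hθg : θ ⬝ᵥ ((g' : Matrix ι ι F) *ᵥ Pi.single i 1) = θ ⬝ᵥ Pi.single i 1 := by
        rw [hgφ', hθ j' (Ne.symm hjj) w' hw', mul_zero, zero_mul, add_zero]
      rw [hθg]
      ring
    rw [e2] at h3
    exact h3
  have hθk : res Θ ψ k ⬝ᵥ v = 0 := by rw [res_dot]; exact hvk
  have hθl : res Θ ψ l ⬝ᵥ v = 0 := by rw [res_dot]; exact hvl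
  have h1 := twist ψ h k l wk wl (res Θ ψ k) (res Θ ψ l) hwk hwl (by rw [res_of_mem Θ hΘ hwk]; exact hwk1)
    (by rw [res_of_mem Θ hΘ hwl]; exact hwl1) (fun i hi x hx => res_eq_zero Θ hΘ hi hx)
    (fun i hi x hx => res_eq_zero Θ hΘ hi hx) hθk hθl (Ne.symm hlk)
  rw [hwk1, hwl1, mul_one, mul_one] at h1
  set ψ' := (lam - 1) • res Θ ψ k + (lam⁻¹ - 1) • res Θ ψ l
  have hψ'wk : ψ' ⬝ᵥ wk = lam - 1 := by
    rw [add_dotProduct, smul_dotProduct, smul_dotProduct, res_of_mem Θ hΘ hwk, hwk1,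
      res_eq_zero Θ hΘ (Ne.symm hlk) hwk]
    simp
  have hψ'0 : ψ' ≠ 0 := fun e => sub_ne_zero.2 hlam1 (by rw [← hψ'wk, e, zero_dotProduct])
  have hψ'out : ∀ j, j ≠ k → j ≠ l → ∀ x ∈ D j, ψ' ⬝ᵥ x = 0 := fun j hjk hjl x hx => by
    rw [add_dotProduct, smul_dotProduct, smul_dotProduct, res_eq_zero Θ hΘ hjk hx, res_eq_zero Θ hΘ hjl hx]
    simp
  by_cases hthird : ∃ j, j ≠ k ∧ j ≠ l ∧ proj Θ j v ≠ 0
  · obtain ⟨j, hjk, hjl, hj⟩ := hthird
    exact vanish ψ' h1 hψ'0 j hj (hψ'out j hjk hjl)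
  push Not at hthird
  obtain ⟨j, hjk, hjl⟩ : ∃ j : Fin t, j ≠ k ∧ j ≠ l := by
    by_contra hc
    push Not at hc
    have hsub : (Finset.univ : Finset (Fin t)) ⊆ {k, l} := fun x _ => by
      by_cases hx : x = k
      · simp [hx]
      · simp [hc x hx]
    have := (Finset.card_le_card hsub).trans Finset.card_le_two
    rw [Finset.card_univ, Fintype.card_fin] at this
    have := ht hm2
    omega
  obtain ⟨w, hw, hw'⟩ := exists_indep Θ hΘ hM hm hdim j 0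
  obtain ⟨θ, hθ, -, hθw⟩ := exists_block_covector Θ hΘ j ⊥ hw bot_le (fun e => hw' (by
    rw [(Submodule.mem_bot F).1 e]; exact Submodule.zero_mem _))
  have hθv : θ ⬝ᵥ v = 0 := by
    rw [← sum_proj Θ v, dotProduct_sum]
    refine Finset.sum_eq_zero fun i _ => ?_
    by_cases hi : i = j
    · subst hi; rw [hthird i hjk hjl, dotProduct_zero]
    · exact hθ i hi _ (proj_mem Θ hΘ i v)
  have h2 := twist ψ' h1 k j wk w (res Θ ψ k) θ hwk hw (by rw [res_of_mem Θ hΘ hwk]; exact hwk1) hθw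
    (fun i hi x hx => res_eq_zero Θ hΘ hi hx) hθ hθk hθv (Ne.symm hjk)
  rw [hψ'out j hjk hjl w hw, mul_zero, zero_smul, add_zero, hψ'wk] at h2
  refine vanish _ h2 (fun e => ?_) l hl fun x hx => by
    rw [smul_dotProduct, res_eq_zero Θ hΘ hlk hx, smul_zero]
  have := congrArg (fun φ => φ ⬝ᵥ wk) e
  simp only [smul_dotProduct, res_of_mem Θ hΘ hwk, hwk1, zero_dotProduct, smul_eq_mul, mul_one] at this
  exact mul_ne_zero (sub_ne_zero.2 hlam1) (sub_ne_zero.2 hlam1) this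

omit [Fintype F] in
/-- Some stabiliser element of determinant one carries a pair of members to any other pair. -/
lemma exists_pair_map (hm : 2 ≤ m) (hdim : ∀ i, Module.finrank F (D i) = m) {i l i' l' : Fin t}
    (h : i ≠ l) (h' : i' ≠ l') :
    ∃ x ∈ M, (∀ v ∈ D i', ((x⁻¹ : GL ι F) : Matrix ι ι F) *ᵥ v ∈ D i) ∧
      ∀ j, j ≠ l → ∀ v ∈ D j, ∃ j', j' ≠ l' ∧ (x : Matrix ι ι F) *ᵥ v ∈ D j' := by
  obtain ⟨π, hπi, hπl⟩ : ∃ π : Equiv.Perm (Fin t), π i' = i ∧ π l' = l := by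
    refine ⟨Equiv.swap (Equiv.swap i' i l') l * Equiv.swap i' i, ?_, ?_⟩
    · rw [Equiv.Perm.mul_apply, Equiv.swap_apply_left, Equiv.swap_apply_of_ne_of_ne ?_ h]
      intro e
      exact h' ((Equiv.swap i' i).injective (by rw [Equiv.swap_apply_left, ← e]))
    · rw [Equiv.Perm.mul_apply, Equiv.swap_apply_left]
  let P : (Fin t → Fin m → F) ≃ₗ[F] (Fin t → Fin m → F) := LinearEquiv.funCongrLeft F (Fin m → F) π.symm
  let L := (Θ.symm.trans P).trans Θ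
  let A := LinearMap.toMatrix' L.toLinearMap
  let B := LinearMap.toMatrix' L.symm.toLinearMap
  let g : GL ι F := ⟨A, B, by rw [← LinearMap.toMatrix'_comp]; simp,
    by rw [← LinearMap.toMatrix'_comp]; simp⟩
  have hg : ∀ v, (g : Matrix ι ι F) *ᵥ v = L v := fun v => LinearMap.toMatrix'_mulVec _ v
  have hgD : ∀ j, ∀ v ∈ D j, (g : Matrix ι ι F) *ᵥ v ∈ D (π j) := by
    intro j v hv
    rw [hg, hΘ]
    intro e he
    have hval : Θ.symm (L v) e = Θ.symm v (π.symm e) := by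
      simp [L, P, LinearEquiv.funCongrLeft_apply, LinearMap.funLeft_apply]
    rw [hval]
    exact (hΘ j v).1 hv _ fun e' => he (by rw [← e', Equiv.apply_symm_apply])
  obtain ⟨w, hw, hw'⟩ := exists_indep Θ hΘ hM hm hdim i 0
  obtain ⟨θ, hθ, -, hθw⟩ := exists_block_covector Θ hΘ i ⊥ hw bot_le (fun e => hw' (by
    rw [(Submodule.mem_bot F).1 e]; exact Submodule.zero_mem _))
  set μ := ((g : Matrix ι ι F).det)⁻¹
  have hdet0 : (g : Matrix ι ι F).det ≠ 0 := Matrix.det_ne_zero_of_left_inverse g.inv_mul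
  have hd : 1 + θ ⬝ᵥ ((μ - 1) • w) ≠ 0 := by
    rw [dotProduct_smul, hθw, smul_eq_mul, mul_one, add_sub_cancel]; exact inv_ne_zero hdet0
  let d := Unit.dil _ θ hd
  have hdD : ∀ j, ∀ v ∈ D j, (d : Matrix ι ι F) *ᵥ v ∈ D j := fun j v hv => by
    rw [Unit.dil_mulVec]
    by_cases hj : j = i
    · subst hj; exact (D j).add_mem hv ((D j).smul_mem _ ((D j).smul_mem _ hw))
    · rw [hθ j hj v hv, zero_smul, add_zero]; exact hv
  have hyD : ∀ j, ∀ v ∈ D j, ((d * g : GL ι F) : Matrix ι ι F) *ᵥ v ∈ D (π j) := fun j v hv => by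
    rw [mul_mulVec]; exact hdD _ _ (hgD j v hv)
  have hmap : ∀ j, (D j).map (glEquiv (d * g)).toLinearMap = D (π j) := fun j => by
    have hle : (D j).map (glEquiv (d * g)).toLinearMap ≤ D (π j) := by
      rintro _ ⟨v, hv, rfl⟩
      rw [LinearEquiv.coe_coe, glEquiv_apply]
      exact hyD j v hv
    exact Submodule.eq_of_le_of_finrank_le hle (by
      rw [hdim, LinearEquiv.finrank_map_eq (glEquiv (d * g)) (D j), hdim])
  have hy : d * g ∈ M := by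
    refine hM ⟨⟨π, fun j => ?_⟩, mem_specialLinear.2 ?_⟩
    · have e : Matrix.toLin' ((d * g : GL ι F) : Matrix ι ι F) = (glEquiv (d * g)).toLinearMap :=
        LinearMap.ext fun x => by simp [Matrix.toLin'_apply]
      rw [e]; exact hmap j
    · rw [Units.val_mul, Matrix.det_mul, Unit.det_dil, dotProduct_smul, hθw, smul_eq_mul, mul_one, add_sub_cancel,
        inv_mul_cancel₀ hdet0]
  refine ⟨(d * g)⁻¹, M.inv_mem hy, fun v hv => ?_, fun j hj v hv => ⟨π.symm j, ?_, ?_⟩⟩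
  · rw [inv_inv, ← hπi]; exact hyD i' v hv
  · exact fun e => hj (by rw [← π.apply_symm_apply j, e, hπl])
  · have hv' : v ∈ (D (π.symm j)).map (glEquiv (d * g)).toLinearMap := by
      rw [hmap, Equiv.apply_symm_apply]; exact hv
    obtain ⟨u, hu, rfl⟩ := hv'
    rw [LinearEquiv.coe_coe, glEquiv_apply, inv_mulVec_mulVec]; exact hu

omit hM in
/-- A subspace inside a union of members of the decomposition lies in one of them. -/
lemma le_one_member {W : Submodule F (ι → F)} (i0 : Fin t) (h : ∀ x ∈ W, ∃ j, x ∈ D j) : ∃ j, W ≤ D j := by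
  by_cases hW : W = ⊥
  · exact ⟨i0, by rw [hW]; exact bot_le⟩
  obtain ⟨x, hx, hx0⟩ := (Submodule.ne_bot_iff _).1 hW
  obtain ⟨j, hj⟩ := h x hx
  refine ⟨j, fun y hy => ?_⟩
  obtain ⟨j', hj'⟩ := h y hy
  by_cases hjj : j' = j
  · exact hjj ▸ hj'
  obtain ⟨j'', hj''⟩ := h (x + y) (W.add_mem hx hy)
  have e1 : proj Θ j (x + y) = x := by
    rw [map_add, proj_of_mem Θ hΘ hj, proj_of_mem_ne Θ hΘ (Ne.symm hjj) hj', add_zero]
  have e2 : proj Θ j' (x + y) = y := by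
    rw [map_add, proj_of_mem Θ hΘ hj', proj_of_mem_ne Θ hΘ hjj hj, zero_add]
  by_cases h1 : j'' = j
  · rw [← e2, proj_of_mem_ne Θ hΘ hjj (h1 ▸ hj'')]; exact Submodule.zero_mem _
  · exact absurd (by rw [← e1, proj_of_mem_ne Θ hΘ (Ne.symm h1) hj''] : x = 0) hx0

/-- The stabiliser has no proper overgroup. -/
theorem key (hm : 2 ≤ m) (hD : IsMDecomposition m D) (ht : m = 2 → 3 ≤ t)
    (hq : m = 2 → Fintype.card F ≠ 2) (hMI : M ≤ specialLinear ι F) (hMX : ¬ M ≤ decompositionStabilizer D) :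
    specialLinear ι F ≤ M := by
  have hdim := hD.finrank_eq
  obtain ⟨g, hg, hgX⟩ := SetLike.not_le_iff_exists.1 hMX
  obtain ⟨i0, a, ha, hga⟩ : ∃ i, ∃ a ∈ D i, ∀ j, (g : Matrix ι ι F) *ᵥ a ∉ D j := by
    by_contra hc
    push Not at hc
    have hmap : ∀ i, ∃ j, (D i).map (glEquiv g).toLinearMap ≤ D j := fun i =>
      le_one_member Θ hΘ i (fun x hx => by
        obtain ⟨v, hv, rfl⟩ := hx
        obtain ⟨j, hj⟩ := hc i v hv
        exact ⟨j, by rw [LinearEquiv.coe_coe, glEquiv_apply]; exact hj⟩)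
    choose σ hσ using hmap
    have he : ∀ i, (D i).map (glEquiv g).toLinearMap = D (σ i) := fun i =>
      Submodule.eq_of_le_of_finrank_le (hσ i) (by rw [hdim, LinearEquiv.finrank_map_eq (glEquiv g) (D i), hdim])
    have hinj : Function.Injective σ := by
      intro i j hij
      by_contra hne
      have h1 : D i = D j := Submodule.map_injective_of_injective (glEquiv g).injective (by rw [he, he, hij])
      obtain ⟨x, hx, hx0⟩ := exists_indep Θ hΘ hM hm hdim i 0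
      refine hx0 ?_
      rw [← proj_of_mem Θ hΘ hx, proj_of_mem_ne Θ hΘ hne (h1 ▸ hx : x ∈ D j)]
      exact Submodule.zero_mem _
    refine hgX ⟨Equiv.ofBijective σ hinj.bijective_of_finite, fun i => ?_⟩
    have e : Matrix.toLin' (g : Matrix ι ι F) = (glEquiv g).toLinearMap :=
      LinearMap.ext fun x => by simp [Matrix.toLin'_apply]
    rw [e]; exact he i
  have ha0 : a ≠ 0 := fun e => hga i0 (by rw [e, Matrix.mulVec_zero]; exact Submodule.zero_mem _)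
  obtain ⟨w, hw, hwa⟩ := exists_indep Θ hΘ hM hm hdim i0 a
  obtain ⟨φ, hφ, hφa, hφw⟩ := exists_block_covector Θ hΘ i0 (F ∙ a) hw
    (by rw [Submodule.span_singleton_le_iff_mem]; exact ha) hwa
  have hv := (hasTv_block Θ hΘ hM ha hφ (hφa a (Submodule.mem_span_singleton_self a))).conj hg
  obtain ⟨i, l, b, χ, c, hil, hb, hb0, hbχ, hc, hχc⟩ := exists_crossing Θ hΘ hM hm hdim ht hq hv hga (fun e => by
    have h1 := vecMul_dotProduct_mulVec φ g w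
    rw [e, zero_dotProduct, hφw] at h1
    exact zero_ne_one h1)
  have hpair := full_pair Θ hΘ hM hm hdim hil hb hb0 hbχ hc hχc
  have hall : ∀ i' l', i' ≠ l' → ∀ x ∈ D i', ∀ θ : ι → F, (∀ j, j ≠ l' → ∀ v ∈ D j, θ ⬝ᵥ v = 0) →
      HasTv M x θ := by
    intro i' l' hne x hx θ hθ
    obtain ⟨y, hy, hy1, hy2⟩ := exists_pair_map Θ hΘ hM hm hdim hil hne
    have hθ' : ∀ j, j ≠ l → ∀ v ∈ D j, (θ ᵥ* (y : Matrix ι ι F)) ⬝ᵥ v = 0 := by
      intro j hj v hv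
      obtain ⟨j', hj', hm'⟩ := hy2 j hj v hv
      rw [← Matrix.dotProduct_mulVec]
      exact hθ j' hj' _ hm'
    have h1 := (hpair _ (hy1 x hx) _ hθ').conj hy
    rwa [mulVec_inv_mulVec, Matrix.vecMul_vecMul, ← Units.val_mul, mul_inv_cancel, Units.val_one,
      Matrix.vecMul_one] at h1
  have hfull : ∀ i', ∀ x ∈ D i', x ∈ fullSubmodule M := by
    intro i' x hx θ hθ
    rw [← sum_res Θ θ]
    refine Finset.sum_induction _ (HasTv M x) (fun _ _ h1 h2 => h1.add_axis h2) (hasTv_zero_right M x)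
      fun k _ => ?_
    by_cases hk : i' = k
    · subst hk
      exact hasTv_block Θ hΘ hM hx (fun j hj v hv => res_eq_zero Θ hΘ hj hv) (by rw [res_of_mem Θ hΘ hx]; exact hθ)
    · exact hall i' k hk x hx _ fun j hj v hv => res_eq_zero Θ hΘ hj hv
  refine specialLinear_le_of_fullSubmodule (eq_top_iff.2 ?_)
  rw [← hD.iSup_eq_top, iSup_le_iff]
  exact fun i' x hx => hfull i' x hx

end CfsgLib.Geo.Decomp
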