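/-
Stabilisers of subspaces are maximal in the special linear group.
-/
import Cfsg.Agent.Geo.SymplecticOvergroup

set_option autoImplicit false

namespace CfsgLib.Geo

open Matrix Cfsg Cfsg.Geo

variable {ι : Type} [Fintype ι] [DecidableEq ι] {F : Type*} [Field F] {W : Submodule F (ι → F)}
  {M : Subgroup (GL ι F)}

theorem subspace_key (hM : subspaceStabilizer W ⊓ specialLinear ι F ≤ M) (hMX : ¬ M ≤ subspaceStabilizer W) :
    specialLinear ι F ≤ M := by
  have hW : W ≤ fullSubmodule M := fun a ha φ hφ =>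
    ⟨hφ, hM ⟨tvec_mem_subspaceStabilizer hφ (Or.inl ha), tvec_mem_specialLinear _ _ _⟩⟩
  obtain ⟨g, hgM, hgW⟩ := SetLike.not_le_iff_exists.1 hMX
  simp only [mem_subspaceStabilizer, not_forall] at hgW
  obtain ⟨w, hw, hz⟩ := hgW
  have hzF := fullSubmodule_invariant (hW hw) hgM
  set z := (g : Matrix ι ι F) *ᵥ w
  refine specialLinear_le_of_fullSubmodule (eq_top_iff.2 fun y _ => ?_)
  by_cases hmem : z ∈ W ⊔ (F ∙ (y - z))
  · obtain ⟨a, ha, b, hb, hab⟩ := Submodule.mem_sup.1 hmem
    obtain ⟨c, rfl⟩ := Submodule.mem_span_singleton.1 hb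
    rcases eq_or_ne c 0 with rfl | hc
    · exact absurd (by rw [← hab, zero_smul, add_zero]; exact ha) hz
    have : y = c⁻¹ • (z - a) + z := by
      rw [← hab, add_sub_cancel_left, smul_smul, inv_mul_cancel₀ hc, one_smul, hab]
      abel
    rw [this]
    exact (fullSubmodule M).add_mem
      ((fullSubmodule M).smul_mem _ ((fullSubmodule M).sub_mem hzF (hW ha))) hzF
  · obtain ⟨φ, hφ, hφz⟩ := exists_covector _ hmem
    have hd : φ ⬝ᵥ (y - z) = 0 := hφ _ (Submodule.mem_sup_right (Submodule.mem_span_singleton_self _))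
    have h1 := fullSubmodule_invariant hzF (hM ⟨tvec_mem_subspaceStabilizer hd
      (Or.inr fun v hv => hφ v (Submodule.mem_sup_left hv)), tvec_mem_specialLinear _ _ hd⟩)
    rwa [tvec_mulVec, hφz, one_smul, add_sub_cancel] at h1

theorem subspace_maximal (h0 : W ≠ ⊥) (h1 : W ≠ ⊤) :
    IsMaximalIn (specialLinear ι F) (subspaceStabilizer W ⊓ specialLinear ι F) := by
  refine isMaximalIn_of_key (fun h => ?_) fun _ h2 _ h4 => subspace_key h2 h4
  obtain ⟨g, hg, hgW⟩ := exists_specialLinear_notMem_stabilizer h0 h1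
  exact hgW (h hg)

end CfsgLib.Geo
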