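/-
The monomial group is maximal in the special linear group over at least five elements.
-/
import Cfsg.Agent.Geo.MonomialLocal

set_option autoImplicit false

namespace CfsgLib.Geo.Mono

open Matrix Cfsg Cfsg.Geo

variable {ι : Type} [Fintype ι] [DecidableEq ι] {F : Type*} [Field F]

/-- Scale coordinate `a` by `s` and coordinate `k` by `s⁻¹`. -/
def twoAt (a k : ι) (s : Fˣ) : GL ι F := torus (Function.update (Function.update 1 a s) k s⁻¹)

lemma det_twoAt {a k : ι} (h : a ≠ k) (s : Fˣ) : (twoAt a k s : Matrix ι ι F).det = 1 := by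
  rw [twoAt, torus, det_mon, Equiv.Perm.sign_one,
    Finset.prod_eq_mul a k h (fun c _ hc => by simp [Function.update_of_ne hc.1, Function.update_of_ne hc.2])
      (by simp) (by simp)]
  simp [Function.update_of_ne h]

lemma twoAt_mem {a k : ι} (h : a ≠ k) (s : Fˣ) :
    twoAt a k s ∈ monomialGroup ι F ⊓ specialLinear ι F :=
  ⟨torus_mem _, mem_specialLinear.2 (det_twoAt h s)⟩

variable [Fintype F] {M : Subgroup (GL ι F)}

lemma exists_avoid (hn : 6 ≤ Fintype.card ι) (S : Finset ι) (h : S.card ≤ 5) : ∃ k, k ∉ S := by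
  by_contra hc
  push Not at hc
  have := Finset.card_le_card (fun k _ => hc k : (Finset.univ : Finset ι) ⊆ S)
  rw [Finset.card_univ] at this
  omega

/-- A transvection with a basis centre and a different axis gives the special linear group. -/
theorem sl_le_of_crossing (hn : 6 ≤ Fintype.card ι) (hq : 5 ≤ Fintype.card F)
    (hX : monomialGroup ι F ⊓ specialLinear ι F ≤ M) {a : ι} {ψ : ι → F} (h : HasTv M (Pi.single a 1) ψ)
    (hψ : ψ ≠ 0) : specialLinear ι F ≤ M := by
  obtain ⟨s, -, hs⟩ := exists_sq_ne_one hq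
  have hψa : ψ a = 0 := by rw [← h.dot, dotProduct_single_one]
  obtain ⟨j, hj⟩ := Function.ne_iff.1 hψ
  simp only [Pi.zero_apply] at hj
  have hja : j ≠ a := fun e => hj (e ▸ hψa)
  have step : ∀ (φ : ι → F) (k : ι), HasTv M (Pi.single a 1) φ → k ≠ a → k ≠ j →
      ∃ φ', HasTv M (Pi.single a 1) φ' ∧ φ' j = φ j * ((s : F) - 1) ∧
        φ' k = φ k * ((s : F)⁻¹ - 1) ∧ ∀ i, i ≠ j → i ≠ k → φ' i = 0 := by
    intro φ k hφ hka hkj
    have hmem := hX (twoAt_mem (Ne.symm hkj) s)
    have h2 := hφ.conj (g := (twoAt j k s)⁻¹) (M.inv_mem hmem)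
    rw [inv_inv] at h2
    have e1 : ((twoAt j k s)⁻¹ : GL ι F).val *ᵥ (Pi.single a 1 : ι → F) = Pi.single a 1 := by
      funext i
      rw [twoAt, torus_inv, torus_mulVec]
      by_cases hi : i = a
      · subst hi; simp [Function.update_of_ne (Ne.symm hka), Function.update_of_ne (Ne.symm hja)]
      · simp [hi]
    rw [e1] at h2
    refine ⟨_, h2.sub_axis hφ, ?_, ?_, fun i hij hik => ?_⟩
    · rw [Pi.sub_apply, twoAt, vecMul_torus, Function.update_of_ne (Ne.symm hkj), Function.update_self]; ring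
    · rw [Pi.sub_apply, twoAt, vecMul_torus, Function.update_self, Units.val_inv_eq_inv_val]; ring
    · rw [Pi.sub_apply, twoAt, vecMul_torus, Function.update_of_ne hik, Function.update_of_ne hij]; simp
  obtain ⟨k, hk⟩ := exists_avoid hn {a, j} (Finset.card_le_two.trans (by norm_num))
  simp only [Finset.mem_insert, Finset.mem_singleton, not_or] at hk
  obtain ⟨k', hk'⟩ := exists_avoid hn {a, j, k} (Finset.card_le_three.trans (by norm_num))
  simp only [Finset.mem_insert, Finset.mem_singleton, not_or] at hk'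
  obtain ⟨φ1, hφ1, h1j, -, h10⟩ := step ψ k h hk.1 hk.2
  obtain ⟨φ2, hφ2, h2j, h2k, h20⟩ := step φ1 k' hφ1 hk'.1 hk'.2.1
  have hc : φ2 j ≠ 0 := by
    rw [h2j, h1j]; exact mul_ne_zero (mul_ne_zero hj (sub_ne_zero.2 hs)) (sub_ne_zero.2 hs)
  have hφ2e : φ2 = Pi.single j (φ2 j) := funext fun i => by
    by_cases hij : i = j
    · subst hij; simp
    · rw [Pi.single_eq_of_ne hij]
      by_cases hik : i = k'
      · rw [hik, h2k, h10 k' hk'.2.1 hk'.2.2, zero_mul]
      · exact h20 i hij hik
  rw [hφ2e] at hφ2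
  have hall : ∀ d : F, HasTv M (Pi.single a 1) (Pi.single j d) := by
    intro d
    rcases eq_or_ne d 0 with rfl | hd
    · rw [Pi.single_zero]; exact hasTv_zero_right M _
    set t : Fˣ := Units.mk0 (d / φ2 j) (div_ne_zero hd hc)
    have hmem := hX (twoAt_mem (Ne.symm hk.1) t)
    have h2 := hφ2.conj hmem
    have e1 : (twoAt a k t : GL ι F).val *ᵥ (Pi.single a 1 : ι → F) = (t : F) • Pi.single a 1 := by
      funext i
      rw [twoAt, torus_mulVec]
      by_cases hi : i = a
      · subst hi; simp [Function.update_of_ne (Ne.symm hk.1)]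
      · simp [hi]
    have e2 : (Pi.single j (φ2 j) : ι → F) ᵥ* ((twoAt a k t)⁻¹ : GL ι F).val = Pi.single j (φ2 j) := by
      funext i
      rw [twoAt, torus_inv, vecMul_torus]
      by_cases hi : i = j
      · subst hi; simp [Function.update_of_ne (Ne.symm hk.2), Function.update_of_ne hja]
      · simp [hi]
    rw [e1, e2, hasTv_smul_iff (t : F) t.ne_zero] at h2
    have e3 : (t : F) • (Pi.single j (φ2 j) : ι → F) = Pi.single j d := by
      rw [← Pi.single_smul, smul_eq_mul, show (t : F) * φ2 j = d from div_mul_cancel₀ d hc]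
    exact e3 ▸ h2
  refine specialLinear_le_of_elementary fun i l hil d => ?_
  rcases eq_or_ne d 0 with rfl | hd
  · rw [zero_smul]; exact hasTv_zero_left M _
  rw [hasTv_smul_iff d hd, ← Pi.single_smul, smul_eq_mul, mul_one]
  obtain ⟨π, hπa, hπj⟩ : ∃ π : Equiv.Perm ι, π a = i ∧ π j = l := by
    refine ⟨Equiv.swap (Equiv.swap a i j) l * Equiv.swap a i, ?_, ?_⟩
    · rw [Equiv.Perm.mul_apply, Equiv.swap_apply_left, Equiv.swap_apply_of_ne_of_ne ?_ hil]
      intro e
      exact hja ((Equiv.swap a i).injective (by rw [Equiv.swap_apply_left, ← e]))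
    · rw [Equiv.Perm.mul_apply, Equiv.swap_apply_left]
  obtain ⟨m, hm⟩ := exists_avoid hn {a, j} (Finset.card_le_two.trans (by norm_num))
  simp only [Finset.mem_insert, Finset.mem_singleton, not_or] at hm
  let e : Fˣ := Units.map (Int.castRingHom F : ℤ →* F) (Equiv.Perm.sign π)
  let c : ι → Fˣ := Function.update 1 m e
  have hdet : (mon π c : Matrix ι ι F).det = 1 := by
    rw [det_mon, Finset.prod_eq_single m (fun b _ hb => by simp [c, Function.update_of_ne hb]) (by simp)]
    simp only [c, Function.update_self]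
    show ((Equiv.Perm.sign π : ℤ) : F) * ((Equiv.Perm.sign π : ℤ) : F) = 1
    rw [← Int.cast_mul, ← Units.val_mul, Int.units_mul_self]; simp
  have hx : mon π c ∈ M := hX ⟨mon_mem _ _, mem_specialLinear.2 hdet⟩
  have h2 := (hall d).conj hx
  have e1 : (mon π c : GL ι F).val *ᵥ (Pi.single a 1 : ι → F) = Pi.single i 1 := by
    funext x
    obtain ⟨y, rfl⟩ := π.surjective x
    rw [mon_mulVec]
    by_cases hy : y = a
    · subst hy; simp [← hπa, c, Function.update_of_ne (Ne.symm hm.1)]
    · simp [← hπa, π.injective.eq_iff, hy]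
  have e2 : (Pi.single j d : ι → F) ᵥ* ((mon π c)⁻¹ : GL ι F).val = Pi.single l d := by
    have : (Pi.single l d : ι → F) ᵥ* (mon π c : GL ι F).val = Pi.single j d := by
      funext x
      rw [vecMul_mon]
      by_cases hxj : x = j
      · subst hxj; simp [← hπj, c, Function.update_of_ne (Ne.symm hm.2)]
      · simp [← hπj, π.injective.eq_iff, hxj]
    rw [← this, Matrix.vecMul_vecMul, ← Units.val_mul, mul_inv_cancel, Units.val_one, Matrix.vecMul_one]
  rwa [e1, e2] at h2

/-- The matrices fixing the line of the `a`-th coordinate vector. -/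
def lineFix (a : ι) : Subgroup (GL ι F) where
  carrier := {g | ∀ i, i ≠ a → (g : Matrix ι ι F) i a = 0}
  mul_mem' {g h} hg hh i hi := by
    rw [Units.val_mul, Matrix.mul_apply]
    refine Finset.sum_eq_zero fun k _ => ?_
    rcases eq_or_ne k a with rfl | hk
    · rw [hg i hi, zero_mul]
    · rw [hh k hk, mul_zero]
  one_mem' i hi := by simp [hi]
  inv_mem' {g} hg i hi := by
    have hv : (g : Matrix ι ι F) *ᵥ Pi.single a 1 = (g : Matrix ι ι F) a a • Pi.single a 1 := funext fun k => by
      rw [Matrix.mulVec_single_one]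
      rcases eq_or_ne k a with rfl | hk
      · simp
      · simp [hg k hk, hk]
    have h2 := congrFun (congrArg (fun x => ((g⁻¹ : GL ι F) : Matrix ι ι F) *ᵥ x) hv) i
    simp only [inv_mulVec_mulVec, Matrix.mulVec_smul, Pi.smul_apply, smul_eq_mul,
      Pi.single_eq_of_ne hi] at h2
    suffices (g : Matrix ι ι F) a a ≠ 0 by
      have h3 := (mul_eq_zero.1 h2.symm).resolve_left this
      rwa [Matrix.mulVec_single_one] at h3
    intro h0
    rw [h0, zero_smul] at hv
    have := congrArg (fun x => ((g⁻¹ : GL ι F) : Matrix ι ι F) *ᵥ x) hv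
    simp only [inv_mulVec_mulVec, Matrix.mulVec_zero] at this
    exact one_ne_zero (Pi.single_eq_zero_iff.1 this)

omit [Fintype F] in
lemma mem_lineFix {a : ι} {g : GL ι F} :
    g ∈ lineFix a ↔ ∀ i, i ≠ a → (g : Matrix ι ι F) i a = 0 := Iff.rfl

/-- The block induced on the quotient by a coordinate line. -/
def blk (a : ι) (g : GL ι F) : Matrix {i // i ≠ a} {i // i ≠ a} F := fun i j => (g : Matrix ι ι F) i j

omit [Fintype F] in
lemma blk_one (a : ι) : blk a (1 : GL ι F) = 1 := by
  ext i j
  by_cases h : i = j <;> simp [blk, h, Matrix.one_apply, Subtype.coe_inj]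

omit [Fintype F] in
lemma blk_mul {a : ι} {g : GL ι F} (hg : g ∈ lineFix a) (h : GL ι F) : blk a (g * h) = blk a g * blk a h := by
  ext i j
  rw [blk, Units.val_mul, Matrix.mul_apply, Matrix.mul_apply, ← Finset.add_sum_erase _ _ (Finset.mem_univ a),
    hg i i.2, zero_mul, zero_add, Finset.sum_subtype (Finset.univ.erase a) (p := fun k => k ≠ a) (by simp)]
  rfl

/-- The block of an element fixing the line, as an invertible matrix. -/
def blkGL (a : ι) : lineFix (F := F) a →* GL {i // i ≠ a} F where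
  toFun g := ⟨blk a g, blk a ((g⁻¹ : lineFix (F := F) a) : GL ι F),
    by rw [← blk_mul g.2, Subgroup.coe_inv, mul_inv_cancel, blk_one],
    by rw [← blk_mul (g⁻¹).2, Subgroup.coe_inv, inv_mul_cancel, blk_one]⟩
  map_one' := Units.ext (blk_one a)
  map_mul' g h := Units.ext (blk_mul g.2 h)

/-- The group induced on the quotient by a coordinate line. -/
def quotient (a : ι) (M : Subgroup (GL ι F)) : Subgroup (GL {i // i ≠ a} F) :=
  (M.subgroupOf (lineFix a)).map (blkGL a)

omit [Fintype F] in
lemma mem_quotient {a : ι} {E : GL {i // i ≠ a} F} :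
    E ∈ quotient a M ↔ ∃ g ∈ M, g ∈ lineFix a ∧ blk a g = (E : Matrix _ _ F) := by
  constructor
  · rintro ⟨g, hg, rfl⟩; exact ⟨g, hg, g.2, rfl⟩
  · rintro ⟨g, hg, hga, hgE⟩; exact ⟨⟨g, hga⟩, hg, Units.ext hgE⟩

lemma exists_lift {a : ι} (π : Equiv.Perm {i // i ≠ a}) (c : {i // i ≠ a} → Fˣ) :
    ∃ x ∈ monomialGroup ι F ⊓ specialLinear ι F, x ∈ lineFix a ∧
      blk a x = (mon π c : Matrix _ _ F) := by
  let π' : Equiv.Perm ι := Equiv.Perm.ofSubtype π
  have hπa : π' a = a := Equiv.Perm.ofSubtype_apply_of_not_mem π (by simp)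
  have hπj : ∀ j : {i // i ≠ a}, π' j = π j := fun j => Equiv.Perm.ofSubtype_apply_coe π j
  let d : ι → Fˣ := fun i => if h : i ≠ a then c ⟨i, h⟩ else 1
  let e : Fˣ := Units.map (Int.castRingHom F : ℤ →* F) (Equiv.Perm.sign π') * ∏ i, d i
  let d' : ι → Fˣ := Function.update d a e⁻¹
  have hprod : ∏ i, d' i = e⁻¹ * ∏ i, d i := by
    rw [Finset.prod_update_of_mem (Finset.mem_univ a), Finset.sdiff_singleton_eq_erase,
      Finset.prod_erase _ (show d a = 1 by simp [d])]
  have hdet : (mon π' d' : Matrix ι ι F).det = 1 := by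
    rw [det_mon, ← Units.coe_prod, hprod]
    show ((Units.map (Int.castRingHom F : ℤ →* F) (Equiv.Perm.sign π') : Fˣ) : F) * _ = 1
    rw [← Units.val_mul, ← mul_assoc, mul_comm _ e⁻¹, mul_assoc]
    simp [e]
  refine ⟨_, ⟨mon_mem π' d', mem_specialLinear.2 hdet⟩, fun i hi => ?_, Matrix.ext fun i j => ?_⟩
  · rw [mon_apply, hπa, if_neg hi]
  · rw [blk, mon_apply, mon_apply, hπj]
    simp only [Subtype.coe_inj]
    split_ifs with h
    · simp [d', d, Function.update_of_ne j.2, j.2]
    · rfl

/-- An element inducing an elementary matrix on the quotient by a coordinate line. -/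
lemma lift_step (hn : 6 ≤ Fintype.card ι) (hq : 5 ≤ Fintype.card F)
    (hX : monomialGroup ι F ⊓ specialLinear ι F ≤ M) (hMI : M ≤ specialLinear ι F) {g : GL ι F} (hg : g ∈ M)
    {a b j : ι} (hba : b ≠ a) (hja : j ≠ a) (hbj : b ≠ j) (c : F)
    (hcol : ∀ i, i ≠ a → (g : Matrix ι ι F) i a = 0)
    (hblk : ∀ i l, i ≠ a → l ≠ a → (g : Matrix ι ι F) i l = (1 : Matrix ι ι F) i l + (if i = b ∧ l = j then c else 0)) :
    specialLinear ι F ≤ M ∨ c = 0 ∧ g = 1 := by
  obtain ⟨s, hs2, hs⟩ := exists_sq_ne_one hq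
  by_cases hrow : ∃ l, l ≠ a ∧ (g : Matrix ι ι F) a l ≠ 0
  · obtain ⟨l0, hl0a, hl0⟩ := hrow
    left
    obtain ⟨k, hk⟩ := exists_avoid hn {a, b, j} (Finset.card_le_three.trans (by norm_num))
    simp only [Finset.mem_insert, Finset.mem_singleton, not_or] at hk
    have hh : twoAt a k s ∈ M := hX (twoAt_mem (Ne.symm hk.1) s)
    let cc : ι → Fˣ := Function.update (Function.update 1 a s) k s⁻¹
    let ψ : ι → F := fun l => if l = a then 0 else ((s : F) * ((cc l)⁻¹ : Fˣ) - 1) * (g : Matrix ι ι F) a l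
    have hconj : ((twoAt a k s * g * (twoAt a k s)⁻¹ : GL ι F) : Matrix ι ι F) =
        (g : Matrix ι ι F) + vecMulVec (Pi.single a 1) ψ := by
      ext i l
      rw [twoAt, torus_inv, mul_torus_apply, torus_mul_apply, Matrix.add_apply, vecMulVec_apply]
      show (cc i : F) * (g : Matrix ι ι F) i l * ((cc l)⁻¹ : Fˣ) = _
      have hcca : (cc a : F) = s := by simp [cc, Function.update_of_ne (Ne.symm hk.1)]
      rcases eq_or_ne i a with rfl | hia
      · rw [Pi.single_eq_same, one_mul, hcca]
        rcases eq_or_ne l i with rfl | hli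
        · simp [ψ, Units.val_inv_eq_inv_val, hcca, mul_right_comm]
        · simp [ψ, hli]; ring
      · rw [Pi.single_eq_of_ne hia, zero_mul, add_zero]
        rcases eq_or_ne l a with rfl | hla
        · simp [hcol i hia]
        · rw [hblk i l hia hla]
          rcases eq_or_ne i l with rfl | hil
          · rw [if_neg (fun h => hbj (h.1.symm.trans h.2))]; simp
          · rw [Matrix.one_apply_ne hil, zero_add]
            split_ifs with h
            · rw [h.1, h.2]
              simp [cc, Function.update_of_ne (Ne.symm hk.2.1), Function.update_of_ne hba,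
                Function.update_of_ne (Ne.symm hk.2.2), Function.update_of_ne hja]
            · simp
    have hd : (ψ ᵥ* ((g⁻¹ : GL ι F) : Matrix ι ι F)) ⬝ᵥ (Pi.single a 1 : ι → F) = 0 := by
      have hgaa : (g : Matrix ι ι F) a a ≠ 0 := by
        intro h0
        have hv : (g : Matrix ι ι F) *ᵥ Pi.single a 1 = 0 := funext fun k => by
          rw [Matrix.mulVec_single_one]
          rcases eq_or_ne k a with rfl | hk
          · exact h0
          · exact hcol k hk
        have := congrArg (fun x => ((g⁻¹ : GL ι F) : Matrix ι ι F) *ᵥ x) hv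
        simp only [inv_mulVec_mulVec, Matrix.mulVec_zero] at this
        exact one_ne_zero (Pi.single_eq_zero_iff.1 this)
      have e : (Pi.single a 1 : ι → F) = ((g : Matrix ι ι F) a a)⁻¹ • ((g : Matrix ι ι F) *ᵥ Pi.single a 1) := by
        funext k
        rw [Pi.smul_apply, Matrix.mulVec_single_one, smul_eq_mul]
        rcases eq_or_ne k a with rfl | hk
        · rw [Pi.single_eq_same]; exact (inv_mul_cancel₀ hgaa).symm
        · rw [Pi.single_eq_of_ne hk]; simp [hcol k hk]
      rw [e, dotProduct_smul, ← Matrix.dotProduct_mulVec, inv_mulVec_mulVec, dotProduct_single_one]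
      simp [ψ]
    have hu : HasTv M (Pi.single a 1) (ψ ᵥ* ((g⁻¹ : GL ι F) : Matrix ι ι F)) := by
      refine ⟨hd, ?_⟩
      have e : tvec (Pi.single a 1) (ψ ᵥ* ((g⁻¹ : GL ι F) : Matrix ι ι F)) hd =
          twoAt a k s * g * (twoAt a k s)⁻¹ * g⁻¹ := by
        refine Units.ext ?_
        rw [tvec_val, Units.val_mul, hconj, add_mul, ← Units.val_mul, mul_inv_cancel, Units.val_one,
          Matrix.vecMulVec_mul]
      rw [e]; exact M.mul_mem (M.mul_mem (M.mul_mem hh hg) (M.inv_mem hh)) (M.inv_mem hg)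
    refine sl_le_of_crossing hn hq hX hu fun h0 => ?_
    have h1 := congrFun (congrArg (fun φ => φ ᵥ* (g : Matrix ι ι F)) h0) l0
    simp only [Matrix.vecMul_vecMul, ← Units.val_mul, inv_mul_cancel, Units.val_one, Matrix.vecMul_one,
      Matrix.zero_vecMul, ψ, if_neg hl0a, Pi.zero_apply] at h1
    refine hl0 ((mul_eq_zero.1 h1).resolve_left fun h2 => ?_)
    rw [sub_eq_zero] at h2
    by_cases hlk : l0 = k
    · subst hlk
      simp [cc] at h2
      exact hs2 (by rw [sq]; exact h2)
    · simp [cc, Function.update_of_ne hlk, Function.update_of_ne hl0a] at h2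
      exact hs (by rw [h2]; simp)
  · push Not at hrow
    have hd : (Pi.single j c : ι → F) ⬝ᵥ (Pi.single b 1 : ι → F) = 0 := by simp [dotProduct_single_one, hbj]
    have hgval : (g : Matrix ι ι F) = Matrix.diagonal (Function.update 1 a ((g : Matrix ι ι F) a a)) *
        (1 + vecMulVec (Pi.single b 1) (Pi.single j c)) := by
      ext i l
      rw [Matrix.diagonal_mul, Matrix.add_apply, vecMulVec_apply]
      rcases eq_or_ne i a with rfl | hia
      · rw [Function.update_self, Pi.single_eq_of_ne (Ne.symm hba), zero_mul, add_zero]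
        rcases eq_or_ne l i with rfl | hli
        · simp
        · simp [hrow l hli, Ne.symm hli]
      · rw [Function.update_of_ne hia, Pi.one_apply, one_mul]
        rcases eq_or_ne l a with rfl | hla
        · simp [hcol i hia, hia, Ne.symm hja]
        · rw [hblk i l hia hla]
          by_cases hib : i = b <;> by_cases hlj : l = j <;> simp [hib, hlj]
    have hγ : (g : Matrix ι ι F) a a = 1 := by
      have h1 := mem_specialLinear.1 (hMI hg)
      rw [hgval, Matrix.det_mul, Matrix.det_diagonal, det_one_add_vecMulVec, hd, add_zero, mul_one,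
        Finset.prod_update_of_mem (Finset.mem_univ a)] at h1
      simpa using h1
    have hg1 : g = tvec (Pi.single b 1) (Pi.single j c) hd := Units.ext (by
      rw [hgval, hγ, show Function.update (1 : ι → F) a 1 = 1 from Function.update_eq_self a (1 : ι → F), tvec_val]
      simp)
    rcases eq_or_ne c 0 with hc | hc
    · right
      refine ⟨hc, Units.ext ?_⟩
      rw [hg1, tvec_val, hc]
      simp
    · left
      exact sl_le_of_crossing hn hq hX ⟨hd, hg1 ▸ hg⟩ (by simp [hc])

/-- In a proper overgroup, elements fixing a coordinate line are monomial. -/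
lemma line_stabiliser (hn : 6 ≤ Fintype.card ι) (hq : 5 ≤ Fintype.card F)
    (hX : monomialGroup ι F ⊓ specialLinear ι F ≤ M) (hMI : M ≤ specialLinear ι F)
    (hne : ¬ specialLinear ι F ≤ M) {g : GL ι F} (hg : g ∈ M) {a : ι} (hga : g ∈ lineFix a) :
    g ∈ monomialGroup ι F := by
  classical
  have hκ : 3 ≤ Fintype.card {i // i ≠ a} := by rw [Fintype.card_subtype_compl]; simp; omega
  have hlift : ∀ E : GL {i // i ≠ a} F, E ∈ monomialGroup {i // i ≠ a} F →
      ∃ x ∈ monomialGroup ι F ⊓ specialLinear ι F, x ∈ lineFix a ∧ blk a x = (E : Matrix _ _ F) := by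
    rintro E ⟨π, hπ⟩
    have hne' : ∀ j, (E : Matrix _ _ F) (π j) j ≠ 0 := fun j h0 => by
      have h2 := congrArg (fun x => ((E⁻¹ : GL {i // i ≠ a} F) : Matrix {i // i ≠ a} {i // i ≠ a} F) *ᵥ x)
        (show (E : Matrix _ _ F) *ᵥ Pi.single j 1 = 0 from funext fun i => by
          rw [Matrix.mulVec_single_one]
          by_cases hi : i = π j
          · rw [hi]; exact h0
          · exact hπ i j hi)
      simp only [inv_mulVec_mulVec, Matrix.mulVec_zero] at h2
      exact one_ne_zero (Pi.single_eq_zero_iff.1 h2)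
    obtain ⟨x, hx, hxa, hxE⟩ := exists_lift π (fun j => Units.mk0 _ (hne' j))
    refine ⟨x, hx, hxa, hxE.trans (Matrix.ext fun i j => ?_)⟩
    rw [mon_apply]
    split_ifs with h
    · subst h; rfl
    · exact (hπ i j h).symm
  have hN : monomialGroup {i // i ≠ a} F ≤ quotient a M := fun E hE => by
    obtain ⟨x, hx, hxa, hxE⟩ := hlift E hE
    exact mem_quotient.2 ⟨x, hX hx, hxa, hxE⟩
  set E := blkGL a ⟨g, hga⟩
  have hE : E ∈ quotient a M := mem_quotient.2 ⟨g, hg, hga, rfl⟩
  by_cases hEm : E ∈ monomialGroup {i // i ≠ a} F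
  · obtain ⟨x, hx, hxa, hxE⟩ := hlift E hEm
    obtain ⟨b, hb⟩ := exists_avoid hn {a} (by simp)
    obtain ⟨j, hj⟩ := exists_avoid hn {a, b} (Finset.card_le_two.trans (by norm_num))
    simp only [Finset.mem_insert, Finset.mem_singleton, not_or] at hb hj
    have hwE : blk a (x⁻¹ * g) = 1 := by
      rw [blk_mul (inv_mem hxa), show blk a g = blk a x from hxE.symm, ← blk_mul (inv_mem hxa), inv_mul_cancel,
        blk_one]
    rcases lift_step hn hq hX hMI (M.mul_mem (M.inv_mem (hX hx)) hg) hb hj.1 (Ne.symm hj.2) 0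
      (mul_mem (inv_mem hxa) hga) (fun i l hi hl => by
      rw [show ((x⁻¹ * g : GL ι F) : Matrix ι ι F) i l = _ from congrFun (congrFun hwE ⟨i, hi⟩) ⟨l, hl⟩]
      by_cases hil : i = l <;> simp [hil, Matrix.one_apply]) with h | ⟨-, h⟩
    · exact absurd h hne
    · rw [inv_mul_eq_one] at h; rw [← h]; exact hx.1
  · obtain ⟨b, j, hbj, c, hc, h0, hroot⟩ := exists_root hq hκ hN hE hEm
    obtain ⟨w, hw, hwa, hwE⟩ := mem_quotient.1 hroot
    rcases lift_step hn hq hX hMI hw b.2 j.2 (fun e => hbj (Subtype.ext e)) c hwa (fun i l hi hl => by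
      rw [show (w : Matrix ι ι F) i l = _ from congrFun (congrFun hwE ⟨i, hi⟩) ⟨l, hl⟩, tvec_val, Matrix.add_apply,
        vecMulVec_apply]
      by_cases hil : i = l <;> by_cases hib : i = b.1 <;> by_cases hlj : l = j.1 <;>
        simp_all [Matrix.one_apply, Pi.single_apply, Subtype.ext_iff]) with h | ⟨h, -⟩
    · exact absurd h hne
    · exact absurd h hc

end CfsgLib.Geo.Mono
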