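/-
Every column of an element outside the monomial group gives a contradiction in a proper overgroup.
-/
import Cfsg.Agent.Geo.MonomialOvergroup

set_option autoImplicit false

namespace CfsgLib.Geo.Mono

open Matrix Cfsg Cfsg.Geo

variable {ι : Type} [Fintype ι] [DecidableEq ι] {F : Type*} [Field F] [Fintype F] {M : Subgroup (GL ι F)}

lemma col_ne_zero (g : GL ι F) (a : ι) : ∃ i, (g : Matrix ι ι F) i a ≠ 0 := by
  by_contra h
  push Not at h
  have h2 := congrArg (fun x => ((g⁻¹ : GL ι F) : Matrix ι ι F) *ᵥ x)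
    (show (g : Matrix ι ι F) *ᵥ Pi.single a 1 = 0 from funext fun i => by rw [Matrix.mulVec_single_one]; exact h i)
  simp only [inv_mulVec_mulVec, Matrix.mulVec_zero] at h2
  exact one_ne_zero (Pi.single_eq_zero_iff.1 h2)

lemma row_ne_zero (g : GL ι F) (i : ι) : ∃ j, (g : Matrix ι ι F) i j ≠ 0 := by
  by_contra h
  push Not at h
  have h2 : ((g : Matrix ι ι F) * ((g⁻¹ : GL ι F) : Matrix ι ι F)) i i = 1 := by
    rw [← Units.val_mul, mul_inv_cancel, Units.val_one, Matrix.one_apply_eq]
  rw [Matrix.mul_apply, Finset.sum_eq_zero fun j _ => by rw [h j, zero_mul]] at h2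
  exact zero_ne_one h2

lemma linearIndependent_of_images {g : GL ι F} {N : ℕ} (u : Fin N → (ι → F)) (m : Fin N → ι) (c : Fin N → F)
    (hc : ∀ i, c i ≠ 0) (hu : ∀ i, ((g⁻¹ : GL ι F) : Matrix ι ι F) *ᵥ u i = c i • Pi.single (m i) 1)
    (hm : Function.Injective m) : LinearIndependent F u := by
  rw [Fintype.linearIndependent_iff]
  intro r hr i
  have h2 := congrFun (congrArg (fun x => ((g⁻¹ : GL ι F) : Matrix ι ι F) *ᵥ x) hr) (m i)
  simp only [Matrix.mulVec_sum, Matrix.mulVec_smul, hu, Matrix.mulVec_zero, Finset.sum_apply, Pi.zero_apply,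
    Pi.smul_apply, smul_eq_mul] at h2
  rw [Finset.sum_eq_single i (fun j _ hj => by rw [Pi.single_eq_of_ne (hm.ne (Ne.symm hj)), mul_zero, mul_zero])
    (by simp), Pi.single_eq_same, mul_one] at h2
  exact (mul_eq_zero.1 h2).resolve_right (hc i)

/-- The standing hypothesis: elements of a proper overgroup fixing a coordinate line are monomial. -/
structure Proper (M : Subgroup (GL ι F)) : Prop where
  big : 6 ≤ Fintype.card ι
  field : 5 ≤ Fintype.card F
  le : monomialGroup ι F ⊓ specialLinear ι F ≤ M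
  mono : ∀ g ∈ M, ∀ a, g ∈ lineFix a → g ∈ monomialGroup ι F


/-- The even permutations of four points. -/
def evens : Finset (Equiv.Perm (Fin 4)) := Finset.univ.filter fun π => Equiv.Perm.sign π = 1

lemma five_orbit : ∀ c : Fin 4 → Fin 4, c 0 ≠ c 1 → c 2 ≠ c 3 →
    5 ≤ (evens.image fun (π : Equiv.Perm (Fin 4)) (a : Fin 4) => c (π a)).card := by
  decide +kernel

/-- A colouring of four points which is not three-plus-one has five even rearrangements. -/
lemma five_images {β : Type*} [DecidableEq β] (Z : Fin 4 → β) (h1 : Z 0 ≠ Z 1) (h2 : Z 2 ≠ Z 3) :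
    5 ≤ (evens.image fun (π : Equiv.Perm (Fin 4)) (a : Fin 4) => Z (π a)).card := by
  let N : β → Fin 4 := fun x => if Z 0 = x then 0 else if Z 1 = x then 1 else if Z 2 = x then 2 else 3
  have hN : ∀ a, Z (N (Z a)) = Z a := fun a => by
    simp only [N]; fin_cases a <;> split_ifs <;> simp_all
  refine (five_orbit (fun a => N (Z a)) (fun e => h1 (by rw [← hN 0, ← hN 1]; exact congrArg Z e))
    (fun e => h2 (by rw [← hN 2, ← hN 3]; exact congrArg Z e))).trans
    (Finset.card_le_card_of_injOn (fun Y a => Z (Y a)) (fun Y hY => ?_) ?_)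
  · simp only [Finset.mem_coe, Finset.mem_image] at hY ⊢
    obtain ⟨π, hπ, rfl⟩ := hY
    exact ⟨π, hπ, funext fun a => (hN (π a)).symm⟩
  · intro Y hY Y' hY' e
    simp only [Finset.mem_coe, Finset.mem_image] at hY hY'
    obtain ⟨π, -, rfl⟩ := hY
    obtain ⟨π', -, rfl⟩ := hY'
    funext a
    have := congrFun e a
    simp only [hN] at this
    exact congrArg N this

variable (hP : Proper M)
include hP

/-- An element with a column of one entry is monomial. -/
lemma Proper.of_single {g : GL ι F} (hg : g ∈ M) {j i : ι}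
    (h : ∀ k, k ≠ i → (g : Matrix ι ι F) k j = 0) : g ∈ monomialGroup ι F := by
  obtain ⟨m, hm⟩ := exists_avoid hP.big {i, j} (Finset.card_le_two.trans (by norm_num))
  simp only [Finset.mem_insert, Finset.mem_singleton, not_or] at hm
  let π := Equiv.swap i j
  let e : Fˣ := Units.map (Int.castRingHom F : ℤ →* F) (Equiv.Perm.sign π)
  have hx : mon π (Function.update 1 m e) ∈ monomialGroup ι F ⊓ specialLinear ι F := by
    refine ⟨mon_mem _ _, mem_specialLinear.2 ?_⟩
    rw [det_mon, Finset.prod_eq_single m (fun b _ hb => by simp [Function.update_of_ne hb]) (by simp),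
      Function.update_self]
    show ((Equiv.Perm.sign π : ℤ) : F) * ((Equiv.Perm.sign π : ℤ) : F) = 1
    rw [← Int.cast_mul, ← Units.val_mul, Int.units_mul_self]; simp
  have hxg := hP.mono _ (M.mul_mem (hP.le hx) hg) j fun k hk => by
    obtain ⟨l, rfl⟩ := π.surjective k
    rw [Units.val_mul, show ((mon π (Function.update 1 m e) : Matrix ι ι F) * (g : Matrix ι ι F)) (π l) j =
      ((mon π (Function.update 1 m e) : Matrix ι ι F) *ᵥ fun x => (g : Matrix ι ι F) x j) (π l) from rfl, mon_mulVec]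
    have hl : l ≠ i := fun e' => hk (by rw [e']; exact Equiv.swap_apply_left i j)
    simp [h l hl]
  have := (monomialGroup ι F).mul_mem ((monomialGroup ι F).inv_mem hx.1) hxg
  rwa [inv_mul_cancel_left] at this

/-- A monomial element fixing one column sends every column to a multiple of a column. -/
lemma Proper.image {g x : GL ι F} (hg : g ∈ M) (hx : x ∈ monomialGroup ι F ⊓ specialLinear ι F) {a : ι}
    (hxa : (x : Matrix ι ι F) *ᵥ ((g : Matrix ι ι F) *ᵥ Pi.single a 1) = (g : Matrix ι ι F) *ᵥ Pi.single a 1)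
    (l : ι) : ∃ (m : ι) (c : F), c ≠ 0 ∧ ((g⁻¹ : GL ι F) : Matrix ι ι F) *ᵥ
      ((x : Matrix ι ι F) *ᵥ ((g : Matrix ι ι F) *ᵥ Pi.single l 1)) = c • Pi.single m 1 := by
  have hy : g⁻¹ * x * g ∈ M := M.mul_mem (M.mul_mem (M.inv_mem hg) (hP.le hx)) hg
  have hfix : g⁻¹ * x * g ∈ lineFix a := fun i hi => by
    have h : ((g⁻¹ * x * g : GL ι F) : Matrix ι ι F) *ᵥ Pi.single a 1 = Pi.single a 1 := by
      rw [mul_mulVec, mul_mulVec, hxa, inv_mulVec_mulVec]
    have := congrFun h i
    rw [Matrix.mulVec_single_one, Pi.single_eq_of_ne hi] at this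
    exact this
  obtain ⟨π, hπ⟩ := hP.mono _ hy a hfix
  obtain ⟨i, hi⟩ := col_ne_zero (g⁻¹ * x * g) l
  have hil : i = π l := by_contra fun e => hi (hπ i l e)
  refine ⟨π l, ((g⁻¹ * x * g : GL ι F) : Matrix ι ι F) (π l) l, hil ▸ hi, ?_⟩
  rw [← mul_mulVec, ← mul_mulVec]
  funext k
  rw [Matrix.mulVec_single_one]
  by_cases hk : k = π l
  · subst hk; simp
  · rw [Pi.smul_apply, Pi.single_eq_of_ne hk, smul_zero]; exact hπ k l hk

/-- Two zeros of one column are shared by every column not supported there. -/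
lemma Proper.two_zeros {g : GL ι F} (hg : g ∈ M) {a l p q r : ι} (hpq : p ≠ q)
    (hp : (g : Matrix ι ι F) p a = 0) (hq : (g : Matrix ι ι F) q a = 0) (hrp : r ≠ p) (hrq : r ≠ q)
    (hr : (g : Matrix ι ι F) r l ≠ 0) : (g : Matrix ι ι F) p l = 0 ∧ (g : Matrix ι ι F) q l = 0 := by
  classical
  by_contra hne
  obtain ⟨f⟩ : Nonempty (Fin 4 ↪ Fˣ) :=
    Function.Embedding.nonempty_of_card_le (by
      rw [Fintype.card_fin, Fintype.card_units]; have := hP.field; omega)
  have hmem := fun i => twoAt_mem hpq (f i)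
  have hval : ∀ (x : ι → F) (s : Fˣ),
      ((twoAt p q s : Matrix ι ι F) *ᵥ x) p = (s : F) * x p ∧
      ((twoAt p q s : Matrix ι ι F) *ᵥ x) q = (s : F)⁻¹ * x q ∧
      ∀ k, k ≠ p → k ≠ q → ((twoAt p q s : Matrix ι ι F) *ᵥ x) k = x k := fun x s => by
    refine ⟨?_, ?_, fun k hkp hkq => ?_⟩ <;> rw [twoAt, torus_mulVec]
    · rw [Function.update_of_ne hpq, Function.update_self]
    · rw [Function.update_self, Units.val_inv_eq_inv_val]
    · rw [Function.update_of_ne hkq, Function.update_of_ne hkp]; simp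
  set v := (g : Matrix ι ι F) *ᵥ Pi.single a 1 with hv
  set w := (g : Matrix ι ι F) *ᵥ Pi.single l 1 with hw
  have hfix : ∀ i, (twoAt p q (f i) : Matrix ι ι F) *ᵥ v = v := fun i => funext fun k => by
    obtain ⟨h1, h2, h3⟩ := hval v (f i)
    rcases eq_or_ne k p with rfl | hkp
    · rw [h1, hv, Matrix.mulVec_single_one]; simp [hp]
    rcases eq_or_ne k q with rfl | hkq
    · rw [h2, hv, Matrix.mulVec_single_one]; simp [hq]
    exact h3 k hkp hkq
  choose m c hc hu using fun i => hP.image hg (hmem i) (hfix i) l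
  set u := fun i => (twoAt p q (f i) : Matrix ι ι F) *ᵥ w with hudef
  have hwv : ∀ k, w k = (g : Matrix ι ι F) k l := fun k => by rw [hw, Matrix.mulVec_single_one]; rfl
  have hm : Function.Injective m := by
    intro i j hij
    have e : u i = (c i / c j) • u j := by
      have h1 := congrArg (fun x => (g : Matrix ι ι F) *ᵥ x) (hu i)
      have h2 := congrArg (fun x => (g : Matrix ι ι F) *ᵥ x) (hu j)
      simp only [mulVec_inv_mulVec] at h1 h2
      simp only [u]
      rw [h1, h2, hij, ← Matrix.mulVec_smul, smul_smul, div_mul_cancel₀ _ (hc j)]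
    have er := congrFun e r
    simp only [u, Pi.smul_apply, smul_eq_mul, (hval w _).2.2 r hrp hrq, hwv] at er
    have h1 : c i / c j = 1 := mul_right_cancel₀ hr (by rw [← er, one_mul])
    rw [h1, one_smul] at e
    rw [not_and_or] at hne
    rcases hne with h | h
    · have := congrFun e p
      simp only [u, (hval w _).1, hwv] at this
      exact f.injective (Units.ext (mul_right_cancel₀ h this))
    · have := congrFun e q
      simp only [u, (hval w _).2.1, hwv] at this
      exact f.injective (Units.ext (inv_injective (mul_right_cancel₀ h this)))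
  have hli := linearIndependent_of_images u m c hc hu hm
  have hsub : Set.range u ⊆ (Submodule.span F ({w, Pi.single p 1, Pi.single q 1} : Set (ι → F)) : Set (ι → F)) := by
    rintro _ ⟨i, rfl⟩
    have e : u i = w + (((f i : F) - 1) * w p) • Pi.single p 1 + (((f i : F)⁻¹ - 1) * w q) • Pi.single q 1 := by
      funext k
      obtain ⟨h1, h2, h3⟩ := hval w (f i)
      simp only [u, Pi.add_apply, Pi.smul_apply, smul_eq_mul]
      rcases eq_or_ne k p with rfl | hkp
      · rw [h1, Pi.single_eq_same, Pi.single_eq_of_ne hpq]; ring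
      rcases eq_or_ne k q with rfl | hkq
      · rw [h2, Pi.single_eq_same, Pi.single_eq_of_ne hkp]; ring
      rw [h3 k hkp hkq, Pi.single_eq_of_ne hkp, Pi.single_eq_of_ne hkq]; ring
    rw [e]
    exact Submodule.add_mem _ (Submodule.add_mem _ (Submodule.subset_span (by simp))
      (Submodule.smul_mem _ _ (Submodule.subset_span (by simp))))
      (Submodule.smul_mem _ _ (Submodule.subset_span (by simp)))
  have h1 := Submodule.finrank_mono (Submodule.span_le.2 hsub)
  rw [finrank_span_eq_card hli, Fintype.card_fin] at h1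
  have h2 := finrank_span_le_card (R := F) ({w, Pi.single p 1, Pi.single q 1} : Set (ι → F))
  have h3 : ({w, Pi.single p 1, Pi.single q 1} : Set (ι → F)).toFinset.card ≤ 3 := by
    simp only [Set.toFinset_insert, Set.toFinset_singleton]
    exact Finset.card_le_three
  omega

/-- Outside the monomial group a column has at most one zero. -/
lemma Proper.zero_unique {g : GL ι F} (hg : g ∈ M) (hgm : g ∉ monomialGroup ι F) {a p q : ι}
    (hp : (g : Matrix ι ι F) p a = 0) (hq : (g : Matrix ι ι F) q a = 0) : p = q := by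
  by_contra hpq
  obtain ⟨l, hl⟩ := row_ne_zero g p
  have hsupp : ∀ r, r ≠ p → r ≠ q → (g : Matrix ι ι F) r l = 0 := fun r h1 h2 => by
    by_contra hr
    exact hl (hP.two_zeros hg hpq hp hq h1 h2 hr).1
  obtain ⟨k, hk⟩ := col_ne_zero g a
  have hkp : k ≠ p := fun e => hk (e ▸ hp)
  have hkq : k ≠ q := fun e => hk (e ▸ hq)
  obtain ⟨k', hk'k, hk'⟩ : ∃ k', k' ≠ k ∧ (g : Matrix ι ι F) k' a ≠ 0 := by
    by_contra hc
    push Not at hc
    exact hgm (hP.of_single hg hc)
  obtain ⟨t, ht⟩ := exists_avoid hP.big {p, q, k, k'} (Finset.card_le_four.trans (by norm_num))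
  simp only [Finset.mem_insert, Finset.mem_singleton, not_or] at ht
  exact hk (hP.two_zeros hg (Ne.symm ht.2.2.1) (hsupp k hkp hkq) (hsupp t ht.1 ht.2.1) hk'k (Ne.symm ht.2.2.2)
    hk').1

/-- Four coordinates with two pairs of differing ratios give a contradiction. -/
lemma Proper.no_four {g : GL ι F} (hg : g ∈ M) {a l z : ι} (e : Fin 4 ↪ ι)
    (hve : ∀ b, (g : Matrix ι ι F) (e b) a ≠ 0) (hze : ∀ b, z ≠ e b) (hz : (g : Matrix ι ι F) z l ≠ 0)
    (h1 : (g : Matrix ι ι F) (e 0) l / (g : Matrix ι ι F) (e 0) a ≠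
      (g : Matrix ι ι F) (e 1) l / (g : Matrix ι ι F) (e 1) a)
    (h2 : (g : Matrix ι ι F) (e 2) l / (g : Matrix ι ι F) (e 2) a ≠
      (g : Matrix ι ι F) (e 3) l / (g : Matrix ι ι F) (e 3) a) : False := by
  classical
  set v := (g : Matrix ι ι F) *ᵥ Pi.single a 1 with hv
  set w := (g : Matrix ι ι F) *ᵥ Pi.single l 1 with hw
  have hvv : ∀ x, v x = (g : Matrix ι ι F) x a := fun x => by rw [hv, Matrix.mulVec_single_one]; rfl
  have hwv : ∀ x, w x = (g : Matrix ι ι F) x l := fun x => by rw [hw, Matrix.mulVec_single_one]; rfl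
  simp only [← hvv, ← hwv] at hve hz h1 h2
  let Z : Fin 4 → F := fun b => w (e b) / v (e b)
  have five := five_images Z h1 h2
  obtain ⟨f⟩ : Nonempty (Fin 5 ↪ ↥(evens.image fun (π : Equiv.Perm (Fin 4)) (b : Fin 4) => Z (π b))) :=
    Function.Embedding.nonempty_of_card_le (by rw [Fintype.card_fin, Fintype.card_coe]; exact five)
  choose π hπ hπY using fun i => Finset.mem_image.1 (f i).2
  have hsign : ∀ i, Equiv.Perm.sign (π i) = 1 := fun i => (Finset.mem_filter.1 (hπ i)).2
  let σ : Fin 5 → Equiv.Perm ι := fun i => Equiv.Perm.viaFintypeEmbedding (π i).symm e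
  have hσe : ∀ i b, σ i (e ((π i) b)) = e b := fun i b => by
    simp [σ, Equiv.Perm.viaFintypeEmbedding_apply_image]
  have hσo : ∀ i x, (∀ b, x ≠ e b) → σ i x = x := fun i x hx => by
    apply Equiv.Perm.viaFintypeEmbedding_apply_notMem_range
    rintro ⟨b, rfl⟩; exact hx b rfl
  let c : Fin 5 → ι → Fˣ := fun i x =>
    if h : v x ≠ 0 ∧ v (σ i x) ≠ 0 then Units.mk0 (v (σ i x) / v x) (div_ne_zero h.2 h.1) else 1
  have hco : ∀ i x, (∀ b, x ≠ e b) → (c i x : F) = 1 := fun i x hx => by
    simp only [c]; split_ifs with h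
    · rw [Units.val_mk0, hσo i x hx, div_self h.1]
    · rfl
  have hce : ∀ i b, (c i (e (π i b)) : F) = v (e b) / v (e (π i b)) := fun i b => by
    simp only [c]
    rw [dif_pos ⟨hve _, by rw [hσe]; exact hve _⟩, Units.val_mk0, hσe]
  have hmem : ∀ i, mon (σ i) (c i) ∈ monomialGroup ι F ⊓ specialLinear ι F := fun i => by
    refine ⟨mon_mem _ _, mem_specialLinear.2 ?_⟩
    have hS : ∏ x, (c i x : F) = ∏ b, (c i (e (π i b)) : F) := by
      rw [← Finset.prod_subset (Finset.subset_univ (Finset.univ.map e)) fun x _ hx =>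
        hco i x fun b hb => hx (by simp [hb]), Finset.prod_map]
      exact (Equiv.prod_comp (π i) fun b => (c i (e b) : F)).symm
    rw [det_mon, hS, Finset.prod_congr rfl fun b _ => hce i b, Finset.prod_div_distrib,
      Equiv.prod_comp (π i) fun b => v (e b), div_self (Finset.prod_ne_zero_iff.2 fun b _ => hve b),
      show Equiv.Perm.sign (σ i) = 1 by
        simp [σ, Equiv.Perm.viaFintypeEmbedding_sign, Equiv.Perm.sign_symm, hsign]]
    simp
  have hx : ∀ i y (z : ι → F), ((mon (σ i) (c i) : Matrix ι ι F) *ᵥ z) (σ i y) = (c i y : F) * z y :=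
    fun i y z => mon_mulVec _ _ z y
  have hfix : ∀ i, (mon (σ i) (c i) : Matrix ι ι F) *ᵥ v = v := fun i => funext fun x => by
    obtain ⟨y, rfl⟩ := (σ i).surjective x
    rw [hx]
    by_cases h : ∃ b, y = e b
    · obtain ⟨b, rfl⟩ := h
      obtain ⟨b, rfl⟩ := (π i).surjective b
      rw [hce, hσe, div_mul_cancel₀ _ (hve _)]
    · push Not at h
      rw [hco i y h, hσo i y h, one_mul]
  choose m d hd hu using fun i => hP.image hg (hmem i) (hfix i) l
  set u := fun i => (mon (σ i) (c i) : Matrix ι ι F) *ᵥ w with hudef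
  have u_e : ∀ i b, u i (e b) = v (e b) * Z (π i b) := fun i b => by
    have h := hx i (e (π i b)) w
    rw [hσe, hce] at h
    rw [hudef]
    show ((mon (σ i) (c i) : Matrix ι ι F) *ᵥ w) (e b) = _
    rw [h]
    simp only [Z]
    ring
  have u_o : ∀ i x, (∀ b, x ≠ e b) → u i x = w x := fun i x hxe => by
    have h := hx i x w
    rw [hσo i x hxe, hco i x hxe, one_mul] at h
    exact h
  have hm : Function.Injective m := by
    intro i j hij
    have he : u i = (d i / d j) • u j := by
      have h1 := congrArg (fun x => (g : Matrix ι ι F) *ᵥ x) (hu i)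
      have h2 := congrArg (fun x => (g : Matrix ι ι F) *ᵥ x) (hu j)
      simp only [mulVec_inv_mulVec] at h1 h2
      simp only [u]
      rw [h1, h2, hij, ← Matrix.mulVec_smul, smul_smul, div_mul_cancel₀ _ (hd j)]
    have er := congrFun he z
    rw [Pi.smul_apply, smul_eq_mul, u_o i z hze, u_o j z hze] at er
    have h1 : d i / d j = 1 := mul_right_cancel₀ hz (by rw [← er, one_mul])
    rw [h1, one_smul] at he
    refine f.injective (Subtype.ext ?_)
    rw [← hπY i, ← hπY j]
    funext b
    have h2 := congrFun he (e b)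
    rw [u_e, u_e] at h2
    exact mul_left_cancel₀ (hve b) h2
  have hli := linearIndependent_of_images u m d hd hu hm
  let D : Fin 3 → ι → F := fun b =>
    v (e b.castSucc) • Pi.single (e b.castSucc) 1 - v (e 3) • Pi.single (e 3) 1
  have hsub : Set.range u ⊆ (Submodule.span F (insert w (Set.range D)) : Set (ι → F)) := by
    rintro _ ⟨i, rfl⟩
    have e' : u i = w + ∑ b, (Z (π i b.castSucc) - Z b.castSucc) • D b := by
      have hZ := Equiv.sum_comp (π i) Z
      simp only [Fin.sum_univ_four] at hZ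
      funext x
      simp only [D, Fin.sum_univ_three, Pi.add_apply, Pi.smul_apply, Pi.sub_apply, smul_eq_mul]
      by_cases h : ∃ b, x = e b
      · obtain ⟨b, rfl⟩ := h
        have hw' : w (e b) = v (e b) * Z b := by simp only [Z]; rw [mul_div_cancel₀ _ (hve b)]
        rw [u_e, hw']
        fin_cases b <;> simp [e.injective.eq_iff]
        all_goals first | linear_combination (v (e 3)) * hZ | ring
      · push Not at h
        rw [u_o i x h]
        simp [h]
    rw [e']
    exact Submodule.add_mem _ (Submodule.subset_span (Set.mem_insert _ _)) (Submodule.sum_mem _ fun b _ =>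
      Submodule.smul_mem _ _ (Submodule.subset_span (Set.mem_insert_of_mem _ (Set.mem_range_self b))))
  have h3 := Submodule.finrank_mono (Submodule.span_le.2 hsub)
  rw [finrank_span_eq_card hli, Fintype.card_fin] at h3
  have h4 := finrank_span_le_card (R := F) (insert w (Set.range D))
  have h5 : (insert w (Set.range D)).toFinset.card ≤ 4 := by
    rw [Set.toFinset_insert, Set.toFinset_range]
    exact (Finset.card_insert_le _ _).trans (Nat.succ_le_succ Finset.card_image_le)
  omega

/-- Relative to one column, every other is a multiple off one coordinate of its support. -/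
lemma Proper.ratio {g : GL ι F} (hg : g ∈ M) (hgm : g ∉ monomialGroup ι F) (a l : ι) :
    ∃ (i0 : ι) (r : F), ∀ x, (g : Matrix ι ι F) x a ≠ 0 → x ≠ i0 →
      (g : Matrix ι ι F) x l = r * (g : Matrix ι ι F) x a := by
  classical
  set S : Finset ι := Finset.univ.filter fun x => (g : Matrix ι ι F) x a ≠ 0 with hS
  have hScard : 4 ≤ S.card := by
    have h1 : (Finset.univ \ S).card ≤ 1 := Finset.card_le_one.2 fun p hp q hq => by
      simp [S] at hp hq
      exact hP.zero_unique hg hgm hp hq
    rw [Finset.card_univ_diff] at h1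
    have := hP.big; omega
  have hmemS : ∀ {x}, x ∈ S ↔ (g : Matrix ι ι F) x a ≠ 0 := by simp [S]
  let Z : ι → F := fun x => (g : Matrix ι ι F) x l / (g : Matrix ι ι F) x a
  by_contra hcon
  push Not at hcon
  have hout : ∀ r, 2 ≤ (S.filter fun x => Z x ≠ r).card := by
    intro r
    by_contra hlt
    have h1 : ∀ i0, ∃ x ∈ S.filter (fun x => Z x ≠ r), x ≠ i0 := by
      intro i0
      obtain ⟨x, hx, hxi, hne⟩ := hcon i0 r
      refine ⟨x, Finset.mem_filter.2 ⟨hmemS.2 hx, fun e => hne ?_⟩, hxi⟩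
      rw [← e]; simp only [Z]; exact (div_mul_cancel₀ _ hx).symm
    obtain ⟨x, hx, -⟩ := h1 a
    obtain ⟨y, hy, hyx⟩ := h1 x
    exact hlt (Finset.one_lt_card.2 ⟨y, hy, x, hx, hyx⟩)
  have four : ∀ e : Fin 4 ↪ ι, (∀ b, e b ∈ S) → Z (e 0) ≠ Z (e 1) → Z (e 2) ≠ Z (e 3) → False := by
    intro e he h1 h2
    have hc : (Finset.univ.map e).card ≤ 4 := by simp
    obtain ⟨z1, hz1⟩ := exists_avoid hP.big (Finset.univ.map e) (hc.trans (by norm_num))
    obtain ⟨z2, hz2⟩ := exists_avoid hP.big (insert z1 (Finset.univ.map e))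
      ((Finset.card_insert_le _ _).trans (by omega))
    simp only [Finset.mem_insert, Finset.mem_map, Finset.mem_univ, true_and, not_or, not_exists] at hz1 hz2
    obtain ⟨z, hze, hz0⟩ : ∃ z, (∀ b, z ≠ e b) ∧ (g : Matrix ι ι F) z l ≠ 0 := by
      by_cases h : (g : Matrix ι ι F) z1 l = 0
      · exact ⟨z2, fun b h' => hz2.2 b h'.symm, fun h' => hz2.1 (hP.zero_unique hg hgm h' h)⟩
      · exact ⟨z1, fun b h' => hz1 b h'.symm, h⟩
    exact hP.no_four hg e (fun b => hmemS.1 (he b)) hze hz0 h1 h2
  by_cases hbig : ∃ r, 2 ≤ (S.filter fun x => Z x = r).card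
  · obtain ⟨r, hr⟩ := hbig
    obtain ⟨x1, hx1, x2, hx2, hx⟩ := Finset.one_lt_card.1 (hout r)
    obtain ⟨y1, hy1, y2, hy2, hy⟩ := Finset.one_lt_card.1 hr
    simp only [Finset.mem_filter] at hx1 hx2 hy1 hy2
    refine four ⟨![x1, y1, x2, y2], ?_⟩ (fun b => ?_) ?_ ?_
    · have h11 : x1 ≠ y1 := fun h => hx1.2 (h ▸ hy1.2)
      have h12 : x1 ≠ y2 := fun h => hx1.2 (h ▸ hy2.2)
      have h21 : x2 ≠ y1 := fun h => hx2.2 (h ▸ hy1.2)
      have h22 : x2 ≠ y2 := fun h => hx2.2 (h ▸ hy2.2)
      intro b c hbc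
      fin_cases b <;> fin_cases c <;>
        simp [hx, hy, h11, h12, h21, h22, hx.symm, hy.symm, h11.symm, h12.symm, h21.symm, h22.symm] at hbc ⊢
    · fin_cases b <;> [exact hx1.1; exact hy1.1; exact hx2.1; exact hy2.1]
    · show Z x1 ≠ Z y1
      rw [hy1.2]; exact hx1.2
    · show Z x2 ≠ Z y2
      rw [hy2.2]; exact hx2.2
  · push Not at hbig
    obtain ⟨e⟩ : Nonempty (Fin 4 ↪ {x // x ∈ S}) :=
      Function.Embedding.nonempty_of_card_le (by simpa using hScard)
    have hinj : ∀ b c, b ≠ c → Z (e b).1 ≠ Z (e c).1 := fun b c hbc heq => by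
      have := hbig (Z (e b).1)
      have h1 : 1 < (S.filter fun x => Z x = Z (e b).1).card := Finset.one_lt_card.2
        ⟨(e b).1, Finset.mem_filter.2 ⟨(e b).2, rfl⟩, (e c).1, Finset.mem_filter.2 ⟨(e c).2, heq.symm⟩,
          fun h => hbc (e.injective (Subtype.ext h))⟩
      omega
    exact four (e.trans (Function.Embedding.subtype _)) (fun b => (e b).2) (hinj 0 1 (by decide))
      (hinj 2 3 (by decide))

/-- A vector on one coordinate cannot be spanned by two columns. -/
lemma Proper.no_two_columns {g : GL ι F} (hg : g ∈ M) (hgm : g ∉ monomialGroup ι F) {a l i : ι} {r : F}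
    (hal : a ≠ l) (h : ∀ x, x ≠ i → (g : Matrix ι ι F) x l = r * (g : Matrix ι ι F) x a) : False := by
  have hgi : g⁻¹ ∉ monomialGroup ι F := fun h' => hgm (inv_inv g ▸ inv_mem h')
  set μ := (g : Matrix ι ι F) i l - r * (g : Matrix ι ι F) i a with hμ
  have e : (g : Matrix ι ι F) *ᵥ (Pi.single l 1 - r • Pi.single a 1) = μ • Pi.single i 1 := by
    funext x
    rw [Matrix.mulVec_sub, Matrix.mulVec_smul, Pi.sub_apply, Pi.smul_apply, Pi.smul_apply,
      Matrix.mulVec_single_one, Matrix.mulVec_single_one, smul_eq_mul, smul_eq_mul]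
    show (g : Matrix ι ι F) x l - r * (g : Matrix ι ι F) x a = _
    by_cases hx : x = i
    · subst hx; simp [hμ]
    · rw [h x hx, sub_self, Pi.single_eq_of_ne hx, mul_zero]
  have h2 := congrArg (fun y => ((g⁻¹ : GL ι F) : Matrix ι ι F) *ᵥ y) e
  simp only [inv_mulVec_mulVec, Matrix.mulVec_smul] at h2
  have hμ0 : μ ≠ 0 := fun h0 => by
    rw [h0, zero_smul] at h2
    have := congrFun h2 l
    simp [Ne.symm hal] at this
  have hz : ∀ x, x ≠ a → x ≠ l → ((g⁻¹ : GL ι F) : Matrix ι ι F) x i = 0 := fun x hxa hxl => by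
    have := congrFun h2 x
    rw [Pi.sub_apply, Pi.smul_apply, Pi.smul_apply, Pi.single_eq_of_ne hxl, Pi.single_eq_of_ne hxa,
      smul_zero, sub_zero, Matrix.mulVec_single_one, smul_eq_mul] at this
    exact (mul_eq_zero.1 this.symm).resolve_left hμ0
  obtain ⟨x, hx⟩ := exists_avoid hP.big {a, l} (Finset.card_le_two.trans (by norm_num))
  obtain ⟨y, hy⟩ := exists_avoid hP.big {a, l, x} (Finset.card_le_three.trans (by norm_num))
  simp only [Finset.mem_insert, Finset.mem_singleton, not_or] at hx hy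
  exact hy.2.2 (hP.zero_unique (M.inv_mem hg) hgi (hz y hy.1 hy.2.1) (hz x hx.1 hx.2))

/-- Every column has a zero, and two columns agree off their zeros. -/
lemma Proper.shape {g : GL ι F} (hg : g ∈ M) (hgm : g ∉ monomialGroup ι F) {a l : ι} (hal : a ≠ l) :
    ∃ p i r, p ≠ i ∧ (g : Matrix ι ι F) p a = 0 ∧ (g : Matrix ι ι F) i l = 0 ∧
      ∀ x, x ≠ p → x ≠ i → (g : Matrix ι ι F) x l = r * (g : Matrix ι ι F) x a := by
  obtain ⟨i, r, hr⟩ := hP.ratio hg hgm a l
  by_cases hz : ∃ p, (g : Matrix ι ι F) p a = 0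
  · obtain ⟨p, hp⟩ := hz
    have hne : ∀ x, x ≠ p → (g : Matrix ι ι F) x a ≠ 0 := fun x hx h => hx (hP.zero_unique hg hgm h hp)
    by_cases hpi : p = i
    · exact (hP.no_two_columns hg hgm hal fun x hx => hr x (hne x (hpi ▸ hx)) hx).elim
    refine ⟨p, i, r, hpi, hp, ?_, fun x hxp hxi => hr x (hne x hxp) hxi⟩
    have hlp : (g : Matrix ι ι F) p l ≠ 0 := fun h0 => hP.no_two_columns hg hgm hal (i := i) (r := r) fun x hx => by
      by_cases hxp : x = p
      · rw [hxp, h0, hp, mul_zero]
      · exact hr x (hne x hxp) hx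
    by_contra hil
    by_cases hr0 : r = 0
    · obtain ⟨x, hx⟩ := exists_avoid hP.big {p, i} (Finset.card_le_two.trans (by norm_num))
      obtain ⟨y, hy⟩ := exists_avoid hP.big {p, i, x} (Finset.card_le_three.trans (by norm_num))
      simp only [Finset.mem_insert, Finset.mem_singleton, not_or] at hx hy
      exact hy.2.2 (hP.zero_unique hg hgm (a := l) (by rw [hr y (hne y hy.1) hy.2.1, hr0, zero_mul])
        (by rw [hr x (hne x hx.1) hx.2, hr0, zero_mul]))
    have hfull : ∀ x, (g : Matrix ι ι F) x l ≠ 0 := fun x => by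
      by_cases hxp : x = p
      · exact hxp ▸ hlp
      by_cases hxi : x = i
      · exact hxi ▸ hil
      rw [hr x (hne x hxp) hxi]; exact mul_ne_zero hr0 (hne x hxp)
    obtain ⟨i', r', hr'⟩ := hP.ratio hg hgm l a
    exact hP.no_two_columns hg hgm hal.symm fun x hx => hr' x (hfull x) hx
  · push Not at hz
    exact (hP.no_two_columns hg hgm hal fun x hx => hr x (hz x) hx).elim

/-- Hence all elements are monomial. -/
theorem Proper.le_monomial : M ≤ monomialGroup ι F := by
  classical
  intro g hg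
  by_contra hgm
  have hgi : g⁻¹ ∉ monomialGroup ι F := fun h' => hgm (inv_inv g ▸ inv_mem h')
  set G : Matrix ι ι F := (g : Matrix ι ι F)
  set G' : Matrix ι ι F := ((g⁻¹ : GL ι F) : Matrix ι ι F)
  obtain ⟨b, -⟩ := exists_avoid hP.big ∅ (by simp)
  set T : Finset ι := Finset.univ.filter fun k => G' k b ≠ 0 ∧ G b k ≠ 0
  have h1 : (Finset.univ.filter fun k => G' k b = 0).card ≤ 1 := Finset.card_le_one.2 fun p hp q hq => by
    simp at hp hq; exact hP.zero_unique (M.inv_mem hg) hgi hp hq
  have h2 : (Finset.univ.filter fun k => G b k = 0).card ≤ 1 := Finset.card_le_one.2 fun p hp q hq => by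
    simp at hp hq
    by_contra hpq
    obtain ⟨p', i', r, hne, hp', hi', -⟩ := hP.shape hg hgm hpq
    exact hne ((hP.zero_unique hg hgm hp' hp).trans (hP.zero_unique hg hgm hq hi'))
  obtain ⟨k, hk, l, hl, hkl⟩ := Finset.one_lt_card.1 (show 1 < T.card by
    have hsub : (Finset.univ : Finset ι) ⊆ T ∪ ((Finset.univ.filter fun k => G' k b = 0) ∪
        (Finset.univ.filter fun k => G b k = 0)) := fun x _ => by simp [T]; tauto
    have := Finset.card_le_card hsub
    have := Finset.card_union_le T ((Finset.univ.filter fun k => G' k b = 0) ∪ (Finset.univ.filter fun k => G b k = 0))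
    have := Finset.card_union_le (Finset.univ.filter fun k => G' k b = 0) (Finset.univ.filter fun k => G b k = 0)
    have := hP.big
    simp only [Finset.card_univ] at *
    omega)
  simp only [T, Finset.mem_filter, Finset.mem_univ, true_and] at hk hl
  obtain ⟨p, i, r, hpi, hp, hi, hr⟩ := hP.shape hg hgm hkl
  have hbp : b ≠ p := fun e => hk.2 (e ▸ hp)
  have hbi : b ≠ i := fun e => hl.2 (e ▸ hi)
  have hpl : G p l ≠ 0 := fun h => hpi (hP.zero_unique hg hgm h hi)
  have hik : G i k ≠ 0 := fun h => hpi (hP.zero_unique hg hgm hp h)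
  set α := G b k * G' k b
  set β := G b k * r * G' l b
  have key : ∀ s : Fˣ, (s : F) ≠ 1 → ((s : F) - 1) * α + ((s : F)⁻¹ - 1) * β = -1 := by
    intro s hs
    have hs' : ((s : F)⁻¹) - 1 ≠ 0 := sub_ne_zero.2 fun e => hs (by rw [← inv_inv (s : F), e, inv_one])
    set y := g * twoAt k l s * g⁻¹
    have hy : y ∈ M := M.mul_mem (M.mul_mem hg (hP.le (twoAt_mem hkl s))) (M.inv_mem hg)
    have hyv : ∀ x, (y : Matrix ι ι F) x b = (1 : Matrix ι ι F) x b + ((s : F) - 1) * G x k * G' k b +
        ((s : F)⁻¹ - 1) * G x l * G' l b := by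
      intro x
      have hone : ∑ m, G x m * G' m b = (1 : Matrix ι ι F) x b := by
        rw [← Matrix.mul_apply, ← Units.val_mul, mul_inv_cancel, Units.val_one]
      have hsum : (y : Matrix ι ι F) x b =
          ∑ m, G x m * ((Function.update (Function.update (1 : ι → Fˣ) k s) l s⁻¹ m : Fˣ) : F) * G' m b := by
        rw [Units.val_mul, Matrix.mul_apply]
        exact Finset.sum_congr rfl fun m _ => by rw [twoAt, mul_torus_apply]
      have hdiff : ∑ m, G x m * ((Function.update (Function.update (1 : ι → Fˣ) k s) l s⁻¹ m : Fˣ) : F) * G' m b -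
          ∑ m, G x m * G' m b = ((s : F) - 1) * G x k * G' k b + ((s : F)⁻¹ - 1) * G x l * G' l b := by
        rw [← Finset.sum_sub_distrib, Finset.sum_eq_add k l hkl (fun m _ hm => by
          simp [Function.update_of_ne hm.1, Function.update_of_ne hm.2]) (by simp) (by simp)]
        simp [Function.update_of_ne hkl]
        ring
      linear_combination hsum + hdiff + hone
    have hyp : (y : Matrix ι ι F) p b ≠ 0 := by
      rw [hyv, Matrix.one_apply_ne (Ne.symm hbp), show G p k = 0 from hp]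
      simpa using mul_ne_zero (mul_ne_zero hs' hpl) hl.1
    have hyi : (y : Matrix ι ι F) i b ≠ 0 := by
      rw [hyv, Matrix.one_apply_ne (Ne.symm hbi), show G i l = 0 from hi]
      simpa using mul_ne_zero (mul_ne_zero (sub_ne_zero.2 hs) hik) hk.1
    have hym : y ∉ monomialGroup ι F := fun ⟨π, hπ⟩ => hpi
      ((by_contra fun e => hyp (hπ p b e) : p = π b).trans (by_contra fun e => hyi (hπ i b e) : i = π b).symm)
    set C := ((s : F) - 1) * G' k b + ((s : F)⁻¹ - 1) * r * G' l b
    have hgen : ∀ x, x ≠ b → x ≠ p → x ≠ i → (y : Matrix ι ι F) x b = G x k * C := fun x hxb hxp hxi => by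
      rw [hyv, Matrix.one_apply_ne hxb, show G x l = r * G x k from hr x hxp hxi]; ring
    have hC : C ≠ 0 := fun h0 => by
      obtain ⟨x, hx⟩ := exists_avoid hP.big {b, p, i} (Finset.card_le_three.trans (by norm_num))
      obtain ⟨x', hx'⟩ := exists_avoid hP.big {b, p, i, x} (Finset.card_le_four.trans (by norm_num))
      simp only [Finset.mem_insert, Finset.mem_singleton, not_or] at hx hx'
      exact hx'.2.2.2 (hP.zero_unique hy hym (a := b)
        (by rw [hgen x' hx'.1 hx'.2.1 hx'.2.2.1, h0, mul_zero])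
        (by rw [hgen x hx.1 hx.2.1 hx.2.2, h0, mul_zero]))
    obtain ⟨j, hj⟩ := exists_avoid hP.big {b} (by simp)
    obtain ⟨p', -, -, -, hp', -, -⟩ := hP.shape hy hym (a := b) (l := j) (by simpa [eq_comm] using hj)
    by_cases h : p' = b
    · subst h
      rw [hyv, Matrix.one_apply_eq, show G p' l = r * G p' k from hr p' hbp hbi] at hp'
      linear_combination hp'
    · by_cases h' : p' = p
      · exact absurd (h' ▸ hp') hyp
      by_cases h'' : p' = i
      · exact absurd (h'' ▸ hp') hyi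
      rw [hgen p' h h' h''] at hp'
      exact absurd ((mul_eq_zero.1 hp').resolve_right hC)
        (fun h0 => h' (hP.zero_unique hg hgm h0 hp))
  obtain ⟨f⟩ : Nonempty (Fin 3 ↪ {x : F // x ≠ 0 ∧ x ≠ 1}) := Function.Embedding.nonempty_of_card_le (by
    rw [Fintype.card_fin, Fintype.card_subtype]
    have hsub : (Finset.univ : Finset F) ⊆ (Finset.univ.filter fun x : F => x ≠ 0 ∧ x ≠ 1) ∪ {0, 1} := fun x _ => by
      simp; tauto
    have := Finset.card_le_card hsub
    have := Finset.card_union_le (Finset.univ.filter fun x : F => x ≠ 0 ∧ x ≠ 1) {0, 1}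
    have := Finset.card_le_two (a := (0 : F)) (b := 1)
    have := hP.field
    simp only [Finset.card_univ] at *
    omega)
  have hq : ∀ t : {x : F // x ≠ 0 ∧ x ≠ 1}, α * (t : F) ^ 2 + (1 - α - β) * t + β = 0 := fun t => by
    have h := key (Units.mk0 t t.2.1) t.2.2
    simp only [Units.val_mk0] at h
    have h1 := mul_inv_cancel₀ t.2.1
    linear_combination (t : F) * h - β * h1
  have hpair : ∀ t t' : {x : F // x ≠ 0 ∧ x ≠ 1}, t ≠ t' → α * ((t : F) + t') + (1 - α - β) = 0 := fun t t' h => by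
    have e : ((t : F) - t') * (α * ((t : F) + t') + (1 - α - β)) = 0 := by linear_combination hq t - hq t'
    exact (mul_eq_zero.1 e).resolve_left (sub_ne_zero.2 fun he => h (Subtype.ext he))
  have e12 := hpair _ _ (f.injective.ne (show (0 : Fin 3) ≠ 1 by decide))
  have e13 := hpair _ _ (f.injective.ne (show (0 : Fin 3) ≠ 2 by decide))
  have hα : α = 0 := (mul_eq_zero.1 (show ((f 1 : F) - f 2) * α = 0 by linear_combination e12 - e13)).resolve_left
    (sub_ne_zero.2 fun he => f.injective.ne (show (1 : Fin 3) ≠ 2 by decide) (Subtype.ext he))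
  exact mul_ne_zero hk.2 hk.1 hα

omit hP in
/-- The monomial subgroup has no proper overgroup. -/
theorem key (hn : 6 ≤ Fintype.card ι) (hq : 5 ≤ Fintype.card F)
    (hX : monomialGroup ι F ⊓ specialLinear ι F ≤ M) (hMI : M ≤ specialLinear ι F)
    (hMX : ¬ M ≤ monomialGroup ι F) : specialLinear ι F ≤ M := by
  by_contra hne
  exact hMX (Proper.le_monomial ⟨hn, hq, hX, fun g hg a ha => line_stabiliser hn hq hX hMI hne hg ha⟩)

end CfsgLib.Geo.Mono
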