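import Mathlib.GroupTheory.GroupAction.Quotient
import Mathlib.Data.Sym.Card
import Mathlib.GroupTheory.SpecificGroups.Cyclic
import Mathlib.Data.Nat.Choose.Basic
import Mathlib.Tactic.Ring

/-!
Orbits of a group of prime order on nonconstant multisets of given size.
-/

set_option autoImplicit false
set_option linter.style.haveILetI false

namespace CfsgLib.Geo.NCMultiset

variable (R : Type*) [CommGroup R] (n : ℕ)

/-- Nonconstant multisets of size `n`. -/
def NC := {m : Sym R n // ∀ a, (m : Multiset R) ≠ Multiset.replicate n a}

instance [Fintype R] [DecidableEq R] : Fintype (NC R n) :=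
  inferInstanceAs (Fintype {m : Sym R n // ∀ a, (m : Multiset R) ≠ Multiset.replicate n a})

instance : MulAction R (NC R n) where
  smul a m := ⟨m.1.map (a * ·), fun b h => m.2 (a⁻¹ * b) (by
    have h' := congrArg (Multiset.map (a⁻¹ * ·)) h
    rw [Sym.coe_map, Multiset.map_map, Multiset.map_replicate] at h'
    rw [← h']
    exact (Multiset.map_congr rfl fun x _ => inv_mul_cancel_left a x).trans (Multiset.map_id _) |>.symm)⟩
  one_smul m := Subtype.ext (Sym.coe_injective (by
    show ((m.1.map (1 * ·) : Sym R n) : Multiset R) = _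
    rw [Sym.coe_map]; simp))
  mul_smul a b m := Subtype.ext (Sym.coe_injective (by
    show ((m.1.map (a * b * ·) : Sym R n) : Multiset R) = ((m.1.map (b * ·)).map (a * ·) : Sym R n)
    rw [Sym.coe_map, Sym.coe_map, Sym.coe_map, Multiset.map_map]
    exact Multiset.map_congr rfl fun x _ => mul_assoc a b x))

theorem coe_smul (a : R) (m : NC R n) : ((a • m).1 : Multiset R) = (m.1 : Multiset R).map (a * ·) :=
  Sym.coe_map _ _

theorem card_orbits [Fintype R] [DecidableEq R] {r : ℕ} (hr : r.Prime) (hcard : Nat.card R = r) (hn : 2 ≤ n) :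
    Nat.card (MulAction.orbitRel.Quotient R (NC R n)) + (r - 1) * (if r ∣ n then 1 else 0) =
      (Nat.choose (n + r - 1) (r - 1) - r - (if r ∣ n then 1 else 0)) / r + r * (if r ∣ n then 1 else 0) := by
  classical
  have hR : Fintype.card R = r := by rw [← hcard, Nat.card_eq_fintype_card]
  haveI : Fact r.Prime := ⟨hr⟩
  -- nonconstant multisets
  have hall : Fintype.card (NC R n) + r = Nat.choose (n + r - 1) (r - 1) := by
    have h1 : Fintype.card (Sym R n) = Nat.choose (n + r - 1) (r - 1) := by
      rw [Sym.card_sym_eq_choose, hR, show r + n - 1 = n + (r - 1) by have := hr.two_le; omega,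
        Nat.choose_symm_add, show n + r - 1 = n + (r - 1) by have := hr.two_le; omega]
    let c : R → {m : Sym R n // ¬ ∀ a, (m : Multiset R) ≠ Multiset.replicate n a} := fun a =>
      ⟨Sym.replicate n a, fun h => h a (Sym.coe_replicate)⟩
    have hc : Function.Bijective c := by
      refine ⟨fun a b h => ?_, fun m => ?_⟩
      · have h' : (Sym.replicate n a : Multiset R) = Sym.replicate n b :=
          congrArg (fun s : {m : Sym R n // ¬ ∀ a, (m : Multiset R) ≠ Multiset.replicate n a} => (s.1 : Multiset R)) h
        rw [Sym.coe_replicate, Sym.coe_replicate] at h'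
        have : a ∈ Multiset.replicate n b := h' ▸ Multiset.mem_replicate.2 ⟨by omega, rfl⟩
        exact Multiset.eq_of_mem_replicate this
      · obtain ⟨a, ha⟩ := not_forall.1 m.2
        exact ⟨a, Subtype.ext (Sym.coe_injective ((Sym.coe_replicate).trans (not_not.1 ha).symm))⟩
    have h2 : Fintype.card {m : Sym R n // ¬ ∀ a, (m : Multiset R) ≠ Multiset.replicate n a} = r := by
      rw [← Fintype.card_of_bijective hc, hR]
    have h3 := Fintype.card_subtype_compl (fun m : Sym R n => ∀ a, (m : Multiset R) ≠ Multiset.replicate n a)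
    have h4 := Fintype.card_subtype_le (fun m : Sym R n => ∀ a, (m : Multiset R) ≠ Multiset.replicate n a)
    have h5 : Fintype.card (NC R n) = Fintype.card {m : Sym R n // ∀ a, (m : Multiset R) ≠ Multiset.replicate n a} :=
      Fintype.card_congr (Equiv.refl _)
    omega
  -- fixed points of a nontrivial element
  have hfix : ∀ a : R, a ≠ 1 →
      Fintype.card (MulAction.fixedBy (NC R n) a) = if r ∣ n then 1 else 0 := by
    intro a ha
    have hgen : ∀ x : R, x ∈ Subgroup.zpowers a := fun x => mem_zpowers_of_prime_card hcard ha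
    have hcount : ∀ m : NC R n, a • m = m → ∀ x, (m.1 : Multiset R).count x = (m.1 : Multiset R).count 1 := by
      intro m hm
      have h1 : ∀ x, (m.1 : Multiset R).count (a * x) = (m.1 : Multiset R).count x := fun x => by
        conv_lhs => rw [← hm, coe_smul]
        exact Multiset.count_map_eq_count' _ _ (mul_right_injective a) x
      let S : Subgroup R :=
        { carrier := {b | ∀ x, (m.1 : Multiset R).count (b * x) = (m.1 : Multiset R).count x}
          one_mem' := fun x => by rw [one_mul]
          mul_mem' := fun {b c} hb hc x => by rw [mul_assoc, hb, hc]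
          inv_mem' := fun {b} hb x => by
            have := hb (b⁻¹ * x)
            rw [mul_inv_cancel_left] at this
            exact this.symm }
      intro x
      have := (Subgroup.zpowers_le.2 (show a ∈ S from h1)) (hgen x) 1
      rwa [mul_one] at this
    have hk : ∀ m : NC R n, a • m = m → r * (m.1 : Multiset R).count 1 = n := by
      intro m hm
      have := Multiset.sum_count_eq_card (s := Finset.univ) (m := (m.1 : Multiset R)) fun x _ => Finset.mem_univ x
      rw [Sym.card_coe, Finset.sum_congr rfl fun x _ => hcount m hm x, Finset.sum_const, Finset.card_univ,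
        hR, smul_eq_mul] at this
      exact this
    by_cases hdiv : r ∣ n
    · rw [if_pos hdiv]
      obtain ⟨k, hk'⟩ := hdiv
      let mu : Sym R n := ⟨k • (Finset.univ : Finset R).val, by
        rw [Multiset.card_nsmul, ← Finset.card_def, Finset.card_univ, hR, hk', mul_comm]⟩
      have hmu : ∀ x, (mu : Multiset R).count x = k := fun x => by
        show Multiset.count x (k • (Finset.univ : Finset R).val) = k
        rw [Multiset.count_nsmul, Multiset.count_eq_one_of_mem Finset.univ.nodup (Finset.mem_univ x), mul_one]
      have hk0 : 0 < k := Nat.pos_of_ne_zero fun h => by rw [h, mul_zero] at hk'; omega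
      have hNC : ∀ b, (mu : Multiset R) ≠ Multiset.replicate n b := fun b h => by
        obtain ⟨x, hx⟩ : ∃ x : R, x ≠ b := Fintype.exists_ne_of_one_lt_card (by rw [hR]; exact hr.one_lt) b
        have := hmu x
        rw [h, Multiset.count_replicate, if_neg (Ne.symm hx)] at this
        omega
      let mu' : NC R n := ⟨mu, hNC⟩
      have hmufix : a • mu' = mu' := Subtype.ext (Sym.coe_injective (Multiset.ext.2 fun x => by
        show Multiset.count x ((a • mu').1 : Multiset R) = Multiset.count x (mu : Multiset R)
        rw [coe_smul, hmu]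
        conv_lhs => rw [← mul_inv_cancel_left a x]
        rw [Multiset.count_map_eq_count' _ _ (mul_right_injective a)]
        exact hmu _))
      refine Fintype.card_eq_one_iff.2 ⟨⟨mu', hmufix⟩, fun y => Subtype.ext (Subtype.ext
        (Sym.coe_injective (Multiset.ext.2 fun x => ?_)))⟩
      show Multiset.count x (y.1.1 : Multiset R) = Multiset.count x (mu : Multiset R)
      rw [hmu, hcount y.1 y.2 x]
      exact Nat.eq_of_mul_eq_mul_left hr.pos ((hk y.1 y.2).trans hk')
    · rw [if_neg hdiv, Fintype.card_eq_zero_iff]
      exact ⟨fun y => hdiv ⟨_, (hk y.1 y.2).symm⟩⟩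
  have hone : Fintype.card (MulAction.fixedBy (NC R n) (1 : R)) = Fintype.card (NC R n) :=
    Fintype.card_of_bijective (f := fun y => y.1) ⟨Subtype.val_injective, fun y => ⟨⟨y, one_smul R y⟩, rfl⟩⟩
  have hburn := MulAction.sum_card_fixedBy_eq_card_orbits_mul_card_group R (NC R n)
  rw [← Finset.add_sum_erase Finset.univ _ (Finset.mem_univ (1 : R)), hone,
    Finset.sum_congr rfl (fun a ha => hfix a (Finset.ne_of_mem_erase ha)), Finset.sum_const,
    Finset.card_erase_of_mem (Finset.mem_univ _), Finset.card_univ, hR, smul_eq_mul,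
    ← Nat.card_eq_fintype_card (α := MulAction.orbitRel.Quotient R (NC R n))] at hburn
  set o := Nat.card (MulAction.orbitRel.Quotient R (NC R n))
  set C := Nat.choose (n + r - 1) (r - 1)
  have hr2 := hr.two_le
  split_ifs at hburn ⊢ with hdiv
  · have ho : 1 ≤ o := Nat.pos_of_ne_zero fun h => by rw [h, zero_mul] at hburn; omega
    obtain ⟨o', ho'⟩ : ∃ o', o = o' + 1 := ⟨o - 1, by omega⟩
    rw [ho', add_mul, one_mul] at hburn
    have : C - r - 1 = o' * r := by omega
    rw [this, Nat.mul_div_cancel _ hr.pos]
    omega
  · rw [show C - r - 0 = o * r by omega, Nat.mul_div_cancel _ hr.pos]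
    ring

end CfsgLib.Geo.NCMultiset
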