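import Cfsg.Agent.Geo.NilForms
import Cfsg.Agent.Forms.Classify
import Cfsg.Agent.Forms.OfBilin

/-!
# Models and normal forms for skew nilpotent maps
-/

set_option autoImplicit false
set_option linter.style.haveILetI false
set_option linter.unusedSectionVars false

namespace CfsgLib.Geo.NilForms

open Matrix Module

variable {F : Type*} [Field F]

/-! ## Transport and change of generators -/

section Transport

variable {η : F} {V V' : Type*} [AddCommGroup V] [Module F V] [FiniteDimensional F V] [AddCommGroup V']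
  [Module F V'] [FiniteDimensional F V'] {B : LinearMap.BilinForm F V} {N : V →ₗ[F] V}
  {B' : LinearMap.BilinForm F V'} {N' : V' →ₗ[F] V'} {ι : Type} [Fintype ι] [DecidableEq ι]
  {k : ι → ℕ} {v : ι → V}

theorem pow_intertwine (e : V ≃ₗ[F] V') (he : ∀ x, e (N x) = N' (e x)) (a : ℕ) :
    ∀ x, e ((N ^ a) x) = (N' ^ a) (e x) := by
  induction a with
  | zero => intro x; simp
  | succ a ih =>
    intro x
    rw [pow_succ', pow_succ', Module.End.mul_apply, Module.End.mul_apply, he, ih]

theorem IsGen.map (g : IsGen B N k v) (e : V ≃ₗ[F] V') (he : ∀ x, e (N x) = N' (e x))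
    (hB : ∀ x y, B' (e x) (e y) = B x y) :
    IsGen B' N' k (fun i => e (v i)) ∧ ∀ n, gram B' N' k (fun i => e (v i)) n = gram B N k v n := by
  have hgram : ∀ n, gram B' N' k (fun i => e (v i)) n = gram B N k v n := by
    intro n; funext q p
    show B' (e (v q.1)) ((N' ^ (n - 1)) (e (v p.1))) = _
    rw [← pow_intertwine e he, hB]
    rfl
  refine ⟨⟨g.pos, fun i => ?_, by rw [g.card, e.finrank_eq], fun n => by rw [hgram]; exact g.det n⟩, hgram⟩
  rw [← pow_intertwine e he, g.zero, map_zero]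

theorem Skew.map (hS : Skew η B N) (e : V ≃ₗ[F] V') (he : ∀ x, e (N x) = N' (e x))
    (hB : ∀ x y, B' (e x) (e y) = B x y) : Skew η B' N' := by
  refine ⟨hS.sq, fun x y => ?_, fun x hx => ?_, fun x y => ?_⟩
  · obtain ⟨x, rfl⟩ := e.surjective x
    obtain ⟨y, rfl⟩ := e.surjective y
    rw [hB, hB, hS.swap]
  · obtain ⟨x, rfl⟩ := e.surjective x
    rw [hS.nd x fun y => by rw [← hB]; exact hx _, map_zero]
  · obtain ⟨x, rfl⟩ := e.surjective x
    obtain ⟨y, rfl⟩ := e.surjective y
    rw [← he, ← he, hB, hB, hS.adj]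

/-- Change of generators by congruences of the Gram matrices. -/
theorem exists_change (g : IsGen B N k v) {ι' : Type} [Fintype ι'] [DecidableEq ι'] {k' : ι' → ℕ}
    (hcard : ∀ n, Fintype.card (Ht k' n) = Fintype.card (Ht k n))
    (G' : ∀ n, Matrix (Ht k' n) (Ht k' n) F) (hdet : ∀ n, (G' n).det ≠ 0)
    (hP : ∀ n, 1 ≤ n → ∃ P : Matrix (Ht k n) (Ht k' n) F, Pᵀ * gram B N k v n * P = G' n) :
    ∃ w : ι' → V, IsGen B N k' w ∧ ∀ n, gram B N k' w n = G' n := by
  classical
  have hpos : ∀ i, 1 ≤ k' i := by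
    intro i
    rcases Nat.eq_zero_or_pos (k' i) with h | h
    · haveI : IsEmpty (Ht k 0) := ⟨fun p => by have := g.pos p.1; omega⟩
      have h1 := hcard 0
      rw [Fintype.card_eq_zero (α := Ht k 0), Fintype.card_eq_zero_iff] at h1
      exact (h1.false ⟨i, h⟩).elim
    · exact h
  choose P hP using hP
  let f : ∀ n (h : 1 ≤ n), Ht k' n → V := fun n h p' => ∑ p, P n h p p' • v p.1
  let w : ι' → V := fun i => f (k' i) (hpos i) ⟨i, rfl⟩
  have hw : ∀ n (h : 1 ≤ n) (p' : Ht k' n), w p'.1 = f n h p' := by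
    rintro n h ⟨i, rfl⟩; rfl
  have hgram : ∀ n, gram B N k' w n = G' n := by
    intro n
    funext q' p'
    rcases Nat.eq_zero_or_pos n with rfl | hn
    · have := hpos q'.1; have := q'.2; omega
    show B (w q'.1) ((N ^ (n - 1)) (w p'.1)) = _
    rw [hw n hn q', hw n hn p', ← hP n hn, Matrix.mul_apply]
    simp only [f, map_sum, map_smul, LinearMap.sum_apply, LinearMap.smul_apply, smul_eq_mul,
      Matrix.mul_apply, Matrix.transpose_apply, Finset.sum_mul, gram, Matrix.of_apply]
    refine Finset.sum_congr rfl fun p _ => ?_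
    rw [Finset.mul_sum]
    exact Finset.sum_congr rfl fun q _ => by ring
  refine ⟨w, ⟨hpos, fun i => ?_, ?_, fun n => by rw [hgram]; exact hdet n⟩, hgram⟩
  · show (N ^ k' i) (∑ p, P (k' i) (hpos i) p ⟨i, rfl⟩ • v p.1) = 0
    rw [map_sum]
    refine Finset.sum_eq_zero fun p _ => ?_
    have := g.zero p.1
    rw [p.2] at this
    rw [map_smul, this, smul_zero]
  · let e : ι' ≃ ι := Equiv.ofFiberEquiv fun n => Fintype.equivOfCardEq (hcard n)
    rw [← g.card, ← e.sum_comp]
    exact Finset.sum_congr rfl fun i _ => (Equiv.ofFiberEquiv_map _ i).symm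

theorem isNilpotent_of_gen (hS : Skew η B N) (g : IsGen B N k v) : IsNilpotent N := by
  refine ⟨∑ i, k i, (g.basis hS).ext fun x => ?_⟩
  rw [g.basis_apply hS, LinearMap.zero_apply]
  simp only [chain]
  rw [← Module.End.mul_apply, ← pow_add,
    pow_zero_of_le (g.zero x.1) (le_trans (Finset.single_le_sum (fun b _ => Nat.zero_le (k b))
      (Finset.mem_univ x.1)) (Nat.le_add_right _ _))]

theorem pow_eq_zero_iff_le (hS : Skew η B N) (g : IsGen B N k v) (a : ℕ) :
    N ^ a = 0 ↔ ∀ i, k i ≤ a := by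
  refine ⟨fun h i => ?_, fun h => (g.basis hS).ext fun x => ?_⟩
  · by_contra hlt
    have h1 := (g.li hS).ne_zero (⟨i, ⟨a, by omega⟩⟩ : (i : ι) × Fin (k i))
    exact h1 (by simp only [chain]; rw [h, LinearMap.zero_apply])
  · rw [g.basis_apply hS, LinearMap.zero_apply]
    simp only [chain]
    rw [← Module.End.mul_apply, ← pow_add, pow_zero_of_le (g.zero x.1) (le_trans (h x.1) (Nat.le_add_right _ _))]

end Transport

/-! ## Models -/

section Model

variable {ι : Type} [Fintype ι] [DecidableEq ι] (k : ι → ℕ)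

/-- The entries of a family of Gram matrices on all pairs of indices. -/
def gExt (G : ∀ n, Matrix (Ht k n) (Ht k n) F) (p q : ι) : F :=
  if h : k p = k q then G (k p) ⟨p, rfl⟩ ⟨q, h.symm⟩ else 0

theorem gExt_eq (G : ∀ n, Matrix (Ht k n) (Ht k n) F) {n : ℕ} (p q : Ht k n) :
    gExt k G p.1 q.1 = G n p q := by
  obtain ⟨p, rfl⟩ := p
  rw [gExt, dif_pos q.2.symm]

/-- The model form. -/
def modelMat (G : ∀ n, Matrix (Ht k n) (Ht k n) F) :
    Matrix ((i : ι) × Fin (k i)) ((i : ι) × Fin (k i)) F :=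
  Matrix.of fun x y => if k x.1 = k y.1 ∧ (x.2 : ℕ) + y.2 + 1 = k x.1 then
    (-1 : F) ^ (x.2 : ℕ) * gExt k G x.1 y.1 else 0

/-- A skew nilpotent map with prescribed Gram matrices. -/
theorem exists_model {η : F} (hη : η * η = 1) (G : ∀ n, Matrix (Ht k n) (Ht k n) F) (hpos : ∀ i, 0 < k i)
    (hpar : ∀ n, (G n)ᵀ = (-(η * (-1 : F) ^ n)) • G n) (hdet : ∀ n, (G n).det ≠ 0) :
    ∃ (N : (((i : ι) × Fin (k i)) → F) →ₗ[F] (((i : ι) × Fin (k i)) → F))
      (v : ι → (((i : ι) × Fin (k i)) → F)), Skew η (Matrix.toBilin' (modelMat k G)) N ∧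
        IsGen (Matrix.toBilin' (modelMat k G)) N k v ∧ ∀ n, gram (Matrix.toBilin' (modelMat k G)) N k v n = G n := by
  classical
  let b := Pi.basisFun F ((i : ι) × Fin (k i))
  let B : LinearMap.BilinForm F (((i : ι) × Fin (k i)) → F) := Matrix.toBilin' (modelMat k G)
  let N : (((i : ι) × Fin (k i)) → F) →ₗ[F] (((i : ι) × Fin (k i)) → F) := b.constr ℕ fun x =>
    if h : (x.2 : ℕ) + 1 < k x.1 then b ⟨x.1, ⟨x.2 + 1, h⟩⟩ else 0
  have hBb : ∀ x y, B (b x) (b y) = modelMat k G x y := fun x y => by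
    simp only [B, b, Pi.basisFun_apply, Matrix.toBilin'_single]
  have hNb : ∀ x, N (b x) = if h : (x.2 : ℕ) + 1 < k x.1 then b ⟨x.1, ⟨x.2 + 1, h⟩⟩ else 0 := fun x => by
    simp only [N, Module.Basis.constr_basis]
  have hNpow : ∀ (a : ℕ) (i : ι), (N ^ a) (b ⟨i, ⟨0, hpos i⟩⟩) =
      if h : a < k i then b ⟨i, ⟨a, h⟩⟩ else 0 := by
    intro a i
    induction a with
    | zero => rw [dif_pos (hpos i)]; simp
    | succ a ih =>
      rw [pow_succ', Module.End.mul_apply, ih]
      by_cases h : a < k i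
      · rw [dif_pos h, hNb]
      · rw [dif_neg h, map_zero, dif_neg (by omega)]
  have hsign : ∀ p q, gExt k G q p = -(η * (-1 : F) ^ k p) * gExt k G p q := by
    intro p q
    by_cases h : k p = k q
    · have h1 := congrFun (congrFun (hpar (k p)) ⟨p, rfl⟩) ⟨q, h.symm⟩
      have e1 : gExt k G p q = G (k p) ⟨p, rfl⟩ ⟨q, h.symm⟩ := gExt_eq k G ⟨p, rfl⟩ ⟨q, h.symm⟩
      have e2 : gExt k G q p = G (k p) ⟨q, h.symm⟩ ⟨p, rfl⟩ := gExt_eq k G ⟨q, h.symm⟩ ⟨p, rfl⟩
      rw [Matrix.transpose_apply, Matrix.smul_apply, smul_eq_mul] at h1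
      rw [e1, e2]
      exact h1
    · rw [gExt, dif_neg (fun e => h e.symm), gExt, dif_neg h, mul_zero]
  have hswap0 : ∀ x y, modelMat k G y x = η * modelMat k G x y := by
    intro x y
    simp only [modelMat, Matrix.of_apply]
    by_cases h : k x.1 = k y.1 ∧ (x.2 : ℕ) + y.2 + 1 = k x.1
    · rw [if_pos h, if_pos ⟨h.1.symm, by have := h.1; omega⟩, hsign x.1 y.1]
      have e : (-1 : F) ^ (y.2 : ℕ) * (-1) ^ k x.1 = -(-1) ^ (x.2 : ℕ) := by
        rw [← pow_add, show (y.2 : ℕ) + k x.1 = 2 * (y.2 : ℕ) + ((x.2 : ℕ) + 1) by omega, pow_add, pow_mul,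
          neg_one_sq, one_pow, one_mul, pow_succ]
        ring
      linear_combination (-η * gExt k G x.1 y.1) * e
    · rw [if_neg h, if_neg fun e => h ⟨e.1.symm, by have := e.1; omega⟩, mul_zero]
  have hswap : ∀ u w, B w u = η * B u w := by
    have h : B.flip = η • B := LinearMap.BilinForm.ext_basis b fun x y => by
      show B (b y) (b x) = η * (B (b x) (b y))
      rw [hBb, hBb, hswap0]
    intro u w
    exact LinearMap.congr_fun (LinearMap.congr_fun h u) w
  have hnd : ∀ u, (∀ w, B u w = 0) → u = 0 := by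
    intro u hu
    funext x
    obtain ⟨p, a⟩ := x
    let n := k p
    have hn : n - 1 - (a : ℕ) < n := by have := a.isLt; omega
    have hvec : (fun p' : Ht k n => u ⟨p'.1, ⟨a, by rw [p'.2]; exact a.isLt⟩⟩) ᵥ* G n = 0 := by
      funext q
      have h1 := hu (b ⟨q.1, ⟨n - 1 - (a : ℕ), by rw [q.2]; exact hn⟩⟩)
      rw [← b.sum_repr u, map_sum, LinearMap.sum_apply, Fintype.sum_sigma] at h1
      simp only [map_smul, LinearMap.smul_apply, hBb, smul_eq_mul, b, Pi.basisFun_repr] at h1
      rw [Pi.zero_apply, ← mul_right_inj' (pow_ne_zero (a : ℕ) (neg_ne_zero.2 (one_ne_zero (α := F)))),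
        mul_zero, ← h1, Matrix.vecMul, dotProduct, Finset.mul_sum,
        ← Finset.sum_subtype (Finset.univ.filter fun p' => k p' = n) (fun p' => by simp)
          (fun p' : ι => if h : k p' = n then (-1 : F) ^ (a : ℕ) *
            (u ⟨p', ⟨a, by rw [h]; exact a.isLt⟩⟩ * gExt k G p' q.1) else 0) |>.trans
          (Finset.sum_congr rfl fun p' _ => (dif_pos p'.2).trans (by rw [gExt_eq])), Finset.sum_filter]
      refine Finset.sum_congr rfl fun p' _ => ?_
      by_cases hp' : k p' = n
      · rw [if_pos hp', dif_pos hp', Finset.sum_eq_single (⟨a, by rw [hp']; exact a.isLt⟩ : Fin (k p'))]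
        · simp only [modelMat, Matrix.of_apply]
          rw [if_pos ⟨hp'.trans q.2.symm, by rw [hp']; have := a.isLt; omega⟩]
          ring
        · intro j _ hj
          simp only [modelMat, Matrix.of_apply]
          rw [if_neg, mul_zero]
          rintro ⟨-, h2⟩
          exact hj (Fin.ext (show (j : ℕ) = a by have := a.isLt; have : k p' = k p := hp'; omega))
        · simp
      · rw [if_neg hp']
        symm
        refine Finset.sum_eq_zero fun j _ => ?_
        simp only [modelMat, Matrix.of_apply]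
        rw [if_neg (fun e => hp' (e.1.trans q.2)), mul_zero]
    exact congrFun (Matrix.eq_zero_of_vecMul_eq_zero (hdet n) hvec) ⟨p, rfl⟩
  have hadj : ∀ u w, B (N u) w = -B u (N w) := by
    have h : B.compLeft N = -(B.compRight N) := LinearMap.BilinForm.ext_basis b fun x y => by
      show B (N (b x)) (b y) = -(B (b x) (N (b y)))
      rw [hNb, hNb]
      split_ifs with h1 h2 h2
      · rw [hBb, hBb]
        simp only [modelMat, Matrix.of_apply]
        by_cases h3 : k x.1 = k y.1 ∧ (x.2 : ℕ) + 1 + y.2 + 1 = k x.1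
        · rw [if_pos h3, if_pos ⟨h3.1, by omega⟩, pow_succ]; ring
        · rw [if_neg h3, if_neg fun e => h3 ⟨e.1, by omega⟩, neg_zero]
      · rw [hBb, map_zero, neg_zero]
        simp only [modelMat, Matrix.of_apply]
        exact if_neg fun e => by omega
      · rw [hBb, map_zero, LinearMap.zero_apply]
        simp only [modelMat, Matrix.of_apply]
        rw [if_neg fun e => by omega, neg_zero]
      · simp
    intro u w
    exact LinearMap.congr_fun (LinearMap.congr_fun h u) w
  have hgram : ∀ n, gram B N k (fun i => b ⟨i, ⟨0, hpos i⟩⟩) n = G n := by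
    intro n; funext q p
    show B (b _) ((N ^ (n - 1)) (b _)) = _
    have hp := p.2; have := hpos p.1
    rw [hNpow, dif_pos (by omega), hBb]
    simp only [modelMat, Matrix.of_apply]
    rw [if_pos ⟨q.2.trans p.2.symm, by have := q.2; omega⟩, pow_zero, one_mul, gExt_eq]
  refine ⟨N, fun i => b ⟨i, ⟨0, hpos i⟩⟩, ⟨hη, hswap, hnd, hadj⟩,
    ⟨hpos, fun i => ?_, ?_, fun n => by rw [hgram]; exact hdet n⟩, hgram⟩
  · rw [hNpow, dif_neg (lt_irrefl _)]
  · rw [Module.finrank_pi, Fintype.card_sigma]; simp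

end Model

/-! ## Normal forms of the Gram matrices -/

/-- The normal form: diagonal with last entry `1` or `ν` for even height, standard alternating otherwise. -/
def normalForm (ν : F) (a n : ℕ) (σ : Bool) : Matrix (Fin a) (Fin a) F :=
  Matrix.of fun i j =>
    if Even n then (if i = j then (if σ = true ∧ (i : ℕ) + 1 = a then ν else 1) else 0)
    else (if Even (i : ℕ) ∧ (j : ℕ) = i + 1 then 1 else if Even (j : ℕ) ∧ (i : ℕ) = j + 1 then -1 else 0)

theorem normalForm_even_eq (ν : F) (a : ℕ) {n : ℕ} (hn : Even n) (σ : Bool) :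
    normalForm ν a n σ = Matrix.diagonal fun i : Fin a => if σ = true ∧ (i : ℕ) + 1 = a then ν else 1 := by
  funext i j
  simp only [normalForm, Matrix.of_apply, if_pos hn, Matrix.diagonal_apply]

theorem normalForm_det_even (ν : F) (a : ℕ) {n : ℕ} (hn : Even n) (σ : Bool) (hσ : σ = true → 0 < a) :
    (normalForm ν a n σ).det = if σ = true then ν else 1 := by
  rw [normalForm_even_eq ν a hn, Matrix.det_diagonal]
  cases σ with
  | false => simp
  | true =>
    have ha := hσ rfl
    rw [Finset.prod_eq_single (⟨a - 1, by omega⟩ : Fin a)]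
    · simp [show a - 1 + 1 = a by omega]
    · intro i _ hi
      rw [if_neg]
      rintro ⟨-, h⟩
      exact hi (Fin.ext (show (i : ℕ) = a - 1 by omega))
    · simp

theorem normalForm_det_ne {ν : F} (hν : ν ≠ 0) (a n : ℕ) (σ : Bool) (hodd : Odd n → Even a) :
    (normalForm ν a n σ).det ≠ 0 := by
  rcases Nat.even_or_odd n with hn | hn
  · rw [normalForm_even_eq ν a hn, Matrix.det_diagonal]
    exact Finset.prod_ne_zero_iff.2 fun i _ => by split_ifs <;> [exact hν; exact one_ne_zero]
  · obtain ⟨c, hc⟩ := hodd hn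
    intro h
    obtain ⟨x, hx0, hx⟩ := Matrix.exists_mulVec_eq_zero_iff.2 h
    refine hx0 (funext fun i => ?_)
    have hne : ¬Even n := Nat.not_even_iff_odd.2 hn
    rcases Nat.even_or_odd (i : ℕ) with he | ho
    · have hlt : (i : ℕ) + 1 < a := by
        rcases Nat.lt_or_ge ((i : ℕ) + 1) a with h1 | h1
        · exact h1
        · obtain ⟨d, hd⟩ := he; have := i.isLt; omega
      have h2 := congrFun hx ⟨(i : ℕ) + 1, hlt⟩
      rw [Matrix.mulVec, dotProduct, Finset.sum_eq_single i] at h2
      · simp only [normalForm, Matrix.of_apply, if_neg hne] at h2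
        rw [if_neg (by rintro ⟨-, h3⟩; omega), if_pos ⟨he, trivial⟩] at h2
        simpa using h2
      · intro j _ hj
        simp only [normalForm, Matrix.of_apply, if_neg hne]
        rw [if_neg, if_neg, zero_mul]
        · rintro ⟨-, h3⟩
          exact hj (Fin.ext (by omega))
        · rintro ⟨h4, -⟩
          obtain ⟨d, hd⟩ := he; obtain ⟨d', hd'⟩ := h4; omega
      · simp
    · have h1 : 1 ≤ (i : ℕ) := ho.pos
      have h2 := congrFun hx ⟨(i : ℕ) - 1, by omega⟩
      have hev : Even ((i : ℕ) - 1) := by obtain ⟨d, hd⟩ := ho; exact ⟨d, by omega⟩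
      rw [Matrix.mulVec, dotProduct, Finset.sum_eq_single i] at h2
      · simp only [normalForm, Matrix.of_apply, if_neg hne] at h2
        rw [if_pos ⟨hev, by omega⟩] at h2
        simpa using h2
      · intro j _ hj
        simp only [normalForm, Matrix.of_apply, if_neg hne]
        rw [if_neg, if_neg, zero_mul]
        · rintro ⟨h4, h3⟩
          obtain ⟨d, hd⟩ := hev; obtain ⟨d', hd'⟩ := h4; omega
        · rintro ⟨-, h3⟩
          exact hj (Fin.ext (by omega))
      · simp

theorem normalForm_transpose (ν : F) (a n : ℕ) (σ : Bool) :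
    (normalForm ν a n σ)ᵀ = (-1 : F) ^ n • normalForm ν a n σ := by
  rcases Nat.even_or_odd n with hn | hn
  · rw [normalForm_even_eq ν a hn, Matrix.diagonal_transpose, hn.neg_one_pow, one_smul]
  · funext i j
    simp only [Matrix.transpose_apply, Matrix.smul_apply, normalForm, Matrix.of_apply,
      if_neg (Nat.not_even_iff_odd.2 hn), hn.neg_one_pow, smul_eq_mul]
    split_ifs <;> first | rfl | (exfalso; simp only [Nat.even_iff] at *; omega) | ring

/-- Congruence to a normal form. -/
theorem exists_normalForm [Finite F] (h2 : (2 : F) ≠ 0) {ν : F} (hν : ¬IsSquare ν) (a n : ℕ)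
    (G : Matrix (Fin a) (Fin a) F) (hpar : Gᵀ = (-1 : F) ^ n • G) (hdet : G.det ≠ 0) :
    (Odd n → Even a) ∧ ∃ (P : Matrix (Fin a) (Fin a) F) (σ : Bool),
      (σ = true → Even n ∧ 0 < a) ∧ Pᵀ * G * P = normalForm ν a n σ := by
  classical
  set B : LinearMap.BilinForm F (Fin a → F) := Matrix.toBilin' G with hB
  have hBnd : B.Nondegenerate := LinearMap.BilinForm.nondegenerate_toBilin'_of_det_ne_zero' _ hdet
  have hfr : finrank F (Fin a → F) = a := Module.finrank_fin_fun F
  have hswap : ∀ x y, B y x = (-1 : F) ^ n * B x y := by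
    intro x y
    rw [hB, Matrix.toBilin'_apply', Matrix.toBilin'_apply', dotProduct_mulVec, ← mulVec_transpose, hpar,
      smul_mulVec, smul_dotProduct, dotProduct_comm, smul_eq_mul]
  have hmat : ∀ (c : Fin a → (Fin a → F)) (M : Matrix (Fin a) (Fin a) F),
      (∀ i j, B (c i) (c j) = M i j) → (Matrix.of fun r i => c i r)ᵀ * G * (Matrix.of fun r i => c i r) = M := by
    intro c M hc
    funext i j
    rw [← hc, hB, Matrix.toBilin'_apply', Matrix.mul_assoc, Matrix.mul_apply]
    rfl
  rcases Nat.even_or_odd n with hn | hn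
  · refine ⟨fun h => absurd hn (Nat.not_even_iff_odd.2 h), ?_⟩
    rcases Nat.eq_zero_or_pos a with rfl | ha
    · exact ⟨1, false, by simp, funext fun i => i.elim0⟩
    obtain ⟨a, rfl⟩ : ∃ a', a = a' + 1 := ⟨a - 1, by omega⟩
    have hsymm : B.IsSymm := ⟨fun x y => by rw [hswap y x, hn.neg_one_pow, one_mul]⟩
    obtain ⟨b, h1, h2', h3⟩ := CfsgLib.Forms.exists_symm_basis h2 hν a _ B hsymm hBnd hfr
    refine ⟨Matrix.of fun r i => b i r, decide (B (b (Fin.last a)) (b (Fin.last a)) = ν),
      fun _ => ⟨hn, ha⟩, hmat _ _ fun i j => ?_⟩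
    rw [normalForm_even_eq ν _ hn, Matrix.diagonal_apply]
    by_cases hij : i = j
    · subst hij
      rw [if_pos rfl]
      by_cases hi : i = Fin.last a
      · subst hi
        simp only [decide_eq_true_eq, Fin.val_last, and_true]
        split_ifs with h
        · exact h
        · exact h3.resolve_right h
      · rw [h2' i hi, if_neg]
        rintro ⟨-, h⟩
        exact hi (Fin.ext (by rw [Fin.val_last]; omega))
    · rw [if_neg hij, h1 i j hij]
  · have halt : B.IsAlt := fun x => by
      have h := hswap x x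
      rw [hn.neg_one_pow, neg_one_mul] at h
      exact (mul_eq_zero.1 (show (2 : F) * B x x = 0 by linear_combination h)).resolve_left h2
    obtain ⟨c, d, b, h1, h2', h3, h4⟩ := CfsgLib.Forms.exists_symplectic_basis _ _ B halt rfl
    have hd : d = 0 := by
      by_contra hd
      exact b.ne_zero (Sum.inr ⟨0, Nat.pos_of_ne_zero hd⟩) (hBnd.1 _ fun y => h4 _ y)
    subst hd
    have ha : a = c + c := by
      have := Module.finrank_eq_card_basis b
      rw [hfr] at this
      simpa using this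
    refine ⟨fun _ => ⟨c, ha⟩, ?_⟩
    let idx : Fin a → (Fin c ⊕ Fin c) ⊕ Fin 0 := fun i => Sum.inl
      (if (i : ℕ) % 2 = 0 then Sum.inl ⟨(i : ℕ) / 2, by omega⟩ else Sum.inr ⟨(i : ℕ) / 2, by omega⟩)
    refine ⟨Matrix.of fun r i => b (idx i) r, false, by simp, hmat _ _ fun i j => ?_⟩
    have h1' : ∀ p q : Fin c, B (b (Sum.inl (Sum.inr p))) (b (Sum.inl (Sum.inl q))) =
        if q = p then -1 else 0 := fun p q => by
      rw [← LinearMap.IsAlt.neg halt (b (Sum.inl (Sum.inl q))) (b (Sum.inl (Sum.inr p))), h1]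
      split_ifs <;> simp
    simp only [normalForm, Matrix.of_apply, if_neg (Nat.not_even_iff_odd.2 hn)]
    simp only [Nat.even_iff, idx]
    rcases Nat.mod_two_eq_zero_or_one (i : ℕ) with hi | hi <;>
      rcases Nat.mod_two_eq_zero_or_one (j : ℕ) with hj | hj
    · rw [if_pos hi, if_pos hj, h2', if_neg (by omega), if_neg (by omega)]
    · rw [if_pos hi, if_neg (show ¬(j : ℕ) % 2 = 0 by omega), h1]
      by_cases hij : (j : ℕ) = i + 1
      · rw [if_pos (Fin.ext (show (i : ℕ) / 2 = (j : ℕ) / 2 by omega)), if_pos ⟨hi, hij⟩]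
      · rw [if_neg (fun e => by rw [Fin.ext_iff] at e; simp only at e; omega), if_neg (by omega),
          if_neg (by omega)]
    · rw [if_neg (show ¬(i : ℕ) % 2 = 0 by omega), if_pos hj, h1']
      by_cases hij : (i : ℕ) = j + 1
      · rw [if_pos (Fin.ext (show (j : ℕ) / 2 = (i : ℕ) / 2 by omega)), if_neg (by omega), if_pos ⟨hj, hij⟩]
      · rw [if_neg (fun e => by rw [Fin.ext_iff] at e; simp only at e; omega), if_neg (by omega),
          if_neg (by omega)]
    · rw [if_neg (show ¬(i : ℕ) % 2 = 0 by omega), if_neg (show ¬(j : ℕ) % 2 = 0 by omega), h3,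
        if_neg (by omega), if_neg (by omega)]

end CfsgLib.Geo.NilForms
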