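import Cfsg.Agent.Geo.OSemisimple
import Cfsg.Agent.Classical.SemisimpleOrth
import Cfsg.Prelude.Def_Classical
import Mathlib

/-!
Classes of elements of odd prime order in orthogonal groups.
-/

set_option autoImplicit false
set_option linter.style.haveILetI false
set_option linter.unusedSectionVars false

namespace CfsgLib.Geo.OPrimeClasses

open Polynomial UniqueFactorizationMonoid CfsgLib.Geo.USemi CfsgLib.Geo.OSemi CfsgLib.Geo.OCounts
  CfsgLib.Geo.PrimeSD
open scoped Matrix
open CfsgLib.GLClass (rootFactors mem_rootFactors rootFactors_spec)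

variable {K : Type*} [Field K] [Fintype K] (p : ℕ) [Fact p.Prime] [CharP K p] {r : ℕ} [Fact r.Prime]
  (hrp : r.Coprime p) (hr2 : r ≠ 2)

noncomputable abbrev Dm : rootFactors K r → rootFactors K r :=
  dmap p r hrp (RingHom.id K) (k := 0) (fun a => by simp)

noncomputable abbrev ordq (K : Type*) [Fintype K] (r : ℕ) : ℕ := orderOf ((Fintype.card K : ℕ) : ZMod r)

include hrp in
theorem ordq_pos : 0 < ordq K r := orderOf_pos' p r hrp

include hr2 in
theorem two_lt : 2 < r := lt_of_le_of_ne (Fact.out : r.Prime).two_le (Ne.symm hr2)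

include hrp hr2 in
theorem crit : (∃ j : ℕ, ((Fintype.card K : ℕ) : ZMod r) ^ j = -((p ^ 0 : ℕ) : ZMod r)) ↔ ¬ Odd (ordq K r) := by
  haveI : Fact (2 < r) := ⟨two_lt hr2⟩
  have hi0 := ordq_pos (K := K) p hrp
  set x := ((Fintype.card K : ℕ) : ZMod r) with hx
  rw [pow_zero, Nat.cast_one]
  constructor
  · rintro ⟨j, hj⟩ ho
    have h1 : x ^ (j * 2) = 1 := by rw [pow_mul, hj, neg_one_sq]
    have h2 : orderOf x ∣ j := (ho.coprime_two_right).dvd_of_dvd_mul_right (orderOf_dvd_of_pow_eq_one h1)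
    rw [orderOf_dvd_iff_pow_eq_one, hj] at h2
    exact ZMod.neg_one_ne_one h2
  · intro he
    obtain ⟨h, hh⟩ := Nat.not_odd_iff_even.1 he
    refine ⟨h, (mul_self_eq_one_iff.1 (?_ : x ^ h * x ^ h = 1)).resolve_left fun e => ?_⟩
    · rw [← pow_add, ← hh]; exact pow_orderOf_eq_one _
    · have h5 : ordq K r ∣ h := orderOf_dvd_of_pow_eq_one e
      have := Nat.le_of_dvd (by omega) h5
      omega

include hrp hr2 in
theorem card_wt (N : ℕ) {t : ℕ} (ht : t * ordq K r = r - 1) :
    Nat.card (Wt (Dm (K := K) p hrp) (ordq K r) N) =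
      if Odd (ordq K r) then Nat.choose (N / (2 * ordq K r) + t / 2) (t / 2)
      else Nat.choose (N / ordq K r + t) t := by
  have hi0 := ordq_pos (K := K) p hrp
  have hcard : Fintype.card (rootFactors K r) = t := by
    rw [Fintype.card_coe, (rootFactors_spec (F := K) p hrp).2]
    exact (congrArg (· / ordq K r) ht).symm.trans (Nat.mul_div_cancel _ hi0)
  split_ifs with ho
  · rw [card_wt_free _ hi0 (dmap_dmap p r hrp _ (fun a => rfl) _) (fun P hP => ?_), hcard]
    exact (crit p hrp hr2).1 ((dual_rootFactor p r hrp (RingHom.id K) (k := 0) (fun a => by simp) P.2).2.1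
      (congrArg Subtype.val hP)) ho
  · rw [card_wt_fixed _ hi0 (fun P => Subtype.ext
      ((dual_rootFactor p r hrp (RingHom.id K) (k := 0) (fun a => by simp) P.2).2.2 ((crit p hrp hr2).2 ho))), hcard]

include hr2 in
theorem even_weight {N : ℕ} (m : Wt (Dm (K := K) p hrp) (ordq K r) N) : Even (ordq K r * ∑ P, m.1 P) := by
  classical
  by_cases ho : Odd (ordq K r)
  · refine Even.mul_left ?_ _
    have hD : ∀ P, Dm (K := K) p hrp P ≠ P := fun P hP =>
      (crit p hrp hr2).1 ((dual_rootFactor p r hrp (RingHom.id K) (k := 0) (fun a => by simp) P.2).2.1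
        (congrArg Subtype.val hP)) ho
    rw [even_iff_two_dvd, ← ZMod.natCast_eq_zero_iff, Nat.cast_sum]
    refine Finset.sum_involution (fun P _ => Dm (K := K) p hrp P) (fun P _ => ?_) (fun P _ _ => hD P)
      (fun _ _ => Finset.mem_univ _) (fun P _ => dmap_dmap p r hrp _ (fun a => rfl) _ P)
    rw [m.2.1 P]; exact CharTwo.add_self_eq_zero _
  · exact (Nat.not_odd_iff_even.1 ho).mul_right _

include hr2 in
theorem realQ_weight {N : ℕ} (m : Wt (Dm (K := K) p hrp) (ordq K r) N) :
    ∃ f : K[X], RealQ p f ∧ f.natDegree = ordq K r * ∑ P, m.1 P ∧ f.eval 1 ≠ 0 ∧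
      wpoly r (ordq K r) N m.1 = f * (X - C 1) ^ (N - ordq K r * ∑ P, m.1 P) := by
  classical
  let w : Wt (Dm (K := K) p hrp) (ordq K r) (ordq K r * ∑ P, m.1 P) := ⟨m.1, m.2.1, le_rfl⟩
  have hd := dual_wpoly p r hrp (RingHom.id K) (fun a => rfl) _ w
  obtain ⟨hm, hdeg, h0⟩ := wpoly_props p r hrp (K := K) rfl w.1 w.2.2
  have hw : wpoly r (ordq K r) (ordq K r * ∑ P, m.1 P) w.1 = ∏ P : rootFactors K r, P.1 ^ m.1 P := by
    rw [wpoly]; show (X - C 1) ^ (_ - _) * _ = _; rw [Nat.sub_self, pow_zero, one_mul]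
  refine ⟨_, realQ_of_factors p r hrp hr2 _ _ hdeg hm h0 hd fun P hPm hP hdvd => ?_, hdeg, ?_, ?_⟩
  · obtain ⟨Q', h1, h2⟩ := exists_mem_normalizedFactors_of_dvd hm.ne_zero hP hdvd
    rw [eq_of_monic_of_associated hPm (CfsgLib.GLClass.monic_of_mem_nf h1) h2]
    rw [nf_wpoly, Nat.sub_self, Multiset.replicate_zero, zero_add] at h1
    obtain ⟨P', -, hP'⟩ := Multiset.mem_sum.1 h1
    rw [Multiset.eq_of_mem_replicate hP']; exact P'.2
  · rw [hw, eval_prod]
    refine Finset.prod_ne_zero_iff.2 fun P _ => ?_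
    rw [eval_pow]
    refine pow_ne_zero _ fun h => cast_ne_zero (K := K) p r hrp ?_
    obtain ⟨c, hc⟩ := (mem_rootFactors P.2).2.2
    rw [← eval_one_cyclotomic_prime (R := K) (p := r), hc, eval_mul, h, zero_mul]
  · rw [hw, wpoly, mul_comm]

variable {ν : Type} [Fintype ν] [DecidableEq ν] (Q : QuadraticForm K (ν → K))

/-- The group as matrices with indices in `Fin N`. -/
noncomputable def toFin {N : ℕ} (e : ν ≃ Fin N) : ↥(Cfsg.isometryGroup K ⇑Q) →* GL (Fin N) K :=
  (Units.map (Matrix.reindexAlgEquiv K K e).toRingEquiv.toMonoidHom).comp (Cfsg.isometryGroup K ⇑Q).subtype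

theorem toFin_injective {N : ℕ} (e : ν ≃ Fin N) : Function.Injective (toFin Q e) := fun x y h =>
  Subtype.ext (Units.ext ((Matrix.reindexAlgEquiv K K e).injective (congrArg Units.val h)))

theorem charpoly_toFin {N : ℕ} (e : ν ≃ Fin N) (h : ↥(Cfsg.isometryGroup K ⇑Q)) :
    (toFin Q e h).val.charpoly = (h : GL ν K).val.charpoly := Matrix.charpoly_reindex e _

theorem dual_charpoly (hQ : (QuadraticMap.polarBilin Q).Nondegenerate) {N : ℕ} (e : ν ≃ Fin N)
    (h : ↥(Cfsg.isometryGroup K ⇑Q)) :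
    dual (RingHom.id K) (toFin Q e h).val.charpoly = (toFin Q e h).val.charpoly := by
  rw [charpoly_toFin, ← charpoly_star']
  set G : Matrix ν ν K := LinearMap.BilinForm.toMatrix' (QuadraticMap.polarBilin Q) with hG
  have hu : IsUnit G := by
    refine (Matrix.isUnit_iff_isUnit_det G).2 (isUnit_iff_ne_zero.2 ?_)
    exact (LinearMap.BilinForm.nondegenerate_toBilin'_iff_det_ne_zero).1
      (by rwa [hG, Matrix.toBilin'_toMatrix'])
  have hinv : (h : GL ν K).valᵀ * G * (h : GL ν K).val = G := by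
    apply Matrix.toBilin'.injective
    rw [← Matrix.toBilin'_comp, hG, Matrix.toBilin'_toMatrix']
    refine LinearMap.ext₂ fun u v => ?_
    show QuadraticMap.polar Q (Matrix.toLin' (h : GL ν K).val u) (Matrix.toLin' (h : GL ν K).val v) =
      QuadraticMap.polar Q u v
    have hm : ∀ w, Q ((h : GL ν K).val.mulVec w) = Q w := fun w => h.2 w 0
    simp only [Matrix.toLin'_apply, QuadraticMap.polar, ← Matrix.mulVec_add, hm]
  obtain ⟨G, hG'⟩ := hu
  rw [← hG'] at hinv
  have e' : (star' (RingHom.id K) (h : GL ν K)).val = G.val * (h : GL ν K).val * (G⁻¹).val := by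
    show ((h : GL ν K)⁻¹).valᵀ = _
    have h2 : ((h : GL ν K)⁻¹).valᵀ * (h : GL ν K).valᵀ = 1 := by
      rw [← Matrix.transpose_mul, Units.mul_inv, Matrix.transpose_one]
    calc ((h : GL ν K)⁻¹).valᵀ = ((h : GL ν K)⁻¹).valᵀ * (G.val * (G⁻¹).val) := by rw [Units.mul_inv, mul_one]
      _ = _ := by
        conv_lhs => rw [← mul_assoc, ← hinv]
        simp only [← mul_assoc, h2, one_mul]
  rw [e', Matrix.coe_units_inv, Matrix.charpoly_units_conj]

theorem conj_of_isConj (hQ : (QuadraticMap.polarBilin Q).Nondegenerate) (hrp' : r.Coprime p) (hr : r ≠ 2) {N : ℕ}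
    (e : ν ≃ Fin N) {x y : ↥(Cfsg.isometryGroup K ⇑Q)} (hx : x ^ r = 1) (h : IsConj (toFin Q e x) (toFin Q e y)) :
    IsConj x y := by
  obtain ⟨k, hk⟩ := isConj_iff.1 h
  let R := Matrix.reindexAlgEquiv K K e
  let c : GL ν K := Units.map R.symm.toRingEquiv.toMonoidHom k
  have hc : c.val * (x : GL ν K).val = (y : GL ν K).val * c.val := by
    apply R.injective
    rw [map_mul, map_mul, show R c.val = k.val from R.apply_symm_apply _]
    have h' : k * toFin Q e x = toFin Q e y * k := by rw [← hk, inv_mul_cancel_right]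
    exact congrArg Units.val h'
  have hAN : (x : GL ν K).val ^ r = 1 := by
    rw [← Units.val_pow_eq_pow_val, ← SubmonoidClass.coe_pow, hx]; rfl
  obtain ⟨g, hg, hgA⟩ := CfsgLib.SemiConj.exists_orth_conj Q hQ (cast_ne_zero (K := K) p r hrp')
    ((Fact.out : r.Prime).odd_of_ne_two hr) hAN (fun v => x.2 v 0) (fun v => y.2 v 0) (Units.isUnit c) hc
  let Y : GL ν K :=
    Matrix.GeneralLinearGroup.toLin.symm ((LinearMap.GeneralLinearGroup.generalLinearEquiv K _).symm g)
  have hY : ∀ u, Y.val.mulVec u = g u := fun u => by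
    change (LinearMap.toMatrix' g.toLinearMap).mulVec u = g u
    rw [LinearMap.toMatrix'_mulVec]; rfl
  refine ⟨toUnits ⟨Y, fun u _ => by show Q (Y.val.mulVec u) = Q u; rw [hY, hg]⟩, Subtype.ext (Units.ext ?_)⟩
  refine Matrix.toLin'.injective (LinearMap.ext fun v => ?_)
  show (Y.val * (x : GL ν K).val).mulVec v = ((y : GL ν K).val * Y.val).mulVec v
  rw [← Matrix.mulVec_mulVec, ← Matrix.mulVec_mulVec, hY, hY, hgA]
  rfl

include p hrp hr2 in
set_option maxHeartbeats 1000000 in
/-- Odd dimension. -/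
theorem card_odd (h2 : (2 : K) ≠ 0) (m : ℕ) {t : ℕ} (ht : t * ordq K r = r - 1) :
    Nat.card {C : ConjClasses ↥(Cfsg.isometryGroup K ⇑(CfsgLib.Quad.oddQ (F := K) m)) //
        ∃ g, ConjClasses.mk g = C ∧ orderOf g = r} =
      if Odd (ordq K r) then Nat.choose (m / ordq K r + t / 2) (t / 2) - 1
      else Nat.choose ((2 * m + 1) / ordq K r + t) t - 1 := by
  classical
  have hQ := CfsgLib.Quad.oddQ_nondeg (F := K) h2 m
  let e : Unit ⊕ (Fin m ⊕ Fin m) ≃ Fin (2 * m + 1) := Fintype.equivFinOfCardEq (by simp; ring)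
  have hgood : ∀ w : Wt (Dm (K := K) p hrp) (ordq K r) (2 * m + 1), True ↔
      ∃ h : ↥(Cfsg.isometryGroup K ⇑(CfsgLib.Quad.oddQ (F := K) m)), (orderOf (toFin _ e h)).Coprime p ∧
        (toFin _ e h).val.charpoly = wpoly r (ordq K r) (2 * m + 1) w.1 := by
    intro w
    refine ⟨fun _ => ?_, fun _ => trivial⟩
    obtain ⟨f, ⟨n, g, M, hgo, hgc, hgq⟩, hfd, -, hfw⟩ := realQ_weight p hrp hr2 w
    have hn : n = ordq K r * ∑ P, w.1 P := by
      rw [← hfd, ← hgc, Matrix.charpoly_natDegree_eq_dim, Fintype.card_fin]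
    set u := 2 * m + 1 - ordq K r * ∑ P, w.1 P with hu
    have hle := w.2.2
    have hone : IsQuad (1 : GL (Fin u) K) (1 : Matrix (Fin u) (Fin u) K) := by
      refine ⟨by simp, ?_⟩
      rw [Matrix.transpose_one, ← two_smul K (1 : Matrix (Fin u) (Fin u) K)]
      exact IsUnit.of_mul_eq_one ((2 : K)⁻¹ • 1) (by rw [smul_mul_smul_comm, mul_inv_cancel₀ h2, one_mul, one_smul])
    have hq := hgq.mul hone
    obtain ⟨φ, c, hc, hφ⟩ := CfsgLib.AutPOm.similar_odd (qf_nondeg hq.2) (m := m)
      (by rw [Fintype.card_fin]; omega)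
    obtain ⟨h, hh, hho, hhc⟩ := transfer hq (⇑(CfsgLib.Quad.oddQ (F := K) m)) φ hc hφ
    refine ⟨⟨h, fun v _ => hh v⟩, ?_, ?_⟩
    · rw [orderOf_injective _ (toFin_injective _ e), ← Subgroup.orderOf_coe]
      exact (coprime_emb p hgo (by rw [orderOf_one]; exact Nat.coprime_one_left p)).coprime_dvd_left hho
    · rw [charpoly_toFin, hhc, charpoly_emb, hgc, hfw, Units.val_one, Matrix.charpoly_one, Fintype.card_fin, C_1]
  have h := card_classes_good p r hrp (RingHom.id K) (fun a => rfl) (k := 0) (fun a => by simp)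
    (toFin _ e) (toFin_injective _ e) (dual_charpoly _ hQ e)
    (fun x y _ hx hc => conj_of_isConj p _ hQ hrp hr2 e hx hc) rfl (fun _ => True) hgood
  rw [Nat.card_congr (Equiv.subtypeUnivEquiv fun _ => trivial), card_wt p hrp hr2 _ ht,
    ← Nat.div_div_eq_div_mul, show (2 * m + 1) / 2 = m by omega] at h
  split_ifs at h ⊢ <;> omega

include p hrp hr2 in
set_option maxHeartbeats 1000000 in
/-- Even dimension. -/
theorem card_even (hQ : (QuadraticMap.polarBilin Q).Nondegenerate) {m : ℕ} (hm : 1 ≤ m)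
    (hν : Fintype.card ν = 2 * m) {ε : ℤ} (hε : ε = 1 ∨ ε = -1) (hE : EType (⇑Q) m ε) {t : ℕ}
    (ht : t * ordq K r = r - 1) :
    Nat.card {C : ConjClasses ↥(Cfsg.isometryGroup K ⇑Q) // ∃ g, ConjClasses.mk g = C ∧ orderOf g = r} =
      if Odd (ordq K r) then Nat.choose (m / ordq K r + t / 2) (t / 2) - 1 -
        (if ordq K r ∣ m ∧ ε = -1 then Nat.choose (m / ordq K r + t / 2 - 1) (t / 2 - 1) else 0)
      else Nat.choose (2 * m / ordq K r + t) t - 1 -
        (if ordq K r ∣ 2 * m ∧ ε ≠ (-1) ^ (2 * m / ordq K r) then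
          Nat.choose (2 * m / ordq K r + t - 1) (t - 1) else 0) := by
  classical
  haveI : Fact (2 < r) := ⟨two_lt hr2⟩
  have hi0 := ordq_pos (K := K) p hrp
  set x : ZMod r := ((Fintype.card K : ℕ) : ZMod r) with hxdef
  set i := ordq K r with hidef
  let e : ν ≃ Fin (2 * m) := Fintype.equivFinOfCardEq hν
  have hx2 : ∀ n, i ∣ n → x ^ n = 1 := fun n hn => orderOf_dvd_iff_pow_eq_one.1 hn
  let Good : Wt (Dm (K := K) p hrp) i (2 * m) → Prop := fun w =>
    i * ∑ P, w.1 P = 2 * m → x ^ m = ((ε : ℤ) : ZMod r)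
  have hεsq : ((ε : ℤ) : ZMod r) * (ε : ZMod r) = 1 := by rcases hε with rfl | rfl <;> simp
  have hgood : ∀ w, Good w ↔ ∃ h : ↥(Cfsg.isometryGroup K ⇑Q), (orderOf (toFin Q e h)).Coprime p ∧
      (toFin Q e h).val.charpoly = wpoly r i (2 * m) w.1 := by
    intro w
    obtain ⟨f, ⟨n, g, M, hgo, hgc, hgq⟩, hfd, hf1, hfw⟩ := realQ_weight p hrp hr2 w
    have hn : n = i * ∑ P, w.1 P := by
      rw [← hfd, ← hgc, Matrix.charpoly_natDegree_eq_dim, Fintype.card_fin]
    obtain ⟨k, hk⟩ := even_iff_two_dvd.1 (even_weight p hrp hr2 w)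
    simp only [← hidef] at hfd hfw hk
    obtain ⟨hwm, hwd, hw0⟩ := wpoly_props p r hrp (K := K) (N := 2 * m) rfl w.1 w.2.2
    have hforced : ∀ {V : Type _} [AddCommGroup V] [Module K V] [Finite V] {Q' : QuadraticForm K V} {k' : ℕ}
        {ε' : ℤ}, EType (⇑Q') k' ε' → i ∣ 2 * k' → ∀ g' : V ≃ₗ[K] V, (∀ v, Q' (g' v) = Q' v) →
        (∀ v, (g'^[r]) v = v) → (∀ v, g' v = v → v = 0) → (ε' : ZMod r) * x ^ k' = 1 := by
      intro V _ _ _ Q' k' ε' hE' hdvd g' h1 h2 h3
      have := etype_forced hE' g' h1 h2 h3 (by rw [Nat.card_eq_fintype_card]; exact hx2 _ hdvd)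
      rwa [Nat.card_eq_fintype_card] at this
    have hfix : ∀ {ι' : Type} [Fintype ι'] [DecidableEq ι'] (A : GL ι' K), A.val.charpoly.eval 1 ≠ 0 →
        ∀ v : ι' → K, A.val.mulVec v = v → v = 0 := by
      intro ι' _ _ A hA v hv
      by_contra hv0
      refine hA ?_
      rw [Matrix.eval_charpoly, map_one]
      refine Matrix.exists_mulVec_eq_zero_iff.1 ⟨v, hv0, ?_⟩
      rw [Matrix.sub_mulVec, Matrix.one_mulVec, hv, sub_self]
    let lin : ∀ {ι' : Type} [Fintype ι'] [DecidableEq ι'], GL ι' K → ((ι' → K) ≃ₗ[K] (ι' → K)) := fun A =>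
      LinearMap.GeneralLinearGroup.generalLinearEquiv K _ (Matrix.GeneralLinearGroup.toLin A)
    have hiter : ∀ {ι' : Type} [Fintype ι'] [DecidableEq ι'] (A : GL ι' K), A ^ r = 1 →
        ∀ v, ((lin A)^[r]) v = v := by
      intro ι' _ _ A hA v
      have key : ∀ s v, ((lin A)^[s]) v = (A ^ s).val.mulVec v := by
        intro s
        induction s with
        | zero => intro v; simp
        | succ s ih =>
          intro v
          rw [Function.iterate_succ_apply', ih, pow_succ', Units.val_mul, ← Matrix.mulVec_mulVec]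
          rfl
      rw [key, hA, Units.val_one, Matrix.one_mulVec]
    constructor
    · intro hG
      have hgr : g ^ r = 1 := (CfsgLib.GLClass.pow_eq_one_iff_charpoly p hrp g).2 ⟨hgo, fun P hPm hP hdvd =>
        (dvd_X_pow_sub_one r P hPm hP).2 (by
          obtain ⟨Q', h1, h2⟩ := exists_mem_normalizedFactors_of_dvd hwm.ne_zero hP
            (by rw [hfw, ← hgc]; exact dvd_mul_of_dvd_left hdvd _)
          rw [eq_of_monic_of_associated hPm (CfsgLib.GLClass.monic_of_mem_nf h1) h2]
          rw [nf_wpoly] at h1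
          rcases Multiset.mem_add.1 h1 with h | h
          · exact Or.inl (Multiset.eq_of_mem_replicate h)
          · obtain ⟨P', -, hP'⟩ := Multiset.mem_sum.1 h
            exact Or.inr (Multiset.eq_of_mem_replicate hP' ▸ P'.2))⟩
      obtain ⟨εW, hεW, hEW⟩ := exists_etype (qf_nondeg hgq.2) (k := k)
        (by rw [Module.finrank_fin_fun, hn, hk])
      have hWk := hforced hEW (hk ▸ dvd_mul_right i _) (lin g) (fun v => hgq.map_qf v) (hiter g hgr)
        (hfix g (by rw [hgc]; exact hf1))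
      have hRE : RealE p f k εW := ⟨n, g, M, by rw [hn, hk], hgo, hgc, hgq, hEW⟩
      have hle := w.2.2
      have hkm : k ≤ m := by omega
      have hpad : RealE p (f * (X - C 1) ^ (2 * (m - k))) (k + (m - k)) ε := by
        refine realE_padded p hRE _ _ ?_
        by_cases hkm' : k = m
        · left
          have hxm := hG (by omega)
          have h1 : ((εW : ℤ) : ZMod r) = ((ε : ℤ) : ZMod r) := by
            rw [hkm', hxm] at hWk
            calc ((εW : ℤ) : ZMod r) = (εW : ZMod r) * ((ε : ZMod r) * (ε : ZMod r)) := by rw [hεsq, mul_one]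
              _ = _ := by rw [← mul_assoc, hWk, one_mul]
          rcases hε with rfl | rfl <;> rcases hεW with rfl | rfl <;>
            first
            | rfl
            | (exfalso; simp only [Int.cast_one, Int.cast_neg] at h1; exact ZMod.neg_one_ne_one (by first | exact h1 | exact h1.symm))
        · rcases hε with rfl | rfl <;> rcases hεW with rfl | rfl <;>
            first
            | exact Or.inl rfl
            | exact Or.inr ⟨by omega, by norm_num⟩
      obtain ⟨n', g', M', hn', hgo', hgc', hgq', hE'⟩ := hpad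
      rw [show k + (m - k) = m by omega] at hn' hE'
      obtain ⟨φ, hφ⟩ := exists_equiv hQ (qf_nondeg hgq'.2)
        (by rw [Module.finrank_fintype_fun_eq_card, hν]) (by rw [Module.finrank_fin_fun, hn']) hE hE'
      obtain ⟨h, hh, hho, hhc⟩ := transfer hgq' (⇑Q) φ one_ne_zero (fun v => by rw [hφ, one_mul])
      refine ⟨⟨h, fun v _ => hh v⟩, ?_, ?_⟩
      · rw [orderOf_injective _ (toFin_injective _ e), ← Subgroup.orderOf_coe]
        exact hgo'.coprime_dvd_left hho
      · rw [charpoly_toFin, hhc, hgc', hfw, show 2 * (m - k) = 2 * m - i * ∑ P, w.1 P by omega]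
    · rintro ⟨h, hho, hhc⟩ hfull
      rw [charpoly_toFin] at hhc
      have hhr : h ^ r = 1 := by
        refine toFin_injective Q e ?_
        rw [map_pow, map_one, CfsgLib.GLClass.pow_eq_one_iff_charpoly p hrp]
        refine ⟨hho, fun P hPm hP hdvd => (dvd_X_pow_sub_one r P hPm hP).2 ?_⟩
        rw [charpoly_toFin, hhc] at hdvd
        obtain ⟨Q', h1, h2⟩ := exists_mem_normalizedFactors_of_dvd hwm.ne_zero hP hdvd
        rw [eq_of_monic_of_associated hPm (CfsgLib.GLClass.monic_of_mem_nf h1) h2]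
        rw [nf_wpoly] at h1
        rcases Multiset.mem_add.1 h1 with h' | h'
        · exact Or.inl (Multiset.eq_of_mem_replicate h')
        · obtain ⟨P', -, hP'⟩ := Multiset.mem_sum.1 h'
          exact Or.inr (Multiset.eq_of_mem_replicate hP' ▸ P'.2)
      have hh' : (h : GL ν K) ^ r = 1 := by rw [← SubmonoidClass.coe_pow, hhr]; rfl
      have := hforced hE (hfull ▸ dvd_mul_right i _) (lin (h : GL ν K)) (fun v => h.2 v 0) (hiter _ hh')
        (hfix _ (by rw [hhc, hfw, hfull, Nat.sub_self, pow_zero, mul_one]; exact hf1))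
      calc x ^ m = ((ε : ℤ) : ZMod r) * ((ε : ZMod r) * x ^ m) := by rw [← mul_assoc, hεsq, one_mul]
        _ = _ := by rw [this, mul_one]
  have h := card_classes_good p r hrp (RingHom.id K) (fun a => rfl) (k := 0) (fun a => by simp)
    (toFin Q e) (toFin_injective _ e) (dual_charpoly Q hQ e)
    (fun x y _ hx hc => conj_of_isConj p Q hQ hrp hr2 e hx hc) rfl Good hgood
  -- the weights that occur
  have hcount : Nat.card {w // Good w} = Nat.card (Wt (Dm (K := K) p hrp) i
      (if x ^ m = ((ε : ℤ) : ZMod r) then 2 * m else 2 * m - 1)) := by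
    split_ifs with hc
    · exact Nat.card_congr (Equiv.subtypeUnivEquiv fun w _ => hc)
    · refine Nat.card_congr
        { toFun := fun w => ⟨w.1.1, w.1.2.1, by
            have h1 := w.1.2.2
            have h2 : i * ∑ P, w.1.1 P ≠ 2 * m := fun h' => hc (w.2 h')
            omega⟩
          invFun := fun w => ⟨⟨w.1, w.2.1, by have := w.2.2; omega⟩, fun h' => by
            have := w.2.2
            have h'' : i * ∑ P, w.1 P = 2 * m := h'
            omega⟩
          left_inv := fun w => rfl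
          right_inv := fun w => rfl }
  have h' : Nat.card {C : ConjClasses ↥(Cfsg.isometryGroup K ⇑Q) // ∃ g, ConjClasses.mk g = C ∧ orderOf g = r} + 1 =
      Nat.card (Wt (Dm (K := K) p hrp) i (if x ^ m = ((ε : ℤ) : ZMod r) then 2 * m else 2 * m - 1)) :=
    h.trans hcount
  rw [card_wt p hrp hr2 _ ht] at h'
  simp only [← hidef] at h'
  have ht1 : 1 ≤ t := Nat.pos_of_ne_zero fun h0 => by
    rw [h0, zero_mul] at ht; have := two_lt hr2; omega
  -- Pascal
  have pascal : ∀ M a d : ℕ, 1 ≤ a → 1 ≤ d → d ∣ M → 1 ≤ M →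
      Nat.choose ((M - 1) / d + a) a + Nat.choose (M / d + a - 1) (a - 1) = Nat.choose (M / d + a) a := by
    intro M a d ha hd ⟨c, hc⟩ hM
    subst hc
    have hc1 : 1 ≤ c := Nat.pos_of_ne_zero fun h0 => by rw [h0, mul_zero] at hM; omega
    obtain ⟨c, rfl⟩ : ∃ c', c = c' + 1 := ⟨c - 1, by omega⟩
    obtain ⟨a, rfl⟩ : ∃ a', a = a' + 1 := ⟨a - 1, by omega⟩
    rw [Nat.mul_div_cancel_left _ hd,
      show d * (c + 1) - 1 = (d - 1) + d * c by rw [mul_add, mul_one]; omega,
      Nat.add_mul_div_left _ _ hd, Nat.div_eq_of_lt (by omega), zero_add,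
      show c + 1 + (a + 1) - 1 = c + (a + 1) by omega, show a + 1 - 1 = a by omega,
      show c + 1 + (a + 1) = (c + (a + 1)) + 1 by omega, Nat.choose_succ_succ' (c + (a + 1)) a]
    ring
  have hdiv : ∀ M d : ℕ, 1 ≤ d → ¬ d ∣ M → (M - 1) / d = M / d := fun M d hd hM => by
    have h1 := Nat.div_add_mod M d
    have h2 : 0 < M % d := Nat.pos_of_ne_zero fun h0 => hM (Nat.dvd_of_mod_eq_zero h0)
    have h3 := Nat.mod_lt M (show d > 0 by omega)
    conv_lhs => rw [show M - 1 = (M % d - 1) + d * (M / d) by omega]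
    rw [Nat.add_mul_div_left _ _ (by omega), Nat.div_eq_of_lt (by omega), zero_add]
  by_cases ho : Odd i
  · rw [if_pos ho] at h' ⊢
    have hxm : i ∣ m → x ^ m = 1 := hx2 m
    have hN : ∀ N, N / (2 * i) = N / 2 / i := fun N => (Nat.div_div_eq_div_mul N 2 i).symm
    have ht2 : 1 ≤ t / 2 := by
      have hev : Even (t * i) := by
        rw [ht]; exact Nat.Odd.sub_odd ((Fact.out : r.Prime).odd_of_ne_two hr2) odd_one
      obtain ⟨c, hc⟩ := (Nat.even_mul.1 hev).resolve_right (Nat.not_even_iff_odd.2 ho)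
      omega
    rw [hN] at h'
    by_cases hd : i ∣ m ∧ ε = -1
    · rw [if_pos hd]
      have hne : ¬ x ^ m = ((ε : ℤ) : ZMod r) := by
        rw [hxm hd.1, hd.2, Int.cast_neg, Int.cast_one]; exact fun h0 => ZMod.neg_one_ne_one h0.symm
      rw [if_neg hne, show (2 * m - 1) / 2 = m - 1 by omega] at h'
      have := pascal m (t / 2) i ht2 hi0 hd.1 hm
      omega
    · rw [if_neg hd]
      by_cases hne : x ^ m = ((ε : ℤ) : ZMod r)
      · rw [if_pos hne, show 2 * m / 2 = m by omega] at h'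
        omega
      · rw [if_neg hne, show (2 * m - 1) / 2 = m - 1 by omega] at h'
        have hnd : ¬ i ∣ m := fun hd' => by
          rcases hε with rfl | rfl
          · exact hne (by rw [hxm hd', Int.cast_one])
          · exact hd ⟨hd', rfl⟩
        rw [hdiv m i hi0 hnd] at h'
        omega
  · rw [if_neg ho] at h' ⊢
    obtain ⟨h2i, hh⟩ := Nat.not_odd_iff_even.1 ho
    have hxh : x ^ h2i = -1 := by
      have h1 : x ^ h2i * x ^ h2i = 1 := by rw [← pow_add, ← hh]; exact pow_orderOf_eq_one _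
      refine (mul_self_eq_one_iff.1 h1).resolve_left fun e' => ?_
      have h5 : i ∣ h2i := orderOf_dvd_of_pow_eq_one e'
      have := Nat.le_of_dvd (by omega) h5
      omega
    have hxm : i ∣ 2 * m → x ^ m = (-1) ^ (2 * m / i) := fun ⟨c, hc⟩ => by
      rw [hc, Nat.mul_div_cancel_left _ hi0]
      have : m = h2i * c := by rw [hh] at hc; nlinarith
      rw [this, pow_mul, hxh]
    by_cases hd : i ∣ 2 * m ∧ ε ≠ (-1) ^ (2 * m / i)
    · rw [if_pos hd]
      have hne : ¬ x ^ m = ((ε : ℤ) : ZMod r) := fun h0 => by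
        rw [hxm hd.1] at h0
        refine hd.2 ?_
        rcases Nat.even_or_odd (2 * m / i) with he | he <;> rcases hε with rfl | rfl <;>
          simp only [he.neg_one_pow, Int.cast_one, Int.cast_neg] at h0 ⊢
        · exact absurd h0.symm ZMod.neg_one_ne_one
        · exact absurd h0 ZMod.neg_one_ne_one
      rw [if_neg hne] at h'
      have := pascal (2 * m) t i ht1 hi0 hd.1 (by omega)
      omega
    · rw [if_neg hd]
      by_cases hne : x ^ m = ((ε : ℤ) : ZMod r)
      · rw [if_pos hne] at h'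
        omega
      · rw [if_neg hne] at h'
        have hnd : ¬ i ∣ 2 * m := fun hd' => hne (by
          have : ε = (-1) ^ (2 * m / i) := not_not.1 fun h0 => hd ⟨hd', h0⟩
          rw [hxm hd', this]; push_cast; rfl)
        rw [hdiv _ i hi0 hnd] at h'
        omega

end CfsgLib.Geo.OPrimeClasses
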