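import Cfsg.Agent.Geo.OrthFrameNonMax

/-!
Decomposition stabilisers in `Ω` over fields of two and four elements which are not maximal.
-/

set_option autoImplicit false
set_option linter.unusedSectionVars false
set_option linter.style.haveILetI false

namespace CfsgLib.Geo.OS

open QuadraticMap CfsgLib.Forms CfsgLib.Quad

variable {F : Type*} [Field F] [Finite F] {ι : Type} [Fintype ι] [DecidableEq ι]
  {Q : QuadraticForm F (ι → F)} (hQ : (polarBilin Q).Nondegenerate)
  (hn : 9 ≤ Module.finrank F (ι → F))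

include hQ hn

/-- A root element in `Ω` moving `u` with prescribed inner product at `u'`. -/
theorem exists_move_out {W : Submodule F (ι → F)} (hW : Module.finrank F W ≤ 3)
    {u e u' : ι → F} (hu : u ∈ W) (he : e ∈ W) (hQe : Q e = 0) (hue : polar Q u e ≠ 0)
    (hu' : u' ∉ W) (μ : F) :
    ∃ a, Q a = 0 ∧ (∀ w ∈ W, polar Q w a = 0) ∧ polar Q u' a = μ ∧
      ∃ h ∈ commutator (oGroup Q), h.1 u = u + a := by
  set K := perpS Q W
  have hK := finrank_perpS hQ W
  obtain ⟨z, hz, hQz, hzW⟩ := exists_singular_outside hQ K W (by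
    change Module.finrank F W + 3 ≤ Module.finrank F (perpS Q W); omega)
  obtain ⟨y, hy, hzy⟩ : ∃ y ∈ K, polar Q z y ≠ 0 := by
    by_contra hc
    push Not at hc
    refine hzW ?_
    rw [← perpS_perpS hQ W]
    exact fun h hh => by rw [polar_comm]; exact hc h hh
  have hgen := span_singular_eq hQ hz hy hQz hzy
  obtain ⟨a0, ha0, hQa0, hpa⟩ : ∃ a0 ∈ K, Q a0 = 0 ∧ polar Q u' a0 ≠ 0 := by
    by_contra hc
    push Not at hc
    refine hu' ?_
    rw [← perpS_perpS hQ W]
    intro h hh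
    change h ∈ K at hh
    rw [← hgen] at hh
    rw [polar_comm]
    induction hh using Submodule.span_induction with
    | mem x hx => exact hc x hx.1 hx.2
    | zero => exact polar_zero_right _ _
    | add p q _ _ hp hq => rw [polar_add_right, hp, hq, add_zero]
    | smul s p _ hp => rw [polar_smul_right, hp, smul_zero]
  set a := (μ / polar Q u' a0) • a0
  have haW : ∀ w ∈ W, polar Q w a = 0 := fun w hw => by
    rw [polar_smul_right, ha0 w hw, smul_zero]
  have hQa : Q a = 0 := by rw [quad_smul, hQa0, mul_zero]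
  refine ⟨a, hQa, haW, by rw [polar_smul_right, smul_eq_mul, div_mul_cancel₀ _ hpa], ?_⟩
  have hea : polar Q e ((polar Q u e)⁻¹ • a) = 0 := by rw [polar_smul_right, haW e he, smul_zero]
  refine ⟨siegel Q e ((polar Q u e)⁻¹ • a), siegel_mem_commutator hQ (by omega) hQe hea, ?_⟩
  rw [siegel_apply hQe hea, polar_smul_right, haW u hu, quad_smul, hQa, mul_zero, smul_zero,
    zero_mul, add_zero, zero_smul, sub_zero, smul_smul, mul_inv_cancel₀ hue, one_smul]

/-- Planes over the fields with two or four elements. -/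
theorem planes_nonmax (h2 : (2 : F) = 0) {t : ℕ} (ht : 4 ≤ t) {D : Fin t → Submodule F (ι → F)}
    (hM : Mem Q D) (hnd : ∀ i, ND Q (D i)) (hd : ∀ i, Module.finrank F (D i) = 2)
    (hpl : ∀ i, ∃ u ∈ D i, ∃ e ∈ D i, e ≠ 0 ∧ Q e = 0 ∧ Q u = 1 ∧ polar Q u e ≠ 0)
    (P : F → Prop) (hP0 : P 0) (hPadd : ∀ a b, P a → P b → P (a + b))
    (hP1 : ∀ a, P a → a = 0 ∨ a = 1) (hμ : ∃ μ, ¬ P μ)
    (hvals : ∀ i, ∀ x ∈ D i, ∀ y ∈ D i, Q x = 1 → Q y = 1 → P (polar Q x y)) :
    ∃ K : Subgroup (GL ι F), Cfsg.Geo.decompositionStabilizer D ⊓ Cfsg.Geo.omegaGL ⇑Q < K ∧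
      K < Cfsg.Geo.omegaGL ⇑Q := by
  classical
  set S : Set (ι → F) := {v | (∃ i, v ∈ D i) ∧ Q v = 1}
  set R := AddSubgroup.closure S
  have hPS : ∀ x ∈ S, ∀ y ∈ S, P (polar Q x y) := by
    rintro x ⟨⟨i, hi⟩, hx⟩ y ⟨⟨j, hj⟩, hy⟩
    rcases eq_or_ne i j with rfl | hij
    · exact hvals i x hi y hj hx hy
    · rw [hM.orth i j hij x hi y hj]; exact hP0
  haveI : CharP F 2 := CharTwo.of_one_ne_zero_of_two_eq_zero one_ne_zero h2
  have hPR : ∀ x ∈ R, ∀ y ∈ R, P (polar Q x y) := by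
    intro x hx
    induction hx using AddSubgroup.closure_induction with
    | mem x hx =>
      intro y hy
      induction hy using AddSubgroup.closure_induction with
      | mem y hy => exact hPS x hx y hy
      | zero => rw [polar_zero_right]; exact hP0
      | add a b _ _ ha hb => rw [polar_add_right]; exact hPadd _ _ ha hb
      | neg a _ ha => rw [polar_neg_right, CharTwo.neg_eq]; exact ha
    | zero => intro y _; rw [polar_zero_left]; exact hP0
    | add a b _ _ ha hb => intro y hy; rw [polar_add_left]; exact hPadd _ _ (ha y hy) (hb y hy)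
    | neg a _ ha => intro y hy; rw [polar_neg_left, CharTwo.neg_eq]; exact ha y hy
  choose u hu e he he0 hQe hQu hue using hpl
  have hjd : ∀ {a b : ℕ} (ha : a < t) (hb : b < t), a ≠ b → (⟨a, ha⟩ : Fin t) ≠ ⟨b, hb⟩ :=
    fun {a b} _ _ h h' => h (Fin.mk.inj_iff.1 h')
  set i0 : Fin t := ⟨0, by omega⟩
  set i1 : Fin t := ⟨1, by omega⟩
  set i2 : Fin t := ⟨2, by omega⟩
  set i3 : Fin t := ⟨3, by omega⟩
  have hS : ∀ i, u i ∈ R := fun i => AddSubgroup.subset_closure ⟨⟨i, hu i⟩, hQu i⟩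
  set e' := u i0 + u i1
  set a := u i2 + u i3
  have hQ2 : ∀ i j, i ≠ j → Q (u i + u j) = 0 := fun i j hij => by
    rw [quad_add, hQu, hQu, hM.orth i j hij _ (hu i) _ (hu j), add_zero]
    exact CharTwo.add_self_eq_zero 1
  have hQe' : Q e' = 0 := hQ2 i0 i1 (hjd _ _ (by omega))
  have hQa : Q a = 0 := hQ2 i2 i3 (hjd _ _ (by omega))
  have hea : polar Q e' a = 0 := by
    simp only [e', a, polar_add_left, polar_add_right,
      hM.orth i0 i2 (hjd _ _ (by omega)) _ (hu i0) _ (hu i2),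
      hM.orth i0 i3 (hjd _ _ (by omega)) _ (hu i0) _ (hu i3),
      hM.orth i1 i2 (hjd _ _ (by omega)) _ (hu i1) _ (hu i2),
      hM.orth i1 i3 (hjd _ _ (by omega)) _ (hu i1) _ (hu i3), add_zero]
  have hg : siegel Q e' a ∈ setStab Q (R : Set (ι → F)) := by
    refine mem_setStab_of_maps fun x hx => ?_
    rw [siegel_apply hQe' hea, hQa, zero_mul, add_zero]
    refine R.sub_mem (R.add_mem hx ?_) ?_
    · rcases hP1 _ (hPR x hx e' (R.add_mem (hS i0) (hS i1))) with h | h <;> rw [h]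
      · rw [zero_smul]; exact R.zero_mem
      · rw [one_smul]; exact R.add_mem (hS i2) (hS i3)
    · rcases hP1 _ (hPR x hx a (R.add_mem (hS i2) (hS i3))) with h | h <;> rw [h]
      · rw [zero_smul]; exact R.zero_mem
      · rw [one_smul]; exact R.add_mem (hS i0) (hS i1)
  have hgS : toGL Q (siegel Q e' a) ∉ Cfsg.Geo.decompositionStabilizer D := by
    intro h
    obtain ⟨σ, hσ⟩ := decomp_maps h
    have hu0 : u i0 ≠ 0 := fun h0 => one_ne_zero (α := F) (by
      rw [← hQu i0, h0, QuadraticMap.map_zero])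
    have hperp : ∀ x ∈ D i0, polar Q x a = 0 := fun x hx => by
      rw [polar_add_right, hM.orth i0 i2 (hjd _ _ (by omega)) x hx _ (hu i2),
        hM.orth i0 i3 (hjd _ _ (by omega)) x hx _ (hu i3), add_zero]
    have hfix : (siegel Q e' a).1 (u i0) = u i0 := by
      refine siegel_fix hQe' hea ?_ (hperp _ (hu i0))
      rw [polar_add_right, polar_self, two_nsmul, CharTwo.add_self_eq_zero, zero_add]
      exact hM.orth i0 i1 (hjd _ _ (by omega)) _ (hu i0) _ (hu i1)
    have hσ0 : σ i0 = i0 := by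
      by_contra hne
      exact hu0 ((Submodule.mem_bot F).1 (hM.disj _ _ hne ▸ ⟨hfix ▸ hσ i0 _ (hu i0), hu i0⟩))
    have h1 := hσ i0 _ (he i0)
    rw [hσ0, siegel_apply hQe' hea, hQa, zero_mul, add_zero, hperp _ (he i0), zero_smul, sub_zero,
      polar_add_right, hM.orth i0 i1 (hjd _ _ (by omega)) _ (he i0) _ (hu i1), add_zero] at h1
    have h3 : a ∈ D i0 := by
      have h4 := (D i0).sub_mem h1 (he i0)
      rw [add_sub_cancel_left] at h4
      exact (Submodule.smul_mem_iff _ (by rw [polar_comm]; exact hue i0)).1 h4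
    have h5 : a = 0 := ND.eq_zero (hnd i0) h3 fun x hx => hperp x hx
    refine hue i2 ?_
    have h6 : polar Q a (e i2) = 0 := by rw [h5, polar_zero_left]
    rwa [polar_add_left, hM.orth i3 i2 (hjd _ _ (by omega)) _ (hu i3) _ (he i2), add_zero] at h6
  refine exists_between (L := setStab Q (R : Set (ι → F))) (fun g _ hgD => ?_)
    ⟨_, siegel_mem_commutator hQ (by omega) hQe' hea, hg, hgS⟩ ?_
  · obtain ⟨σ, hσ⟩ := decomp_maps hgD
    refine mem_setStab_of_maps fun x hx => ?_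
    induction hx using AddSubgroup.closure_induction with
    | mem x hx =>
      exact AddSubgroup.subset_closure
        ⟨hx.1.elim fun i hi => ⟨σ i, hσ i x hi⟩, by rw [g.2, hx.2]⟩
    | zero => rw [map_zero]; exact R.zero_mem
    | add p q _ _ hp hq => rw [map_add]; exact R.add_mem hp hq
    | neg p _ hp => rw [map_neg]; exact R.neg_mem hp
  · obtain ⟨μ, hμ⟩ := hμ
    have hu1 : u i1 ∉ D i0 := fun hmem => by
      have h0 : u i1 = 0 :=
        (Submodule.mem_bot F).1 (hM.disj i1 i0 (hjd _ _ (by omega)) ▸ ⟨hu i1, hmem⟩)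
      exact one_ne_zero (α := F) (by rw [← hQu i1, h0, QuadraticMap.map_zero])
    obtain ⟨b, -, -, hb, h, hh, hhu⟩ := exists_move_out hQ hn (W := D i0) (by rw [hd]; omega) (hu i0)
      (he i0) (hQe i0) (hue i0) hu1 μ
    refine ⟨h, hh, fun hL => hμ ?_⟩
    have h1 := hPR _ ((hL (u i0)).2 (hS i0)) _ (hS i1)
    rwa [hhu, polar_add_left, hM.orth i0 i1 (hjd _ _ (by omega)) _ (hu i0) _ (hu i1), zero_add,
      polar_comm, hb] at h1

/-- Four-dimensional members of plus type over the field with two elements. -/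
theorem four_two_nonmax (hF : ∀ a : F, a = 0 ∨ a = 1) {t : ℕ} (ht : 2 ≤ t)
    {D : Fin t → Submodule F (ι → F)} (hM : Mem Q D)
    (hbasis : ∀ i, ∃ u v u₂ v₂ : ι → F, u ∈ D i ∧ v ∈ D i ∧ u₂ ∈ D i ∧ v₂ ∈ D i ∧ Q u = 1 ∧ Q v = 1 ∧
      Q u₂ = 1 ∧ Q v₂ = 1 ∧ polar Q u v = 1 ∧ polar Q u₂ v₂ = 1 ∧ polar Q u u₂ = 0 ∧
      polar Q u v₂ = 0 ∧ polar Q v u₂ = 0 ∧ polar Q v v₂ = 0 ∧
      ∀ x ∈ D i, Q x = 1 → x ∈ ({u, v, u + v, u₂, v₂, u₂ + v₂} : Set (ι → F))) :
    ∃ K : Subgroup (GL ι F), Cfsg.Geo.decompositionStabilizer D ⊓ Cfsg.Geo.omegaGL ⇑Q < K ∧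
      K < Cfsg.Geo.omegaGL ⇑Q := by
  classical
  have h2 : (2 : F) = 0 := (hF 2).resolve_right fun h => one_ne_zero (α := F) (by linear_combination h)
  haveI : CharP F 2 := CharTwo.of_one_ne_zero_of_two_eq_zero one_ne_zero h2
  choose u v u₂ v₂ hu hv hu₂ hv₂ qu qv qu₂ qv₂ puv puv₂ puu puv' pvu pvv hall using hbasis
  set S : Set (ι → F) := {x | (∃ i, x ∈ D i) ∧ Q x = 1}
  set i0 : Fin t := ⟨0, by omega⟩
  set i1 : Fin t := ⟨1, by omega⟩
  have h01 : i0 ≠ i1 := fun h => absurd (Fin.mk.inj_iff.1 h) (by omega)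
  have hz : ∀ {x y : ι → F}, x ∈ D i0 → y ∈ D i1 → polar Q x y = 0 :=
    fun hx hy => hM.orth i0 i1 h01 _ hx _ hy
  set e' := u₂ i0 + u i1
  set a := v₂ i0 + v i1
  have hQe' : Q e' = 0 := by
    rw [quad_add, qu₂, qu, hz (hu₂ i0) (hu i1), add_zero]; exact CharTwo.add_self_eq_zero 1
  have hQa : Q a = 0 := by
    rw [quad_add, qv₂, qv, hz (hv₂ i0) (hv i1), add_zero]; exact CharTwo.add_self_eq_zero 1
  have hea : polar Q e' a = 0 := by
    simp only [e', a, polar_add_left, polar_add_right, puv₂, puv, hz (hu₂ i0) (hv i1),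
      polar_comm (⇑Q) (u i1) (v₂ i0), hz (hv₂ i0) (hu i1), zero_add, add_zero]
    exact CharTwo.add_self_eq_zero 1
  set g := siegel Q e' a
  have hgx : ∀ x, g.1 x = x + polar Q x e' • a + polar Q x a • e' := fun x => by
    rw [siegel_apply hQe' hea, hQa, zero_mul, add_zero, sub_eq_add_neg, ← neg_smul, CharTwo.neg_eq]
  have self0 : ∀ x : ι → F, polar Q x x = 0 := fun x => by
    rw [polar_self, two_nsmul]; exact CharTwo.add_self_eq_zero _
  have hc : ∀ x : ι → F, x + x = 0 := fun x => by rw [← two_smul F x, h2, zero_smul]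
  have g1 : g.1 (u₂ i0) = u i1 := by
    rw [hgx, polar_add_right, self0, hz (hu₂ i0) (hu i1), polar_add_right, puv₂,
      hz (hu₂ i0) (hv i1)]
    simp only [zero_add, add_zero, zero_smul, one_smul]
    rw [← add_assoc, hc, zero_add]
  have g2 : g.1 (v₂ i0) = v i1 := by
    rw [hgx, polar_add_right, polar_comm (⇑Q) (v₂ i0) (u₂ i0), puv₂, hz (hv₂ i0) (hu i1),
      polar_add_right, self0, hz (hv₂ i0) (hv i1)]
    simp only [zero_add, add_zero, zero_smul, one_smul]
    rw [← add_assoc, hc, zero_add]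
  have g3 : g.1 (u i1) = u₂ i0 := by
    rw [hgx, polar_add_right, self0, polar_comm (⇑Q) (u i1) (u₂ i0), hz (hu₂ i0) (hu i1),
      polar_add_right, puv, polar_comm (⇑Q) (u i1) (v₂ i0), hz (hv₂ i0) (hu i1), zero_add, zero_add,
      zero_smul, one_smul, add_zero, add_comm, add_assoc, hc, add_zero]
  have g4 : g.1 (v i1) = v₂ i0 := by
    rw [hgx, polar_add_right, polar_comm (⇑Q) (v i1) (u i1), puv, polar_comm (⇑Q) (v i1) (u₂ i0),
      hz (hu₂ i0) (hv i1), polar_add_right, self0, polar_comm (⇑Q) (v i1) (v₂ i0),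
      hz (hv₂ i0) (hv i1), zero_add, zero_add, zero_smul, one_smul, add_zero, add_comm, add_assoc,
      hc, add_zero]
  have hadd : ∀ i, Q (u i + v i) = 1 ∧ Q (u₂ i + v₂ i) = 1 := fun i => by
    constructor <;> rw [quad_add]
    · rw [qu, qv, puv, CharTwo.add_self_eq_zero, zero_add]
    · rw [qu₂, qv₂, puv₂, CharTwo.add_self_eq_zero, zero_add]
  have hgS : g ∈ setStab Q S := by
    refine mem_setStab_of_maps ?_
    rintro x ⟨⟨i, hi⟩, hQx⟩
    have hfix : polar Q x e' = 0 → polar Q x a = 0 → g.1 x = x := fun h h' => by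
      rw [hgx, h, h', zero_smul, zero_smul, add_zero, add_zero]
    by_cases hi0 : i = i0
    · subst hi0
      rcases hall i0 x hi hQx with rfl | rfl | rfl | rfl | rfl | rfl
      · rw [hfix (by rw [polar_add_right, puu, hz hi (hu i1), add_zero])
          (by rw [polar_add_right, puv', hz hi (hv i1), add_zero])]
        exact ⟨⟨i0, hi⟩, hQx⟩
      · rw [hfix (by rw [polar_add_right, pvu, hz hi (hu i1), add_zero])
          (by rw [polar_add_right, pvv, hz hi (hv i1), add_zero])]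
        exact ⟨⟨i0, hi⟩, hQx⟩
      · rw [hfix
          (by rw [polar_add_right, polar_add_left, puu, pvu, hz hi (hu i1), add_zero, add_zero])
          (by rw [polar_add_right, polar_add_left, puv', pvv, hz hi (hv i1), add_zero, add_zero])]
        exact ⟨⟨i0, hi⟩, hQx⟩
      · rw [g1]; exact ⟨⟨i1, hu i1⟩, qu i1⟩
      · rw [g2]; exact ⟨⟨i1, hv i1⟩, qv i1⟩
      · rw [map_add, g1, g2]; exact ⟨⟨i1, (D i1).add_mem (hu i1) (hv i1)⟩, (hadd i1).1⟩
    by_cases hi1 : i = i1
    · subst hi1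
      rcases hall i1 x hi hQx with rfl | rfl | rfl | rfl | rfl | rfl
      · rw [g3]; exact ⟨⟨i0, hu₂ i0⟩, qu₂ i0⟩
      · rw [g4]; exact ⟨⟨i0, hv₂ i0⟩, qv₂ i0⟩
      · rw [map_add, g3, g4]; exact ⟨⟨i0, (D i0).add_mem (hu₂ i0) (hv₂ i0)⟩, (hadd i0).2⟩
      all_goals
        rw [hfix]
        · exact ⟨⟨i1, hi⟩, hQx⟩
        · rw [polar_add_right, polar_comm, hz (hu₂ i0) hi, zero_add]
          simp only [polar_add_left, polar_add_right, polar_comm (⇑Q) _ (u i1), puu, puv', add_zero]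
        · rw [polar_add_right, polar_comm, hz (hv₂ i0) hi, zero_add]
          simp only [polar_add_left, polar_add_right, polar_comm (⇑Q) _ (v i1), pvu, pvv, add_zero]
    · rw [hfix
        (by rw [polar_add_right, hM.orth i i0 hi0 x hi _ (hu₂ i0), hM.orth i i1 hi1 x hi _ (hu i1),
          add_zero])
        (by rw [polar_add_right, hM.orth i i0 hi0 x hi _ (hv₂ i0), hM.orth i i1 hi1 x hi _ (hv i1),
          add_zero])]
      exact ⟨⟨i, hi⟩, hQx⟩
  have hu0 : ∀ i, u i ≠ 0 := fun i h => one_ne_zero (α := F) (by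
    rw [← qu i, h, QuadraticMap.map_zero])
  refine exists_between (L := setStab Q S) (fun g _ hg => mem_setStab_of_decomp 1 hg)
    ⟨g, siegel_mem_commutator hQ (by omega) hQe' hea, hgS,
      not_decomp hM h01 (hu i0) (hu₂ i0) ?_ (g1 ▸ hu i1) (hu0 i0)
        (fun h => one_ne_zero (α := F) (by rw [← qu₂ i0, h, QuadraticMap.map_zero]))⟩ ?_
  · rw [hgx, polar_add_right, puu, hz (hu i0) (hu i1), polar_add_right, puv', hz (hu i0) (hv i1),
      add_zero, zero_smul, zero_smul, add_zero, add_zero]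
    exact hu i0
  · set W := Submodule.span F (({u i0, v i0, u₂ i0} : Finset (ι → F)) : Set (ι → F))
    have hWD : W ≤ D i0 := Submodule.span_le.2 (by
      simp [Set.insert_subset_iff, hu i0, hv i0, hu₂ i0])
    have hQe : Q (v i0 + u₂ i0) = 0 := by
      rw [quad_add, qv, qu₂, pvu, add_zero]; exact CharTwo.add_self_eq_zero 1
    obtain ⟨b, -, hbW, hb, h, hh, hhu⟩ := exists_move_out hQ hn (W := W)
      ((finrank_span_finset_le_card _).trans Finset.card_le_three) (u := u i0) (e := v i0 + u₂ i0)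
      (u' := u i1) (Submodule.subset_span (by simp))
      (Submodule.add_mem _ (Submodule.subset_span (by simp)) (Submodule.subset_span (by simp))) hQe
      (by rw [polar_add_right, puv, puu, add_zero]; exact one_ne_zero)
      (fun hmem => hu0 i1
        ((Submodule.mem_bot F).1 (hM.disj i1 i0 h01.symm ▸ ⟨hu i1, hWD hmem⟩))) 1
    refine ⟨h, hh, fun hL => ?_⟩
    obtain ⟨⟨j, hj⟩, -⟩ := (hL (u i0)).2 ⟨⟨i0, hu i0⟩, qu i0⟩
    rw [hhu] at hj
    have a1 : polar Q (u i0 + b) (u i1) = 1 := by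
      rw [polar_add_left, hz (hu i0) (hu i1), zero_add, polar_comm, hb]
    have a2 : polar Q (u i0 + b) (v i0) = 1 := by
      rw [polar_add_left, puv, polar_comm (⇑Q) b, hbW _ (Submodule.subset_span (by simp)), add_zero]
    by_cases hj1 : j = i1
    · rw [hM.orth j i0 (hj1 ▸ h01.symm) _ hj _ (hv i0)] at a2
      exact zero_ne_one a2
    · rw [hM.orth j i1 hj1 _ hj _ (hu i1)] at a1
      exact zero_ne_one a1

end CfsgLib.Geo.OS
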