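import Cfsg.Agent.Geo.OrthDecompBasic

/-!
In odd characteristic the stabiliser in `Ω` of an orthogonal decomposition into members of
dimension at least three is maximal (three only over fields with at least four elements).
-/

set_option autoImplicit false
set_option linter.unusedSectionVars false

namespace CfsgLib.Geo.OS

open QuadraticMap CfsgLib.Forms CfsgLib.Quad

variable {F V : Type*} [Field F] [AddCommGroup V] [Module F V] [FiniteDimensional F V] [Finite F]
  {Q : QuadraticForm F V} {t k : ℕ}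

/-- The vectors `b` whose whole line gives Siegel transformations centred at `x` lying in `M`. -/
def rootSpace (M : Subgroup (oGroup Q)) {x : V} (hx : Q x = 0) : Submodule F V where
  carrier := {b | polar Q x b = 0 ∧ ∀ s : F, siegel Q x (s • b) ∈ M}
  zero_mem' := ⟨polar_zero_right Q x, fun s => by rw [smul_zero, siegel_zero hx]; exact one_mem _⟩
  add_mem' := fun {a b} ha hb => ⟨by rw [polar_add_right, ha.1, hb.1, add_zero], fun s => by
    rw [smul_add, ← siegel_mul hx (by rw [polar_smul_right, ha.1, smul_zero])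
      (by rw [polar_smul_right, hb.1, smul_zero])]
    exact mul_mem (ha.2 s) (hb.2 s)⟩
  smul_mem' := fun c a ha => ⟨by rw [polar_smul_right, ha.1, smul_zero], fun s => by
    rw [smul_smul]; exact ha.2 _⟩

theorem rootSpace.self_mem {M : Subgroup (oGroup Q)} {x b : V} {hx : Q x = 0}
    (h : b ∈ rootSpace M hx) : siegel Q x b ∈ M := by
  have := h.2 1
  rwa [one_smul] at this

theorem rootSpace.move {M : Subgroup (oGroup Q)} {h : oGroup Q} (hh : h ∈ M) {x b : V} {hx : Q x = 0}
    (hfix : h.1 x = x) (hb : b ∈ rootSpace M hx) : h.1 b - b ∈ rootSpace M hx := by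
  refine Submodule.sub_mem _ ⟨?_, fun s => ?_⟩ hb
  · rw [← hfix, polar_oGroup, hb.1]
  · have := siegel_conj_mem hh hx (by rw [polar_smul_right, hb.1, smul_zero]) (hb.2 s)
    rwa [hfix, map_smul] at this

theorem exists_ne_pm_one (h4 : 4 ≤ Nat.card F) : ∃ s : F, s ≠ 0 ∧ s ≠ 1 ∧ s ≠ -1 := by
  classical
  haveI := Fintype.ofFinite F
  rw [Nat.card_eq_fintype_card] at h4
  by_contra hc
  push Not at hc
  have h : (Finset.univ : Finset F) ⊆ {0, 1, -1} := fun s _ => by
    simp only [Finset.mem_insert, Finset.mem_singleton]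
    by_cases h0 : s = 0
    · exact Or.inl h0
    by_cases h1 : s = 1
    · exact Or.inr (Or.inl h1)
    · exact Or.inr (Or.inr (hc s h0 h1))
  have h1 := Finset.card_le_card h
  rw [Finset.card_univ] at h1
  have h2 := Finset.card_le_three (a := (0 : F)) (b := 1) (c := -1)
  omega

theorem not_mem_span_of_ne {d v : V} (hd : d ≠ 0) (h : polar Q d v = 0) (hdd : polar Q d d ≠ 0)
    (hv : v ≠ 0) : v ∉ Submodule.span F {d} := fun hm => by
  obtain ⟨s, rfl⟩ := Submodule.mem_span_singleton.1 hm
  rw [polar_smul_right, smul_eq_mul] at h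
  have := (mul_eq_zero.1 h).resolve_right hdd
  exact hv (by rw [this, zero_smul])

variable (hQ : (polarBilin Q).Nondegenerate) (h2 : (2 : F) ≠ 0)

include hQ h2

theorem polar_self_ne {d : V} (hd : Q d ≠ 0) : polar Q d d ≠ 0 := by
  rw [polar_self, two_nsmul, ← two_mul]; exact mul_ne_zero h2 hd

/-- In a non-degenerate plane an anisotropic vector is moved off its line by a reflection. -/
theorem exists_offline_refl {P : Submodule F V} (hP : ND Q P) (hdim : 2 ≤ Module.finrank F P)
    (h4 : 4 ≤ Nat.card F) (hPle : Module.finrank F P ≤ 2) {d : V} (hd : d ∈ P) (hQd : Q d ≠ 0) :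
    ∃ d3 ∈ P, Q d3 ≠ 0 ∧ polar Q d d3 ≠ 0 ∧ d3 ∉ Submodule.span F {d} := by
  obtain ⟨c, ⟨hc, hcd⟩, hc0⟩ := Submodule.exists_mem_ne_zero_of_ne_bot
    (p := P ⊓ perpS Q (Submodule.span F {d})) (fun h => by
      have := ND.finrank_inf_perp_singleton hQ P d
      rw [h, finrank_bot] at this
      omega)
  have hdc : polar Q d c = 0 := hcd d (Submodule.mem_span_singleton_self d)
  have hd0 : d ≠ 0 := fun e => hQd (by rw [e, QuadraticMap.map_zero])
  have hcn : c ∉ Submodule.span F {d} := not_mem_span_of_ne hd0 hdc (polar_self_ne hQ h2 hQd) hc0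
  have hQc : Q c ≠ 0 := by
    intro hQc
    refine hc0 (ND.eq_zero hP hc fun y hy => ?_)
    have hspan : Submodule.span F {d} ⊔ Submodule.span F {c} = P := by
      refine Submodule.eq_of_le_of_finrank_le (sup_le ((Submodule.span_singleton_le_iff_mem _ _).2 hd)
        ((Submodule.span_singleton_le_iff_mem _ _).2 hc)) ?_
      have hlt : Submodule.span F {d} < Submodule.span F {d} ⊔ Submodule.span F {c} :=
        left_lt_sup.2 fun h => hcn (h (Submodule.mem_span_singleton_self c))
      have := Submodule.finrank_lt_finrank_of_lt hlt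
      have : Module.finrank F (Submodule.span F {d}) = 1 := finrank_span_singleton hd0
      omega
    rw [← hspan] at hy
    obtain ⟨a, ha, b, hb, rfl⟩ := Submodule.mem_sup.1 hy
    obtain ⟨r, rfl⟩ := Submodule.mem_span_singleton.1 ha
    obtain ⟨r', rfl⟩ := Submodule.mem_span_singleton.1 hb
    simp [polar_add_left, polar_smul_left, hdc, polar_self, hQc]
  have key : ∀ s : F, s ≠ 0 → Q d + s * s * Q c ≠ 0 →
      ∃ d3 ∈ P, Q d3 ≠ 0 ∧ polar Q d d3 ≠ 0 ∧ d3 ∉ Submodule.span F {d} := by
    intro s hs hne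
    refine ⟨d + s • c, P.add_mem hd (P.smul_mem _ hc), ?_, ?_, fun h => hcn ?_⟩
    · rwa [quad_add, quad_smul, polar_smul_right, hdc, smul_zero, add_zero]
    · rw [polar_add_right, polar_smul_right, hdc, smul_zero, add_zero]
      exact polar_self_ne hQ h2 hQd
    · have := Submodule.sub_mem _ h (Submodule.mem_span_singleton_self d)
      rw [add_sub_cancel_left] at this
      exact (Submodule.smul_mem_iff _ hs).1 this
  by_cases h1 : Q d + Q c = 0
  · obtain ⟨s, hs0, hs1, hs2⟩ := exists_ne_pm_one h4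
    refine key s hs0 fun h => ?_
    have : (1 - s * s) * Q d = 0 := by linear_combination h - s * s * h1
    have h3 := (mul_eq_zero.1 this).resolve_right hQd
    rcases mul_self_eq_one_iff.1 (sub_eq_zero.1 h3).symm with h | h
    exacts [hs1 h, hs2 h]
  · exact key 1 one_ne_zero (by rwa [one_mul, one_mul])

variable {D : Fin t → Submodule F V} (hD : OD Q k D) (hn : 7 ≤ Module.finrank F V)
  {M : Subgroup (oGroup Q)} (hM : decompStab Q D ⊓ commutator (oGroup Q) ≤ M)
  (hq : k = 3 → 4 ≤ Nat.card F)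

include hD hn hM hq

/-- An active member finishes the proof. -/
theorem le_of_active {x : V} (hQx : Q x = 0)
    (hsupp : ∀ l : Fin t, ∃ j, j ≠ l ∧ cp hQ hD j x ≠ 0) {a : V} (ha : a ∈ rootSpace M hQx)
    {l : Fin t} (hal : cp hQ hD l a ∉ Submodule.span F {cp hQ hD l x}) :
    commutator (oGroup Q) ≤ M := by
  classical
  have hn5 : 5 ≤ Module.finrank F V := by omega
  have hal0 : cp hQ hD l a ≠ 0 := fun h => hal (by rw [h]; exact Submodule.zero_mem _)
  have hx0 : x ≠ 0 := fun e => by obtain ⟨j, -, hj⟩ := hsupp l; exact hj (by rw [e, map_zero])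
  -- a singular root vector in one member
  have of_single : ∀ d ∈ D l, d ≠ 0 → Q d = 0 → d ∈ rootSpace M hQx → commutator (oGroup Q) ≤ M := by
    intro d hd hd0 hQd hdA
    obtain ⟨j, hjl, hj⟩ := hsupp l
    have hdx : polar Q d x = 0 := by rw [polar_comm]; exact hdA.1
    have h := rootSpace.self_mem hdA
    rw [siegel_comm hQd hQx hdx] at h
    refine le_of_missing hQ hD hn hM hd0 hQd (cp_of_mem_ne hQ hD hjl hd)
      (by rw [polar_neg_right, hdx, neg_zero]) ?_ h
    rw [map_neg, neg_ne_zero]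
    exact hj
  set xl := cp hQ hD l x with hxl
  have hxlD : xl ∈ D l := cp_mem hQ hD l x
  have hpx : ∀ y ∈ D l, polar Q x y = polar Q xl y := fun y hy => (polar_cp' hQ hD hy x).symm
  by_cases hxl0 : xl = 0
  · exact le_of_missing hQ hD hn hM hx0 hQx hxl0 ha.1 hal0 (rootSpace.self_mem ha)
  by_cases hQxl : Q xl = 0
  · -- singular component
    have hxx : polar Q xl xl = 0 := by rw [polar_self, hQxl, smul_zero]
    have hδ : ∀ c ∈ D l, polar Q xl c = 0 →
        polar Q a xl • c - (polar Q a c + Q c * polar Q a xl) • xl ∈ rootSpace M hQx := by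
      intro c hc hxc
      have h := member_siegel_mem hQ hD hn hM hxlD hc hQxl hxc
      have hfix : (siegel Q xl c).1 x = x :=
        siegel_fix hQxl hxc (by rw [hpx xl hxlD, hxx]) (by rw [hpx c hc, hxc])
      have := rootSpace.move h hfix ha
      rwa [siegel_apply hQxl hxc, add_sub_assoc, add_sub_cancel_left] at this
    refine of_single xl hxlD hxl0 hQxl ?_
    by_cases hβ : polar Q a xl = 0
    · obtain ⟨c, hc, hcx, hac⟩ := ND.partner_perp hQ (hD.nd l)
        ((Submodule.span_singleton_le_iff_mem _ _).2 hxlD) (cp_mem hQ hD l a) hal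
      rw [polar_cp' hQ hD hc] at hac
      have := hδ c hc (hcx xl (Submodule.mem_span_singleton_self xl))
      rw [hβ, zero_smul, zero_sub, mul_zero, add_zero, ← neg_smul] at this
      exact (Submodule.smul_mem_iff _ (neg_ne_zero.2 hac)).1 this
    · obtain ⟨f, hf, hQf, hxf⟩ := ND.singular_partner (hD.nd l) hxlD hxl0 hQxl
      set S := Submodule.span F (Set.range ![xl, f])
      have hS : Module.finrank F S ≤ 2 := (finrank_range_le_card _).trans (by simp)
      obtain ⟨c1, ⟨hc1, hc1S⟩, hc10⟩ := Submodule.exists_mem_ne_zero_of_ne_bot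
        (p := D l ⊓ perpS Q S) (fun h => by
          have := ND.finrank_inf_perp hQ (D l) S
          rw [h, finrank_bot] at this
          have := hD.dim l
          have := hD.three
          omega)
      have hx1 : polar Q xl c1 = 0 := hc1S xl (Submodule.subset_span ⟨0, rfl⟩)
      have hf1 : polar Q f c1 = 0 := hc1S f (Submodule.subset_span ⟨1, rfl⟩)
      obtain ⟨y, hy, hc1y⟩ := ND.partner (hD.nd l) hc1 hc10
      set c2 := y - (polar Q xl y / polar Q xl f) • f with hc2_def
      have hc2 : c2 ∈ D l := (D l).sub_mem hy ((D l).smul_mem _ hf)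
      have hx2 : polar Q xl c2 = 0 := by
        rw [hc2_def, polar_sub_right, polar_smul_right, smul_eq_mul, div_mul_cancel₀ _ hxf, sub_self]
      have h12 : polar Q c1 c2 ≠ 0 := by
        rw [hc2_def, polar_sub_right, polar_smul_right, polar_comm (⇑Q) c1 f, hf1, smul_zero, sub_zero]
        exact hc1y
      have h := Submodule.sub_mem _ (Submodule.sub_mem _
        (hδ (c1 + c2) ((D l).add_mem hc1 hc2) (by rw [polar_add_right, hx1, hx2, add_zero]))
        (hδ c1 hc1 hx1)) (hδ c2 hc2 hx2)
      refine (Submodule.smul_mem_iff _ (neg_ne_zero.2 (mul_ne_zero h12 hβ))).1 ?_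
      convert h using 1
      rw [polar_add_right, quad_add]
      module
  -- anisotropic component
  have hxx : polar Q xl xl ≠ 0 := polar_self_ne hQ h2 hQxl
  obtain ⟨j, hjl, hQxj⟩ : ∃ j, j ≠ l ∧ Q (cp hQ hD j x) ≠ 0 := by
    by_contra hc
    push Not at hc
    refine hQxl ?_
    rw [quad_cp hQ hD, Finset.sum_eq_single l (fun j _ hj => hc j hj)
      (fun h => absurd (Finset.mem_univ l) h)] at hQx
    exact hQx
  set xj := cp hQ hD j x with hxj
  have hxjD : xj ∈ D j := cp_mem hQ hD j x
  have hpxj : ∀ y ∈ D j, polar Q x y = polar Q xj y := fun y hy => (polar_cp' hQ hD hy x).symm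
  have hxjn : xj ≠ 0 := fun e => hQxj (by rw [e, QuadraticMap.map_zero])
  have hPdim : ∀ (i : Fin t) (z : V), z ∈ D i → Q z ≠ 0 →
      ND Q (D i ⊓ perpS Q (Submodule.span F {z})) ∧
      k ≤ Module.finrank F ↥(D i ⊓ perpS Q (Submodule.span F {z})) + 1 ∧
      Module.finrank F ↥(D i ⊓ perpS Q (Submodule.span F {z})) + 1 ≤ k := by
    intro i z hz hQz
    have hzz := polar_self_ne hQ h2 hQz
    refine ⟨(Submodule.eq_bot_iff _).2 fun v hv => ND.eq_zero (hD.nd i) hv.1.1 fun y hy => ?_, ?_, ?_⟩
    · have h1 : y - (polar Q z y / polar Q z z) • z ∈ D i ⊓ perpS Q (Submodule.span F {z}) := by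
        refine ⟨(D i).sub_mem hy ((D i).smul_mem _ hz), fun h hh => ?_⟩
        obtain ⟨s, rfl⟩ := Submodule.mem_span_singleton.1 hh
        rw [polar_smul_left, polar_sub_right, polar_smul_right, smul_eq_mul, smul_eq_mul,
          div_mul_cancel₀ _ hzz, sub_self, mul_zero]
      have h2 := hv.2 _ h1
      rwa [polar_sub_left, polar_smul_left,
        hv.1.2 z (Submodule.mem_span_singleton_self z), smul_zero, sub_zero] at h2
    · have := ND.finrank_inf_perp_singleton hQ (D i) z
      rw [hD.dim i] at this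
      exact this
    · have hlt : D i ⊓ perpS Q (Submodule.span F {z}) < D i :=
        lt_of_le_of_ne inf_le_left fun e =>
          hzz ((e.symm ▸ hz : z ∈ D i ⊓ perpS Q (Submodule.span F {z})).2 z
            (Submodule.mem_span_singleton_self z))
      have := Submodule.finrank_lt_finrank_of_lt hlt
      have := hD.dim i
      omega
  set P := D l ⊓ perpS Q (Submodule.span F {xl}) with hPdef
  obtain ⟨hPnd, hP1, hP2⟩ := hPdim l xl hxlD hQxl
  rw [← hPdef] at hPnd hP1 hP2
  have hPx : ∀ y ∈ P, polar Q x y = 0 := fun y hy => by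
    rw [hpx y hy.1]; exact hy.2 xl (Submodule.mem_span_singleton_self xl)
  set p := cp hQ hD l a - (polar Q xl (cp hQ hD l a) / polar Q xl xl) • xl with hp_def
  have hp : p ∈ P := by
    refine ⟨(D l).sub_mem (cp_mem hQ hD l a) ((D l).smul_mem _ hxlD), fun h hh => ?_⟩
    obtain ⟨s, rfl⟩ := Submodule.mem_span_singleton.1 hh
    rw [polar_smul_left, hp_def, polar_sub_right, polar_smul_right, smul_eq_mul, smul_eq_mul,
      div_mul_cancel₀ _ hxx, sub_self, mul_zero]
  have hp0 : p ≠ 0 := fun h => hal (Submodule.mem_span_singleton.2 ⟨_, (sub_eq_zero.1 h).symm⟩)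
  have hap : ∀ y ∈ P, polar Q a y = polar Q p y := fun y hy => by
    rw [hp_def, polar_sub_left, polar_smul_left, polar_cp' hQ hD hy.1,
      show polar Q xl y = 0 from hy.2 xl (Submodule.mem_span_singleton_self xl), smul_zero, sub_zero]
  by_cases hk4 : 4 ≤ k
  · obtain ⟨u, c, hu, hc, hQu, huc, hδ, hδ0⟩ := exists_shift hQ hPnd (by omega) hp hp0 hap
    have hh := member_siegel_mem hQ hD hn hM hu.1 hc.1 hQu huc
    have hδA := rootSpace.move hh (siegel_fix hQu huc (hPx u hu) (hPx c hc)) ha
    set δ := (siegel Q u c).1 a - a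
    by_cases hQδ : Q δ = 0
    · exact of_single δ hδ.1 hδ0 hQδ hδA
    obtain ⟨hPjnd, hPj1, -⟩ := hPdim j xj hxjD hQxj
    obtain ⟨e, he, he0, hQe⟩ := exists_singular_of_three (Q := Q)
      (D j ⊓ perpS Q (Submodule.span F {xj})) (by
        change 3 ≤ Module.finrank F ↥(D j ⊓ perpS Q (Submodule.span F {xj}))
        omega)
    have hxje : polar Q xj e = 0 := he.2 xj (Submodule.mem_span_singleton_self xj)
    have hxjne : xj ∉ Submodule.span F {e} := fun h => by
      obtain ⟨s, hs⟩ := Submodule.mem_span_singleton.1 h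
      exact hQxj (by rw [← hs, quad_smul, hQe, mul_zero])
    obtain ⟨a', ha', ha'e, hxa'⟩ := ND.partner_perp hQ (hD.nd j)
      ((Submodule.span_singleton_le_iff_mem _ _).2 he.1) hxjD hxjne
    have hea' : polar Q e a' = 0 := ha'e e (Submodule.mem_span_singleton_self e)
    have ht := rootSpace.self_mem hδA
    have hδj : ∀ y ∈ D j, polar Q y δ = 0 := fun y hy => hD.orth j l hjl y hy δ hδ.1
    have hfe : (siegel Q x δ).1 e = e :=
      siegel_fix hQx hδA.1 (by rw [polar_comm, hpxj e he.1, hxje]) (hδj e he.1)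
    have h1 := siegel_conj_mem ht hQe hea' (member_siegel_mem hQ hD hn hM he.1 ha' hQe hea')
    rw [hfe] at h1
    refine le_of_missing hQ hD hn hM he0 hQe (cp_of_mem_ne hQ hD hjl.symm he.1) ?_ ?_ h1
    · conv_lhs => rw [← hfe]
      rw [polar_oGroup, hea']
    · intro h0
      rw [siegel_apply hQx hδA.1, hδj a' ha', zero_add] at h0
      simp only [map_sub, map_add, map_smul, cp_of_mem_ne hQ hD hjl.symm ha', cp_of_mem hQ hD hδ.1,
        zero_add, ← hxl] at h0
      have h3 := congrArg (fun z => polar Q δ z) h0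
      simp only [polar_sub_right, polar_smul_right, polar_zero_right,
        show polar Q δ xl = 0 by rw [polar_comm]; exact hδ.2 xl (Submodule.mem_span_singleton_self xl),
        smul_eq_mul, mul_zero, sub_zero] at h3
      rw [polar_comm (⇑Q) a' x, hpxj a' ha'] at h3
      exact mul_ne_zero hxa' (polar_self_ne hQ h2 hQδ) h3
  -- members of dimension three
  have hk3 : k = 3 := by have := hD.three; omega
  have h4 := hq hk3
  obtain ⟨d, hd, hQd, hpd⟩ : ∃ d ∈ P, Q d ≠ 0 ∧ polar Q p d ≠ 0 := by
    by_cases hQp : Q p = 0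
    · obtain ⟨f, hf, hQf, hpf⟩ := ND.singular_partner hPnd hp hp0 hQp
      refine ⟨p + f, P.add_mem hp hf, ?_, ?_⟩
      · rwa [quad_add, hQp, hQf, zero_add, zero_add]
      · rwa [polar_add_right, polar_self, hQp, smul_zero, zero_add]
    · exact ⟨p, hp, hQp, polar_self_ne hQ h2 hQp⟩
  obtain ⟨d3, hd3, hQd3, hdd3, hd3n⟩ :=
    exists_offline_refl hQ h2 hPnd (by omega) h4 (by omega) hd hQd
  set d2 := (refl Q d3).1 d with hd2_def
  have hd2 : d2 ∈ P := by rw [hd2_def, refl_apply]; exact P.add_mem hd (P.smul_mem _ hd3)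
  have hQd2 : Q d2 = Q d := (refl Q d3).2 d
  have hd2n : d2 ∉ Submodule.span F {d} := fun h => hd3n (by
    rw [hd2_def, refl_apply] at h
    have := Submodule.sub_mem _ h (Submodule.mem_span_singleton_self d)
    rw [add_sub_cancel_left] at this
    exact (Submodule.smul_mem_iff _ (mul_ne_zero (neg_ne_zero.2 (inv_ne_zero hQd3)) hdd3)).1 this)
  have hh : refl Q d * refl Q d2 ∈ M := hM ⟨mul_mem (refl_mem_decompStab hQ hD hd.1)
    (refl_mem_decompStab hQ hD hd2.1), refl_pair_mem_commutator hQ hQd (by rwa [hQd2])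
      (by rw [hQd2]; exact IsSquare.mul_self _)⟩
  have hfix : (refl Q d * refl Q d2).1 x = x := by
    change (refl Q d).1 ((refl Q d2).1 x) = x
    rw [refl_fix (hPx d2 hd2), refl_fix (hPx d hd)]
  have hδA := rootSpace.move hh hfix ha
  set δ := (refl Q d * refl Q d2).1 a - a with hδ_def
  have hδeq : δ = (-(Q d)⁻¹ * polar Q ((refl Q d2).1 a) d) • d + (-(Q d2)⁻¹ * polar Q a d2) • d2 := by
    rw [hδ_def]
    change (refl Q d).1 ((refl Q d2).1 a) - a = _
    rw [refl_apply d, refl_apply d2]
    abel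
  have hδ : δ ∈ P := by rw [hδeq]; exact P.add_mem (P.smul_mem _ hd) (P.smul_mem _ hd2)
  have hδ0 : δ ≠ 0 := by
    intro h0
    rw [hδeq] at h0
    by_cases hk2 : -(Q d2)⁻¹ * polar Q a d2 = 0
    · rw [hk2, zero_smul, add_zero] at h0
      have hd0 : d ≠ 0 := fun e => hQd (by rw [e, QuadraticMap.map_zero])
      have h1 := (smul_eq_zero.1 h0).resolve_right hd0
      rw [refl_apply, hk2, zero_smul, add_zero, hap d hd] at h1
      exact mul_ne_zero (neg_ne_zero.2 (inv_ne_zero hQd)) hpd h1
    · exact hd2n ((Submodule.smul_mem_iff _ hk2).1 (by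
        rw [eq_neg_of_add_eq_zero_right h0]
        exact Submodule.neg_mem _ (Submodule.smul_mem _ _ (Submodule.mem_span_singleton_self d))))
  by_cases hQδ : Q δ = 0
  · exact of_single δ hδ.1 hδ0 hQδ hδA
  -- the whole plane consists of root vectors
  obtain ⟨d4, hd4, hQd4, hδd4, hd4n⟩ :=
    exists_offline_refl hQ h2 hPnd (by omega) h4 (by omega) hδ hQδ
  obtain ⟨hPjnd, hPj1, hPj2⟩ := hPdim j xj hxjD hQxj
  set Pj := D j ⊓ perpS Q (Submodule.span F {xj}) with hPjdef
  obtain ⟨dj, hdj, hQdj⟩ : ∃ dj ∈ Pj, Q dj = Q d4 := by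
    obtain ⟨e1, he1, he10⟩ := Submodule.exists_mem_ne_zero_of_ne_bot (p := Pj) fun h => by
      rw [h, finrank_bot] at hPj1; omega
    obtain ⟨e, he, hQe⟩ : ∃ e ∈ Pj, Q e ≠ 0 := by
      by_contra hc
      push Not at hc
      obtain ⟨y, hy, hey⟩ := ND.partner hPjnd he1 he10
      exact hey (polar_eq_zero_of_singular hc he1 hy)
    obtain ⟨c, hc, hQc, hec⟩ : ∃ c ∈ Pj, Q c ≠ 0 ∧ polar Q e c = 0 := by
      obtain ⟨e3, he3, -, -, he3n⟩ :=
        exists_offline_refl hQ h2 hPjnd (by omega) h4 (by omega) he hQe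
      set c := e3 - (polar Q e e3 / polar Q e e) • e with hc_def
      have hee := polar_self_ne hQ h2 hQe
      have hec : polar Q e c = 0 := by
        rw [hc_def, polar_sub_right, polar_smul_right, smul_eq_mul, div_mul_cancel₀ _ hee, sub_self]
      have hc : c ∈ Pj := Pj.sub_mem he3 (Pj.smul_mem _ he)
      have hc0 : c ≠ 0 := fun h => he3n (Submodule.mem_span_singleton.2 ⟨_, (sub_eq_zero.1 h).symm⟩)
      refine ⟨c, hc, fun hQc => hc0 (ND.eq_zero hPjnd hc fun y hy => ?_), hec⟩
      have he0 : e ≠ 0 := fun h => hQe (by rw [h, QuadraticMap.map_zero])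
      have hspan : Submodule.span F {e} ⊔ Submodule.span F {c} = Pj := by
        refine Submodule.eq_of_le_of_finrank_le (sup_le ((Submodule.span_singleton_le_iff_mem _ _).2 he)
          ((Submodule.span_singleton_le_iff_mem _ _).2 hc)) ?_
        have hlt : Submodule.span F {e} < Submodule.span F {e} ⊔ Submodule.span F {c} :=
          left_lt_sup.2 fun h => not_mem_span_of_ne he0 hec hee hc0
            (h (Submodule.mem_span_singleton_self c))
        have := Submodule.finrank_lt_finrank_of_lt hlt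
        have : Module.finrank F (Submodule.span F {e}) = 1 := finrank_span_singleton he0
        omega
      rw [← hspan] at hy
      obtain ⟨a1, ha1, b1, hb1, rfl⟩ := Submodule.mem_sup.1 hy
      obtain ⟨r, rfl⟩ := Submodule.mem_span_singleton.1 ha1
      obtain ⟨r', rfl⟩ := Submodule.mem_span_singleton.1 hb1
      simp [polar_add_left, polar_smul_left, hec, polar_self, hQc]
    obtain ⟨α, β, hαβ⟩ := exists_binary h2 hQe hQc (Q d4)
    refine ⟨α • e + β • c, Pj.add_mem (Pj.smul_mem _ he) (Pj.smul_mem _ hc), ?_⟩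
    rw [quad_add, quad_smul, quad_smul, polar_smul_left, polar_smul_right, hec, smul_zero, smul_zero,
      add_zero]
    linear_combination hαβ
  have hh' : refl Q d4 * refl Q dj ∈ M := hM ⟨mul_mem (refl_mem_decompStab hQ hD hd4.1)
    (refl_mem_decompStab hQ hD hdj.1), refl_pair_mem_commutator hQ hQd4 (by rwa [hQdj])
      (by rw [hQdj]; exact IsSquare.mul_self _)⟩
  have hfix' : (refl Q d4 * refl Q dj).1 x = x := by
    change (refl Q d4).1 ((refl Q dj).1 x) = x
    rw [refl_fix (show polar Q x dj = 0 by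
        rw [hpxj dj hdj.1]; exact hdj.2 xj (Submodule.mem_span_singleton_self xj)),
      refl_fix (hPx d4 hd4)]
  have h := rootSpace.move hh' hfix' hδA
  change (refl Q d4).1 ((refl Q dj).1 δ) - δ ∈ _ at h
  rw [refl_fix (hD.orth l j hjl.symm δ hδ.1 dj hdj.1), refl_apply, add_sub_cancel_left] at h
  have hd4A := (Submodule.smul_mem_iff _
    (mul_ne_zero (neg_ne_zero.2 (inv_ne_zero hQd4)) hδd4)).1 h
  have hPA : P ≤ rootSpace M hQx := by
    have hδd : Submodule.span F {δ} ⊔ Submodule.span F {d4} = P := by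
      refine Submodule.eq_of_le_of_finrank_le (sup_le ((Submodule.span_singleton_le_iff_mem _ _).2 hδ)
        ((Submodule.span_singleton_le_iff_mem _ _).2 hd4)) ?_
      have hlt : Submodule.span F {δ} < Submodule.span F {δ} ⊔ Submodule.span F {d4} :=
        left_lt_sup.2 fun h => hd4n (h (Submodule.mem_span_singleton_self d4))
      have := Submodule.finrank_lt_finrank_of_lt hlt
      have : Module.finrank F (Submodule.span F {δ}) = 1 := finrank_span_singleton hδ0
      omega
    rw [← hδd]
    exact sup_le ((Submodule.span_singleton_le_iff_mem _ _).2 hδA)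
      ((Submodule.span_singleton_le_iff_mem _ _).2 hd4A)
  by_cases hPs : ∃ z ∈ P, z ≠ 0 ∧ Q z = 0
  · obtain ⟨z, hz, hz0, hQz⟩ := hPs
    exact of_single z hz.1 hz0 hQz (hPA hz)
  push Not at hPs
  obtain ⟨e, he, he0, hQe⟩ := exists_singular_of_three (Q := Q) (D l) (by rw [hD.dim]; omega)
  set τ := polar Q xl e / polar Q xl xl with hτ
  set eP := e - τ • xl with heP_def
  have heP : eP ∈ P := by
    refine ⟨(D l).sub_mem he ((D l).smul_mem _ hxlD), fun h hh => ?_⟩
    obtain ⟨s, rfl⟩ := Submodule.mem_span_singleton.1 hh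
    rw [polar_smul_left, heP_def, polar_sub_right, polar_smul_right, smul_eq_mul, smul_eq_mul, hτ,
      div_mul_cancel₀ _ hxx, sub_self, mul_zero]
  have hτ0 : τ ≠ 0 := fun h => by
    rw [heP_def, h, zero_smul, sub_zero] at heP
    exact hPs e heP he0 hQe
  have heP0 : eP ≠ 0 := fun h => by
    rw [heP_def, sub_eq_zero] at h
    rw [h, quad_smul] at hQe
    exact mul_ne_zero (mul_ne_zero hτ0 hτ0) hQxl hQe
  have hQeP : Q eP ≠ 0 := hPs eP heP heP0
  obtain ⟨c, ⟨hc, hce⟩, hc0⟩ := Submodule.exists_mem_ne_zero_of_ne_bot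
    (p := P ⊓ perpS Q (Submodule.span F {eP})) (fun h => by
      have := ND.finrank_inf_perp_singleton hQ P eP
      rw [h, finrank_bot] at this
      omega)
  have hePc : polar Q eP c = 0 := hce eP (Submodule.mem_span_singleton_self eP)
  have hxlc : polar Q xl c = 0 := hc.2 xl (Submodule.mem_span_singleton_self xl)
  have hec : polar Q e c = 0 := by
    rw [heP_def, polar_sub_left, polar_smul_left, hxlc, smul_zero, sub_zero] at hePc
    exact hePc
  set d0 := c + eP with hd0_def
  have hd0 : d0 ∈ P := P.add_mem hc heP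
  have hQd0 : Q d0 ≠ 0 := hPs d0 hd0 fun h => polar_self_ne hQ h2 hQeP (by
    have h1 : c = -eP := eq_neg_of_add_eq_zero_left h
    rw [h1, polar_neg_right, neg_eq_zero] at hePc
    exact hePc)
  set lam := τ / Q d0 with hlam
  have hlam0 : lam ≠ 0 := div_ne_zero hτ0 hQd0
  set d' := lam • d0 with hd'_def
  have hd'A : d' ∈ rootSpace M hQx := Submodule.smul_mem _ _ (hPA hd0)
  have hd'D : d' ∈ D l := (D l).smul_mem _ hd0.1
  have hv : d' + Q d' • xl = lam • (c + e) := by
    rw [hd'_def, quad_smul, show lam * lam * Q d0 = lam * τ by rw [hlam]; field_simp, hd0_def,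
      heP_def]
    module
  have hcoef : ∀ y ∈ D l, polar Q y d' + Q d' * polar Q y x = lam * polar Q y (c + e) := fun y hy => by
    rw [polar_comm (⇑Q) y x, hpx y hy, polar_comm (⇑Q) xl y, ← smul_eq_mul (Q d'),
      ← polar_smul_right, ← polar_add_right, hv, polar_smul_right, smul_eq_mul]
  have hee : polar Q e (c + e) = 0 := by
    rw [polar_add_right, hec, polar_self, hQe, smul_zero, add_zero]
  have hvn : c + e ∉ Submodule.span F {e} := fun h => by
    have h1 := Submodule.sub_mem _ h (Submodule.mem_span_singleton_self e)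
    rw [add_sub_cancel_right] at h1
    obtain ⟨s, hs⟩ := Submodule.mem_span_singleton.1 h1
    exact hPs c hc hc0 (by rw [← hs, quad_smul, hQe, mul_zero])
  obtain ⟨a', ha', ha'e, hva'⟩ := ND.partner_perp hQ (hD.nd l)
    ((Submodule.span_singleton_le_iff_mem _ _).2 he) ((D l).add_mem hc.1 he) hvn
  have hea' : polar Q e a' = 0 := ha'e e (Submodule.mem_span_singleton_self e)
  have ht := rootSpace.self_mem hd'A
  have hte : (siegel Q x d').1 e ∈ D l := by
    rw [siegel_apply hQx hd'A.1, hcoef e he, hee, mul_zero, zero_smul, sub_zero]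
    exact (D l).add_mem he ((D l).smul_mem _ hd'D)
  have h1 := siegel_conj_mem ht hQe hea' (member_siegel_mem hQ hD hn hM he ha' hQe hea')
  refine le_of_missing hQ hD hn hM (fun h => he0 ((siegel Q x d').1.map_eq_zero_iff.1 h))
    (by rw [(siegel Q x d').2, hQe]) (cp_of_mem_ne hQ hD hjl hte) (by rw [polar_oGroup, hea']) ?_ h1
  rw [siegel_apply hQx hd'A.1, hcoef a' ha', polar_comm (⇑Q) a' (c + e)]
  simp only [map_sub, map_add, map_smul, cp_of_mem_ne hQ hD hjl ha', cp_of_mem_ne hQ hD hjl hd'D,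
    smul_zero, zero_add, zero_sub, ← hxj, neg_ne_zero]
  exact smul_ne_zero (mul_ne_zero hlam0 hva') hxjn

/-- The key property of the stabiliser of an orthogonal decomposition. -/
theorem decomp_key (hnle : ¬ M ≤ decompStab Q D) : commutator (oGroup Q) ≤ M := by
  classical
  have h3 : ∀ l, 3 ≤ Module.finrank F (D l) := fun l => (hD.dim l).symm ▸ hD.three
  obtain ⟨g, hg, hgX⟩ := SetLike.not_le_iff_exists.1 hnle
  have hsingle : ∀ (w : V), w ≠ 0 → ¬ (∀ l : Fin t, ∃ j, j ≠ l ∧ cp hQ hD j w ≠ 0) →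
      ∃ l, w ∈ D l := by
    intro w _ hw
    push Not at hw
    obtain ⟨l, hl⟩ := hw
    refine ⟨l, ?_⟩
    rw [← sum_cp hQ hD w, Finset.sum_eq_single l (fun j _ hj => hl j hj)
      (fun h => absurd (Finset.mem_univ l) h)]
    exact cp_mem hQ hD l w
  obtain ⟨i, e, he, he0, hQe, hsupp⟩ : ∃ i e, e ∈ D i ∧ e ≠ 0 ∧ Q e = 0 ∧
      ∀ l : Fin t, ∃ j, j ≠ l ∧ cp hQ hD j (g.1 e) ≠ 0 := by
    by_contra hcon
    have hone : ∀ i e, e ∈ D i → e ≠ 0 → Q e = 0 → ∃ l, g.1 e ∈ D l := fun i e he he0 hQe =>
      hsingle _ (fun h => he0 (g.1.map_eq_zero_iff.1 h))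
        fun h => hcon ⟨i, e, he, he0, hQe, h⟩
    have himg : ∀ i, ∃ l, ∀ y ∈ D i, g.1 y ∈ D l := by
      intro i
      obtain ⟨z, hz, hz0, hQz⟩ := exists_singular_of_three (Q := Q) (D i) (h3 i)
      obtain ⟨f, hf, hQf, hzf⟩ := ND.singular_partner (hD.nd i) hz hz0 hQz
      obtain ⟨l, hl⟩ := hone i z hz hz0 hQz
      refine ⟨l, ?_⟩
      obtain ⟨y0, hy0, hzy⟩ := ND.partner (hD.nd i) hz hz0
      have hsp := span_singular_eq hQ hz hy0 hQz hzy
      have hnon : ∀ u w, u ∈ D i → w ∈ D i → Q u = 0 → Q w = 0 → polar Q u w ≠ 0 →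
          ∀ m, g.1 u ∈ D m → g.1 w ∈ D m := by
        intro u w hu hw hQu hQw huw m hm
        obtain ⟨m', hm'⟩ := hone i w hw (fun h => huw (by rw [h, polar_zero_right])) hQw
        rcases eq_or_ne m m' with rfl | hne
        · exact hm'
        · refine absurd ?_ huw
          rw [← polar_oGroup g]
          exact hD.orth m m' hne _ hm _ hm'
      intro y hy
      rw [← hsp] at hy
      induction hy using Submodule.span_induction with
      | mem w hw =>
        by_cases hzw : polar Q z w = 0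
        · rcases eq_or_ne w 0 with rfl | hw0
          · simp
          by_cases hwz : z + w = 0
          · rw [eq_neg_of_add_eq_zero_right hwz, map_neg]; exact (D l).neg_mem hl
          obtain ⟨m, hm⟩ := hone i (z + w) ((D i).add_mem hz hw.1) hwz
            (by rw [quad_add, hQz, hw.2, hzw, add_zero, add_zero])
          obtain ⟨m', hm'⟩ := hone i w hw.1 hw0 hw.2
          rcases eq_or_ne m' l with rfl | hne
          · exact hm'
          exfalso
          have e1 : cp hQ hD l (g.1 (z + w)) = g.1 z := by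
            rw [map_add, map_add, cp_of_mem hQ hD hl, cp_of_mem_ne hQ hD hne.symm hm', add_zero]
          have e2 : cp hQ hD m' (g.1 (z + w)) = g.1 w := by
            rw [map_add, map_add, cp_of_mem hQ hD hm', cp_of_mem_ne hQ hD hne hl, zero_add]
          rcases eq_or_ne l m with rfl | hlm
          · rw [cp_of_mem_ne hQ hD hne hm] at e2
            exact hw0 (g.1.map_eq_zero_iff.1 e2.symm)
          · rw [cp_of_mem_ne hQ hD hlm hm] at e1
            exact hz0 (g.1.map_eq_zero_iff.1 e1.symm)
        · exact hnon z w hz hw.1 hQz hw.2 hzw l hl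
      | zero => simp
      | add a b _ _ ha hb => rw [map_add]; exact (D l).add_mem ha hb
      | smul s a _ ha => rw [map_smul]; exact (D l).smul_mem s ha
    choose σ hσ using himg
    have hmap : ∀ i, (D i).map g.1.toLinearMap = D (σ i) := fun i =>
      Submodule.eq_of_le_of_finrank_le (by rintro _ ⟨y, hy, rfl⟩; exact hσ i y hy)
        (by rw [LinearEquiv.finrank_map_eq, hD.dim, hD.dim])
    have hinj : Function.Injective σ := fun i i' h => by
      by_contra hne
      have hDD : D i = D i' := Submodule.map_injective_of_injective (f := g.1.toLinearMap)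
        g.1.injective (by rw [hmap, hmap, h])
      obtain ⟨y, hy, hy0⟩ := Submodule.exists_mem_ne_zero_of_ne_bot (p := D i) fun h0 => by
        have := h3 i
        rw [h0, finrank_bot] at this
        omega
      have hyy := cp_of_mem_ne hQ hD hne (hDD ▸ hy : y ∈ D i')
      rw [cp_of_mem hQ hD hy] at hyy
      exact hy0 hyy
    exact hgX (mem_decompStab_of_le hD.dim
      (Equiv.ofBijective σ (Finite.injective_iff_bijective.1 hinj)) hσ)
  set x := g.1 e with hx
  have hQx : Q x = 0 := (g.2 e).trans hQe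
  have hL : ∀ a ∈ D i, polar Q e a = 0 → g.1 a ∈ rootSpace M hQx := fun a ha hea =>
    ⟨(polar_oGroup g e a).trans hea, fun s => by
      rw [← map_smul]
      exact siegel_conj_mem hg hQe (by rw [polar_smul_right, hea, smul_zero])
        (member_siegel_mem hQ hD hn hM he ((D i).smul_mem s ha) hQe
          (by rw [polar_smul_right, hea, smul_zero]))⟩
  obtain ⟨a, ⟨ha, hae⟩, han⟩ : ∃ a ∈ D i ⊓ perpS Q (Submodule.span F {e}),
      a ∉ Submodule.span F {e} := by
    by_contra hc
    push Not at hc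
    have h1 := Submodule.finrank_mono (show D i ⊓ perpS Q (Submodule.span F {e}) ≤ _ from hc)
    have h2 := ND.finrank_inf_perp_singleton hQ (D i) e
    have h4 : Module.finrank F (Submodule.span F {e}) = 1 := finrank_span_singleton he0
    have := h3 i
    change Module.finrank F (D i) ≤ Module.finrank F ↥(D i ⊓ perpS Q (Submodule.span F {e})) + 1 at h2
    omega
  have hgaA := hL a ha (hae e (Submodule.mem_span_singleton_self e))
  by_cases hact : ∃ l, cp hQ hD l (g.1 a) ∉ Submodule.span F {cp hQ hD l x}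
  · obtain ⟨l, hl⟩ := hact
    exact le_of_active hQ h2 hD hn hM hq hQx hsupp hgaA hl
  push Not at hact
  choose lam hlam using fun l => Submodule.mem_span_singleton.1 (hact l)
  obtain ⟨l, j, hlj, hxl, hxj, hcoef⟩ : ∃ l j, l ≠ j ∧ cp hQ hD l x ≠ 0 ∧ cp hQ hD j x ≠ 0 ∧
      lam j - lam l - Q (g.1 a) ≠ 0 := by
    by_contra hc
    push Not at hc
    obtain ⟨l, -, hxl⟩ := hsupp i
    obtain ⟨j, hjl, hxj⟩ := hsupp l
    have h1 := hc l j hjl.symm hxl hxj
    have h2' := hc j l hjl hxj hxl
    have hQa : Q (g.1 a) = 0 := (mul_eq_zero.1 (show (2 : F) * Q (g.1 a) = 0 by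
      linear_combination -h1 - h2')).resolve_left h2
    refine han (Submodule.mem_span_singleton.2 ⟨lam l, g.1.injective ?_⟩)
    rw [map_smul, ← sum_cp hQ hD (g.1 a), ← sum_cp hQ hD (g.1 e), Finset.smul_sum]
    refine Finset.sum_congr rfl fun m _ => ?_
    rw [← hlam m, ← hx]
    rcases eq_or_ne (cp hQ hD m x) 0 with h0 | h0
    · rw [h0, smul_zero, smul_zero]
    rcases eq_or_ne m l with rfl | hml
    · rfl
    have := hc l m hml.symm hxl h0
    rw [hQa, sub_zero, sub_eq_zero] at this
    rw [this]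
  have ht := rootSpace.self_mem hgaA
  obtain ⟨e', he', hQe', hxe'⟩ :=
    ND.exists_singular_partner hQ (hD.nd l) (h3 l) (cp_mem hQ hD l x) hxl
  have he'0 : e' ≠ 0 := fun h => hxe' (by rw [h, polar_zero_right])
  set T := siegel Q x (g.1 a)
  have hTy : ∀ y ∈ D l, ∀ m, cp hQ hD m (T.1 y) = cp hQ hD m y +
      (polar Q y x * (lam m - lam l - Q (g.1 a))) • cp hQ hD m x := by
    intro y hy m
    have hyx : polar Q y (g.1 a) = lam l * polar Q y x := by
      rw [← polar_cp hQ hD hy (g.1 a), ← hlam l, polar_smul_right, polar_cp hQ hD hy, smul_eq_mul]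
    simp only [T, siegel_apply hQx hgaA.1, hyx, map_sub, map_add, map_smul, ← hlam m]
    module
  have hsupp' : ∀ m : Fin t, ∃ j', j' ≠ m ∧ cp hQ hD j' (T.1 e') ≠ 0 := by
    have hj0 : cp hQ hD j (T.1 e') ≠ 0 := by
      rw [hTy e' he' j, cp_of_mem_ne hQ hD hlj.symm he', zero_add]
      refine smul_ne_zero (mul_ne_zero ?_ hcoef) hxj
      rw [← polar_cp hQ hD he', polar_comm]; exact hxe'
    have hl0 : cp hQ hD l (T.1 e') ≠ 0 := by
      rw [hTy e' he' l, cp_of_mem hQ hD he']
      intro h
      have h' := congrArg (fun z => polar Q e' z) h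
      simp only [polar_add_right, polar_self, hQe', smul_zero, zero_add, polar_smul_right,
        polar_cp hQ hD he', polar_zero_right, smul_eq_mul] at h'
      have hk0 : polar Q e' x * (lam l - lam l - Q (g.1 a)) = 0 := (mul_eq_zero.1 h').resolve_right
        (by rw [← polar_cp hQ hD he', polar_comm]; exact hxe')
      rw [hk0, zero_smul, add_zero] at h
      exact he'0 h
    intro m
    rcases eq_or_ne m l with rfl | hml
    · exact ⟨j, hlj.symm, hj0⟩
    · exact ⟨l, hml.symm, hl0⟩
  have hQTe : Q (T.1 e') = 0 := (T.2 e').trans hQe'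
  obtain ⟨a', ⟨ha', ha'e⟩, ha'n⟩ : ∃ a' ∈ D l ⊓ perpS Q (Submodule.span F {e'}),
      a' ∉ Submodule.span F {e'} ⊔ Submodule.span F {cp hQ hD l x} := by
    by_contra hc
    push Not at hc
    have hle : D l ⊓ perpS Q (Submodule.span F {e'}) ≤ Submodule.span F {e'} := by
      intro y hy
      obtain ⟨p, hp, q, hq', rfl⟩ := Submodule.mem_sup.1 (hc y hy)
      obtain ⟨r, rfl⟩ := Submodule.mem_span_singleton.1 hp
      obtain ⟨s, rfl⟩ := Submodule.mem_span_singleton.1 hq'
      have := hy.2 e' (Submodule.mem_span_singleton_self e')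
      rw [polar_add_right, polar_smul_right, polar_smul_right, polar_self, hQe', smul_zero,
        smul_zero, zero_add, polar_comm, smul_eq_mul] at this
      rw [(mul_eq_zero.1 this).resolve_right hxe', zero_smul, add_zero]
      exact Submodule.smul_mem _ _ (Submodule.mem_span_singleton_self e')
    have h1 := Submodule.finrank_mono hle
    have h2' := ND.finrank_inf_perp_singleton hQ (D l) e'
    have h4 : Module.finrank F (Submodule.span F {e'}) = 1 := finrank_span_singleton he'0
    have := h3 l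
    change Module.finrank F (D l) ≤ Module.finrank F ↥(D l ⊓ perpS Q (Submodule.span F {e'})) + 1 at h2'
    omega
  have he'a' : polar Q e' a' = 0 := ha'e e' (Submodule.mem_span_singleton_self e')
  refine le_of_active hQ h2 hD hn hM hq hQTe hsupp' (a := T.1 a') ⟨by rw [polar_oGroup, he'a'], fun s => ?_⟩
    (l := l) fun hm => ha'n ?_
  · rw [← map_smul]
    exact siegel_conj_mem ht hQe' (by rw [polar_smul_right, he'a', smul_zero])
      (member_siegel_mem hQ hD hn hM he' ((D l).smul_mem s ha') hQe'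
        (by rw [polar_smul_right, he'a', smul_zero]))
  · obtain ⟨s, hs⟩ := Submodule.mem_span_singleton.1 hm
    rw [hTy e' he' l, hTy a' ha' l, cp_of_mem hQ hD he', cp_of_mem hQ hD ha'] at hs
    rw [eq_sub_of_add_eq hs.symm]
    exact Submodule.sub_mem _ (Submodule.smul_mem _ s (Submodule.add_mem _
      (Submodule.mem_sup_left (Submodule.mem_span_singleton_self e'))
      (Submodule.mem_sup_right (Submodule.smul_mem _ _ (Submodule.mem_span_singleton_self _)))))
      (Submodule.mem_sup_right (Submodule.smul_mem _ _ (Submodule.mem_span_singleton_self _)))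

omit hM hq h2 in
theorem decomp_proper : ¬ commutator (oGroup Q) ≤ decompStab Q D := by
  intro hle
  have hn5 : 5 ≤ Module.finrank F V := by omega
  let i : Fin t := ⟨0, by have := hD.two; omega⟩
  let j : Fin t := ⟨1, by have := hD.two; omega⟩
  have hij : i ≠ j := by simp [i, j]
  have h3 : ∀ l, 3 ≤ Module.finrank F (D l) := fun l => (hD.dim l).symm ▸ hD.three
  obtain ⟨u, hu, hu0, hQu⟩ := exists_singular_of_three (Q := Q) (D i) (h3 i)
  obtain ⟨y, hy, huy⟩ := ND.partner (hD.nd i) hu hu0
  obtain ⟨b, hb, hb0⟩ := Submodule.exists_mem_ne_zero_of_ne_bot (p := D j) fun h => by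
    have := h3 j
    rw [h, finrank_bot] at this
    omega
  have hub := hD.orth i j hij u hu b hb
  obtain ⟨σ, hσ⟩ := hle (siegel_mem_commutator hQ hn5 hQu hub)
  have hfix : (siegel Q u b).1 u = u :=
    siegel_fix hQu hub (by rw [polar_self, hQu, smul_zero]) hub
  have hσi : σ i = i := by
    by_contra hne
    have hm : u ∈ D (σ i) := hσ i ▸ ⟨u, hu, hfix⟩
    exact hu0 (by rw [← cp_of_mem hQ hD hu, cp_of_mem_ne hQ hD (Ne.symm hne) hm])
  have hm : (siegel Q u b).1 y ∈ D i := hσi ▸ hσ i ▸ ⟨y, hy, rfl⟩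
  have h0 := cp_of_mem_ne hQ hD hij.symm hm
  rw [siegel_apply hQu hub, map_sub, map_add, map_smul, map_smul, cp_of_mem_ne hQ hD hij.symm hy,
    cp_of_mem_ne hQ hD hij.symm hu, cp_of_mem hQ hD hb, smul_zero, sub_zero, zero_add] at h0
  exact smul_ne_zero (by rwa [polar_comm]) hb0 h0

omit hM in
theorem decomp_maximal : Cfsg.Geo.IsMaximalIn (commutator (oGroup Q))
    (decompStab Q D ⊓ commutator (oGroup Q)) := by
  refine ⟨lt_of_le_of_ne inf_le_right fun e => decomp_proper hQ hD hn (e.ge.trans inf_le_left),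
    fun M hM hMK => ?_⟩
  by_cases h : M ≤ decompStab Q D
  · exact Or.inl (le_antisymm (le_inf h hMK) hM)
  · exact Or.inr (le_antisymm hMK (decomp_key hQ h2 hD hn hM hq h))

end CfsgLib.Geo.OS
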