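import Cfsg.Agent.Geo.OrthLagrangianPair

/-!
Orthogonal decompositions into isometric non-degenerate subspaces of dimension at least three:
components, swaps, corrections by reflections, and generation from one mixed Siegel transformation.
-/

set_option autoImplicit false
set_option linter.unusedSectionVars false

namespace CfsgLib.Geo.OS

open QuadraticMap CfsgLib.Forms CfsgLib.Quad

variable {F V : Type*} [Field F] [AddCommGroup V] [Module F V] [FiniteDimensional F V] [Finite F]
  {Q : QuadraticForm F V} {t k : ℕ}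

/-- An orthogonal decomposition into isometric non-degenerate members of dimension `k ≥ 3`. -/
structure OD (Q : QuadraticForm F V) (k : ℕ) (D : Fin t → Submodule F V) : Prop where
  three : 3 ≤ k
  two : 2 ≤ t
  dim : ∀ i, Module.finrank F (D i) = k
  nd : ∀ i, ND Q (D i)
  orth : ∀ i j, i ≠ j → ∀ x ∈ D i, ∀ y ∈ D j, polar Q x y = 0
  top : iSup D = ⊤
  iso : ∀ i j, ∃ e : D i ≃ₗ[F] D j, ∀ w : D i, Q (e w : V) = Q (w : V)

/-- The stabiliser of a family of subspaces. -/
def decompStab (Q : QuadraticForm F V) (D : Fin t → Submodule F V) : Subgroup (oGroup Q) where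
  carrier := {g | ∃ σ : Equiv.Perm (Fin t), ∀ i, (D i).map g.1.toLinearMap = D (σ i)}
  one_mem' := ⟨1, fun i => Submodule.map_id (D i)⟩
  mul_mem' := fun {g h} ⟨σ, hσ⟩ ⟨τ, hτ⟩ => ⟨σ * τ, fun i => by
    rw [Equiv.Perm.mul_apply, ← hσ, ← hτ, ← Submodule.map_comp]; rfl⟩
  inv_mem' := fun {g} ⟨σ, hσ⟩ => ⟨σ⁻¹, fun i => by
    have h := hσ (σ⁻¹ i)
    rw [show σ (σ⁻¹ i) = i from σ.apply_symm_apply i] at h
    conv_lhs => rw [← h]
    rw [← Submodule.map_comp]
    exact (congrArg (Submodule.map · (D (σ⁻¹ i)))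
      (LinearMap.ext fun x => g.1.symm_apply_apply x)).trans (Submodule.map_id _)⟩

theorem mem_decompStab_of_le {D : Fin t → Submodule F V} (hdim : ∀ i, Module.finrank F (D i) = k)
    {g : oGroup Q} (σ : Equiv.Perm (Fin t)) (h : ∀ i, ∀ x ∈ D i, g.1 x ∈ D (σ i)) :
    g ∈ decompStab Q D :=
  ⟨σ, fun i => Submodule.eq_of_le_of_finrank_le (by rintro _ ⟨x, hx, rfl⟩; exact h i x hx)
    (by rw [LinearEquiv.finrank_map_eq, hdim, hdim])⟩

variable (hQ : (polarBilin Q).Nondegenerate) {D : Fin t → Submodule F V} (hD : OD Q k D)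

/-- The component in one member. -/
noncomputable def cp (i : Fin t) : V →ₗ[F] V :=
  (D i).projection (perpS Q (D i)) (ND.isCompl hQ (hD.nd i))

theorem cp_mem (i : Fin t) (x : V) : cp hQ hD i x ∈ D i := Submodule.projection_apply_mem _ x

theorem sub_cp_mem (i : Fin t) (x : V) : x - cp hQ hD i x ∈ perpS Q (D i) :=
  Submodule.sub_projection_mem _ x

include hQ hD

theorem polar_cp {i : Fin t} {y : V} (hy : y ∈ D i) (x : V) :
    polar Q y (cp hQ hD i x) = polar Q y x := by
  have := sub_cp_mem hQ hD i x y hy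
  rw [polar_sub_right, sub_eq_zero] at this
  exact this.symm

theorem polar_cp' {i : Fin t} {y : V} (hy : y ∈ D i) (x : V) :
    polar Q (cp hQ hD i x) y = polar Q x y := by
  rw [polar_comm, polar_cp hQ hD hy, polar_comm]

theorem cp_of_mem {i : Fin t} {x : V} (hx : x ∈ D i) : cp hQ hD i x = x :=
  Submodule.projection_apply_of_mem_left _ hx

theorem cp_of_mem_ne {i j : Fin t} (hij : i ≠ j) {x : V} (hx : x ∈ D j) : cp hQ hD i x = 0 := by
  refine ND.eq_zero (hD.nd i) (cp_mem hQ hD i x) fun y hy => ?_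
  rw [polar_cp hQ hD hy]
  exact hD.orth i j hij y hy x hx

theorem sum_cp (x : V) : ∑ i, cp hQ hD i x = x := by
  classical
  have hx : x ∈ iSup D := by rw [hD.top]; trivial
  induction hx using Submodule.iSup_induction' with
  | mem i x hx =>
    rw [Finset.sum_eq_single i (fun j _ hji => cp_of_mem_ne hQ hD hji hx)
      (fun h => absurd (Finset.mem_univ i) h), cp_of_mem hQ hD hx]
  | zero => simp
  | add x y _ _ hx hy => simp only [map_add, Finset.sum_add_distrib, hx, hy]

theorem quad_cp (x : V) : Q x = ∑ i, Q (cp hQ hD i x) := by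
  classical
  conv_lhs => rw [← sum_cp hQ hD x]
  have h := quad_sum_orth (Q := Q) Finset.univ (fun i => cp hQ hD i x) (fun _ => (1 : F))
    fun i j hij => hD.orth i j hij _ (cp_mem hQ hD i x) _ (cp_mem hQ hD j x)
  simpa using h

theorem exists_cp_ne {x : V} (hx : x ≠ 0) : ∃ i, cp hQ hD i x ≠ 0 := by
  by_contra hc
  push Not at hc
  exact hx (by rw [← sum_cp hQ hD x, Finset.sum_eq_zero fun i _ => hc i])

omit hD in
/-- Every value is attained on a non-degenerate space of dimension at least three. -/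
theorem exists_value_three {X : Submodule F V} (hX : ND Q X) (h3 : 3 ≤ Module.finrank F X) (c : F) :
    ∃ d ∈ X, Q d = c := by
  obtain ⟨z, hz, hz0, hQz⟩ := exists_singular_of_three (Q := Q) X h3
  obtain ⟨y, hy, hzy⟩ := ND.partner hX hz hz0
  refine ⟨y + ((c - Q y) / polar Q z y) • z, X.add_mem hy (X.smul_mem _ hz), ?_⟩
  rw [quad_add, quad_smul, hQz, polar_smul_right, polar_comm (⇑Q) y z, smul_eq_mul]
  field_simp; ring

/-- A Siegel transformation of a member stabilises the decomposition. -/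
theorem siegel_mem_decompStab {l : Fin t} {e a : V} (he : e ∈ D l) (ha : a ∈ D l) (hQe : Q e = 0)
    (hea : polar Q e a = 0) : siegel Q e a ∈ decompStab Q D := by
  refine mem_decompStab_of_le hD.dim 1 fun i x hx => ?_
  rw [Equiv.Perm.one_apply]
  rcases eq_or_ne i l with rfl | hil
  · rw [siegel_apply hQe hea]
    exact (D i).sub_mem ((D i).add_mem hx ((D i).smul_mem _ ha)) ((D i).smul_mem _ he)
  · rw [siegel_fix hQe hea (hD.orth i l hil x hx e he) (hD.orth i l hil x hx a ha)]
    exact hx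

theorem refl_mem_decompStab {l : Fin t} {d : V} (hd : d ∈ D l) : refl Q d ∈ decompStab Q D := by
  refine mem_decompStab_of_le hD.dim 1 fun i x hx => ?_
  rw [Equiv.Perm.one_apply]
  rcases eq_or_ne i l with rfl | hil
  · rw [refl_apply]; exact (D i).add_mem hx ((D i).smul_mem _ hd)
  · rw [refl_fix (hD.orth i l hil x hx d hd)]; exact hx

/-- Modulo `Ω`, every isometry is a product of reflections in one member. -/
theorem exists_correct (hgen : (∃ t : F, t ≠ 0 ∧ t ≠ 1) ∨ Module.finrank F V ≠ 4) (l : Fin t)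
    (g : oGroup Q) : ∃ c ∈ Subgroup.closure {r | ∃ d ∈ D l, r = refl Q d},
      g * c ∈ commutator (oGroup Q) := by
  set C := Subgroup.closure {r : oGroup Q | ∃ d ∈ D l, r = refl Q d}
  have hg : g ∈ reflGroup Q := by rw [reflGroup_eq_top hQ hgen]; trivial
  have hle : reflGroup Q ≤ (C.map Abelianization.of).comap Abelianization.of := by
    refine (Subgroup.closure_le _).2 ?_
    rintro _ ⟨v, rfl⟩
    change Abelianization.of (refl Q v) ∈ C.map Abelianization.of
    by_cases hv : Q v = 0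
    · rw [refl_eq_one hv, map_one]; exact one_mem _
    obtain ⟨d, hd, hQd⟩ := exists_value_three hQ (hD.nd l) (hD.dim l ▸ hD.three) (Q v)
    refine ⟨refl Q d, Subgroup.subset_closure ⟨d, hd, rfl⟩, ?_⟩
    have h1 : Abelianization.of (refl Q d * refl Q v) = 1 :=
      (QuotientGroup.eq_one_iff _).2 (refl_pair_mem_commutator hQ (by rwa [hQd]) hv
        (by rw [hQd]; exact IsSquare.mul_self _))
    rw [map_mul] at h1
    exact mul_right_cancel (b := Abelianization.of (refl Q v)) (h1.trans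
      (by rw [← map_mul, refl_mul_self, map_one]))
  obtain ⟨c, hc, hce⟩ := hle hg
  refine ⟨c⁻¹, inv_mem hc, (QuotientGroup.eq_one_iff _).1 ?_⟩
  change Abelianization.of (g * c⁻¹) = 1
  rw [map_mul, map_inv, hce, mul_inv_cancel]

/-- An isometry exchanging two members and fixing the others. -/
theorem exists_swap_members {i j : Fin t} (hij : i ≠ j) :
    ∃ s : oGroup Q, s ∈ decompStab Q D ∧ (∀ x ∈ D i, s.1 x ∈ D j) ∧
      ∀ l, l ≠ i → l ≠ j → ∀ x ∈ D l, s.1 x = x := by
  classical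
  obtain ⟨φ, hφ⟩ := hD.iso i j
  let pi : V →ₗ[F] D i := (cp hQ hD i).codRestrict (D i) (cp_mem hQ hD i)
  let pj : V →ₗ[F] D j := (cp hQ hD j).codRestrict (D j) (cp_mem hQ hD j)
  let S : V →ₗ[F] V := LinearMap.id - cp hQ hD i - cp hQ hD j +
    (D j).subtype ∘ₗ φ.toLinearMap ∘ₗ pi + (D i).subtype ∘ₗ φ.symm.toLinearMap ∘ₗ pj
  have hSapply : ∀ x, S x = x - cp hQ hD i x - cp hQ hD j x + (φ (pi x) : V) + (φ.symm (pj x) : V) :=
    fun x => rfl
  have hi : ∀ {x} (hx : x ∈ D i), pi x = ⟨x, hx⟩ ∧ pj x = 0 := fun {x} hx =>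
    ⟨Subtype.ext (cp_of_mem hQ hD hx), Subtype.ext (cp_of_mem_ne hQ hD hij.symm hx)⟩
  have hj : ∀ {x} (hx : x ∈ D j), pj x = ⟨x, hx⟩ ∧ pi x = 0 := fun {x} hx =>
    ⟨Subtype.ext (cp_of_mem hQ hD hx), Subtype.ext (cp_of_mem_ne hQ hD hij hx)⟩
  have hSi : ∀ {x} (hx : x ∈ D i), S x = (φ ⟨x, hx⟩ : V) := fun {x} hx => by
    rw [hSapply, (hi hx).1, (hi hx).2, cp_of_mem hQ hD hx, cp_of_mem_ne hQ hD hij.symm hx]
    simp
  have hSj : ∀ {x} (hx : x ∈ D j), S x = (φ.symm ⟨x, hx⟩ : V) := fun {x} hx => by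
    rw [hSapply, (hj hx).1, (hj hx).2, cp_of_mem hQ hD hx, cp_of_mem_ne hQ hD hij hx]
    simp
  have hSl : ∀ l, l ≠ i → l ≠ j → ∀ x ∈ D l, S x = x := fun l hli hlj x hx => by
    have a : pi x = 0 := Subtype.ext (cp_of_mem_ne hQ hD hli.symm hx)
    have b : pj x = 0 := Subtype.ext (cp_of_mem_ne hQ hD hlj.symm hx)
    rw [hSapply, a, b, cp_of_mem_ne hQ hD hli.symm hx, cp_of_mem_ne hQ hD hlj.symm hx]
    simp
  have hQS : ∀ l, ∀ x ∈ D l, Q (S x) = Q x := by
    intro l x hx
    rcases eq_or_ne l i with rfl | hli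
    · rw [hSi hx, hφ]
    rcases eq_or_ne l j with rfl | hlj
    · rw [hSj hx, ← hφ, φ.apply_symm_apply]
    · rw [hSl l hli hlj x hx]
  have hmem : ∀ l, ∀ x ∈ D l, S x ∈ D (Equiv.swap i j l) := by
    intro l x hx
    rcases eq_or_ne l i with rfl | hli
    · rw [hSi hx, Equiv.swap_apply_left]; exact (φ _).2
    rcases eq_or_ne l j with rfl | hlj
    · rw [hSj hx, Equiv.swap_apply_right]; exact (φ.symm _).2
    · rw [hSl l hli hlj x hx, Equiv.swap_apply_of_ne_of_ne hli hlj]; exact hx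
  have hpres : ∀ x, Q (S x) = Q x := by
    intro x
    have h1 : Q (∑ l, (1 : F) • S (cp hQ hD l x)) = ∑ l, 1 * 1 * Q (S (cp hQ hD l x)) :=
      quad_sum_orth Finset.univ (fun l => S (cp hQ hD l x)) (fun _ => (1 : F)) fun a b hab =>
        hD.orth _ _ (fun e => hab ((Equiv.swap i j).injective e)) _ (hmem a _ (cp_mem hQ hD a x))
          _ (hmem b _ (cp_mem hQ hD b x))
    simp only [one_smul, one_mul, hQS _ _ (cp_mem hQ hD _ x)] at h1
    rwa [← map_sum, sum_cp hQ hD, ← quad_cp hQ hD] at h1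
  have hinv : Function.Involutive S := by
    intro x
    have hx : x ∈ iSup D := by rw [hD.top]; trivial
    induction hx using Submodule.iSup_induction' with
    | mem l x hx =>
      rcases eq_or_ne l i with rfl | hli
      · rw [hSi hx, hSj (φ ⟨x, hx⟩).2, Subtype.coe_eta, φ.symm_apply_apply]
      rcases eq_or_ne l j with rfl | hlj
      · rw [hSj hx, hSi (φ.symm ⟨x, hx⟩).2, Subtype.coe_eta, φ.apply_symm_apply]
      · rw [hSl l hli hlj x hx, hSl l hli hlj x hx]
    | zero => simp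
    | add x y _ _ hx hy => rw [map_add, map_add, hx, hy]
  refine ⟨⟨LinearEquiv.ofInvolutive S hinv, hpres⟩,
    mem_decompStab_of_le hD.dim (Equiv.swap i j) hmem, fun x hx => ?_, hSl⟩
  have := hmem i x hx
  rwa [Equiv.swap_apply_left] at this

omit hD in
/-- A Siegel transformation of `X` moving a given vector inside `X`. -/
theorem exists_shift {X : Submodule F V} (hX : ND Q X) (h3 : 3 ≤ Module.finrank F X) {v p : V}
    (hp : p ∈ X) (hp0 : p ≠ 0) (hpv : ∀ y ∈ X, polar Q v y = polar Q p y) :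
    ∃ u c, u ∈ X ∧ c ∈ X ∧ Q u = 0 ∧ polar Q u c = 0 ∧ (siegel Q u c).1 v - v ∈ X ∧
      (siegel Q u c).1 v - v ≠ 0 := by
  obtain ⟨u, hu, hQu, hpu⟩ := ND.exists_singular_partner hQ hX h3 hp hp0
  obtain ⟨c, ⟨hc, hcu⟩, hcn⟩ : ∃ c ∈ X ⊓ perpS Q (Submodule.span F {u}), c ∉ Submodule.span F {u} := by
    by_contra hcc
    push Not at hcc
    have h1 := Submodule.finrank_mono (show X ⊓ perpS Q (Submodule.span F {u}) ≤ _ from hcc)
    have h2 := ND.finrank_inf_perp_singleton hQ X u
    have h4 : Module.finrank F (Submodule.span F {u}) ≤ 1 :=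
      (finrank_span_le_card ({u} : Set V)).trans (by simp)
    change Module.finrank F X ≤ Module.finrank F ↥(X ⊓ perpS Q (Submodule.span F {u})) + 1 at h2
    omega
  have huc : polar Q u c = 0 := hcu u (Submodule.mem_span_singleton_self u)
  have heq : (siegel Q u c).1 v - v = polar Q p u • c - (polar Q v c + Q c * polar Q v u) • u := by
    rw [siegel_apply hQu huc, hpv u hu]; abel
  refine ⟨u, c, hu, hc, hQu, huc, ?_, fun h0 => hcn ?_⟩
  · rw [heq]; exact X.sub_mem (X.smul_mem _ hc) (X.smul_mem _ hu)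
  · rw [heq, sub_eq_zero] at h0
    have := congrArg ((polar Q p u)⁻¹ • ·) h0
    simp only [smul_smul, inv_mul_cancel₀ hpu, one_smul] at this
    exact Submodule.mem_span_singleton.2 ⟨_, this.symm⟩

variable (hn : 7 ≤ Module.finrank F V) {M : Subgroup (oGroup Q)}
  (hM : decompStab Q D ⊓ commutator (oGroup Q) ≤ M)

include hn hM

theorem member_siegel_mem {l : Fin t} {e a : V} (he : e ∈ D l) (ha : a ∈ D l) (hQe : Q e = 0)
    (hea : polar Q e a = 0) : siegel Q e a ∈ M :=
  hM ⟨siegel_mem_decompStab hQ hD he ha hQe hea, siegel_mem_commutator hQ (by omega) hQe hea⟩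

/-- One mixed Siegel transformation generates `Ω` over the stabiliser. -/
theorem le_of_mixed {i j : Fin t} (hij : i ≠ j) {u : V} (hu : u ∈ D i) (hu0 : u ≠ 0) (hQu : Q u = 0)
    {b : V} (hb : b ∈ D j) (hb0 : b ≠ 0) (hm : siegel Q u b ∈ M) :
    commutator (oGroup Q) ≤ M := by
  classical
  have hn5 : 5 ≤ Module.finrank F V := by omega
  have hgen : (∃ t : F, t ≠ 0 ∧ t ≠ 1) ∨ Module.finrank F V ≠ 4 := Or.inr (by omega)
  have h3 : ∀ l, 3 ≤ Module.finrank F (D l) := fun l => (hD.dim l).symm ▸ hD.three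
  have hperp : ∀ l, i ≠ l → ∀ y ∈ D l, polar Q u y = 0 := fun l hl y hy => hD.orth i l hl u hu y hy
  have hfill : ∀ l, i ≠ l → ∀ b ∈ D l, b ≠ 0 → siegel Q u b ∈ M → ∀ y ∈ D l, siegel Q u y ∈ M := by
    intro l hl b hb hb0 hm
    refine fill hQ (hD.nd l) (h3 l) (fun y => siegel Q u y ∈ M) ?_ ?_ ?_ hb hb0 hm
    · intro a a' ha ha' h h'
      rw [← siegel_mul hQu (hperp l hl a ha) (hperp l hl a' ha')]; exact mul_mem h h'
    · intro a ha h
      rw [← siegel_inv hQu (hperp l hl a ha)]; exact inv_mem h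
    · intro e c he hc hQe hec q hq h
      have := siegel_conj_mem (member_siegel_mem hQ hD hn hM he hc hQe hec) hQu (hperp l hl q hq) h
      rwa [siegel_fix hQe hec (hperp l hl e he) (hperp l hl c hc)] at this
  have hall : ∀ l, l ≠ i → ∀ y ∈ D l, siegel Q u y ∈ M := by
    intro l hl
    rcases eq_or_ne l j with rfl | hlj
    · exact hfill l hl.symm b hb hb0 hm
    obtain ⟨s, hs, hsj, hsfix⟩ := exists_swap_members hQ hD (i := j) (j := l) hlj.symm
    obtain ⟨c, hc, hsc⟩ := exists_correct hQ hD hgen j s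
    have hcle : Subgroup.closure {r : oGroup Q | ∃ d ∈ D j, r = refl Q d} ≤
        decompStab Q D ⊓ stabO Q (D j) := by
      refine (Subgroup.closure_le _).2 ?_
      rintro _ ⟨d, hd, rfl⟩
      exact ⟨refl_mem_decompStab hQ hD hd, refl_mem_stabO hQ (Or.inl hd)⟩
    have hcu : c.1 u = u := by
      have hcle2 : Subgroup.closure {r : oGroup Q | ∃ d ∈ D j, r = refl Q d} ≤
          (MulAction.stabilizer (V ≃ₗ[F] V) u).comap (oGroup Q).subtype := by
        refine (Subgroup.closure_le _).2 ?_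
        rintro _ ⟨d, hd, rfl⟩
        exact refl_fix (hperp j hij d hd)
      exact hcle2 hc
    have hscM : s * c ∈ M := hM ⟨mul_mem hs (hcle hc).1, hsc⟩
    have := siegel_conj_mem hscM hQu (hperp j hij b hb) hm
    change siegel Q (s.1 (c.1 u)) (s.1 (c.1 b)) ∈ M at this
    rw [hcu, hsfix i hij hl.symm u hu] at this
    exact hfill l hl.symm _ (hsj _ (((hcle hc).2 b).2 hb))
      (fun e => hb0 (c.1.map_eq_zero_iff.1 (s.1.map_eq_zero_iff.1 e))) this
  have hFull : Full M u := by
    intro a hua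
    have key : ∀ T : Finset (Fin t),
        polar Q u (∑ l ∈ T, cp hQ hD l a) = 0 ∧ siegel Q u (∑ l ∈ T, cp hQ hD l a) ∈ M := by
      intro T
      induction T using Finset.induction with
      | empty => simp only [Finset.sum_empty]; exact ⟨polar_zero_right Q u, by
          rw [siegel_zero hQu]; exact one_mem _⟩
      | insert l T hl ih =>
        have hp : polar Q u (cp hQ hD l a) = 0 := by
          rcases eq_or_ne i l with rfl | hil
          · rw [polar_cp hQ hD hu]; exact hua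
          · exact hperp l hil _ (cp_mem hQ hD l a)
        rw [Finset.sum_insert hl]
        refine ⟨by rw [polar_add_right, hp, ih.1, add_zero], ?_⟩
        rw [← siegel_mul hQu hp ih.1]
        refine mul_mem ?_ ih.2
        rcases eq_or_ne i l with rfl | hil
        · exact member_siegel_mem hQ hD hn hM hu (cp_mem hQ hD i a) hQu hp
        · exact hall l hil.symm _ (cp_mem hQ hD l a)
    have := (key Finset.univ).2
    rwa [sum_cp hQ hD] at this
  obtain ⟨f, hf, hQf, huf⟩ := ND.singular_partner (hD.nd i) hu hu0 hQu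
  set d := u - f with hd_def
  have hQd : Q d = -polar Q u f := by
    rw [hd_def, sub_eq_add_neg, quad_add, QuadraticMap.map_neg, hQu, hQf, polar_neg_right]; ring
  have hd0 : Q d ≠ 0 := by rw [hQd, neg_ne_zero]; exact huf
  obtain ⟨d', hd', hQd'⟩ := exists_value_three hQ (hD.nd j) (h3 j) (Q d)
  have hg : refl Q d * refl Q d' ∈ M := hM ⟨mul_mem
    (refl_mem_decompStab hQ hD ((D i).sub_mem hu hf)) (refl_mem_decompStab hQ hD hd'),
    refl_pair_mem_commutator hQ hd0 (by rwa [hQd']) (by rw [hQd']; exact IsSquare.mul_self _)⟩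
  have himg : (refl Q d * refl Q d').1 u = f := by
    change (refl Q d).1 ((refl Q d').1 u) = f
    rw [refl_fix (hperp j hij d' hd'), refl_apply, hQd, hd_def, polar_sub_right, polar_self, hQu]
    simp only [smul_zero, zero_sub]
    match_scalars <;> field_simp <;> ring
  have hFf := Full.conj hg hQu hFull
  rw [himg] at hFf
  exact commutator_le_of_two hQ hn5 hQu hQf huf hFull hFf

/-- A root element missing a member produces a mixed one. -/
theorem le_of_missing {b : V} (hb0 : b ≠ 0) (hQb : Q b = 0) {m : Fin t} (hbm : cp hQ hD m b = 0)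
    {a : V} (hba : polar Q b a = 0) (ham : cp hQ hD m a ≠ 0) (hm : siegel Q b a ∈ M) :
    commutator (oGroup Q) ≤ M := by
  have h3 : ∀ l, 3 ≤ Module.finrank F (D l) := fun l => (hD.dim l).symm ▸ hD.three
  have hperp : ∀ y ∈ D m, polar Q b y = 0 := fun y hy => by
    rw [← polar_cp' hQ hD hy, hbm, polar_zero_left]
  have hfix : ∀ u c, u ∈ D m → c ∈ D m → Q u = 0 → polar Q u c = 0 → (siegel Q u c).1 b = b :=
    fun u c hu hc hQu huc => siegel_fix hQu huc (hperp u hu) (hperp c hc)
  obtain ⟨u, c, hu, hc, hQu, huc, hδ, hδ0⟩ := exists_shift hQ (hD.nd m) (h3 m)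
    (cp_mem hQ hD m a) ham (fun y hy => (polar_cp' hQ hD hy a).symm)
  have hh := member_siegel_mem hQ hD hn hM hu hc hQu huc
  have hδM : siegel Q b ((siegel Q u c).1 a - a) ∈ M := by
    have h1 := siegel_conj_mem hh hQb hba hm
    rw [hfix u c hu hc hQu huc] at h1
    have hbs : polar Q b ((siegel Q u c).1 a) = 0 := by
      conv_lhs => rw [← hfix u c hu hc hQu huc]
      rw [polar_oGroup, hba]
    have h2 := mul_mem h1 (inv_mem hm)
    rwa [siegel_inv hQb hba, siegel_mul hQb hbs (by rw [polar_neg_right, hba, neg_zero]),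
      ← sub_eq_add_neg] at h2
  have hallm : ∀ y ∈ D m, siegel Q b y ∈ M := by
    refine fill hQ (hD.nd m) (h3 m) (fun y => siegel Q b y ∈ M) ?_ ?_ ?_ hδ hδ0 hδM
    · intro x x' hx hx' h h'
      rw [← siegel_mul hQb (hperp x hx) (hperp x' hx')]; exact mul_mem h h'
    · intro x hx h
      rw [← siegel_inv hQb (hperp x hx)]; exact inv_mem h
    · intro e c he hc hQe hec q hq h
      have := siegel_conj_mem (member_siegel_mem hQ hD hn hM he hc hQe hec) hQb (hperp q hq) h
      rwa [hfix e c he hc hQe hec] at this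
  obtain ⟨z, hz, hz0, hQz⟩ := exists_singular_of_three (Q := Q) (D m) (h3 m)
  have hzb : polar Q z b = 0 := by rw [polar_comm]; exact hperp z hz
  have hzM : siegel Q z (-b) ∈ M := by
    have := hallm z hz
    rwa [siegel_comm hQz hQb hzb] at this
  obtain ⟨j, hj⟩ := exists_cp_ne hQ hD hb0
  have hjm : m ≠ j := fun e => hj (e ▸ hbm)
  obtain ⟨u', c', hu', hc', hQu', huc', hδ', hδ'0⟩ := exists_shift hQ (hD.nd j) (h3 j)
    (v := -b) (p := -cp hQ hD j b) ((D j).neg_mem (cp_mem hQ hD j b)) (neg_ne_zero.2 hj)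
    (fun y hy => by rw [polar_neg_left, polar_neg_left, polar_cp' hQ hD hy])
  have hh' := member_siegel_mem hQ hD hn hM hu' hc' hQu' huc'
  have hfz : (siegel Q u' c').1 z = z :=
    siegel_fix hQu' huc' (hD.orth m j hjm z hz u' hu') (hD.orth m j hjm z hz c' hc')
  have hzb' : polar Q z (-b) = 0 := by rw [polar_neg_right, hzb, neg_zero]
  have h1 := siegel_conj_mem hh' hQz hzb' hzM
  rw [hfz] at h1
  have hzs : polar Q z ((siegel Q u' c').1 (-b)) = 0 := by
    conv_lhs => rw [← hfz]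
    rw [polar_oGroup, hzb']
  have h2 := mul_mem h1 (inv_mem hzM)
  rw [siegel_inv hQz hzb', siegel_mul hQz hzs (by rw [neg_neg, hzb]), ← sub_eq_add_neg] at h2
  exact le_of_mixed hQ hD hn hM hjm hz hz0 hQz hδ' hδ'0 h2

end CfsgLib.Geo.OS
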