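import Cfsg.Agent.Geo.OrthSubfieldInvolutions

/-!
Orthogonal subfield subgroups are maximal: odd characteristic and the conclusion.
-/

set_option autoImplicit false
set_option linter.unusedSectionVars false
set_option linter.style.haveILetI false

namespace CfsgLib.Geo.OS

open QuadraticMap CfsgLib.Forms CfsgLib.Quad

variable {F : Type*} [Field F] {V : Type*} [AddCommGroup V] [Module F V] [FiniteDimensional F V]
  [Finite F] {Q : QuadraticForm F V}

/-- Orthogonal non-degenerate subspaces span a non-degenerate one. -/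
theorem ND.sup {K : Type*} [Field K] [Finite K] {W : Type*} [AddCommGroup W] [Module K W]
    [FiniteDimensional K W] {Q : QuadraticForm K W} {S T : Submodule K W} (hS : ND Q S)
    (hT : ND Q T) (h : T ≤ perpS Q S) : ND Q (S ⊔ T) := by
  refine (Submodule.eq_bot_iff _).2 fun x hx => ?_
  obtain ⟨s, hs, t, ht, rfl⟩ := Submodule.mem_sup.1 hx.1
  have h1 : s = 0 := ND.eq_zero hS hs fun u hu => by
    have h2 := hx.2 u (Submodule.mem_sup_left hu)
    rwa [polar_add_right, h ht u hu, add_zero] at h2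
  have h3 : t = 0 := ND.eq_zero hT ht fun u hu => by
    have h2 := hx.2 u (Submodule.mem_sup_right hu)
    rwa [polar_add_right, h1, polar_zero_right, zero_add] at h2
  rw [h1, h3, add_zero]

/-- An anisotropic line is non-degenerate in odd characteristic. -/
theorem nd_line {K : Type*} [Field K] [Finite K] {W : Type*} [AddCommGroup W] [Module K W]
    [FiniteDimensional K W] {Q : QuadraticForm K W} (h2 : (2 : K) ≠ 0) {v : W} (hv : Q v ≠ 0) :
    ND Q (Submodule.span K {v}) := by
  refine (Submodule.eq_bot_iff _).2 fun x hx => ?_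
  obtain ⟨t, rfl⟩ := Submodule.mem_span_singleton.1 hx.1
  have h1 := hx.2 v (Submodule.mem_span_singleton_self v)
  rw [polar_smul_right, polar_self, smul_eq_mul, nsmul_eq_mul, Nat.cast_ofNat] at h1
  rw [(mul_eq_zero.1 h1).resolve_right (mul_ne_zero h2 hv), zero_smul]

omit [Finite F] in
/-- An element of `Ω` with two eigenspaces negates an even-dimensional one. -/
theorem even_of_commutator {z : oGroup Q} (hz : z ∈ commutator (oGroup Q)) {A B : Submodule F V}
    (hA : ∀ v ∈ A, z.1 v = -v) (hB : ∀ v ∈ B, z.1 v = v) (htop : A ⊔ B = ⊤) (h2 : (2 : F) ≠ 0)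
    (hdim : Module.finrank F A + Module.finrank F B = Module.finrank F V) :
    Even (Module.finrank F A) := by
  have hc : IsCompl A B := ⟨disjoint_iff.2 (Submodule.finrank_eq_zero.1 (by
    have h1 := Submodule.finrank_sup_add_finrank_inf_eq A B
    rw [htop, finrank_top] at h1
    omega)), codisjoint_iff.2 htop⟩
  let χ : oGroup Q →* Fˣ := (Units.map (LinearMap.det : (V →ₗ[F] V) →* F)).comp
    { toFun := fun g => ⟨g.1.toLinearMap, g.1.symm.toLinearMap,
        LinearMap.ext g.1.apply_symm_apply, LinearMap.ext g.1.symm_apply_apply⟩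
      map_one' := Units.ext rfl
      map_mul' := fun _ _ => Units.ext rfl }
  have h1 : χ z = 1 := Abelianization.commutator_subset_ker χ hz
  have h3 : LinearMap.det z.1.toLinearMap = 1 := congrArg Units.val h1
  let e := Submodule.prodEquivOfIsCompl A B hc
  have h4 : z.1.toLinearMap = e.toLinearMap ∘ₗ
      (((-1 : F) • LinearMap.id : A →ₗ[F] A).prodMap LinearMap.id) ∘ₗ e.symm.toLinearMap := by
    refine LinearMap.ext fun v => ?_
    obtain ⟨⟨a, b⟩, rfl⟩ := e.surjective v
    simp [e, map_add, hA _ a.2, hB _ b.2]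
  rw [h4, LinearMap.det_conj, LinearMap.det_prodMap, LinearMap.det_smul, LinearMap.det_id,
    LinearMap.det_id, mul_one, mul_one] at h3
  by_contra ho
  rw [(Nat.not_even_iff_odd.1 ho).neg_one_pow] at h3
  exact h2 (by linear_combination -h3)

variable {F₀ : Subfield F} {R : Submodule F₀ V} (hR : RatStr Q F₀ R)
  (hQ : (polarBilin Q).Nondegenerate) (hn : 10 ≤ Module.finrank F V)

include hR hQ hn

theorem two_ne_zero_rat (h2 : (2 : F) ≠ 0) : (2 : F₀) ≠ 0 := fun h => h2 (congrArg Subtype.val h)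

theorem nd_ext {S : Submodule F₀ R} (hS : ND (ratForm hR) S) : ext S ⊓ perpS Q (ext S) = ⊥ := by
  rw [hR.ext_perp hQ, hR.ext_inf, show S ⊓ perpS (ratForm hR) S = ⊥ from hS, ext_bot]

/-- A rational involution negating a space of given even dimension orthogonal to `S`. -/
theorem exists_neg (h2 : (2 : F) ≠ 0) {S : Submodule F₀ R} (hS : ND (ratForm hR) S) :
    ∀ j : ℕ, Module.finrank F₀ S + 2 * j + 2 ≤ Module.finrank F V →
      ∃ T : Submodule F₀ R, T ≤ perpS (ratForm hR) S ∧ ND (ratForm hR) T ∧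
        Module.finrank F₀ T = 2 * j ∧ ∃ g ∈ ratStab Q R ⊓ commutator (oGroup Q),
          (∀ v ∈ ext T, g.1 v = -v) ∧ ∀ v ∈ perpS Q (ext T), g.1 v = v := by
  haveI := hR.finite
  haveI : Module.Finite F₀ R := Module.Finite.of_finite
  have h20 := two_ne_zero_rat hR hQ hn h2
  have hQ0 := hR.ratForm_nondeg hQ
  intro j
  induction j with
  | zero =>
    intro _
    refine ⟨⊥, bot_le, ?_, finrank_bot _ _, 1, one_mem _, fun v hv => ?_, fun v _ => rfl⟩
    · exact bot_inf_eq _
    · rw [ext_bot, Submodule.mem_bot] at hv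
      rw [hv, map_zero, neg_zero]
  | succ j ih =>
    intro hj
    obtain ⟨T, hTS, hT, hTd, g, hg, hgT, hgT'⟩ := ih (by omega)
    -- two further vectors
    have hex : ∀ U : Submodule F₀ R, ND (ratForm hR) U →
        Module.finrank F₀ U + 3 ≤ Module.finrank F V →
        ∃ v : R, Q v.1 = 1 ∧ v ∈ perpS (ratForm hR) U := by
      intro U hU hUd
      have hd : 3 ≤ Module.finrank F₀ (perpS (ratForm hR) U) := by
        have h1 := finrank_perpS hQ0 U
        rw [hR.finrank_eq] at h1
        omega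
      set X := perpS (ratForm hR) U
      obtain ⟨z, hz, hz0, hQz⟩ := exists_singular_of_three (Q := ratForm hR) X hd
      obtain ⟨u, hu, hzu⟩ := ND.partner (ND.perp hQ0 hU) hz hz0
      refine ⟨u + ((1 - ratForm hR u) / polar (ratForm hR) z u) • z, ?_,
        X.add_mem hu (X.smul_mem _ hz)⟩
      have h1 : ratForm hR (u + ((1 - ratForm hR u) / polar (ratForm hR) z u) • z) = 1 := by
        rw [quad_add, quad_smul, hQz, polar_smul_right, polar_comm (⇑(ratForm hR)) u z, smul_eq_mul]
        field_simp; ring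
      exact congrArg Subtype.val h1
    have hST := ND.sup hS hT hTS
    have hSTd := Submodule.finrank_add_le_finrank_add_finrank S T
    obtain ⟨v1, hv1, hv1'⟩ := hex _ hST (by omega)
    have hQv1 : ratForm hR v1 ≠ 0 := fun h0 => one_ne_zero (hv1.symm.trans ((ratForm_eq_zero hR).1 h0))
    have hL1 := nd_line h20 hQv1
    have hL1' : Submodule.span F₀ {v1} ≤ perpS (ratForm hR) (S ⊔ T) :=
      (Submodule.span_singleton_le_iff_mem _ _).2 hv1'
    obtain ⟨v2, hv2, hv2'⟩ := hex _ (ND.sup hST hL1 hL1') (by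
      have := Submodule.finrank_add_le_finrank_add_finrank (S ⊔ T) (Submodule.span F₀ {v1})
      have : Module.finrank F₀ (Submodule.span F₀ {v1}) ≤ 1 :=
        (finrank_span_le_card ({v1} : Set R)).trans (by simp)
      omega)
    have hQv2 : ratForm hR v2 ≠ 0 := fun h0 => one_ne_zero (hv2.symm.trans ((ratForm_eq_zero hR).1 h0))
    have hL2 := nd_line h20 hQv2
    have b1 : ∀ x ∈ S ⊔ T, polar (ratForm hR) x v2 = 0 := fun x hx =>
      hv2' x (Submodule.mem_sup_left hx)
    have b2 : polar (ratForm hR) v1 v2 = 0 :=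
      hv2' v1 (Submodule.mem_sup_right (Submodule.mem_span_singleton_self v1))
    have hTv1 : Submodule.span F₀ {v1} ≤ perpS (ratForm hR) T :=
      (Submodule.span_singleton_le_iff_mem _ _).2 fun x hx => hv1' x (Submodule.mem_sup_right hx)
    have hT1 := ND.sup hT hL1 hTv1
    have hT2v : Submodule.span F₀ {v2} ≤ perpS (ratForm hR) (T ⊔ Submodule.span F₀ {v1}) :=
      (Submodule.span_singleton_le_iff_mem _ _).2 fun x hx => hv2' x
        (SetLike.le_def.1 (sup_le_sup le_sup_right le_rfl) hx)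
    set T' := T ⊔ Submodule.span F₀ {v1} ⊔ Submodule.span F₀ {v2} with hT'
    refine ⟨T', sup_le (sup_le hTS ((Submodule.span_singleton_le_iff_mem _ _).2 fun x hx =>
      hv1' x (Submodule.mem_sup_left hx))) ((Submodule.span_singleton_le_iff_mem _ _).2 fun x hx =>
      b1 x (Submodule.mem_sup_left hx)), ND.sup hT1 hL2 hT2v, ?_,
      g * (refl Q v1.1 * refl Q v2.1), ?_, ?_, ?_⟩
    · have hdim : ∀ (A : Submodule F₀ R) (v : R), ND (ratForm hR) A → ratForm hR v ≠ 0 →
          Submodule.span F₀ {v} ≤ perpS (ratForm hR) A →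
          Module.finrank F₀ ↥(A ⊔ Submodule.span F₀ {v}) = Module.finrank F₀ A + 1 := by
        intro A v hA hv hle
        have h1 := Submodule.finrank_sup_add_finrank_inf_eq A (Submodule.span F₀ {v})
        have h3 : A ⊓ Submodule.span F₀ {v} = ⊥ :=
          (Submodule.eq_bot_iff _).2 fun x hx => ND.eq_zero hA hx.1 (hle hx.2)
        have h4 : Module.finrank F₀ (Submodule.span F₀ {v}) = 1 := finrank_span_singleton
          fun h0 => hv (by rw [h0, QuadraticMap.map_zero])
        rw [h3, finrank_bot] at h1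
        omega
      have d1 := hdim T v1 hT hQv1 hTv1
      have d2 := hdim _ v2 hT1 hQv2 hT2v
      change Module.finrank F₀ ↥(T ⊔ Submodule.span F₀ {v1} ⊔ Submodule.span F₀ {v2}) = _
      omega
    · refine mul_mem hg ⟨mem_ratStab_of_preserves fun x hx => ?_, ?_⟩
      · exact refl_rat hR v1.2 (refl_rat hR v2.2 hx)
      · exact refl_pair_mem_commutator hQ (by rw [hv1]; exact one_ne_zero)
          (by rw [hv2]; exact one_ne_zero) (by rw [hv1, hv2, one_mul]; exact IsSquare.one)
    · intro v hv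
      refine ext_induction (p := fun u => (g * (refl Q v1.1 * refl Q v2.1)).1 u = -u)
        (by rw [map_zero, neg_zero]) (fun a b ha hb => by rw [map_add, ha, hb, neg_add])
        (fun c x hx => ?_) hv
      rw [map_smul, ← smul_neg]
      congr 1
      change g.1 ((refl Q v1.1).1 ((refl Q v2.1).1 x.1)) = -x.1
      obtain ⟨t1, ht1, s, hs, rfl⟩ := Submodule.mem_sup.1 hx
      obtain ⟨t, ht, r, hr, rfl⟩ := Submodule.mem_sup.1 ht1
      obtain ⟨c1, rfl⟩ := Submodule.mem_span_singleton.1 hr
      obtain ⟨c2, rfl⟩ := Submodule.mem_span_singleton.1 hs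
      have z1 : polar Q t.1 v1.1 = 0 :=
        (ratForm_polar_eq_zero hR).1 (hv1' t (Submodule.mem_sup_right ht))
      have z2 : polar Q t.1 v2.1 = 0 :=
        (ratForm_polar_eq_zero hR).1 (b1 t (Submodule.mem_sup_right ht))
      have z12 : polar Q v1.1 v2.1 = 0 := (ratForm_polar_eq_zero hR).1 b2
      have hp1 : v1.1 ∈ perpS Q (ext T) := fun u hu =>
        ext_induction (p := fun u => polar Q u v1.1 = 0) (polar_zero_left Q _)
          (fun a b ha hb => by rw [polar_add_left, ha, hb, add_zero])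
          (fun c x hx => by
            rw [polar_smul_left, (ratForm_polar_eq_zero hR).1 (hv1' x (Submodule.mem_sup_right hx)),
              smul_zero]) hu
      have hp2 : v2.1 ∈ perpS Q (ext T) := fun u hu =>
        ext_induction (p := fun u => polar Q u v2.1 = 0) (polar_zero_left Q _)
          (fun a b ha hb => by rw [polar_add_left, ha, hb, add_zero])
          (fun c x hx => by
            rw [polar_smul_left, (ratForm_polar_eq_zero hR).1 (b1 x (Submodule.mem_sup_right hx)),
              smul_zero]) hu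
      change g.1 ((refl Q v1.1).1 ((refl Q v2.1).1
        (t.1 + (c1 : F) • v1.1 + (c2 : F) • v2.1))) = -(t.1 + (c1 : F) • v1.1 + (c2 : F) • v2.1)
      simp only [map_add, map_smul, refl_fix z2, refl_fix z12, refl_fix z1,
        refl_self (show Q v2.1 ≠ 0 by rw [hv2]; exact one_ne_zero),
        refl_self (show Q v1.1 ≠ 0 by rw [hv1]; exact one_ne_zero), map_neg,
        refl_fix (show polar Q v2.1 v1.1 = 0 by rw [polar_comm]; exact z12),
        hgT t.1 (mem_ext ht), hgT' _ hp1, hgT' _ hp2]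
      module
    · intro v hv
      have a1 : polar Q v v1.1 = 0 := by
        rw [polar_comm]
        exact hv _ (mem_ext (Submodule.mem_sup_left
          (Submodule.mem_sup_right (Submodule.mem_span_singleton_self v1))))
      have a2 : polar Q v v2.1 = 0 := by
        rw [polar_comm]
        exact hv _ (mem_ext (Submodule.mem_sup_right (Submodule.mem_span_singleton_self v2)))
      change g.1 ((refl Q v1.1).1 ((refl Q v2.1).1 v)) = v
      rw [refl_fix a2, refl_fix a1]
      exact hgT' v fun u hu => hv u (ext_mono (le_trans le_sup_left le_sup_left) hu)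

/-- The negated space of such an involution. -/
theorem negSp_of_neg (h2 : (2 : F) ≠ 0) {T : Submodule F₀ R} (hT : ND (ratForm hR) T)
    {g : oGroup Q} (h1 : ∀ v ∈ ext T, g.1 v = -v) (h3 : ∀ v ∈ perpS Q (ext T), g.1 v = v) :
    g * g = 1 ∧ negSp g = ext T := by
  have hdec : ∀ v, ∃ a ∈ ext T, ∃ b ∈ perpS Q (ext T), v = a + b :=
    ND.decomp hQ (nd_ext hR hQ hn hT)
  refine ⟨Subtype.ext (LinearEquiv.ext fun v => ?_), le_antisymm (fun v hv => ?_)
    fun v hv => mem_negSp.2 (h1 v hv)⟩
  · obtain ⟨a, ha, b, hb, rfl⟩ := hdec v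
    change g.1 (g.1 (a + b)) = a + b
    simp only [map_add, h1 a ha, h3 b hb, map_neg, neg_neg]
  · obtain ⟨a, ha, b, hb, rfl⟩ := hdec v
    have h4 := mem_negSp.1 hv
    rw [map_add, h1 a ha, h3 b hb, neg_add] at h4
    have h5 : (2 : F) • b = 0 := by rw [two_smul]; exact add_eq_zero_iff_eq_neg.2 (add_left_cancel h4)
    rw [(smul_eq_zero.1 h5).resolve_left h2, add_zero]
    exact ha

variable {M : Subgroup (oGroup Q)} (hM : ratStab Q R ⊓ commutator (oGroup Q) ≤ M)
  (hMK : M ≤ commutator (oGroup Q)) (hG : RatRoots Q R M)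
  (hpres : ∀ g ∈ ratStab Q R, ∀ x ∈ R, g.1 x ∈ R)

include hM hMK hG hpres

omit hM hMK hG hpres in
/-- The eigenspaces of a rational involution in odd characteristic. -/
theorem involution_split (h2 : (2 : F) ≠ 0) {z : oGroup Q} (hzz : z * z = 1)
    (hzp : ∀ x ∈ R, z.1 x ∈ R) :
    (∀ v, z.1 v = -v → v ∈ ext (negRat z R)) ∧ (∀ v, z.1 v = v → v ∈ ext (fixRat z R)) ∧
      (∀ v ∈ ext (negRat z R), z.1 v = -v) ∧ (∀ v ∈ ext (fixRat z R), z.1 v = v) ∧
      fixRat z R ≤ perpS (ratForm hR) (negRat z R) ∧ negRat z R ⊔ fixRat z R = ⊤ ∧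
      ND (ratForm hR) (negRat z R) ∧ ND (ratForm hR) (fixRat z R) ∧
      Module.finrank F₀ (negRat z R) + Module.finrank F₀ (fixRat z R) = Module.finrank F V := by
  haveI := hR.finite
  haveI : Module.Finite F₀ R := Module.Finite.of_finite
  set Sm := negRat z R with hSm
  set Sp := fixRat z R with hSp
  have hmem_m : ∀ v, z.1 v = -v → v ∈ ext Sm := fun v hv => by
    have h1 : (LinearMap.id - z.1.toLinearMap : V →ₗ[F] V) v ∈ ext Sm :=
      map_ext_le (S := (⊤ : Submodule F₀ R)) (fun w _ =>
        mem_ext (x := (⟨w.1 - z.1 w.1, R.sub_mem w.2 (hzp w.1 w.2)⟩ : R)) (by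
          change z.1 (w.1 - z.1 w.1) = -(w.1 - z.1 w.1)
          rw [map_sub, apply_sq hzz, neg_sub])) v (by rw [hR.ext_top]; trivial)
    change v - z.1 v ∈ _ at h1
    rw [hv, sub_neg_eq_add, ← two_smul F v] at h1
    exact (Submodule.smul_mem_iff _ h2).1 h1
  have hmem_p : ∀ v, z.1 v = v → v ∈ ext Sp := fun v hv => by
    have h1 : (LinearMap.id + z.1.toLinearMap : V →ₗ[F] V) v ∈ ext Sp :=
      map_ext_le (S := (⊤ : Submodule F₀ R)) (fun w _ =>
        mem_ext (x := (⟨w.1 + z.1 w.1, R.add_mem w.2 (hzp w.1 w.2)⟩ : R)) (by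
          change z.1 (w.1 + z.1 w.1) = w.1 + z.1 w.1
          rw [map_add, apply_sq hzz, add_comm])) v (by rw [hR.ext_top]; trivial)
    change v + z.1 v ∈ _ at h1
    rw [hv, ← two_smul F v] at h1
    exact (Submodule.smul_mem_iff _ h2).1 h1
  have hneg_of : ∀ v ∈ ext Sm, z.1 v = -v := fun v hv =>
    mem_negSp.1 (ext_le (X := negSp z) (fun w hw => mem_negSp.2 hw) hv)
  have hfix_of : ∀ v ∈ ext Sp, z.1 v = v := fun v hv =>
    mem_fixSp.1 (ext_le (X := fixSp z) (fun w hw => mem_fixSp.2 hw) hv)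
  have horth : Sp ≤ perpS (ratForm hR) Sm := fun p hp m hm => by
    refine (ratForm_polar_eq_zero hR).2 ?_
    have h1 := polar_oGroup z m.1 p.1
    rw [show z.1 m.1 = -m.1 from hm, show z.1 p.1 = p.1 from hp, polar_neg_left] at h1
    have h4 : (2 : F) * polar Q m.1 p.1 = 0 := by linear_combination -h1
    exact (mul_eq_zero.1 h4).resolve_left h2
  have h20 := two_ne_zero_rat hR hQ hn h2
  have htop : Sm ⊔ Sp = ⊤ := eq_top_iff.2 fun w _ => by
    have e : w = (2 : F₀)⁻¹ • (w - ⟨z.1 w.1, hzp w.1 w.2⟩) +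
        (2 : F₀)⁻¹ • (w + ⟨z.1 w.1, hzp w.1 w.2⟩) := by
      rw [← smul_add, sub_add_add_cancel, ← two_smul F₀ w, smul_smul, inv_mul_cancel₀ h20, one_smul]
    rw [e]
    refine Submodule.add_mem_sup (Sm.smul_mem _ ?_) (Sp.smul_mem _ ?_)
    · change z.1 (w.1 - z.1 w.1) = -(w.1 - z.1 w.1)
      rw [map_sub, apply_sq hzz, neg_sub]
    · change z.1 (w.1 + z.1 w.1) = w.1 + z.1 w.1
      rw [map_add, apply_sq hzz, add_comm]
  have hQ0 := hR.ratForm_nondeg hQ
  have hnd : ∀ A B : Submodule F₀ R, A ⊔ B = ⊤ → B ≤ perpS (ratForm hR) A → ND (ratForm hR) A :=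
    fun A B hAB hle => (Submodule.eq_bot_iff _).2 fun w hw => hQ0.1 w fun u => by
      have hu : u ∈ A ⊔ B := hAB ▸ Submodule.mem_top
      obtain ⟨a, ha, b, hb, rfl⟩ := Submodule.mem_sup.1 hu
      rw [polarBilin_apply_apply, polar_add_right, hle hb w hw.1, add_zero, polar_comm]
      exact hw.2 a ha
  have hSmND := hnd Sm Sp htop horth
  have hSpND := hnd Sp Sm (by rw [sup_comm]; exact htop)
    fun m hm p hp => by rw [polar_comm]; exact horth hp m hm
  have hdims : Module.finrank F₀ Sm + Module.finrank F₀ Sp = Module.finrank F V := by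
    have h1 := Submodule.finrank_sup_add_finrank_inf_eq Sm Sp
    rw [htop, finrank_top, hR.finrank_eq, show Sm ⊓ Sp = ⊥ from (Submodule.eq_bot_iff _).2
      fun w hw => ND.eq_zero hSmND hw.1 (horth hw.2), finrank_bot] at h1
    omega
  exact ⟨hmem_m, hmem_p, hneg_of, hfix_of, horth, htop, hSmND, hSpND, hdims⟩

set_option maxHeartbeats 800000 in
-- one long induction
/-- An element mapping a small non-degenerate rational subspace onto another. -/
theorem mem_of_map_nd (h13 : 10 ≤ Module.finrank F V) (h2 : (2 : F) ≠ 0) :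
    ∀ k : ℕ, ∀ W W' : Submodule F₀ R, 4 ≤ Module.finrank F₀ W + k → Module.finrank F₀ W ≤ 4 →
      Module.finrank F₀ W' = Module.finrank F₀ W → ND (ratForm hR) W → ND (ratForm hR) W' →
      ∀ g ∈ M, (∀ v ∈ ext W', g.1 v ∈ ext W) → g ∈ ratStab Q R := by
  haveI := hR.finite
  haveI : Module.Finite F₀ R := Module.Finite.of_finite
  haveI : Finite V := Module.finite_of_finite F
  haveI : Finite (oGroup Q) := Finite.of_injective (fun g => (g.1 : V → V)) fun a b e =>
    Subtype.ext (LinearEquiv.ext (congrFun e))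
  intro k
  induction k using Nat.strong_induction_on with
  | _ k ih =>
  intro W W' hk hW4 hdim hW hW' g hg hmap
  -- `g` maps the first space onto the second
  have honto : ∀ w ∈ ext W, ∃ v ∈ ext W', g.1 v = w := by
    have heq : (ext W').map g.1.toLinearMap = ext W :=
      Submodule.eq_of_le_of_finrank_le (by rintro _ ⟨v, hv, rfl⟩; exact hmap v hv) (by
        rw [LinearEquiv.finrank_map_eq, hR.finrank_ext, hR.finrank_ext, hdim])
    intro w hw
    rw [← heq] at hw
    exact hw
  by_cases h3 : 3 ≤ Module.finrank F₀ W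
  · obtain ⟨f, hfW, hf, hf0⟩ := exists_rat_singular hR hQ (le_trans (by norm_num) hn) W ⊥ (by rw [finrank_bot]; omega)
    obtain ⟨v, hv, hgv⟩ := honto f.1 (mem_ext hfW)
    exact mem_of_small hR hQ (le_trans (by norm_num) hn) hM hMK hG hg (fun h0 => hf0 (by rw [h0]; exact zero_mem _)) hf (by omega) hv hgv
  obtain ⟨i, j, hi1, hij, hix, hiz, hj1, hj2, hj3⟩ : ∃ i j : ℕ,
      Module.finrank F₀ W + 2 * i + 2 ≤ Module.finrank F V ∧ i ≠ j ∧
      4 * i + Module.finrank F₀ W ≠ Module.finrank F V ∧
      ((i = 2 ∨ i = 3) ∧ (i = 3 →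
        Module.finrank F V = 10 ∧ Module.finrank F₀ W = 2)) ∧
      Module.finrank F₀ W' + 2 * j + 2 ≤ Module.finrank F V ∧
      2 * j + (Module.finrank F₀ W + 2 * i) ≠ Module.finrank F V ∧
      ((j = 3 ∧ 11 ≤ Module.finrank F V) ∨
        (j = 4 ∧ 1 ≤ Module.finrank F₀ W ∧ Module.finrank F₀ W + 10 = Module.finrank F V) ∨
        (j = 2 ∧ 10 ≤ Module.finrank F V) ∨
        (Module.finrank F₀ W + 2 * j < Module.finrank F V ∧
          Module.finrank F V ≤ 2 * j + 4)) := by
    by_cases h10 : Module.finrank F V = 10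
    · rcases (show Module.finrank F₀ W = 0 ∨ Module.finrank F₀ W = 1 ∨ Module.finrank F₀ W = 2 by
        omega) with h | h | h
      · exact ⟨2, 4, by omega, by omega, by omega, ⟨Or.inl rfl, by omega⟩, by omega, by omega,
          Or.inr (Or.inr (Or.inr (by omega)))⟩
      · exact ⟨2, 3, by omega, by omega, by omega, ⟨Or.inl rfl, by omega⟩, by omega, by omega,
          Or.inr (Or.inr (Or.inr (by omega)))⟩
      · exact ⟨3, 2, by omega, by omega, by omega, ⟨Or.inr rfl, fun _ => ⟨h10, h⟩⟩, by omega,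
          by omega, Or.inr (Or.inr (Or.inl ⟨rfl, by omega⟩))⟩
    by_cases hc : Module.finrank F₀ W + 10 = Module.finrank F V
    · exact ⟨2, 4, by omega, by omega, by omega, ⟨Or.inl rfl, by omega⟩, by omega, by omega,
        Or.inr (Or.inl ⟨rfl, by omega, hc⟩)⟩
    · exact ⟨2, 3, by omega, by omega, by omega, ⟨Or.inl rfl, by omega⟩, by omega, by omega,
        Or.inl ⟨rfl, by omega⟩⟩
  obtain ⟨T, hTW, hT, hTd, x, hx, hxT, hxT'⟩ := exists_neg hR hQ hn h2 hW i hi1
  obtain ⟨T0, hT0W, hT0, hT0d, y0, hy0, hy0T, hy0T'⟩ := exists_neg hR hQ hn h2 hW' j hj1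
  obtain ⟨hxx, hnx⟩ := negSp_of_neg hR hQ hn h2 hT hxT hxT'
  obtain ⟨hy00, hny0⟩ := negSp_of_neg hR hQ hn h2 hT0 hy0T hy0T'
  have hperp : ∀ {A B : Submodule F₀ R}, B ≤ perpS (ratForm hR) A → ext A ≤ perpS Q (ext B) := by
    intro A B hAB
    rw [hR.ext_perp hQ]
    exact ext_mono fun a ha b hb => by rw [polar_comm]; exact hAB hb a ha
  have hxW : ∀ v ∈ ext W, x.1 v = v := fun v hv => hxT' v (hperp hTW hv)
  set y := g * y0 * g⁻¹ with hy
  have hyM : y ∈ M := mul_mem (mul_mem hg (hM hy0)) (inv_mem hg)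
  have hxM : x ∈ M := hM hx
  have hyy : y * y = 1 := by
    rw [hy, show g * y0 * g⁻¹ * (g * y0 * g⁻¹) = g * (y0 * y0) * g⁻¹ by group, hy00, mul_one,
      mul_inv_cancel]
  have hny : negSp y = (ext T0).map g.1.toLinearMap := by rw [hy, negSp_conj, hny0]
  have hny6 : Module.finrank F (negSp y) = 2 * j := by
    rw [hny, LinearEquiv.finrank_map_eq, hR.finrank_ext, hT0d]
  have hnx4 : Module.finrank F (negSp x) = 2 * i := by rw [hnx, hR.finrank_ext, hTd]
  have hyW : ∀ v ∈ ext W, y.1 v = v := by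
    intro v hv
    obtain ⟨u, hu, rfl⟩ := honto v hv
    change g.1 (y0.1 (g.1.symm (g.1 u))) = g.1 u
    rw [LinearEquiv.symm_apply_apply, hy0T' u (hperp hT0W hu)]
  -- it suffices that `y` is rational
  suffices hyR : y ∈ ratStab Q R by
    have hyp := hpres y hyR
    have hle : negSp y ≤ ext (negRat y R) := fun v hv => by
      let φ : V →ₗ[F] V := LinearMap.id - y.1.toLinearMap
      have h1 : φ v ∈ ext (negRat y R) :=
        map_ext_le (S := (⊤ : Submodule F₀ R)) (φ := φ) (fun w _ =>
          mem_ext (x := (⟨w.1 - y.1 w.1, R.sub_mem w.2 (hyp w.1 w.2)⟩ : R)) (by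
            change y.1 (w.1 - y.1 w.1) = -(w.1 - y.1 w.1)
            rw [map_sub, apply_sq hyy, neg_sub])) v (by rw [hR.ext_top]; trivial)
      change v - y.1 v ∈ _ at h1
      rw [mem_negSp.1 hv, sub_neg_eq_add, ← two_smul F v] at h1
      exact (Submodule.smul_mem_iff _ h2).1 h1
    rcases hj3 with ⟨hj, h11⟩ | ⟨hj, hW1, hWn⟩ | ⟨hj, -⟩ | ⟨hlt, hle4⟩
    · have hdim6 : 6 ≤ Module.finrank F₀ (negRat y R) := by
        have := Submodule.finrank_mono hle
        rw [hR.finrank_ext] at this
        omega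
      obtain ⟨f, hfY, hf, hf0⟩ := exists_rat_singular hR hQ (le_trans (by norm_num) hn) (negRat y R) ⊥
        (by rw [finrank_bot]; omega)
      have hfy : f.1 ∈ negSp y := mem_negSp.2 hfY
      rw [hny] at hfy
      obtain ⟨v, hv, hgv⟩ := hfy
      exact mem_of_small_nd hR hQ (le_trans (by norm_num) hn) hM hMK hG hg (fun h0 => hf0 (by rw [h0]; exact zero_mem _)) hf
        (by omega) hT0 hv hgv
    · -- the fixed space is small
      obtain ⟨-, hmem_p, -, -, -⟩ := involution_split hR hQ hn h2 hyy hyp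
      set P0 := perpS (ratForm hR) T0
      have hP0 : Module.finrank F₀ P0 + 2 * j = Module.finrank F V := by
        have h1 := finrank_perpS (hR.ratForm_nondeg hQ) T0
        rw [hR.finrank_eq] at h1
        change Module.finrank F₀ (perpS (ratForm hR) T0) + 2 * j = _
        omega
      have hle' : (ext P0).map g.1.toLinearMap ≤ ext (fixRat y R) := by
        rintro _ ⟨w, hw, rfl⟩
        refine hmem_p _ ?_
        rw [← hR.ext_perp hQ] at hw
        change g.1 (y0.1 (g.1.symm (g.1 w))) = g.1 w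
        rw [LinearEquiv.symm_apply_apply, hy0T' w hw]
      have hd3 : 3 ≤ Module.finrank F₀ (fixRat y R) := by
        have := Submodule.finrank_mono hle'
        rw [LinearEquiv.finrank_map_eq, hR.finrank_ext, hR.finrank_ext] at this
        omega
      obtain ⟨f, hfY, hf, hf0⟩ := exists_rat_singular hR hQ (le_trans (by norm_num) hn) (fixRat y R) ⊥
        (by rw [finrank_bot]; omega)
      have hfy : y.1 f.1 = f.1 := hfY
      obtain ⟨v, hgv⟩ := g.1.surjective f.1
      have hv : y0.1 v = v := by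
        rw [← hgv] at hfy
        change g.1 (y0.1 (g.1.symm (g.1 v))) = g.1 v at hfy
        rw [LinearEquiv.symm_apply_apply] at hfy
        exact g.1.injective hfy
      have hvP : v ∈ ext P0 := by
        obtain ⟨a, ha, b, hb, rfl⟩ := ND.decomp hQ (nd_ext hR hQ hn hT0) v
        rw [map_add, hy0T a ha, hy0T' b hb, add_left_inj] at hv
        have h5 : (2 : F) • a = 0 := by
          rw [two_smul]
          exact neg_eq_iff_add_eq_zero.1 hv
        rw [(smul_eq_zero.1 h5).resolve_left h2, zero_add, ← hR.ext_perp hQ]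
        exact hb
      exact mem_of_small hR hQ (le_trans (by norm_num) hn) hM hMK hG hg (fun h0 => hf0 (by rw [h0]; exact zero_mem _)) hf
        (by omega) hvP hgv
    · -- a negated space of dimension four
      have hdim4 : 3 ≤ Module.finrank F₀ (negRat y R) := by
        have := Submodule.finrank_mono hle
        rw [hR.finrank_ext] at this
        omega
      obtain ⟨f, hfY, hf, hf0⟩ := exists_rat_singular hR hQ (le_trans (by norm_num) hn) (negRat y R) ⊥
        (by rw [finrank_bot]; omega)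
      have hfy : f.1 ∈ negSp y := mem_negSp.2 hfY
      rw [hny] at hfy
      obtain ⟨v, hv, hgv⟩ := hfy
      exact mem_of_small hR hQ (le_trans (by norm_num) hn) hM hMK hG hg (fun h0 => hf0 (by rw [h0]; exact zero_mem _)) hf
        (by omega) hv hgv
    · -- a larger pair of subspaces
      obtain ⟨hmem_m', hmem_p', -, -, -, -, -, hfixND, hdims'⟩ := involution_split hR hQ hn h2 hyy hyp
      set P0 := perpS (ratForm hR) T0
      have hP0 : Module.finrank F₀ P0 + 2 * j = Module.finrank F V := by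
        have h1 := finrank_perpS (hR.ratForm_nondeg hQ) T0
        rw [hR.finrank_eq] at h1
        change Module.finrank F₀ (perpS (ratForm hR) T0) + 2 * j = _
        omega
      have hm : ∀ v ∈ ext P0, g.1 v ∈ ext (fixRat y R) := fun w hw => by
        refine hmem_p' _ ?_
        rw [← hR.ext_perp hQ] at hw
        change g.1 (y0.1 (g.1.symm (g.1 w))) = g.1 w
        rw [LinearEquiv.symm_apply_apply, hy0T' w hw]
      have hd : Module.finrank F₀ P0 ≤ Module.finrank F₀ (fixRat y R) := by
        have := Submodule.finrank_mono (show (ext P0).map g.1.toLinearMap ≤ ext (fixRat y R) by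
          rintro _ ⟨w, hw, rfl⟩; exact hm w hw)
        rwa [LinearEquiv.finrank_map_eq, hR.finrank_ext, hR.finrank_ext] at this
      have hd' : Module.finrank F₀ (negRat y R) ≥ 2 * j := by
        have := Submodule.finrank_mono hle
        rw [hR.finrank_ext] at this
        omega
      exact ih (4 - Module.finrank F₀ (fixRat y R)) (by omega) (fixRat y R) P0 (by omega) (by omega)
        (by omega) hfixND (ND.perp (hR.ratForm_nondeg hQ) hT0) g hg hm
  have hclosM : Subgroup.closure {x, y} ≤ M := by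
    refine (Subgroup.closure_le _).2 ?_
    rintro _ (rfl | rfl)
    exacts [hxM, hyM]
  rcases dihedral_cases hxx hyy with ⟨k, -, hk⟩ | ⟨z, hzmem, hzz, hz1, hzx, hzy, k, -, hk⟩
  · have h4 : Module.finrank F (negSp y) = Module.finrank F (negSp x) := by
      rw [← hk, negSp_conj, LinearEquiv.finrank_map_eq]
    omega
  have hzW : ∀ v ∈ ext W, z.1 v = v := by
    suffices H : ∀ w ∈ Subgroup.closure {x, y}, ∀ v ∈ ext W, w.1 v = v from H z hzmem
    intro w hw
    induction hw using Subgroup.closure_induction with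
    | mem u hu => rcases hu with rfl | rfl; exacts [hxW, hyW]
    | one => intro v _; rfl
    | mul a b _ _ ha hb => intro v hv; rw [mul_apply, hb v hv, ha v hv]
    | inv a _ ha => intro v hv; exact (LinearEquiv.symm_apply_eq a.1).2 (ha v hv).symm
  have hzM : z ∈ M := hclosM hzmem
  have hzR : z ∈ ratStab Q R := by
    by_cases hi3 : i = 3
    · -- use the fixed space of the first involution
      obtain ⟨h10, hW2⟩ := hiz.2 hi3
      set P1 := perpS (ratForm hR) T
      have hP1 : Module.finrank F₀ P1 + 2 * i = Module.finrank F V := by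
        have h1 := finrank_perpS (hR.ratForm_nondeg hQ) T
        rw [hR.finrank_eq] at h1
        change Module.finrank F₀ (perpS (ratForm hR) T) + 2 * i = _
        omega
      have hP1nd : ND (ratForm hR) P1 := ND.perp (hR.ratForm_nondeg hQ) hT
      refine ih (4 - Module.finrank F₀ P1) (by omega) P1 P1 (by omega) (by omega) rfl hP1nd hP1nd z
        hzM fun v hv => ?_
      rw [← hR.ext_perp hQ] at hv ⊢
      have hfix : x.1 (z.1 v) = z.1 v := by rw [← apply_comm hzx, hxT' v hv]
      intro u hu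
      have h5 := polar_oGroup x u (z.1 v)
      rw [hxT u hu, hfix, polar_neg_left] at h5
      exact (mul_eq_zero.1 (show (2 : F) * polar Q u (z.1 v) = 0 by linear_combination -h5)).resolve_left h2
    obtain ⟨f, hfT, hf, hf0⟩ := exists_rat_singular hR hQ (le_trans (by norm_num) hn) T ⊥ (by rw [finrank_bot]; omega)
    refine mem_of_invariant hR hQ (le_trans (by norm_num) hn) hM hMK hG hzM (Y := T) (by omega) (fun v hv => ?_) hfT
      (fun h0 => hf0 (by rw [h0]; exact zero_mem _)) hf
    rw [← hnx, mem_negSp, ← apply_comm hzx, hxT v hv, map_neg]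
  have hzp := hpres z hzR
  set Sm := negRat z R with hSm
  set Sp := fixRat z R with hSp
  obtain ⟨hmem_m, hmem_p, hneg_of, hfix_of, horth, htop, hSmND, hSpND, hdims⟩ :=
    involution_split hR hQ hn h2 hzz hzp
  change Sm ⊔ Sp = ⊤ at htop
  change Module.finrank F₀ Sm + Module.finrank F₀ Sp = _ at hdims
  have hyS : ∀ v ∈ ext Sm, y.1 v ∈ ext Sm := fun v hv => hmem_m _ (by
    rw [apply_comm hzy, hneg_of v hv, map_neg])
  have hyP : ∀ v ∈ ext Sp, y.1 v ∈ ext Sp := fun v hv => hmem_p _ (by
    rw [apply_comm hzy, hfix_of v hv])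
  have hbig : ∀ S : Submodule F₀ R, 3 ≤ Module.finrank F₀ S →
      Module.finrank F₀ S + 6 ≤ Module.finrank F V → (∀ v ∈ ext S, y.1 v ∈ ext S) →
      y ∈ ratStab Q R := by
    intro S h3S h6S hS
    obtain ⟨f, hfS, hf, hf0⟩ := exists_rat_singular hR hQ (le_trans (by norm_num) hn) S ⊥ (by rw [finrank_bot]; omega)
    exact mem_of_invariant hR hQ (le_trans (by norm_num) hn) hM hMK hG hyM h6S hS hfS (fun h0 => hf0 (by rw [h0]; exact zero_mem _)) hf
  by_cases c1 : 3 ≤ Module.finrank F₀ Sm ∧ Module.finrank F₀ Sm + 6 ≤ Module.finrank F V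
  · exact hbig Sm c1.1 c1.2 hyS
  by_cases c2 : 3 ≤ Module.finrank F₀ Sp ∧ Module.finrank F₀ Sp + 6 ≤ Module.finrank F V
  · exact hbig Sp c2.1 c2.2 hyP
  have hWSp : W ≤ Sp := fun w hw => hzW w.1 (mem_ext hw)
  have hWd := Submodule.finrank_mono hWSp
  have hSm0 : 1 ≤ Module.finrank F₀ Sm := by
    by_contra h0
    refine hz1 (Subtype.ext (LinearEquiv.ext fun v => hfix_of v ?_))
    have h1 : Sm = ⊥ := Submodule.finrank_eq_zero.1 (by omega)
    rw [h1, bot_sup_eq] at htop
    change v ∈ ext Sp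
    rw [htop, hR.ext_top]
    trivial
  by_cases c3 : Module.finrank F₀ Sm ≤ 2
  · -- a larger invariant subspace
    have hle : Sm ≤ perpS (ratForm hR) W := fun m hm w hw => by
      rw [polar_comm]; exact horth (hWSp hw) m hm
    have hd : Module.finrank F₀ ↥(W ⊔ Sm) = Module.finrank F₀ W + Module.finrank F₀ Sm := by
      have h1 := Submodule.finrank_sup_add_finrank_inf_eq W Sm
      rw [show W ⊓ Sm = ⊥ from (Submodule.eq_bot_iff _).2
        fun w hw => ND.eq_zero hW hw.1 (hle hw.2), finrank_bot] at h1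
      omega
    refine ih (4 - Module.finrank F₀ ↥(W ⊔ Sm)) (by omega) (W ⊔ Sm) (W ⊔ Sm) (by omega) (by omega)
      rfl (ND.sup hW hSmND hle) (ND.sup hW hSmND hle) y hyM fun v hv => ?_
    rw [ext_sup] at hv ⊢
    obtain ⟨a, ha, b, hb, rfl⟩ := Submodule.mem_sup.1 hv
    rw [map_add, hyW a ha]
    exact Submodule.add_mem_sup ha (hyS b hb)
  have hSp2 : Module.finrank F₀ Sp ≤ 2 := by
    have := even_of_commutator (hMK hzM) hneg_of hfix_of
      (show ext Sm ⊔ ext Sp = ⊤ by rw [← ext_sup, htop, hR.ext_top])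
    rw [hR.finrank_ext, hR.finrank_ext] at this
    obtain ⟨e, he⟩ := this h2 (by omega)
    have he' : Module.finrank F₀ Sm = e + e := he
    omega
  rcases Nat.lt_or_ge (Module.finrank F₀ W) (Module.finrank F₀ Sp) with hlt | hge
  · exact ih (4 - Module.finrank F₀ Sp) (by omega) Sp Sp (by omega) (by omega) rfl hSpND hSpND y hyM
      hyP
  -- `z` negates the orthogonal space of `W`
  exfalso
  have hWSpeq : W = Sp := Submodule.eq_of_le_of_finrank_le hWSp hge
  have hWT : ND (ratForm hR) (W ⊔ T) := ND.sup hW hT hTW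
  have hndW := nd_ext hR hQ hn hW
  have hnzx : negSp (z * x) = perpS Q (ext (W ⊔ T)) := by
    have hdec : ∀ v, ∃ a ∈ ext W, ∃ b ∈ ext Sm, v = a + b := fun v => by
      have hv : v ∈ ext W ⊔ ext Sm := by
        rw [← ext_sup, sup_comm, hWSpeq, htop, hR.ext_top]; trivial
      obtain ⟨a, ha, b, hb, e⟩ := Submodule.mem_sup.1 hv
      exact ⟨a, ha, b, hb, e.symm⟩
    have hSmW : ext Sm ≤ perpS Q (ext W) := hperp fun w hw m hm => horth (hWSp hw) m hm
    refine le_antisymm (fun v hv => ?_) fun v hv => mem_negSp.2 ?_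
    · obtain ⟨a, ha, b, hb, rfl⟩ := hdec v
      have h1 := mem_negSp.1 hv
      have hxb : x.1 b ∈ ext Sm := hmem_m _ (by
        rw [apply_comm hzx, hneg_of b hb, map_neg])
      rw [mul_apply, map_add, hxW a ha, map_add, hzW a ha, hneg_of _ hxb, neg_add] at h1
      have h4 : (2 : F) • a = x.1 b - b := by
        rw [two_smul]
        linear_combination (norm := module) h1
      have ha0 : a = 0 := (smul_eq_zero.1 ((Submodule.mem_bot F).1 (hndW ▸
        (⟨Submodule.smul_mem _ _ ha, hSmW (h4 ▸ Submodule.sub_mem _ hxb hb)⟩ :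
          (2 : F) • a ∈ ext W ⊓ perpS Q (ext W))))).resolve_left h2
      rw [ha0, smul_zero, eq_comm, sub_eq_zero] at h4
      rw [ha0, zero_add]
      intro u hu
      rw [ext_sup] at hu
      obtain ⟨w, hw, t, ht, rfl⟩ := Submodule.mem_sup.1 hu
      have h5 := polar_oGroup x t b
      rw [hxT t ht, h4, polar_neg_left] at h5
      have h6 : (2 : F) * polar Q t b = 0 := by linear_combination -h5
      rw [polar_add_left, hSmW hb w hw, (mul_eq_zero.1 h6).resolve_left h2, add_zero]
    · have hxv : x.1 v = v := hxT' v fun u hu => hv u (ext_mono le_sup_right hu)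
      obtain ⟨a, ha, b, hb, rfl⟩ := hdec v
      have ha0 : a = 0 := (Submodule.mem_bot F).1 (hndW ▸ (⟨ha, fun u hu => by
        have h5 := hv u (ext_mono le_sup_left hu)
        rwa [polar_add_right, hSmW hb u hu, add_zero] at h5⟩ : a ∈ ext W ⊓ perpS Q (ext W)))
      rw [mul_apply, hxv, ha0, zero_add, hneg_of b hb]
  have hdd : Module.finrank F (negSp (z * x)) + (Module.finrank F₀ W + 2 * i) = Module.finrank F V := by
    rw [hnzx]
    have h1 := finrank_perpS hQ (ext (W ⊔ T))
    rw [hR.finrank_ext] at h1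
    have h3 := Submodule.finrank_sup_add_finrank_inf_eq W T
    rw [show W ⊓ T = ⊥ from (Submodule.eq_bot_iff _).2
      fun w hw => ND.eq_zero hW hw.1 (hTW hw.2), finrank_bot] at h3
    omega
  rcases hk with hk | hk
  · have h4 : Module.finrank F (negSp (z * x)) = Module.finrank F (negSp x) := by
      rw [← hk, negSp_conj, LinearEquiv.finrank_map_eq]
    omega
  · have h4 : Module.finrank F (negSp y) = Module.finrank F (negSp (z * x)) := by
      rw [← hk, negSp_conj, LinearEquiv.finrank_map_eq]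
    omega

omit hn hM hMK hG hpres in
/-- A rational stabiliser does not contain `Ω`. -/
theorem ratStab_proper_of_seven (hn : 7 ≤ Module.finrank F V) {r : ℕ} (hr : r.Prime) (hcard : Nat.card F = Nat.card F₀ ^ r) :
    ¬ commutator (oGroup Q) ≤ ratStab Q R := by
  intro hle
  obtain ⟨μ, hμ⟩ : ∃ μ : F, μ ∉ F₀ := by
    by_contra hc
    push Not at hc
    have h1 := Nat.card_le_card_of_injective (fun x : F => (⟨x, hc x⟩ : F₀))
      fun a b e => congrArg Subtype.val e
    rw [hcard] at h1
    exact lt_irrefl _ (lt_of_lt_of_le (lt_self_pow₀ (Finite.one_lt_card (α := F₀)) hr.one_lt) h1)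
  classical
  obtain ⟨e, he, hes, -⟩ := exists_rat_perp hR hQ hn ∅ (by simp; omega)
  obtain ⟨f, hf, hef, -⟩ := exists_rat_dual hR hQ hn ∅ he hes (by simp)
  obtain ⟨x, hx, hxs, hxp⟩ := exists_rat_perp hR hQ hn {e, f} (by
    have : ({e, f} : Finset R).card ≤ 2 := Finset.card_le_two
    omega)
  have hex := hxp e (by simp)
  have hfx := hxp f (by simp)
  have hec : polar Q e.1 (μ • x.1) = 0 := by rw [polar_smul_right, hex, smul_zero]
  obtain ⟨d, hd, hdR⟩ := hle (siegel_mem_commutator hQ (by omega) he hec)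
  have he0 : e.1 ≠ 0 := fun h0 => hes (by
    rw [show e = 0 from Subtype.ext h0]; exact zero_mem _)
  have hdF : d ∈ F₀ := hR.scalar_mem hQ e.2 he0 (by
    have h1 := hdR e.1 e.2
    rwa [siegel_fix he hec (by rw [polar_self, he, smul_zero]) hec] at h1)
  have h1 := R.smul_mem (⟨d⁻¹, F₀.inv_mem hdF⟩ : F₀) (hdR f.1 f.2)
  change d⁻¹ • d • _ ∈ R at h1
  rw [smul_smul, inv_mul_cancel₀ hd, one_smul, siegel_apply he hec, polar_comm (⇑Q) f.1 e.1, hef,
    one_smul, polar_smul_right, hfx, smul_zero, quad_smul, hx, mul_zero, zero_mul, add_zero,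
    zero_smul, sub_zero] at h1
  refine hμ (hR.scalar_mem hQ x.2 (fun h0 => hxs (by
    rw [show x = 0 from Subtype.ext h0]; exact zero_mem _)) ?_)
  have h3 := R.sub_mem h1 f.2
  rwa [add_sub_cancel_left] at h3

omit hM hMK hG hpres in
/-- A rational stabiliser does not contain `Ω`. -/
theorem ratStab_proper {r : ℕ} (hr : r.Prime) (hcard : Nat.card F = Nat.card F₀ ^ r) :
    ¬ commutator (oGroup Q) ≤ ratStab Q R :=
  ratStab_proper_of_seven hR hQ (le_trans (by norm_num) hn) hr hcard

omit hM hMK hG hpres in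
/-- The rational stabiliser is maximal in `Ω`. -/
theorem subfield_maximal_of_eleven (h13 : (2 : F) ≠ 0 → 10 ≤ Module.finrank F V) {r : ℕ} (hr : r.Prime)
    (hcard : Nat.card F = Nat.card F₀ ^ r) :
    Cfsg.Geo.IsMaximalIn (commutator (oGroup Q)) (ratStab Q R ⊓ commutator (oGroup Q)) := by
  refine ⟨lt_of_le_of_ne inf_le_right fun e => ratStab_proper hR hQ hn hr hcard
    (e.ge.trans inf_le_left), fun M hM hMK => ?_⟩
  by_cases hG : RatRoots Q R M
  · refine Or.inl (le_antisymm (le_inf ?_ hMK) hM)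
    by_cases hsmall : r + 6 ≤ Module.finrank F V
    · exact le_ratStab_of_small_index hR hQ (le_trans (by norm_num) hn) hM hMK hG hcard hsmall
    have hpres : ∀ g ∈ ratStab Q R, ∀ x ∈ R, g.1 x ∈ R := fun g hg x hx =>
      preserves_of_index hR hQ hn hr (by omega) hcard hg hx
    by_cases h2 : (2 : F) = 0
    · exact le_ratStab_char_two hR hQ hn hM hMK hG hpres h2
    · intro g hg
      refine mem_of_map_nd hR hQ hn hM hMK hG hpres (h13 h2) h2 4 ⊥ ⊥ (by omega)
        (by simp) rfl (bot_inf_eq _) (bot_inf_eq _) g hg fun v hv => ?_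
      rw [ext_bot, Submodule.mem_bot] at hv ⊢
      rw [hv, map_zero]
  · refine Or.inr (le_antisymm hMK ?_)
    simp only [RatRoots, not_forall, not_exists, not_and] at hG
    obtain ⟨e, he0, he, a, hea, ha, hirr⟩ := hG
    exact le_of_irrational hR hQ (le_trans (by norm_num) hn) hM (fun _ => le_trans (by norm_num) hn) hr hcard he0 he hea ha fun x hx t => hirr x hx t

omit hM hMK hG hpres in
/-- The rational stabiliser is maximal in `Ω`, dimension at least thirteen in odd characteristic. -/
theorem subfield_maximal (h13 : (2 : F) ≠ 0 → 13 ≤ Module.finrank F V) {r : ℕ} (hr : r.Prime)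
    (hcard : Nat.card F = Nat.card F₀ ^ r) :
    Cfsg.Geo.IsMaximalIn (commutator (oGroup Q)) (ratStab Q R ⊓ commutator (oGroup Q)) :=
  subfield_maximal_of_eleven hR hQ hn (fun h => by have := h13 h; omega) hr hcard

end CfsgLib.Geo.OS
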