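import Cfsg.Agent.Geo.OrthFrameNonMax

/-!
The frames of small non-degenerate spaces over the fields with three and five elements.
-/

set_option autoImplicit false
set_option linter.unusedSectionVars false

namespace CfsgLib.Geo.OS

open QuadraticMap CfsgLib.Forms CfsgLib.Quad

variable {F V : Type*} [Field F] [Finite F] [AddCommGroup V] [Module F V] [FiniteDimensional F V]
  {Q : QuadraticForm F V}

/-- A frame of `X`: the data used for non-maximality. -/
def HasFrame (Q : QuadraticForm F V) (X : Submodule F V) : Prop :=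
  ∃ c : F, c ≠ 0 ∧ ∃ a ∈ X, ∃ b ∈ X, Q a = c ∧ Q b ≠ 0 ∧ polar Q a b = 0 ∧
    ∀ v ∈ X, Q v = c → ∀ w ∈ X, (Q w = c ∨ w = b) → v = w ∨ v = -w ∨ polar Q v w = 0

theorem field_three (hq : Nat.card F = 3) :
    (2 : F) ≠ 0 ∧ (3 : F) = 0 ∧ ∀ a : F, a = 0 ∨ a = 1 ∨ a = -1 := by
  haveI := Fintype.ofFinite F
  have hcard : Fintype.card F = 3 := by rwa [← Nat.card_eq_fintype_card]
  have h3 : (3 : F) = 0 := by
    have := FiniteField.cast_card_eq_zero F
    rw [hcard] at this
    exact_mod_cast this
  refine ⟨fun h => one_ne_zero (show (1 : F) = 0 by linear_combination h3 - h), h3, fun a => ?_⟩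
  rcases eq_or_ne a 0 with h | h
  · exact Or.inl h
  · have h1 := FiniteField.pow_card_sub_one_eq_one a h
    rw [hcard] at h1
    exact Or.inr (mul_self_eq_one_iff.1 (by simpa [pow_two] using h1))

/-- An anisotropic vector in a non-zero non-degenerate subspace. -/
theorem exists_aniso_in {X : Submodule F V} (hX : ND Q X) (h1 : 1 ≤ Module.finrank F X) :
    ∃ v ∈ X, Q v ≠ 0 := by
  by_contra hc
  push Not at hc
  obtain ⟨v, hv, hv0⟩ := Submodule.exists_mem_ne_zero_of_ne_bot (p := X) fun h => by
    rw [h, finrank_bot] at h1; omega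
  obtain ⟨y, hy, hvy⟩ := ND.partner hX hv hv0
  exact hvy (by rw [polar, hc _ (X.add_mem hv hy), hc v hv, hc y hy]; ring)

/-- Splitting off an anisotropic vector. -/
theorem split_aniso (h2 : (2 : F) ≠ 0) {X : Submodule F V} (hX : ND Q X) {v : V} (hv : v ∈ X)
    (hQv : Q v ≠ 0) :
    ND Q (X ⊓ perpS Q (Submodule.span F {v})) ∧
      Module.finrank F ↥(X ⊓ perpS Q (Submodule.span F {v})) + 1 = Module.finrank F X ∧
      ∀ x ∈ X, ∃ (t : F) (y : V), y ∈ X ∧ polar Q v y = 0 ∧ x = t • v + y := by
  have hdec : ∀ x ∈ X, ∃ (t : F) (y : V), y ∈ X ∧ polar Q v y = 0 ∧ x = t • v + y := fun x hx => by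
    refine ⟨polar Q v x / (2 * Q v), x - (polar Q v x / (2 * Q v)) • v,
      X.sub_mem hx (X.smul_mem _ hv), ?_, by abel⟩
    rw [polar_sub_right, polar_smul_right, polar_self, smul_eq_mul, nsmul_eq_mul, Nat.cast_ofNat,
      div_mul_cancel₀ _ (mul_ne_zero h2 hQv), sub_self]
  have hmem : ∀ {y : V}, y ∈ X → polar Q v y = 0 → y ∈ X ⊓ perpS Q (Submodule.span F {v}) :=
    fun {y} hy h => ⟨hy, fun u hu => by
      obtain ⟨t, rfl⟩ := Submodule.mem_span_singleton.1 hu
      rw [polar_smul_left, h, smul_zero]⟩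
  refine ⟨(Submodule.eq_bot_iff _).2 fun x hx => ND.eq_zero hX hx.1.1 fun u hu => ?_, ?_, hdec⟩
  · obtain ⟨t, y, hy, hy', rfl⟩ := hdec u hu
    rw [polar_add_left, polar_smul_left, hx.1.2 v (Submodule.mem_span_singleton_self v),
      hx.2 y (hmem hy hy'), smul_zero, add_zero]
  · have hv0 : v ≠ 0 := fun h => hQv (by rw [h, QuadraticMap.map_zero])
    have h1 := Submodule.finrank_sup_add_finrank_inf_eq (Submodule.span F {v})
      (X ⊓ perpS Q (Submodule.span F {v}))
    rw [show Submodule.span F {v} ⊔ X ⊓ perpS Q (Submodule.span F {v}) = X from le_antisymm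
      (sup_le ((Submodule.span_singleton_le_iff_mem _ _).2 hv) inf_le_left) (fun x hx => by
        obtain ⟨t, y, hy, hy', rfl⟩ := hdec x hx
        exact Submodule.add_mem_sup (Submodule.mem_span_singleton.2 ⟨t, rfl⟩) (hmem hy hy')),
      show Submodule.span F {v} ⊓ (X ⊓ perpS Q (Submodule.span F {v})) = ⊥ from
        (Submodule.eq_bot_iff _).2 fun x hx => by
          obtain ⟨t, rfl⟩ := Submodule.mem_span_singleton.1 hx.1
          have h3 := hx.2.2 v (Submodule.mem_span_singleton_self v)
          rw [polar_smul_right, polar_self, smul_eq_mul, nsmul_eq_mul, Nat.cast_ofNat] at h3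
          rw [(mul_eq_zero.1 h3).resolve_right (mul_ne_zero h2 hQv), zero_smul], finrank_bot] at h1
    have h4 : Module.finrank F (Submodule.span F {v}) = 1 := finrank_span_singleton hv0
    omega

/-- A plane over the field with three elements. -/
theorem orth_pair_three (hq : Nat.card F = 3) {X : Submodule F V} (hX : ND Q X)
    (hd : Module.finrank F X = 2) :
    ∃ a ∈ X, ∃ b ∈ X, Q a = 1 ∧ Q b ≠ 0 ∧ polar Q a b = 0 ∧
      ∀ v ∈ X, ∃ x y : F, v = x • a + y • b := by
  obtain ⟨h2, h3, htri⟩ := field_three hq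
  have hline : ∀ a ∈ X, Q a ≠ 0 → ∃ b ∈ X, Q b ≠ 0 ∧ polar Q a b = 0 ∧
      ∀ v ∈ X, ∃ x y : F, v = x • a + y • b := by
    intro a ha hQa
    obtain ⟨hX', hd', hdec⟩ := split_aniso h2 hX ha hQa
    obtain ⟨b, hb, hQb⟩ := exists_aniso_in hX' (by omega)
    refine ⟨b, hb.1, hQb, hb.2 a (Submodule.mem_span_singleton_self a), fun v hv => ?_⟩
    obtain ⟨t, y, hy, hy', rfl⟩ := hdec v hv
    have hyX : y ∈ X ⊓ perpS Q (Submodule.span F {a}) := ⟨hy, fun u hu => by
      obtain ⟨s, rfl⟩ := Submodule.mem_span_singleton.1 hu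
      rw [polar_smul_left, hy', smul_zero]⟩
    have hb0 : b ≠ 0 := fun h => hQb (by rw [h, QuadraticMap.map_zero])
    have hsp : X ⊓ perpS Q (Submodule.span F {a}) = Submodule.span F {b} :=
      (Submodule.eq_of_le_of_finrank_le ((Submodule.span_singleton_le_iff_mem _ _).2 hb)
        (by rw [finrank_span_singleton hb0]; omega)).symm
    rw [hsp] at hyX
    obtain ⟨s, rfl⟩ := Submodule.mem_span_singleton.1 hyX
    exact ⟨t, s, rfl⟩
  obtain ⟨a, ha, hQa⟩ := exists_aniso_in hX (by omega)
  rcases (htri (Q a)).resolve_left hQa with h | h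
  · obtain ⟨b, hb, hQb, hab, hgen⟩ := hline a ha hQa
    exact ⟨a, ha, b, hb, h, hQb, hab, hgen⟩
  · obtain ⟨b, hb, hQb, hab, -⟩ := hline a ha hQa
    rcases (htri (Q b)).resolve_left hQb with h' | h'
    · obtain ⟨b', hb', hQb', hab', hgen⟩ := hline b hb hQb
      exact ⟨b, hb, b', hb', h', hQb', hab', hgen⟩
    · have h4 : Q (a + b) = 1 := by rw [quad_add, h, h', hab]; linear_combination -h3
      obtain ⟨b', hb', hQb', hab', hgen⟩ := hline (a + b) (X.add_mem ha hb) (h4 ▸ one_ne_zero)
      exact ⟨a + b, X.add_mem ha hb, b', hb', h4, hQb', hab', hgen⟩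

theorem hasFrame_plane_three (hq : Nat.card F = 3) {X : Submodule F V} (hX : ND Q X)
    (hd : Module.finrank F X = 2) : HasFrame Q X := by
  obtain ⟨h2, h3, htri⟩ := field_three hq
  obtain ⟨a, ha, b, hb, hQa, hQb, hab, hgen⟩ := orth_pair_three hq hX hd
  have hunit : ∀ v ∈ X, Q v = 1 → v = a ∨ v = -a ∨ v = b ∨ v = -b := by
    intro v hv hQv
    obtain ⟨x, y, rfl⟩ := hgen v hv
    rw [quad_add, quad_smul, quad_smul, polar_smul_left, polar_smul_right, hab, hQa, smul_zero,
      smul_zero, add_zero] at hQv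
    rcases htri y with hy | hy | hy <;> rcases htri x with hx | hx | hx <;> rw [hx, hy] at hQv ⊢ <;>
      simp only [zero_smul, one_smul, neg_smul, zero_add, add_zero, true_or, or_true] at *
    all_goals
      rcases (htri (Q b)).resolve_left hQb with h | h <;> rw [h] at hQv
      all_goals
        exfalso
        first
          | exact one_ne_zero (α := F) (by linear_combination hQv)
          | exact one_ne_zero (α := F) (by linear_combination -hQv)
          | exact one_ne_zero (α := F) (by linear_combination h3 + hQv)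
          | exact one_ne_zero (α := F) (by linear_combination h3 - hQv)
  refine ⟨1, one_ne_zero, a, ha, b, hb, hQa, hQb, hab, fun v hv hQv w hw hw' => ?_⟩
  have hw'' : w = a ∨ w = -a ∨ w = b ∨ w = -b :=
    hw'.elim (hunit w hw) fun h => Or.inr (Or.inr (Or.inl h))
  rcases hunit v hv hQv with h1 | h1 | h1 | h1 <;> rcases hw'' with h4 | h4 | h4 | h4 <;>
    simp [h1, h4, polar_neg_left, polar_neg_right, hab, polar_comm (⇑Q) b a]

theorem hasFrame_three (hq : Nat.card F = 3) {X : Submodule F V} (hX : ND Q X)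
    (hd : Module.finrank F X = 3) : HasFrame Q X := by
  obtain ⟨h2, h3, htri⟩ := field_three hq
  -- three orthogonal vectors with the same value spanning `X`
  obtain ⟨c, hc, v1, hv1, v2, hv2, v3, hv3, q1, q2, q3, p12, p13, p23, hgen⟩ :
      ∃ c : F, c ≠ 0 ∧ ∃ v1 ∈ X, ∃ v2 ∈ X, ∃ v3 ∈ X, Q v1 = c ∧ Q v2 = c ∧ Q v3 = c ∧
        polar Q v1 v2 = 0 ∧ polar Q v1 v3 = 0 ∧ polar Q v2 v3 = 0 ∧
        ∀ v ∈ X, ∃ x y z : F, v = x • v1 + y • v2 + z • v3 := by
    obtain ⟨u, hu, hQu⟩ := exists_aniso_in hX (by omega)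
    obtain ⟨hX', hd', hdec⟩ := split_aniso h2 hX hu hQu
    obtain ⟨a, ha, b, hb, hQa, hQb, hab, hgen⟩ :=
      orth_pair_three hq hX' (by omega)
    have hua : polar Q u a = 0 := ha.2 u (Submodule.mem_span_singleton_self u)
    have hub : polar Q u b = 0 := hb.2 u (Submodule.mem_span_singleton_self u)
    have hall : ∀ v ∈ X, ∃ x y z : F, v = x • u + y • a + z • b := fun v hv => by
      obtain ⟨t, y, hy, hy', rfl⟩ := hdec v hv
      obtain ⟨p, q, rfl⟩ := hgen y ⟨hy, fun w hw => by
        obtain ⟨s, rfl⟩ := Submodule.mem_span_singleton.1 hw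
        rw [polar_smul_left, hy', smul_zero]⟩
      exact ⟨t, p, q, by abel⟩
    -- a pair with equal values `c` can be turned into a pair with values `-c`
    have hflip : ∀ {v w : V}, Q v = Q w → polar Q v w = 0 →
        Q (v + w) = -Q v ∧ Q (v - w) = -Q v ∧ polar Q (v + w) (v - w) = 0 ∧
          v = -((v + w) + (v - w)) ∧ w = -((v + w) - (v - w)) := by
      intro v w hvw hp
      refine ⟨?_, ?_, ?_, ?_, ?_⟩
      · rw [quad_add, ← hvw, hp]; linear_combination Q v * h3
      · rw [sub_eq_add_neg, quad_add, QuadraticMap.map_neg, ← hvw, polar_neg_right, hp]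
        linear_combination Q v * h3
      · rw [polar_add_left, polar_sub_right, polar_sub_right, polar_self, polar_self,
          polar_comm (⇑Q) w v, hp, ← hvw]
        simp
      · have h4 : (3 : F) • v = 0 := by rw [h3, zero_smul]
        linear_combination (norm := module) h4
      · have h4 : (3 : F) • w = 0 := by rw [h3, zero_smul]
        linear_combination (norm := module) h4
    rcases (htri (Q u)).resolve_left hQu with hu1 | hu1 <;>
      rcases (htri (Q b)).resolve_left hQb with hb1 | hb1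
    · exact ⟨1, one_ne_zero, u, hu, a, ha.1, b, hb.1, hu1, hQa, hb1, hua, hub, hab, hall⟩
    · obtain ⟨f1, f2, f3, f4, f5⟩ := hflip (hu1.trans hQa.symm) hua
      refine ⟨-1, neg_ne_zero.2 one_ne_zero, u + a, X.add_mem hu ha.1, u - a, X.sub_mem hu ha.1,
        b, hb.1, by rw [f1, hu1], by rw [f2, hu1], hb1, f3,
        by rw [polar_add_left, hub, hab, add_zero], by rw [polar_sub_left, hub, hab, sub_zero],
        fun v hv => ?_⟩
      obtain ⟨x, y, z, rfl⟩ := hall v hv
      refine ⟨-(x + y), -(x - y), z, ?_⟩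
      linear_combination (norm := module) (x : F) • f4 + (y : F) • f5
    · obtain ⟨f1, f2, f3, f4, f5⟩ := hflip (hQa.trans hb1.symm) hab
      refine ⟨-1, neg_ne_zero.2 one_ne_zero, u, hu, a + b, X.add_mem ha.1 hb.1, a - b,
        X.sub_mem ha.1 hb.1, hu1, by rw [f1, hQa], by rw [f2, hQa],
        by rw [polar_add_right, hua, hub, add_zero], by rw [polar_sub_right, hua, hub, sub_zero], f3,
        fun v hv => ?_⟩
      obtain ⟨x, y, z, rfl⟩ := hall v hv
      refine ⟨x, -(y + z), -(y - z), ?_⟩
      linear_combination (norm := module) (y : F) • f4 + (z : F) • f5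
    · obtain ⟨f1, f2, f3, f4, f5⟩ := hflip (hu1.trans hb1.symm) hub
      refine ⟨1, one_ne_zero, u + b, X.add_mem hu hb.1, u - b, X.sub_mem hu hb.1, a, ha.1,
        by rw [f1, hu1, neg_neg], by rw [f2, hu1, neg_neg], hQa, f3,
        by rw [polar_add_left, hua, polar_comm (⇑Q) b a, hab, add_zero],
        by rw [polar_sub_left, hua, polar_comm (⇑Q) b a, hab, sub_zero], fun v hv => ?_⟩
      obtain ⟨x, y, z, rfl⟩ := hall v hv
      refine ⟨-(x + z), -(x - z), y, ?_⟩
      linear_combination (norm := module) (x : F) • f4 + (z : F) • f5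
  have hone : ∀ v ∈ X, Q v = c → v = v1 ∨ v = -v1 ∨ v = v2 ∨ v = -v2 ∨ v = v3 ∨ v = -v3 := by
    intro v hv hQv
    obtain ⟨x, y, z, rfl⟩ := hgen v hv
    simp only [quad_add, quad_smul, polar_add_left, polar_smul_left, polar_smul_right, q1, q2, q3,
      p12, p13, p23, smul_zero, add_zero] at hQv
    rcases htri x with hx | hx | hx <;> rcases htri y with hy | hy | hy <;>
      rcases htri z with hz | hz | hz <;> rw [hx, hy, hz] at hQv ⊢ <;>
      simp only [zero_smul, one_smul, neg_smul, zero_add, add_zero, true_or, or_true] at *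
    all_goals
      exfalso
      first
        | exact hc (by linear_combination hQv)
        | exact hc (by linear_combination -hQv)
        | exact hc (by linear_combination c * h3 - hQv)
        | exact hc (by linear_combination c * h3 + hQv)
  refine ⟨c, hc, v1, hv1, v2, hv2, q1, by rw [q2]; exact hc, p12, fun v hv hQv w hw hw' => ?_⟩
  have hw'' : w = v1 ∨ w = -v1 ∨ w = v2 ∨ w = -v2 ∨ w = v3 ∨ w = -v3 :=
    hw'.elim (hone w hw) fun h => Or.inr (Or.inr (Or.inl h))
  rcases hone v hv hQv with h1 | h1 | h1 | h1 | h1 | h1 <;>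
    rcases hw'' with h4 | h4 | h4 | h4 | h4 | h4 <;>
    simp [h1, h4, polar_neg_left, polar_neg_right, p12, p13, p23, polar_comm (⇑Q) v2 v1,
      polar_comm (⇑Q) v3 v1, polar_comm (⇑Q) v3 v2]

/-- A plane with a singular vector over the field with five elements. -/
theorem hasFrame_plane_five (hq : Nat.card F = 5) {X : Submodule F V} (hX : ND Q X)
    (hd : Module.finrank F X = 2) (hpl : ∃ z ∈ X, z ≠ 0 ∧ Q z = 0) : HasFrame Q X := by
  haveI := Fintype.ofFinite F
  have hcard : Fintype.card F = 5 := by rwa [← Nat.card_eq_fintype_card]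
  have h5 : (5 : F) = 0 := by
    have := FiniteField.cast_card_eq_zero F
    rw [hcard] at this
    exact_mod_cast this
  have h2 : (2 : F) ≠ 0 := fun h => one_ne_zero (show (1 : F) = 0 by linear_combination h5 - 2 * h)
  obtain ⟨e, he, he0, hQe⟩ := hpl
  obtain ⟨f', hf', hQf', hef'⟩ := ND.singular_partner hX he he0 hQe
  set f := (polar Q e f')⁻¹ • f'
  have hf : f ∈ X := X.smul_mem _ hf'
  have hQf : Q f = 0 := by rw [quad_smul, hQf', mul_zero]
  have hef : polar Q e f = 1 := by rw [polar_smul_right, smul_eq_mul, inv_mul_cancel₀ hef']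
  have hee : polar Q e e = 0 := by rw [polar_self, hQe, smul_zero]
  have hind : LinearIndependent F ![e, f] := by
    rw [LinearIndependent.pair_iff]
    intro s t hst
    have h1 : t = 0 := by
      simpa [polar_add_right, polar_smul_right, hee, hef] using congrArg (polar Q e) hst
    refine ⟨?_, h1⟩
    rw [h1, zero_smul, add_zero] at hst
    exact (smul_eq_zero.1 hst).resolve_right he0
  have hgen : ∀ v ∈ X, ∃ x y : F, v = x • e + y • f := by
    intro v hv
    have hspan : Submodule.span F (Set.range ![e, f]) = X := Submodule.eq_of_le_of_finrank_le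
      (Submodule.span_le.2 (by rintro _ ⟨i, rfl⟩; fin_cases i <;> assumption))
      (by rw [finrank_span_eq_card hind, hd, Fintype.card_fin])
    rw [← hspan, Submodule.mem_span_range_iff_exists_fun] at hv
    obtain ⟨c, rfl⟩ := hv
    exact ⟨c 0, c 1, by simp⟩
  set a := e + f
  set b := (2 : F) • e + (3 : F) • f
  have hQ2 : ∀ x y : F, Q (x • e + y • f) = x * y := fun x y => by
    rw [quad_add, quad_smul, quad_smul, hQe, hQf, polar_smul_left, polar_smul_right, hef]; simp
  have hab : polar Q a b = 0 := by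
    simp only [a, b, polar_add_left, polar_add_right, polar_smul_right, hee, hef,
      polar_self, hQf, polar_comm (⇑Q) f e, smul_eq_mul, smul_zero]
    linear_combination h5
  have hunit : ∀ v ∈ X, Q v = 1 → v = a ∨ v = -a ∨ v = b ∨ v = -b := by
    intro v hv hQv
    obtain ⟨x, y, rfl⟩ := hgen v hv
    rw [hQ2] at hQv
    have hx : x ≠ 0 := left_ne_zero_of_mul_eq_one hQv
    have h4 := FiniteField.pow_card_sub_one_eq_one x hx
    rw [hcard] at h4
    norm_num at h4
    have hy : y = x ^ 3 := by linear_combination x ^ 3 * hQv - y * h4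
    have hfac : (x - 1) * (x + 1) * (x - 2) * (x + 2) = 0 := by
      linear_combination h4 + (1 - x ^ 2) * h5
    rcases mul_eq_zero.1 hfac with h | h
    · rcases mul_eq_zero.1 h with h | h
      · rcases mul_eq_zero.1 h with h | h
        · left
          rw [hy, show x = 1 by linear_combination h]
          simp [a]
        · right; left
          rw [hy, show x = -1 by linear_combination h, show ((-1 : F)) ^ 3 = -1 by ring]
          simp only [a, neg_smul, one_smul]
          abel
      · right; right; left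
        rw [hy, show x = 2 by linear_combination h, show ((2 : F)) ^ 3 = 3 by linear_combination h5]
    · right; right; right
      rw [hy, show x = -2 by linear_combination h,
        show ((-2 : F)) ^ 3 = -3 by linear_combination -h5]
      simp only [b, neg_smul]
      abel
  refine ⟨1, one_ne_zero, a, X.add_mem he hf, b, X.add_mem (X.smul_mem _ he) (X.smul_mem _ hf),
    ?_, ?_, hab, fun v hv hQv w hw hw' => ?_⟩
  · simpa using hQ2 1 1
  · rw [hQ2]
    exact fun h => one_ne_zero (show (1 : F) = 0 by linear_combination h - h5)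
  have hw'' : w = a ∨ w = -a ∨ w = b ∨ w = -b :=
    hw'.elim (hunit w hw) fun h => Or.inr (Or.inr (Or.inl h))
  rcases hunit v hv hQv with h1 | h1 | h1 | h1 <;> rcases hw'' with h4 | h4 | h4 | h4 <;>
    simp [h1, h4, polar_neg_left, polar_neg_right, hab, polar_comm (⇑Q) b a]

end CfsgLib.Geo.OS
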