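import Cfsg.Agent.Geo.OrthNonMaximal

/-!
Decomposition stabilisers in `Ω` over tiny fields which are not maximal: the members have canonical
frames, and the stabiliser of all these frames is a larger proper subgroup.
-/

set_option autoImplicit false
set_option linter.unusedSectionVars false
set_option linter.style.haveILetI false

namespace CfsgLib.Geo.OS

open QuadraticMap CfsgLib.Forms CfsgLib.Quad

variable {F : Type*} [Field F] [Finite F] {ι : Type} [Fintype ι] [DecidableEq ι]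
  {Q : QuadraticForm F (ι → F)}

/-- The isometries mapping a set onto itself. -/
def setStab (Q : QuadraticForm F (ι → F)) (S : Set (ι → F)) : Subgroup (oGroup Q) where
  carrier := {g | ∀ x, g.1 x ∈ S ↔ x ∈ S}
  one_mem' := fun _ => Iff.rfl
  mul_mem' := fun {g h} hg hh x => (hg (h.1 x)).trans (hh x)
  inv_mem' := fun {g} hg x => by
    have := hg (g.1.symm x)
    rw [LinearEquiv.apply_symm_apply] at this
    exact this.symm

theorem mem_setStab_of_maps {S : Set (ι → F)} {g : oGroup Q} (h : ∀ x ∈ S, g.1 x ∈ S) :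
    g ∈ setStab Q S := by
  haveI : Finite (ι → F) := inferInstance
  let f : S → S := fun x => ⟨g.1 x.1, h x.1 x.2⟩
  have hf : Function.Injective f := fun a b e => Subtype.ext (g.1.injective (congrArg Subtype.val e))
  refine fun x => ⟨fun hx => ?_, h x⟩
  obtain ⟨y, hy⟩ := Finite.surjective_of_injective hf ⟨g.1 x, hx⟩
  rw [← g.1.injective (congrArg Subtype.val hy)]
  exact y.2

/-- What is used of an orthogonal decomposition. -/
structure Mem (Q : QuadraticForm F (ι → F)) {t : ℕ} (D : Fin t → Submodule F (ι → F)) : Prop where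
  disj : ∀ i j, i ≠ j → D i ⊓ D j = ⊥
  orth : ∀ i j, i ≠ j → ∀ x ∈ D i, ∀ y ∈ D j, polar Q x y = 0
  iso : ∀ i j, ∃ e : D i ≃ₗ[F] D j, ∀ w : D i, Q (e w : ι → F) = Q (w : ι → F)

theorem decomp_maps {t : ℕ} {D : Fin t → Submodule F (ι → F)} {g : oGroup Q}
    (h : toGL Q g ∈ Cfsg.Geo.decompositionStabilizer D) :
    ∃ σ : Equiv.Perm (Fin t), ∀ i, ∀ x ∈ D i, g.1 x ∈ D (σ i) := by
  obtain ⟨σ, hσ⟩ := h
  refine ⟨σ, fun i x hx => ?_⟩
  have h1 : (D i).map (Matrix.toLin' (toGL Q g : Matrix ι ι F)) = D (σ i) := hσ i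
  rw [← h1]
  exact ⟨x, hx, by rw [Matrix.toLin'_apply, toGL_mulVec]⟩

theorem mem_setStab_of_decomp {t : ℕ} {D : Fin t → Submodule F (ι → F)} (c : F) {g : oGroup Q}
    (h : toGL Q g ∈ Cfsg.Geo.decompositionStabilizer D) :
    g ∈ setStab Q {v | (∃ i, v ∈ D i) ∧ Q v = c} := by
  obtain ⟨σ, hσ⟩ := decomp_maps h
  exact mem_setStab_of_maps fun x hx => ⟨hx.1.elim fun i hi => ⟨σ i, hσ i x hi⟩, by rw [g.2, hx.2]⟩

/-- A witness that an element permuting the members is not in the decomposition stabiliser. -/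
theorem not_decomp {t : ℕ} {D : Fin t → Submodule F (ι → F)} (hM : Mem Q D) {g : oGroup Q}
    {i j l : Fin t} (hjl : j ≠ l) {a b : ι → F} (ha : a ∈ D i) (hb : b ∈ D i) (hga : g.1 a ∈ D j)
    (hgb : g.1 b ∈ D l) (ha0 : a ≠ 0) (hb0 : b ≠ 0) :
    toGL Q g ∉ Cfsg.Geo.decompositionStabilizer D := fun h => by
  obtain ⟨σ, hσ⟩ := decomp_maps h
  have key : ∀ {x : ι → F} {m : Fin t}, x ∈ D i → x ≠ 0 → g.1 x ∈ D m → σ i = m := by
    intro x m hx hx0 hm
    by_contra hne
    exact hx0 ((LinearEquiv.map_eq_zero_iff g.1).1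
      ((Submodule.mem_bot F).1 (hM.disj _ _ hne ▸ ⟨hσ i x hx, hm⟩)))
  exact hjl ((key ha ha0 hga).symm.trans (key hb hb0 hgb))

variable (hQ : (polarBilin Q).Nondegenerate) (hn : 7 ≤ Module.finrank F (ι → F))

include hQ hn

/-- Members with frames: the frames' stabiliser lies strictly in between. -/
theorem frame_nonmax (h2 : (2 : F) ≠ 0) {t : ℕ} (ht : 3 ≤ t) {D : Fin t → Submodule F (ι → F)}
    (hM : Mem Q D) {c : F} (hc : c ≠ 0) {i₀ : Fin t} {a b : ι → F} (ha : a ∈ D i₀) (hb : b ∈ D i₀)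
    (hQa : Q a = c) (hQb : Q b ≠ 0) (hab : polar Q a b = 0)
    (hfr : ∀ v ∈ D i₀, Q v = c → ∀ w ∈ D i₀, (Q w = c ∨ w = b) →
      v = w ∨ v = -w ∨ polar Q v w = 0) :
    ∃ K : Subgroup (GL ι F), Cfsg.Geo.decompositionStabilizer D ⊓ Cfsg.Geo.omegaGL ⇑Q < K ∧
      K < Cfsg.Geo.omegaGL ⇑Q := by
  classical
  set S : Set (ι → F) := {v | (∃ i, v ∈ D i) ∧ Q v = c} with hS
  obtain ⟨i₁, hi₁, i₂, hi₂, h12⟩ : ∃ i₁, i₁ ≠ i₀ ∧ ∃ i₂, i₂ ≠ i₀ ∧ i₁ ≠ i₂ := by
    have h1 : 2 ≤ (Finset.univ.erase i₀).card := by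
      rw [Finset.card_erase_of_mem (Finset.mem_univ _), Finset.card_univ, Fintype.card_fin]; omega
    obtain ⟨x, hx, y, hy, hxy⟩ := Finset.one_lt_card.1 h1
    exact ⟨x, Finset.ne_of_mem_erase hx, y, Finset.ne_of_mem_erase hy, hxy⟩
  obtain ⟨e1, he1⟩ := hM.iso i₀ i₁
  obtain ⟨e2, he2⟩ := hM.iso i₀ i₂
  set a' : ι → F := (e1 ⟨a, ha⟩ : ι → F) with ha'd
  set b' : ι → F := (e2 ⟨b, hb⟩ : ι → F) with hb'd
  have ha'1 : a' ∈ D i₁ := (e1 ⟨a, ha⟩).2
  have hb'2 : b' ∈ D i₂ := (e2 ⟨b, hb⟩).2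
  have hQa' : Q a' = Q a := he1 ⟨a, ha⟩
  have hQb' : Q b' = Q b := he2 ⟨b, hb⟩
  -- the frame property on all members
  have hfr' : ∀ i, ∀ v ∈ D i, Q v = c → ∀ w ∈ D i, Q w = c →
      v = w ∨ v = -w ∨ polar Q v w = 0 := by
    intro i v hv hQv w hw hQw
    obtain ⟨e, he⟩ := hM.iso i i₀
    rcases hfr _ (e ⟨v, hv⟩).2 ((he ⟨v, hv⟩).trans hQv) _ (e ⟨w, hw⟩).2
      (Or.inl ((he ⟨w, hw⟩).trans hQw)) with h | h | h
    · exact Or.inl (congrArg Subtype.val (e.injective (Subtype.ext h)))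
    · exact Or.inr (Or.inl (congrArg Subtype.val (e.injective (a₁ := ⟨v, hv⟩)
        (a₂ := -⟨w, hw⟩) (Subtype.ext (by rw [map_neg]; exact h)))))
    · refine Or.inr (Or.inr ?_)
      have h1 : ∀ x y : D i, polar Q (e x : ι → F) (e y : ι → F) = polar Q x.1 y.1 := fun x y => by
        simp only [polar, ← Submodule.coe_add, ← map_add, he]
      rw [← h1 ⟨v, hv⟩ ⟨w, hw⟩]; exact h
  -- every element of `S` is the same up to sign or orthogonal
  have hbS : ∀ i (x : ι → F), x ∈ D i → (Q x = c ∨ ∃ e : D i₀ ≃ₗ[F] D i,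
      (∀ w : D i₀, Q (e w : ι → F) = Q (w : ι → F)) ∧ (e ⟨b, hb⟩ : ι → F) = x) →
      ∀ s ∈ S, s = x ∨ s = -x ∨ polar Q s x = 0 := by
    rintro i x hx hx' s ⟨⟨j, hj⟩, hQs⟩
    rcases eq_or_ne j i with rfl | hji
    · rcases hx' with hQx | ⟨e, he, rfl⟩
      · exact hfr' j s hj hQs x hx hQx
      · have h1 : Q (e.symm ⟨s, hj⟩ : ι → F) = c := by
          rw [← he, LinearEquiv.apply_symm_apply]; exact hQs
        rcases hfr _ (e.symm ⟨s, hj⟩).2 h1 b hb (Or.inr rfl) with h | h | h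
        · have h3 : e.symm ⟨s, hj⟩ = ⟨b, hb⟩ := Subtype.ext h
          left; rw [← h3, LinearEquiv.apply_symm_apply]
        · have h3 : e.symm ⟨s, hj⟩ = -⟨b, hb⟩ := Subtype.ext h
          right; left
          rw [← neg_neg (⟨b, hb⟩ : D i₀), ← h3, map_neg, LinearEquiv.apply_symm_apply]
          simp
        · refine Or.inr (Or.inr ?_)
          have h1 : ∀ x y : D i₀, polar Q (e x : ι → F) (e y : ι → F) = polar Q x.1 y.1 :=
            fun x y => by simp only [polar, ← Submodule.coe_add, ← map_add, he]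
          rw [← h1 (e.symm ⟨s, hj⟩) ⟨b, hb⟩, LinearEquiv.apply_symm_apply] at h
          exact h
    · exact Or.inr (Or.inr (hM.orth j i hji s hj x hx))
  have hrefl : ∀ (i j : Fin t), i ≠ j → ∀ x ∈ D i, ∀ y ∈ D j, Q x ≠ 0 → Q y = Q x →
      (∀ s ∈ S, s = x ∨ s = -x ∨ polar Q s x = 0) → (∀ s ∈ S, s = y ∨ s = -y ∨ polar Q s y = 0) →
      (Q (x - y) ≠ 0 ∧ Q (x - y) = 2 * Q x) ∧ (refl Q (x - y)).1 x = y ∧
        ((Q x = c ↔ x ∈ S) → (Q y = c ↔ y ∈ S) → refl Q (x - y) ∈ setStab Q S) := by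
    intro i j hij x hx y hy hQx hQy hxS hyS
    have hxy : polar Q x y = 0 := hM.orth i j hij x hx y hy
    have hd : Q (x - y) = 2 * Q x := by
      rw [sub_eq_add_neg, quad_add, QuadraticMap.map_neg, polar_neg_right, hQy, hxy]; ring
    have hd0 : Q (x - y) ≠ 0 := by rw [hd]; exact mul_ne_zero h2 hQx
    have hrx : (refl Q (x - y)).1 x = y := by
      rw [refl_apply, hd, polar_sub_right, polar_self, hxy, sub_zero, nsmul_eq_mul, Nat.cast_ofNat,
        neg_mul, inv_mul_cancel₀ (mul_ne_zero h2 hQx), neg_smul, one_smul]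
      abel
    have hry : (refl Q (x - y)).1 y = x := by
      have h1 := DFunLike.congr_fun (congrArg Subtype.val (refl_mul_self (Q := Q) (x - y))) x
      change (refl Q (x - y)).1 ((refl Q (x - y)).1 x) = x at h1
      rwa [hrx] at h1
    refine ⟨⟨hd0, hd⟩, hrx, fun hxiff hyiff => mem_setStab_of_maps fun s hs => ?_⟩
    have hxQ : ∀ {u : ι → F}, u ∈ S → Q u = c := fun hu => hu.2
    have hneg : ∀ {u : ι → F}, u ∈ S → -u ∈ S := fun hu =>
      ⟨hu.1.elim fun i hi => ⟨i, (D i).neg_mem hi⟩, by rw [QuadraticMap.map_neg]; exact hu.2⟩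
    rcases hxS s hs with rfl | rfl | h1
    · rw [hrx]; exact hyiff.1 (hQy.trans (hxQ hs))
    · rw [map_neg, hrx]; exact hneg (hyiff.1 (by rw [hQy, ← QuadraticMap.map_neg]; exact hxQ hs))
    · rcases hyS s hs with rfl | rfl | h3
      · rw [hry]; exact hxiff.1 (hQy.symm.trans (hxQ hs))
      · rw [map_neg, hry]; exact hneg (hxiff.1 (by rw [← hQy, ← QuadraticMap.map_neg]; exact hxQ hs))
      · rw [refl_fix (by rw [polar_sub_right, h1, h3, sub_zero])]; exact hs
  have hQa0 : Q a ≠ 0 := hQa ▸ hc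
  obtain ⟨⟨hd1, hd1'⟩, hr1, hs1⟩ := hrefl i₀ i₁ hi₁.symm a ha a' ha'1 hQa0 hQa'
    (hbS i₀ a ha (Or.inl hQa)) (hbS i₁ a' ha'1 (Or.inl (hQa'.trans hQa)))
  obtain ⟨⟨hd2, hd2'⟩, hr2, hs2⟩ := hrefl i₀ i₂ hi₂.symm b hb b' hb'2 hQb hQb'
    (hbS i₀ b hb (Or.inr ⟨LinearEquiv.refl F _, fun _ => rfl, rfl⟩))
    (hbS i₂ b' hb'2 (Or.inr ⟨e2, he2, rfl⟩))
  have hiff : ∀ {i : Fin t} {x : ι → F}, x ∈ D i → (Q x = c ↔ x ∈ S) :=
    fun {i x} hx => ⟨fun h => ⟨⟨i, hx⟩, h⟩, fun h => h.2⟩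
  set r1 := refl Q (a - a')
  set r2 := refl Q (b - b')
  set g := r1 * r2 * (r1 * r2)⁻¹ with hg
  -- the element
  obtain ⟨h, hhK, hhS, hhD⟩ : ∃ h ∈ commutator (oGroup Q), h ∈ setStab Q S ∧
      toGL Q h ∉ Cfsg.Geo.decompositionStabilizer D := by
    have hm1 := hs1 (hiff ha) (hiff ha'1)
    have hm2 := hs2 (hiff hb) (hiff hb'2)
    by_cases hsq : IsSquare (Q (a - a') * Q (b - b'))
    · refine ⟨r1 * r2, refl_pair_mem_commutator hQ hd1 hd2 hsq, mul_mem hm1 hm2,
        not_decomp hM h12 ha hb ?_ ?_ (fun h => hQa0 (by rw [h, QuadraticMap.map_zero]))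
          (fun h => hQb (by rw [h, QuadraticMap.map_zero]))⟩
      · change r1.1 (r2.1 a) ∈ _
        rw [refl_fix (show polar Q a (b - b') = 0 by
          rw [polar_sub_right, hab, hM.orth i₀ i₂ hi₂.symm a ha b' hb'2, sub_zero]), hr1]
        exact ha'1
      · change r1.1 (r2.1 b) ∈ _
        rw [hr2, refl_fix (show polar Q b' (a - a') = 0 by
          rw [polar_sub_right, hM.orth i₂ i₀ hi₂ b' hb'2 a ha, hM.orth i₂ i₁ h12.symm b' hb'2 a' ha'1,
            sub_zero])]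
        exact hb'2
    · -- two different classes: use the commutator with a third transposition
      obtain ⟨e3, he3⟩ := hM.iso i₁ i₂
      set a'' : ι → F := (e3 ⟨a', ha'1⟩ : ι → F) with ha''d
      have ha''2 : a'' ∈ D i₂ := (e3 ⟨a', ha'1⟩).2
      have hQa'' : Q a'' = Q a' := he3 ⟨a', ha'1⟩
      obtain ⟨⟨hd3, hd3'⟩, hr3, hs3⟩ := hrefl i₁ i₂ h12 a' ha'1 a'' ha''2 (hQa'.symm ▸ hQa0) hQa''
        (hbS i₁ a' ha'1 (Or.inl (hQa'.trans hQa)))
        (hbS i₂ a'' ha''2 (Or.inl (hQa''.trans (hQa'.trans hQa))))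
      set r3 := refl Q (a' - a'')
      refine ⟨r3 * r1, refl_pair_mem_commutator hQ hd3 hd1 ?_,
        mul_mem (hs3 (hiff ha'1) (hiff ha''2)) hm1, not_decomp hM hi₂ ha hb ?_ ?_
          (fun h => hQa0 (by rw [h, QuadraticMap.map_zero]))
          (fun h => hQb (by rw [h, QuadraticMap.map_zero]))⟩
      · rw [hd3', hd1', hQa']; exact ⟨2 * Q a, rfl⟩
      · change r3.1 (r1.1 a) ∈ _
        rw [hr1, hr3]
        exact ha''2
      · change r3.1 (r1.1 b) ∈ _
        rw [refl_fix (show polar Q b (a - a') = 0 by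
          rw [polar_sub_right, polar_comm, hab, hM.orth i₀ i₁ hi₁.symm b hb a' ha'1, sub_zero]),
          refl_fix (show polar Q b (a' - a'') = 0 by
          rw [polar_sub_right, hM.orth i₀ i₁ hi₁.symm b hb a' ha'1,
            hM.orth i₀ i₂ hi₂.symm b hb a'' ha''2, sub_zero])]
        exact hb
  refine exists_between (L := setStab Q S) (fun g _ hg => mem_setStab_of_decomp c hg)
    ⟨h, hhK, hhS, hhD⟩ ?_
  -- an element moving `a` out of `S`
  obtain ⟨e, he, hae⟩ : ∃ e, Q e = 0 ∧ polar Q a e ≠ 0 := by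
    by_contra hcon
    push Not at hcon
    obtain ⟨y, hy⟩ := exists_polar_ne hQ (fun h0 : a = 0 => hQa0 (by rw [h0, QuadraticMap.map_zero]))
    have : y ∈ Submodule.span F {x | Q x = 0} := by
      rw [span_singular_top hQ (by omega)]; trivial
    refine hy ?_
    clear hy
    induction this using Submodule.span_induction with
    | mem x hx => exact hcon x hx
    | zero => exact polar_zero_right _ _
    | add u v _ _ hu hv => rw [polar_add_right, hu, hv, add_zero]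
    | smul s u _ hu => rw [polar_smul_right, hu, smul_zero]
  obtain ⟨x, hx, hQx, hxa⟩ := exists_singular_outside hQ
    (perpS Q (Submodule.span F {e} ⊔ Submodule.span F {a})) (Submodule.span F {a}) (by
      have h1 := finrank_perpS hQ (Submodule.span F {e} ⊔ Submodule.span F {a})
      have h3 := Submodule.finrank_add_le_finrank_add_finrank (Submodule.span F {e})
        (Submodule.span F {a})
      have hone : ∀ v : ι → F, Module.finrank F (Submodule.span F {v}) ≤ 1 := fun v =>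
        (finrank_span_le_card ({v} : Set (ι → F))).trans (by simp)
      have := hone e
      have := hone a
      omega)
  have hex : polar Q e x = 0 := hx e (Submodule.mem_sup_left (Submodule.mem_span_singleton_self e))
  have hax : polar Q a x = 0 := hx a (Submodule.mem_sup_right (Submodule.mem_span_singleton_self a))
  refine ⟨siegel Q e x, siegel_mem_commutator hQ (by omega) he hex, fun hL => ?_⟩
  have h1 := (hL a).2 ⟨⟨i₀, ha⟩, hQa⟩
  rw [siegel_apply he hex, hax, hQx, zero_mul, add_zero, zero_smul, sub_zero] at h1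
  rcases hbS i₀ a ha (Or.inl hQa) _ h1 with h3 | h3 | h3
  · rw [add_eq_left, smul_eq_zero] at h3
    rcases h3 with h3 | h3
    · exact hae h3
    · exact hxa (h3 ▸ zero_mem _)
  · refine hxa ((Submodule.smul_mem_iff _ hae).1 ?_)
    rw [eq_sub_of_add_eq' h3]
    exact Submodule.sub_mem _ (Submodule.neg_mem _ (Submodule.mem_span_singleton_self a))
      (Submodule.mem_span_singleton_self a)
  · rw [polar_add_left, polar_smul_left, polar_comm (⇑Q) x a, hax, smul_zero, add_zero, polar_self,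
      nsmul_eq_mul, Nat.cast_ofNat] at h3
    exact mul_ne_zero h2 hQa0 h3

end CfsgLib.Geo.OS
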