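import Cfsg.Agent.Geo.OrthSingular
import Cfsg.Agent.Quad.Parity

/-!
The parity of the intersection of a maximal totally singular subspace with its images under `Ω`.
-/

set_option autoImplicit false
set_option linter.unusedSectionVars false

namespace CfsgLib.Geo.OS

open QuadraticMap CfsgLib.Forms CfsgLib.Quad

variable {F V : Type*} [Field F] [AddCommGroup V] [Module F V] [FiniteDimensional F V] [Finite F]
  {Q : QuadraticForm F V} (hQ : (polarBilin Q).Nondegenerate)

/-- A maximal totally singular subspace in plus type. -/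
def IsLag (Q : QuadraticForm F V) (T : Submodule F V) : Prop :=
  (∀ x ∈ T, Q x = 0) ∧ Module.finrank F V = Module.finrank F T + Module.finrank F T

theorem IsLag.map {T : Submodule F V} (hT : IsLag Q T) (g : oGroup Q) :
    IsLag Q (T.map g.1.toLinearMap) := by
  refine ⟨?_, ?_⟩
  · rintro _ ⟨x, hx, rfl⟩
    exact (g.2 x).trans (hT.1 x hx)
  · rw [LinearEquiv.finrank_map_eq]; exact hT.2

include hQ

theorem IsLag.perp_eq {T : Submodule F V} (hT : IsLag Q T) : perpS Q T = T := by
  have hle : T ≤ perpS Q T := fun x hx h hh => polar_eq_zero_of_singular hT.1 hh hx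
  refine (Submodule.eq_of_le_of_finrank_le hle ?_).symm
  have := finrank_perpS hQ T
  have := hT.2
  omega

/-- A reflection changes the dimension of the intersection by exactly one. -/
theorem lag_step {T T' : Submodule F V} (hT : IsLag Q T) (hT' : IsLag Q T') {d : V} (hd : Q d ≠ 0) :
    Module.finrank F ↥(T' ⊓ T.map (refl Q d).1.toLinearMap) = Module.finrank F ↥(T' ⊓ T) + 1 ∨
      Module.finrank F ↥(T' ⊓ T.map (refl Q d).1.toLinearMap) + 1 =
        Module.finrank F ↥(T' ⊓ T) := by
  set R := T.map (refl Q d).1.toLinearMap with hRdef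
  have hR : IsLag Q R := IsLag.map hT _
  set H := T ⊓ R with hHdef
  set L := perpS Q (Submodule.span F {d}) with hLdef
  have hL : ∀ {y : V}, y ∈ L → polar Q y d = 0 := fun {y} hy => by
    rw [polar_comm]; exact hy d (Submodule.mem_span_singleton_self d)
  have hTL : T ⊓ L ≤ H := fun y hy => ⟨hy.1, y, hy.1, refl_fix (hL hy.2)⟩
  have hRL : R ⊓ L ≤ H := by
    rintro y ⟨⟨t, ht, hty⟩, hy⟩
    refine ⟨?_, t, ht, hty⟩
    have hty' : (refl Q d).1 t = y := hty
    have : t = y := by
      have h := congrArg (refl Q d).1 hty'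
      change (refl Q d * refl Q d).1 t = _ at h
      rw [refl_mul_self, refl_fix (hL hy)] at h
      exact h
    rwa [← this]
  have hTnot : ¬ T ≤ L := by
    intro h
    have : d ∈ T := by
      rw [← IsLag.perp_eq hQ hT]
      exact fun t ht => hL (h ht)
    exact hd (hT.1 d this)
  have hHlt : H < T := by
    refine lt_of_le_of_ne inf_le_left fun e => hTnot fun y hy => ?_
    have hyR : y ∈ R := (e.symm ▸ hy : y ∈ H).2
    obtain ⟨t, ht, hty⟩ := hyR
    have hty' : (refl Q d).1 t = y := hty
    rw [refl_apply] at hty'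
    have hk : (-(Q d)⁻¹ * polar Q t d) • d ∈ T := by
      have := T.sub_mem hy ht
      rwa [← hty', add_sub_cancel_left] at this
    have hpd : polar Q t d = 0 := by
      by_contra hne
      refine hd (hT.1 d ?_)
      have := T.smul_mem (-(Q d)⁻¹ * polar Q t d)⁻¹ hk
      rwa [smul_smul, inv_mul_cancel₀ (mul_ne_zero (neg_ne_zero.2 (inv_ne_zero hd)) hne),
        one_smul] at this
    have heq : y = t := by rw [← hty', hpd]; simp
    intro h hh
    obtain ⟨s, rfl⟩ := Submodule.mem_span_singleton.1 hh
    rw [polar_smul_left, heq, polar_comm, hpd, smul_zero]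
  have hdimL : ∀ X : Submodule F V,
      Module.finrank F X ≤ Module.finrank F ↥(X ⊓ L) + 1 := fun X => by
    have h1 := Submodule.finrank_sup_add_finrank_inf_eq X L
    have h2 := finrank_perpS hQ (Submodule.span F {d})
    rw [← hLdef, finrank_span_singleton (fun e => hd (by rw [e, QuadraticMap.map_zero]))] at h2
    have h3 := Submodule.finrank_le (X ⊔ L)
    omega
  have hHdim : Module.finrank F H + 1 = Module.finrank F T := by
    have a1 := Submodule.finrank_lt_finrank_of_lt hHlt
    have a2 := hdimL T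
    have a3 := Submodule.finrank_mono hTL
    omega
  set A := T' ⊓ T with hA
  set B := T' ⊓ R with hB
  set C := T' ⊓ H with hC
  have hCA : C ≤ A := inf_le_inf_left _ inf_le_left
  have hCB : C ≤ B := inf_le_inf_left _ inf_le_right
  have hAC : Module.finrank F A ≤ Module.finrank F C + 1 :=
    (hdimL A).trans (Nat.add_le_add_right (Submodule.finrank_mono
      (show A ⊓ L ≤ C from fun y hy => ⟨hy.1.1, hTL ⟨hy.1.2, hy.2⟩⟩)) 1)
  have hBC : Module.finrank F B ≤ Module.finrank F C + 1 :=
    (hdimL B).trans (Nat.add_le_add_right (Submodule.finrank_mono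
      (show B ⊓ L ≤ C from fun y hy => ⟨hy.1.1, hRL ⟨hy.1.2, hy.2⟩⟩)) 1)
  have hTR : ∀ x ∈ T, x ∉ H → ∀ y ∈ R, polar Q x y = 0 → y ∈ T := by
    intro x hx hxH y hy hxy
    have hgen : H ⊔ Submodule.span F {x} = T := by
      refine Submodule.eq_of_le_of_finrank_le
        (sup_le inf_le_left ((Submodule.span_singleton_le_iff_mem _ _).2 hx)) ?_
      have hlt : H < H ⊔ Submodule.span F {x} :=
        left_lt_sup.2 fun h => hxH (h (Submodule.mem_span_singleton_self x))
      have := Submodule.finrank_lt_finrank_of_lt hlt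
      omega
    rw [← IsLag.perp_eq hQ hT]
    intro t ht
    rw [← hgen] at ht
    obtain ⟨h, hh, s, hs, rfl⟩ := Submodule.mem_sup.1 ht
    obtain ⟨c, rfl⟩ := Submodule.mem_span_singleton.1 hs
    rw [polar_add_left, polar_smul_left, hxy, smul_zero, add_zero,
      polar_eq_zero_of_singular hR.1 hh.2 hy]
  have hnot2 : ¬ (C < A ∧ C < B) := by
    rintro ⟨h1, h2⟩
    obtain ⟨x, hx, hxC⟩ := SetLike.exists_of_lt h1
    obtain ⟨y, hy, hyC⟩ := SetLike.exists_of_lt h2
    exact hyC ⟨hy.1, hTR x hx.2 (fun h => hxC ⟨hx.1, h⟩) y hy.2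
      (polar_eq_zero_of_singular hT'.1 hx.1 hy.1), hy.2⟩
  have hone : ¬ (A = C ∧ B = C) := by
    rintro ⟨hA', hB'⟩
    have hperpH : perpS Q H = T ⊔ R := by
      refine (Submodule.eq_of_le_of_finrank_le (sup_le
        (fun x hx h hh => polar_eq_zero_of_singular hT.1 hh.1 hx)
        (fun x hx h hh => polar_eq_zero_of_singular hR.1 hh.2 hx)) ?_).symm
      have a1 := Submodule.finrank_sup_add_finrank_inf_eq T R
      have a2 := finrank_perpS hQ H
      have a3 : Module.finrank F R = Module.finrank F T := LinearEquiv.finrank_map_eq _ T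
      rw [← hHdef] at a1
      have := hT.2
      omega
    obtain ⟨v, hv, hvH⟩ : ∃ v ∈ T' ⊓ perpS Q H, v ∉ H := by
      by_contra hc
      push Not at hc
      have hle : T' ⊓ perpS Q H ≤ C := fun v hv => ⟨hv.1, hc v hv⟩
      have a1 := Submodule.finrank_mono hle
      have a2 := Submodule.finrank_sup_add_finrank_inf_eq T' (perpS Q H)
      have hsup : T' ⊔ perpS Q H ≤ perpS Q C := sup_le
        (fun x hx h hh => polar_eq_zero_of_singular hT'.1 hh.1 hx) fun x hx h hh => hx h hh.2
      have a3 := Submodule.finrank_mono hsup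
      have a4 := finrank_perpS hQ C
      have a5 := finrank_perpS hQ H
      have a6 := hT.2
      have a7 := hT'.2
      omega
    have hv2 := hv.2
    rw [hperpH] at hv2
    obtain ⟨t, ht, u, hu, rfl⟩ := Submodule.mem_sup.1 hv2
    have hQv := hT'.1 _ hv.1
    rw [quad_add, hT.1 t ht, hR.1 u hu, zero_add, zero_add] at hQv
    by_cases htH : t ∈ H
    · have hm : t + u ∈ B := ⟨hv.1, R.add_mem htH.2 hu⟩
      rw [hB'] at hm
      exact hvH hm.2
    · have hm : t + u ∈ A := ⟨hv.1, T.add_mem ht (hTR t ht htH u hu hQv)⟩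
      rw [hA'] at hm
      exact hvH hm.2
  have hA2 : A = C ∨ C < A := (eq_or_lt_of_le hCA).imp Eq.symm id
  have hB2 : B = C ∨ C < B := (eq_or_lt_of_le hCB).imp Eq.symm id
  rcases hA2 with h1 | h1 <;> rcases hB2 with h2 | h2
  · exact absurd ⟨h1, h2⟩ hone
  · left
    have := Submodule.finrank_lt_finrank_of_lt h2
    rw [h1]; omega
  · right
    have := Submodule.finrank_lt_finrank_of_lt h1
    rw [h2]; omega
  · exact absurd ⟨h1, h2⟩ hnot2

/-- Elements of `Ω` preserve the parity of maximal totally singular subspaces. -/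
theorem lag_parity (hn : 5 ≤ Module.finrank F V) {T : Submodule F V} (hT : IsLag Q T)
    {g : oGroup Q} (hg : g ∈ commutator (oGroup Q)) :
    Even (Module.finrank F T + Module.finrank F ↥(T ⊓ T.map g.1.toLinearMap)) := by
  have hgen : (∃ t : F, t ≠ 0 ∧ t ≠ 1) ∨ Module.finrank F V ≠ 4 := Or.inr (by omega)
  obtain ⟨ε, hε⟩ := exists_parity hQ hgen
  set e : oGroup Q → ℤˣ := fun g =>
    (-1) ^ (Module.finrank F T + Module.finrank F ↥(T ⊓ T.map g.1.toLinearMap)) with he
  have key : ∀ g : oGroup Q, e g = ε g := by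
    intro g
    have hg : g ∈ reflGroup Q := by rw [reflGroup_eq_top hQ hgen]; trivial
    have step : ∀ d (y : oGroup Q), e y = ε y → e (refl Q d * y) = ε (refl Q d * y) := by
      intro d y hy
      by_cases hd : Q d = 0
      · rwa [refl_eq_one hd, one_mul]
      rw [map_mul, hε d hd, ← hy]
      have hmap : T.map (refl Q d * y).1.toLinearMap =
          (T.map y.1.toLinearMap).map (refl Q d).1.toLinearMap := by
        rw [← Submodule.map_comp]; rfl
      simp only [he]
      rw [hmap]
      rcases lag_step hQ (IsLag.map hT y) hT hd with h | h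
      · rw [h, ← Nat.add_assoc, pow_succ, mul_comm]
      · rw [← h, ← Nat.add_assoc, pow_succ, mul_comm _ (-1 : ℤˣ), ← mul_assoc, neg_one_mul,
          neg_neg, one_mul]
    induction hg using Subgroup.closure_induction_left with
    | one =>
      have h1 : T.map (1 : oGroup Q).1.toLinearMap = T :=
        (congrArg (Submodule.map · T) rfl).trans (Submodule.map_id T)
      simp only [he]
      rw [h1, inf_idem, map_one]
      exact Even.neg_one_pow ⟨_, rfl⟩
    | mul_left x hx y _ hy => obtain ⟨d, rfl⟩ := hx; exact step d y hy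
    | inv_mul_cancel x hx y _ hy => obtain ⟨d, rfl⟩ := hx; rw [refl_inv]; exact step d y hy
  have h1 : ε g = 1 := Abelianization.commutator_subset_ker ε hg
  have h2 := key g
  rw [h1] at h2
  simp only [he] at h2
  rcases Nat.even_or_odd (Module.finrank F T + Module.finrank F ↥(T ⊓ T.map g.1.toLinearMap))
    with h | h
  · exact h
  · rw [h.neg_one_pow] at h2
    exact absurd h2 (by decide)

end CfsgLib.Geo.OS
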