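import Cfsg.Agent.Geo.OrthNonMaximal
import Mathlib.LinearAlgebra.Dual.Lemmas

/-!
The stabiliser in `Ω` of two complementary totally singular halves of even dimension is maximal.
-/

set_option autoImplicit false
set_option linter.unusedSectionVars false

namespace CfsgLib.Geo.OS

open QuadraticMap CfsgLib.Forms CfsgLib.Quad

variable {F V : Type*} [Field F] [AddCommGroup V] [Module F V] [FiniteDimensional F V] [Finite F]
  {Q : QuadraticForm F V}

/-- The stabiliser of an unordered pair of subspaces. -/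
def pairStab (Q : QuadraticForm F V) (W U : Submodule F V) : Subgroup (oGroup Q) where
  carrier := {g | (W.map g.1.toLinearMap = W ∧ U.map g.1.toLinearMap = U) ∨
    (W.map g.1.toLinearMap = U ∧ U.map g.1.toLinearMap = W)}
  one_mem' := Or.inl ⟨Submodule.map_id W, Submodule.map_id U⟩
  mul_mem' := fun {g h} hg hh => by
    have e : ∀ X : Submodule F V, X.map (g * h).1.toLinearMap =
        (X.map h.1.toLinearMap).map g.1.toLinearMap := fun X => by rw [← Submodule.map_comp]; rfl
    change (_ = _ ∧ _ = _) ∨ (_ = _ ∧ _ = _)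
    rw [e, e]
    rcases hh with ⟨a, b⟩ | ⟨a, b⟩ <;> rcases hg with ⟨c, d⟩ | ⟨c, d⟩ <;>
      simp only [a, b, c, d, and_self, true_or, or_true]
  inv_mem' := fun {g} hg => by
    have e : ∀ X Y : Submodule F V, X.map g.1.toLinearMap = Y →
        Y.map (g⁻¹).1.toLinearMap = X := fun X Y h => by
      rw [← h, ← Submodule.map_comp]
      exact (congrArg (Submodule.map · X) (LinearMap.ext fun x => g.1.symm_apply_apply x)).trans
        (Submodule.map_id X)
    rcases hg with ⟨a, b⟩ | ⟨a, b⟩
    · exact Or.inl ⟨e _ _ a, e _ _ b⟩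
    · exact Or.inr ⟨e _ _ b, e _ _ a⟩

/-- Two complementary maximal totally singular subspaces. -/
structure LP (Q : QuadraticForm F V) (W U : Submodule F V) : Prop where
  lagW : IsLag Q W
  lagU : IsLag Q U
  disj : W ⊓ U = ⊥

theorem LP.symm {W U : Submodule F V} (h : LP Q W U) : LP Q U W :=
  ⟨h.lagU, h.lagW, by rw [inf_comm]; exact h.disj⟩

theorem LP.dim_eq {W U : Submodule F V} (h : LP Q W U) :
    Module.finrank F U = Module.finrank F W := by
  have := h.lagW.2
  have := h.lagU.2
  omega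

theorem LP.split {W U : Submodule F V} (h : LP Q W U) (x : V) : ∃ w ∈ W, ∃ u ∈ U, x = w + u := by
  have htop : W ⊔ U = ⊤ := by
    refine Submodule.eq_top_of_finrank_eq ?_
    have h1 := Submodule.finrank_sup_add_finrank_inf_eq W U
    rw [h.disj, finrank_bot, add_zero] at h1
    rw [h1, h.dim_eq, h.lagW.2]
  have hx : x ∈ W ⊔ U := by rw [htop]; trivial
  obtain ⟨w, hw, u, hu, e⟩ := Submodule.mem_sup.1 hx
  exact ⟨w, hw, u, hu, e.symm⟩

theorem LP.eq_zero {W U : Submodule F V} (h : LP Q W U) {x : V} (hx : x ∈ W) (hx' : x ∈ U) :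
    x = 0 := (Submodule.mem_bot F).1 (h.disj ▸ (⟨hx, hx'⟩ : x ∈ W ⊓ U))

theorem siegel_pair_map {W U : Submodule F V} (h : LP Q W U) {w u : V} (hw : w ∈ W) (hu : u ∈ U)
    (hwu : polar Q w u = 0) :
    W.map (siegel Q w u).1.toLinearMap = W ∧ U.map (siegel Q w u).1.toLinearMap = U := by
  constructor <;>
    refine Submodule.eq_of_le_of_finrank_le ?_ (LinearEquiv.finrank_map_eq _ _).ge
  · rintro _ ⟨x, hx, rfl⟩
    change (siegel Q w u).1 x ∈ W
    rw [siegel_apply (h.lagW.1 w hw) hwu, polar_eq_zero_of_singular h.lagW.1 hx hw, zero_smul,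
      add_zero]
    exact W.sub_mem hx (W.smul_mem _ hw)
  · rintro _ ⟨x, hx, rfl⟩
    change (siegel Q w u).1 x ∈ U
    rw [siegel_apply (h.lagW.1 w hw) hwu, polar_eq_zero_of_singular h.lagU.1 hx hu,
      h.lagU.1 u hu, zero_mul, add_zero, zero_smul, sub_zero]
    exact U.add_mem hx (U.smul_mem _ hu)

theorem siegel_comm {u y : V} (hu : Q u = 0) (hy : Q y = 0) (huy : polar Q u y = 0) :
    siegel Q y u = siegel Q u (-y) := by
  refine Subtype.ext (LinearEquiv.ext fun x => ?_)
  rw [siegel_apply hy (by rwa [polar_comm]), siegel_apply hu (by rw [polar_neg_right, huy, neg_zero]),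
    hu, QuadraticMap.map_neg, hy, polar_neg_right]
  module

variable (hQ : (polarBilin Q).Nondegenerate)

include hQ

theorem LP.exists_dual {W U : Submodule F V} (h : LP Q W U) (S : Submodule F V) (hS : S ≤ U) {y : V}
    (hy : y ∈ U) (hyS : y ∉ S) : ∃ p ∈ W, (∀ s ∈ S, polar Q s p = 0) ∧ polar Q y p = 1 := by
  obtain ⟨p, hp, hyp⟩ : ∃ p ∈ perpS Q (W ⊔ S), polar Q y p ≠ 0 := by
    by_contra hc
    push Not at hc
    have : y ∈ W ⊔ S := by
      rw [← perpS_perpS hQ (W ⊔ S)]
      intro a ha; rw [polar_comm]; exact hc a ha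
    obtain ⟨w, hw, s, hs, e⟩ := Submodule.mem_sup.1 this
    have hw0 : w = 0 := h.eq_zero hw (by
      rw [show w = y - s by rw [← e, add_sub_cancel_right]]; exact U.sub_mem hy (hS hs))
    exact hyS (by rw [← e, hw0, zero_add]; exact hs)
  have hpW : p ∈ W := by
    rw [← IsLag.perp_eq hQ h.lagW]
    exact fun a ha => hp a (Submodule.mem_sup_left ha)
  refine ⟨(polar Q y p)⁻¹ • p, W.smul_mem _ hpW, fun s hs => ?_, ?_⟩
  · rw [polar_smul_right, hp s (Submodule.mem_sup_right hs), smul_zero]
  · rw [polar_smul_right, smul_eq_mul, inv_mul_cancel₀ hyp]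

/-- For even dimension an element of `Ω` exchanges the halves. -/
theorem exists_swap {W U : Submodule F V} (h : LP Q W U) (hk : Even (Module.finrank F W)) :
    ∃ s ∈ commutator (oGroup Q), W.map s.1.toLinearMap = U ∧ U.map s.1.toLinearMap = W := by
  classical
  let L : U →ₗ[F] Module.Dual F W :=
    { toFun := fun u =>
        { toFun := fun w => polar Q (w : V) (u : V)
          map_add' := fun a b => polar_add_left Q (a : V) (b : V) (u : V)
          map_smul' := fun c a => polar_smul_left Q c (a : V) (u : V) }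
      map_add' := fun a b => LinearMap.ext fun w => polar_add_right Q (w : V) (a : V) (b : V)
      map_smul' := fun c a => LinearMap.ext fun w => polar_smul_right Q c (w : V) (a : V) }
  have hinj : Function.Injective L := (injective_iff_map_eq_zero L).2 fun a ha => Subtype.ext <|
    h.eq_zero (by
      rw [← IsLag.perp_eq hQ h.lagW]
      exact fun w hw => DFunLike.congr_fun ha ⟨w, hw⟩) a.2
  have hdim : Module.finrank F U = Module.finrank F (Module.Dual F W) := by
    rw [Subspace.dual_finrank_eq, h.dim_eq]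
  have hsurj : Function.Surjective L :=
    (LinearMap.injective_iff_surjective_of_finrank_eq_finrank hdim).1 hinj
  set k := Module.finrank F W
  let e := Module.finBasis F W
  choose f hf using fun j => hsurj (e.coord j)
  have hef : ∀ i j, polar Q (e i : V) (f j : V) = if i = j then 1 else 0 := by
    intro i j
    have := DFunLike.congr_fun (hf j) (e i)
    change polar Q (e i : V) (f j : V) = e.coord j (e i) at this
    rw [this, Module.Basis.coord_apply, Module.Basis.repr_self, Finsupp.single_apply]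
  have hee : ∀ i j, polar Q (e i : V) (e j : V) = 0 := fun i j =>
    polar_eq_zero_of_singular h.lagW.1 (e i).2 (e j).2
  have hff : ∀ i j, polar Q (f i : V) (f j : V) = 0 := fun i j =>
    polar_eq_zero_of_singular h.lagU.1 (f i).2 (f j).2
  have hQe : ∀ i, Q (e i : V) = 0 := fun i => h.lagW.1 _ (e i).2
  have hQf : ∀ i, Q (f i : V) = 0 := fun i => h.lagU.1 _ (f i).2
  let d : Fin k → V := fun i => (e i : V) - (f i : V)
  have hQd : ∀ i, Q (d i) = -1 := fun i => by
    simp [d, sub_eq_add_neg, quad_add, hQe, hQf, polar_neg_right, hef]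
  have he_d : ∀ i j, polar Q (e j : V) (d i) = if i = j then (-1 : F) else 0 := fun i j => by
    simp [d, polar_sub_right, hee, hef, eq_comm (a := j)]
    split_ifs <;> simp
  have hf_d : ∀ i j, polar Q (f j : V) (d i) = if i = j then (1 : F) else 0 := fun i j => by
    simp [d, polar_sub_right, hff, polar_comm (⇑Q) (f j : V) (e i : V), hef]
  have hrefl : ∀ i j, (refl Q (d i)).1 (e j : V) = (if i = j then (f j : V) else e j) ∧
      (refl Q (d i)).1 (f j : V) = (if i = j then (e j : V) else f j) := by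
    intro i j
    rw [refl_apply, refl_apply, hQd, he_d, hf_d]
    by_cases hij : i = j
    · subst hij; simp [d]
    · simp [hij]
  have hlist : ∀ l : List (Fin k), l.Nodup → ∀ j,
      ((l.map fun i => refl Q (d i)).prod).1 (e j : V) = (if j ∈ l then (f j : V) else e j) ∧
      ((l.map fun i => refl Q (d i)).prod).1 (f j : V) = (if j ∈ l then (e j : V) else f j) := by
    intro l
    induction l with
    | nil => intro _ j; exact ⟨by simp, by simp⟩
    | cons i l ih =>
      intro hnd j
      obtain ⟨hil, hnd'⟩ := List.nodup_cons.1 hnd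
      obtain ⟨h1, h2⟩ := ih hnd' j
      rw [List.map_cons, List.prod_cons]
      change (refl Q (d i)).1 (((l.map fun i => refl Q (d i)).prod).1 (e j : V)) = _ ∧
        (refl Q (d i)).1 (((l.map fun i => refl Q (d i)).prod).1 (f j : V)) = _
      rw [h1, h2]
      by_cases hij : i = j
      · subst hij
        simp [hil, (hrefl i i).1, (hrefl i i).2]
      · by_cases hjl : j ∈ l <;>
          simp [hjl, hij, Ne.symm hij, (hrefl i j).1, (hrefl i j).2]
  set s := ((List.finRange k).map fun i => refl Q (d i)).prod with hs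
  have hsa := hlist _ (List.nodup_finRange k)
  simp only [List.mem_finRange, if_true, ← hs] at hsa
  refine ⟨s, ?_, ?_⟩
  · refine (QuotientGroup.eq_one_iff s).1 ?_
    change Abelianization.of s = 1
    rw [hs, map_list_prod, List.map_map]
    rcases Nat.eq_zero_or_pos k with hk0 | hk0
    · rw [List.prod_eq_one]
      intro x hx
      obtain ⟨i, -, -⟩ := List.mem_map.1 hx
      exact absurd i.2 (by omega)
    set τ := Abelianization.of (refl Q (d ⟨0, hk0⟩))
    have hτ2 : τ * τ = 1 := by rw [← map_mul, refl_mul_self, map_one]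
    have hall : ∀ i, Abelianization.of (refl Q (d i)) = τ := fun i => by
      have h1 : Abelianization.of (refl Q (d i) * refl Q (d ⟨0, hk0⟩)) = 1 :=
        (QuotientGroup.eq_one_iff _).2
          (refl_pair_mem_commutator hQ (by simp [hQd]) (by simp [hQd]) (by simp [hQd]))
      rw [map_mul] at h1
      exact mul_right_cancel (b := τ) (h1.trans hτ2.symm)
    rw [show ((List.finRange k).map (Abelianization.of ∘ fun i => refl Q (d i))) =
        (List.finRange k).map (fun _ => τ) from List.map_congr_left (fun i _ => hall i), List.map_const',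
      List.length_finRange, List.prod_replicate]
    obtain ⟨r, hr⟩ := hk
    rw [hr, pow_add, ← mul_pow, hτ2, one_pow]
  · have hW : W.map s.1.toLinearMap ≤ U := by
      rintro _ ⟨x, hx, rfl⟩
      change s.1 x ∈ U
      rw [show x = ((∑ i, e.repr ⟨x, hx⟩ i • e i : W) : V) by rw [e.sum_repr],
        Submodule.coe_sum, map_sum]
      refine U.sum_mem fun i _ => ?_
      rw [Submodule.coe_smul, map_smul, (hsa i).1]
      exact U.smul_mem _ (f i).2
    have hWU : W.map s.1.toLinearMap = U :=
      Submodule.eq_of_le_of_finrank_le hW (by rw [LinearEquiv.finrank_map_eq, h.dim_eq])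
    refine ⟨hWU, Submodule.eq_of_le_of_finrank_le ?_ (by rw [LinearEquiv.finrank_map_eq, h.dim_eq])⟩
    rintro _ ⟨y, hy, rfl⟩
    change s.1 y ∈ W
    rw [← hWU] at hy
    obtain ⟨x, hx, rfl⟩ := hy
    change s.1 (s.1 x) ∈ W
    rw [show x = ((∑ i, e.repr ⟨x, hx⟩ i • e i : W) : V) by rw [e.sum_repr],
      Submodule.coe_sum, map_sum, map_sum]
    refine W.sum_mem fun i _ => ?_
    rw [Submodule.coe_smul, map_smul, map_smul, (hsa i).1, (hsa i).2]
    exact W.smul_mem _ (e i).2

variable {M : Subgroup (oGroup Q)}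

/-- A mixed root element gives a root element inside one half. -/
theorem exists_inner {W U : Submodule F V} (h : LP Q W U) (hk : 5 ≤ Module.finrank F W)
    (hX : ∀ w ∈ W, ∀ u ∈ U, polar Q w u = 0 → siegel Q w u ∈ M)
    {w0 u0 wb ub : V} (hw0 : w0 ∈ W) (hu0 : u0 ∈ U) (hwb : wb ∈ W) (hub : ub ∈ U)
    (hQa : Q (w0 + u0) = 0) (hab : polar Q (w0 + u0) (wb + ub) = 0)
    (ht : siegel Q (w0 + u0) (wb + ub) ∈ M) (hindep : ub ∉ Submodule.span F {u0}) :
    ∃ y ∈ U, y ∉ Submodule.span F {u0} ∧ siegel Q u0 y ∈ M := by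
  set S := Submodule.span F {w0} ⊔ Submodule.span F {wb}
  have hS : Module.finrank F S ≤ 2 := by
    have := Submodule.finrank_add_le_finrank_add_finrank (Submodule.span F {w0}) (Submodule.span F {wb})
    have : Module.finrank F (Submodule.span F {w0}) ≤ 1 :=
      (finrank_span_le_card ({w0} : Set V)).trans (by simp)
    have : Module.finrank F (Submodule.span F {wb}) ≤ 1 :=
      (finrank_span_le_card ({wb} : Set V)).trans (by simp)
    change Module.finrank F ↥(Submodule.span F {w0} ⊔ Submodule.span F {wb}) ≤ 2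
    omega
  set T := Submodule.span F {u0} ⊔ Submodule.span F {ub}
  have hT : Module.finrank F T ≤ 2 := by
    have := Submodule.finrank_add_le_finrank_add_finrank (Submodule.span F {u0}) (Submodule.span F {ub})
    have : Module.finrank F (Submodule.span F {u0}) ≤ 1 :=
      (finrank_span_le_card ({u0} : Set V)).trans (by simp)
    have : Module.finrank F (Submodule.span F {ub}) ≤ 1 :=
      (finrank_span_le_card ({ub} : Set V)).trans (by simp)
    change Module.finrank F ↥(Submodule.span F {u0} ⊔ Submodule.span F {ub}) ≤ 2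
    omega
  obtain ⟨y, ⟨hyU, hyS⟩, hyT⟩ : ∃ y ∈ U ⊓ perpS Q S, y ∉ T := by
    by_contra hc
    push Not at hc
    have h1 := Submodule.finrank_mono (show U ⊓ perpS Q S ≤ T from hc)
    have h2 := ND.finrank_inf_perp hQ U S
    have h3 := h.dim_eq
    change Module.finrank F U ≤ Module.finrank F ↥(U ⊓ perpS Q S) + _ at h2
    omega
  have hw0y : polar Q w0 y = 0 :=
    hyS _ (Submodule.mem_sup_left (Submodule.mem_span_singleton_self w0))
  have hwby : polar Q wb y = 0 :=
    hyS _ (Submodule.mem_sup_right (Submodule.mem_span_singleton_self wb))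
  have hubT : ub ∉ Submodule.span F {u0} ⊔ Submodule.span F {y} := by
    intro hc
    obtain ⟨s, hs, r, hr, e⟩ := Submodule.mem_sup.1 hc
    obtain ⟨c, rfl⟩ := Submodule.mem_span_singleton.1 hr
    rcases eq_or_ne c 0 with rfl | hc0
    · exact hindep (by rw [← e, zero_smul, add_zero]; exact hs)
    · refine hyT ((Submodule.smul_mem_iff _ hc0).1 ?_)
      rw [eq_sub_of_add_eq' e]
      exact Submodule.sub_mem _ (Submodule.mem_sup_right (Submodule.mem_span_singleton_self ub))
        (Submodule.mem_sup_left hs)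
  obtain ⟨x, hxW, hxS, hxb⟩ := h.exists_dual hQ (Submodule.span F {u0} ⊔ Submodule.span F {y})
    (sup_le ((Submodule.span_singleton_le_iff_mem _ _).2 hu0)
      ((Submodule.span_singleton_le_iff_mem _ _).2 hyU)) hub hubT
  have hu0x : polar Q u0 x = 0 := hxS u0 (Submodule.mem_sup_left (Submodule.mem_span_singleton_self u0))
  have hxy : polar Q x y = 0 := by
    rw [polar_comm]; exact hxS y (Submodule.mem_sup_right (Submodule.mem_span_singleton_self y))
  have hQx := h.lagW.1 x hxW
  have hWW : ∀ {a b : V}, a ∈ W → b ∈ W → polar Q a b = 0 := fun ha hb =>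
    polar_eq_zero_of_singular h.lagW.1 ha hb
  have hUU : ∀ {a b : V}, a ∈ U → b ∈ U → polar Q a b = 0 := fun ha hb =>
    polar_eq_zero_of_singular h.lagU.1 ha hb
  have hfix : (siegel Q x y).1 (w0 + u0) = w0 + u0 :=
    siegel_fix hQx hxy (by rw [polar_add_left, hWW hw0 hxW, hu0x, add_zero])
      (by rw [polar_add_left, hw0y, hUU hu0 hyU, add_zero])
  have hbimg : (siegel Q x y).1 (wb + ub) = (wb + ub) + y := by
    rw [siegel_apply hQx hxy, polar_add_left, hWW hwb hxW, hxb, zero_add, one_smul,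
      polar_add_left, hwby, hUU hub hyU, h.lagU.1 y hyU]
    simp
  have hyM := hX x hxW y hyU hxy
  have h1 := siegel_conj_mem hyM hQa hab ht
  rw [hfix, hbimg] at h1
  have hay : polar Q (w0 + u0) y = 0 := by rw [polar_add_left, hw0y, hUU hu0 hyU, add_zero]
  rw [← siegel_mul hQa hab hay] at h1
  have h2 : siegel Q (w0 + u0) y ∈ M := (mul_mem_cancel_left ht).1 h1
  have hwu : polar Q w0 u0 = 0 := by
    rw [quad_add, h.lagW.1 w0 hw0, h.lagU.1 u0 hu0, zero_add, zero_add] at hQa
    exact hQa
  rw [siegel_add_left (h.lagW.1 w0 hw0) (h.lagU.1 u0 hu0) (h.lagU.1 y hyU) hwu hw0y (hUU hu0 hyU)]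
    at h2
  exact ⟨y, hyU, fun hc => hyT (Submodule.mem_sup_left hc),
    (mul_mem_cancel_left (hX w0 hw0 y hyU hw0y)).1 h2⟩

/-- A root element inside a half makes every vector of that half a full centre. -/
theorem full_half {W U : Submodule F V} (h : LP Q W U) (hk : 5 ≤ Module.finrank F W)
    (hX : ∀ w ∈ W, ∀ u ∈ U, polar Q w u = 0 → siegel Q w u ∈ M) {u0 y : V} (hu0 : u0 ∈ U)
    (hu00 : u0 ≠ 0) (hy : y ∈ U) (hyn : y ∉ Submodule.span F {u0}) (hm : siegel Q u0 y ∈ M) :
    ∀ u ∈ U, Full M u := by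
  have hQu := h.lagU.1 u0 hu0
  have hUU : ∀ {a b : V}, a ∈ U → b ∈ U → polar Q a b = 0 := fun ha hb =>
    polar_eq_zero_of_singular h.lagU.1 ha hb
  have hstep : ∀ z ∈ U, y ∉ Submodule.span F {u0} ⊔ Submodule.span F {z} → siegel Q u0 z ∈ M := by
    intro z hz hyz
    obtain ⟨p, hp, hpS, hpy⟩ := h.exists_dual hQ (Submodule.span F {u0} ⊔ Submodule.span F {z})
      (sup_le ((Submodule.span_singleton_le_iff_mem _ _).2 hu0)
        ((Submodule.span_singleton_le_iff_mem _ _).2 hz)) hy hyz
    have hpz : polar Q p z = 0 := by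
      rw [polar_comm]; exact hpS z (Submodule.mem_sup_right (Submodule.mem_span_singleton_self z))
    have hQp := h.lagW.1 p hp
    have h1 := siegel_conj_mem (hX p hp z hz hpz) hQu (hUU hu0 hy) hm
    rw [siegel_fix hQp hpz (hpS u0 (Submodule.mem_sup_left (Submodule.mem_span_singleton_self u0)))
      (hUU hu0 hz), siegel_apply hQp hpz, hpy, one_smul, hUU hy hz, h.lagU.1 z hz, zero_mul,
      zero_add, zero_smul, sub_zero, ← siegel_mul hQu (hUU hu0 hy) (hUU hu0 hz)] at h1
    exact (mul_mem_cancel_left hm).1 h1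
  have hall : ∀ z ∈ U, siegel Q u0 z ∈ M := by
    intro z hz
    obtain ⟨z1, hz1, hz1n⟩ : ∃ z1 ∈ U, z1 ∉ Submodule.span F {u0} ⊔ (Submodule.span F {y} ⊔
        Submodule.span F {z}) := by
      by_contra hc
      push Not at hc
      have a1 := Submodule.finrank_mono (show U ≤ _ from hc)
      have a2 := Submodule.finrank_add_le_finrank_add_finrank (Submodule.span F {y}) (Submodule.span F {z})
      have a3 := Submodule.finrank_add_le_finrank_add_finrank (Submodule.span F {u0})
        (Submodule.span F {y} ⊔ Submodule.span F {z})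
      have a4 : ∀ v : V, Module.finrank F (Submodule.span F {v}) ≤ 1 := fun v =>
        (finrank_span_le_card ({v} : Set V)).trans (by simp)
      have := a4 u0; have := a4 y; have := a4 z; have := h.dim_eq
      omega
    by_cases hyz : y ∈ Submodule.span F {u0} ⊔ Submodule.span F {z}
    swap
    · exact hstep z hz hyz
    have hgood : ∀ v ∈ U, v ∉ Submodule.span F {u0} ⊔ Submodule.span F {y} → siegel Q u0 v ∈ M := by
      intro v hv hvn
      refine hstep v hv fun hc => ?_
      obtain ⟨a, ha, b, hb, e⟩ := Submodule.mem_sup.1 hc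
      obtain ⟨c, rfl⟩ := Submodule.mem_span_singleton.1 hb
      rcases eq_or_ne c 0 with rfl | hc0
      · exact hyn (by rw [← e, zero_smul, add_zero]; exact ha)
      · refine hvn ((Submodule.smul_mem_iff _ hc0).1 ?_)
        rw [eq_sub_of_add_eq' e]
        exact Submodule.sub_mem _ (Submodule.mem_sup_right (Submodule.mem_span_singleton_self y))
          (Submodule.mem_sup_left ha)
    have h1 : siegel Q u0 z1 ∈ M := hgood z1 hz1 fun hc => hz1n
      (SetLike.le_def.1 (sup_le le_sup_left (le_sup_of_le_right le_sup_left)) hc)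
    have h2 : siegel Q u0 (z - z1) ∈ M := by
      by_cases hzy : z ∈ Submodule.span F {u0} ⊔ Submodule.span F {y}
      · refine hgood _ (U.sub_mem hz hz1) fun hc => hz1n ?_
        have := Submodule.sub_mem _ hzy hc
        rw [sub_sub_cancel] at this
        exact SetLike.le_def.1 (sup_le le_sup_left (le_sup_of_le_right le_sup_left)) this
      · have hh := hgood z hz hzy
        have := mul_mem hh (inv_mem h1)
        rw [siegel_inv hQu (hUU hu0 hz1), siegel_mul hQu (hUU hu0 hz)
          (hUU hu0 (U.neg_mem hz1)), ← sub_eq_add_neg] at this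
        exact this
    have := mul_mem h1 h2
    rwa [siegel_mul hQu (hUU hu0 hz1) (hUU hu0 (U.sub_mem hz hz1)), add_sub_cancel] at this
  have hF0 : Full M u0 := fun a ha => by
    obtain ⟨p, hp, q, hq, rfl⟩ := h.split a
    have huq := hUU hu0 hq
    have hup : polar Q u0 p = 0 := by rwa [polar_add_right, huq, add_zero] at ha
    rw [← siegel_mul hQu hup huq]
    refine mul_mem ?_ (hall q hq)
    rw [siegel_comm (h.lagW.1 p hp) hQu (by rwa [polar_comm])]
    exact hX p hp (-u0) (U.neg_mem hu0) (by rw [polar_neg_right, polar_comm, hup, neg_zero])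
  intro u hu
  rcases eq_or_ne u 0 with rfl | hu_ne
  · intro a _; rw [siegel_zero_left]; exact one_mem _
  by_cases hmem : u ∈ Submodule.span F {u0}
  · obtain ⟨c, rfl⟩ := Submodule.mem_span_singleton.1 hmem
    have hc : c ≠ 0 := fun hc => hu_ne (by rw [hc, zero_smul])
    refine Full.of_smul (h.lagU.1 _ hu) (inv_ne_zero hc) ?_
    rwa [smul_smul, inv_mul_cancel₀ hc, one_smul]
  have hr : u0 ∉ Submodule.span F {u - u0} := by
    intro hc
    obtain ⟨c, hc⟩ := Submodule.mem_span_singleton.1 hc
    rcases eq_or_ne c 0 with rfl | hc0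
    · exact hu00 (by rw [← hc, zero_smul])
    · refine hmem ((Submodule.smul_mem_iff _ hc0).1 (Submodule.mem_span_singleton.2 ⟨1 + c, ?_⟩))
      rw [smul_sub, sub_eq_iff_eq_add] at hc
      rw [add_smul, one_smul, hc]
  obtain ⟨p, hp, hpS, hpy⟩ := h.exists_dual hQ (Submodule.span F {u - u0})
    ((Submodule.span_singleton_le_iff_mem _ _).2 (U.sub_mem hu hu0)) hu0 hr
  have hpr : polar Q p (u - u0) = 0 := by
    rw [polar_comm]; exact hpS _ (Submodule.mem_span_singleton_self _)
  have h1 := Full.conj (hX p hp (u - u0) (U.sub_mem hu hu0) hpr) hQu hF0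
  rwa [siegel_apply (h.lagW.1 p hp) hpr, hpy, one_smul, hUU hu0 (U.sub_mem hu hu0),
    h.lagU.1 _ (U.sub_mem hu hu0), zero_mul, zero_add, zero_smul, sub_zero, add_sub_cancel] at h1

variable (hn : 7 ≤ Module.finrank F V)

include hn

theorem lagPair_maximal {W U : Submodule F V} (h : LP Q W U) (hk : Even (Module.finrank F W))
    (hk5 : 5 ≤ Module.finrank F W) : Cfsg.Geo.IsMaximalIn (commutator (oGroup Q))
      (pairStab Q W U ⊓ commutator (oGroup Q)) := by
  have hn5 : 5 ≤ Module.finrank F V := by omega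
  refine ⟨lt_of_le_of_ne inf_le_right fun e => ?_, fun M hM hMK => ?_⟩
  · obtain ⟨w, hw, hw0⟩ := Submodule.exists_mem_ne_zero_of_ne_bot (p := W) fun e => by
      rw [e, finrank_bot] at hk5; omega
    obtain ⟨w', hw', hw'n⟩ : ∃ w' ∈ W, w' ∉ Submodule.span F {w} := by
      by_contra hc
      push Not at hc
      have := Submodule.finrank_mono (show W ≤ Submodule.span F {w} from hc)
      have : Module.finrank F (Submodule.span F {w}) = 1 := finrank_span_singleton hw0
      omega
    obtain ⟨p, hp, hpS, hpy⟩ := h.symm.exists_dual hQ (Submodule.span F {w})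
      ((Submodule.span_singleton_le_iff_mem _ _).2 hw) hw' hw'n
    have hww := polar_eq_zero_of_singular h.lagW.1 hw hw'
    have hQw := h.lagW.1 w hw
    have hmem : siegel Q w w' ∈ pairStab Q W U :=
      (e.ge (siegel_mem_commutator hQ hn5 hQw hww)).1
    have hpw : polar Q p w = 0 := by
      rw [polar_comm]; exact hpS w (Submodule.mem_span_singleton_self w)
    have himg : (siegel Q w w').1 p = p - w := by
      rw [siegel_apply hQw hww, hpw, polar_comm (⇑Q) p w', hpy, h.lagW.1 w' hw', zero_smul,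
        add_zero, zero_mul, add_zero, one_smul]
    rcases hmem with ⟨-, h2⟩ | ⟨-, h2⟩
    · have hm : p - w ∈ U := h2 ▸ ⟨p, hp, himg⟩
      exact hw0 (h.eq_zero hw (by have := U.sub_mem hp hm; rwa [sub_sub_cancel] at this))
    · have hm : p - w ∈ W := h2 ▸ ⟨p, hp, himg⟩
      have hp0 := h.eq_zero (by have := W.add_mem hm hw; rwa [sub_add_cancel] at this) hp
      rw [hp0, polar_zero_right] at hpy
      exact zero_ne_one hpy
  by_cases hle : M ≤ pairStab Q W U
  · exact Or.inl (le_antisymm (le_inf hle hMK) hM)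
  refine Or.inr (le_antisymm hMK ?_)
  obtain ⟨g, hgM, hgX⟩ := SetLike.not_le_iff_exists.1 hle
  have hX : ∀ w ∈ W, ∀ u ∈ U, polar Q w u = 0 → siegel Q w u ∈ M := fun w hw u hu hwu =>
    hM ⟨Or.inl (siegel_pair_map h hw hu hwu), siegel_mem_commutator hQ hn5 (h.lagW.1 w hw) hwu⟩
  have hX' : ∀ u ∈ U, ∀ w ∈ W, polar Q u w = 0 → siegel Q u w ∈ M := fun u hu w hw huw => by
    rw [siegel_comm (h.lagW.1 w hw) (h.lagU.1 u hu) (by rwa [polar_comm])]
    exact hX w hw (-u) (U.neg_mem hu) (by rw [polar_neg_right, polar_comm, huw, neg_zero])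
  obtain ⟨A, B, hAB, hXA, a, ha, hga0, hga1⟩ : ∃ A B : Submodule F V, LP Q A B ∧
      (∀ x ∈ A, ∀ y ∈ B, polar Q x y = 0 → siegel Q x y ∈ M) ∧
      ∃ a ∈ A, g.1 a ∉ W ∧ g.1 a ∉ U := by
    by_contra hcon
    push Not at hcon
    have himg : ∀ (A B : Submodule F V), LP Q A B →
        (∀ x ∈ A, ∀ y ∈ B, polar Q x y = 0 → siegel Q x y ∈ M) →
        A.map g.1.toLinearMap = W ∨ A.map g.1.toLinearMap = U := by
      intro A B hAB hXA
      have hd : Module.finrank F A = Module.finrank F W := by
        have := hAB.lagW.2; have := h.lagW.2; omega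
      by_cases h1 : A.map g.1.toLinearMap ≤ W
      · exact Or.inl (Submodule.eq_of_le_of_finrank_le h1 (by rw [LinearEquiv.finrank_map_eq, hd]))
      obtain ⟨_, ⟨a1, ha1, rfl⟩, ha1W⟩ := SetLike.not_le_iff_exists.1 h1
      refine Or.inr (Submodule.eq_of_le_of_finrank_le ?_
        (by rw [LinearEquiv.finrank_map_eq, hd, h.dim_eq]))
      rintro _ ⟨a2, ha2, rfl⟩
      change g.1 a2 ∈ U
      have hu1 : g.1 a1 ∈ U := hcon A B hAB hXA a1 ha1 ha1W
      by_cases ha2W : g.1 a2 ∈ W
      · have h12 : g.1 (a1 + a2) ∈ U := hcon A B hAB hXA _ (A.add_mem ha1 ha2) fun hc => ha1W (by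
          rw [map_add] at hc
          have := W.sub_mem hc ha2W
          rwa [add_sub_cancel_right] at this)
        rw [map_add] at h12
        have := U.sub_mem h12 hu1
        rwa [add_sub_cancel_left] at this
      · exact hcon A B hAB hXA a2 ha2 ha2W
    have hne : W.map g.1.toLinearMap ≠ U.map g.1.toLinearMap := by
      intro e
      have hWU := Submodule.map_injective_of_injective (f := g.1.toLinearMap) g.1.injective e
      have h0 : W = ⊥ := by
        have := h.disj
        rw [← hWU, inf_idem] at this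
        exact this
      rw [h0, finrank_bot] at hk5
      omega
    rcases himg W U h hX with h1 | h1 <;> rcases himg U W h.symm hX' with h2 | h2
    · exact hne (h1.trans h2.symm)
    · exact hgX (Or.inl ⟨h1, h2⟩)
    · exact hgX (Or.inr ⟨h1, h2⟩)
    · exact hne (h1.trans h2.symm)
  obtain ⟨w0, hw0, u0, hu0, ea⟩ := h.split (g.1 a)
  have hu00 : u0 ≠ 0 := fun e => hga0 (by rw [ea, e, add_zero]; exact hw0)
  have hw00 : w0 ≠ 0 := fun e => hga1 (by rw [ea, e, zero_add]; exact hu0)
  obtain ⟨b, hb, hab, wb, hwb, ub, hub, eb, hne⟩ : ∃ b ∈ B, polar Q a b = 0 ∧ ∃ wb ∈ W, ∃ ub ∈ U,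
      g.1 b = wb + ub ∧ (ub ∉ Submodule.span F {u0} ∨ wb ∉ Submodule.span F {w0}) := by
    by_contra hcon
    push Not at hcon
    have hle : (B ⊓ perpS Q (Submodule.span F {a})).map g.1.toLinearMap ≤
        Submodule.span F {w0} ⊔ Submodule.span F {u0} := by
      rintro _ ⟨b, hb, rfl⟩
      change g.1 b ∈ _
      obtain ⟨wb, hwb, ub, hub, eb⟩ := h.split (g.1 b)
      have := hcon b hb.1 (hb.2 a (Submodule.mem_span_singleton_self a)) wb hwb ub hub eb
      rw [eb]
      exact Submodule.add_mem_sup this.2 this.1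
    have h1 := Submodule.finrank_mono hle
    rw [LinearEquiv.finrank_map_eq] at h1
    have h4 := Submodule.finrank_add_le_finrank_add_finrank (Submodule.span F {w0}) (Submodule.span F {u0})
    have h5 : Module.finrank F (Submodule.span F {u0}) ≤ 1 :=
      (finrank_span_le_card ({u0} : Set V)).trans (by simp)
    have h6 : Module.finrank F (Submodule.span F {w0}) ≤ 1 :=
      (finrank_span_le_card ({w0} : Set V)).trans (by simp)
    have h7 := ND.finrank_inf_perp_singleton hQ B a
    change Module.finrank F B ≤ Module.finrank F ↥(B ⊓ perpS Q (Submodule.span F {a})) + 1 at h7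
    have := hAB.lagU.2; have := h.lagW.2
    omega
  have hQa : Q (g.1 a) = 0 := by rw [g.2, hAB.lagW.1 a ha]
  have hgab : polar Q (g.1 a) (g.1 b) = 0 := by rw [polar_oGroup, hab]
  have ht : siegel Q (g.1 a) (g.1 b) ∈ M :=
    siegel_conj_mem hgM (hAB.lagW.1 a ha) hab (hXA a ha b hb hab)
  rw [ea] at ht hQa hgab
  rw [eb] at ht hgab
  obtain ⟨s, hs, hsW, hsU⟩ := exists_swap hQ h hk
  have hsM : s ∈ M := hM ⟨Or.inr ⟨hsW, hsU⟩, hs⟩
  have finish : ∀ A B : Submodule F V, LP Q A B → B.map s.1.toLinearMap = A →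
      (∀ u ∈ B, Full M u) → commutator (oGroup Q) ≤ M := by
    intro A B hAB hsB hF
    obtain ⟨u, hu, hu0⟩ := Submodule.exists_mem_ne_zero_of_ne_bot (p := B) fun e => by
      have h1 := hAB.lagU.2
      rw [e, finrank_bot] at h1
      omega
    have hsu : s.1 u ∈ A := hsB ▸ ⟨u, hu, rfl⟩
    have hsu0 : s.1 u ≠ 0 := fun e => hu0 (s.1.map_eq_zero_iff.1 e)
    obtain ⟨f, hf, hne⟩ : ∃ f ∈ B, polar Q (s.1 u) f ≠ 0 := by
      by_contra hc
      push Not at hc
      refine hsu0 (hAB.eq_zero hsu ?_)
      rw [← IsLag.perp_eq hQ hAB.lagU]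
      exact fun x hx => by rw [polar_comm]; exact hc x hx
    exact commutator_le_of_two hQ hn5 (by rw [s.2, hAB.lagU.1 u hu]) (hAB.lagU.1 f hf) hne
      (Full.conj hsM (hAB.lagU.1 u hu) (hF u hu)) (hF f hf)
  rcases hne with hne | hne
  · obtain ⟨y, hy, hyn, hyM⟩ := exists_inner hQ h hk5 hX hw0 hu0 hwb hub hQa hgab ht hne
    exact finish W U h hsU (full_half hQ h hk5 hX hu0 hu00 hy hyn hyM)
  · rw [add_comm w0 u0, add_comm wb ub] at ht hgab
    rw [add_comm w0 u0] at hQa
    have hk5' : 5 ≤ Module.finrank F U := by rw [h.dim_eq]; exact hk5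
    obtain ⟨y, hy, hyn, hyM⟩ := exists_inner hQ h.symm hk5' hX' hu0 hw0 hub hwb hQa hgab ht hne
    exact finish U W h.symm hsW (full_half hQ h.symm hk5' hX' hw0 hw00 hy hyn hyM)

section bridge

variable {ι : Type} [Fintype ι] [DecidableEq ι]

omit hQ hn [FiniteDimensional F V] in
/-- Transport of maximality in `Ω` for an arbitrary matrix group. -/
theorem isMaximalIn_map_omega {Q : QuadraticForm F (ι → F)} {S : Subgroup (GL ι F)}
    {L : Subgroup (oGroup Q)} (hiff : ∀ g ∈ commutator (oGroup Q), toGL Q g ∈ S ↔ g ∈ L)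
    (h : Cfsg.Geo.IsMaximalIn (commutator (oGroup Q)) (L ⊓ commutator (oGroup Q))) :
    Cfsg.Geo.IsMaximalIn (Cfsg.Geo.omegaGL ⇑Q) (S ⊓ Cfsg.Geo.omegaGL ⇑Q) := by
  have hH : (L ⊓ commutator (oGroup Q)).map (toGL Q) = S ⊓ Cfsg.Geo.omegaGL ⇑Q := by
    rw [← map_omega]
    ext y
    constructor
    · rintro ⟨g, ⟨hg1, hg2⟩, rfl⟩
      exact ⟨(hiff g hg2).2 hg1, g, hg2, rfl⟩
    · rintro ⟨hy, g, hg, rfl⟩
      exact ⟨g, ⟨(hiff g hg).1 hy, hg⟩, rfl⟩
  rw [← hH, ← map_omega]
  refine ⟨(Subgroup.map_lt_map_iff_of_injective toGL_injective).2 h.1, fun M hM hMK => ?_⟩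
  have hM' : M = (M.comap (toGL Q)).map (toGL Q) := by
    rw [Subgroup.map_comap_eq, inf_eq_right.2 (hMK.trans (Subgroup.map_le_range (toGL Q) _))]
  rw [hM'] at hM hMK ⊢
  rcases h.2 _ ((Subgroup.map_le_map_iff_of_injective toGL_injective).1 hM)
    ((Subgroup.map_le_map_iff_of_injective toGL_injective).1 hMK) with h' | h'
  · exact Or.inl (by rw [h'])
  · exact Or.inr (by rw [h'])

end bridge

end CfsgLib.Geo.OS
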