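import Cfsg.Agent.Geo.OrthNondegTools
import Cfsg.Agent.Geo.CommonZero

/-!
The stabiliser in `Ω` of a non-degenerate subspace is maximal.

`W` is the smaller of the subspace and its orthogonal space, `U` the larger one.
-/

set_option autoImplicit false
set_option linter.unusedSectionVars false

namespace CfsgLib.Geo.OS

open QuadraticMap CfsgLib.Forms CfsgLib.Quad

variable {F V : Type*} [Field F] [AddCommGroup V] [Module F V] [FiniteDimensional F V] [Finite F]
  {Q : QuadraticForm F V} (hQ : (polarBilin Q).Nondegenerate) (hn : 7 ≤ Module.finrank F V)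
  {U : Submodule F V} (hU : ND Q U) (hU7 : 5 ≤ Module.finrank F U)
  {M : Subgroup (oGroup Q)} (hM : stabO Q U ⊓ commutator (oGroup Q) ≤ M)

include hQ hn hU hU7 hM

/-- Extending a root group from one side to the other. -/
theorem full_of_perp {X : Submodule F V} (hX : X = U ∨ X = perpS Q U) {u : V} (hu : u ∈ X)
    (hQu : Q u = 0) (h : ∀ q ∈ perpS Q X, siegel Q u q ∈ M) : Full M u := by
  have hn5 : 5 ≤ Module.finrank F V := by omega
  have hXnd : ND Q X := by rcases hX with rfl | rfl; exacts [hU, ND.perp hQ hU]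
  intro a ha
  obtain ⟨p, hp, q, hq, rfl⟩ := ND.decomp hQ hXnd a
  have huq : polar Q u q = 0 := hq u hu
  have hup : polar Q u p = 0 := by rwa [polar_add_right, huq, add_zero] at ha
  rw [← siegel_mul hQu hup huq]
  refine mul_mem (hM ⟨siegel_mem_stabO hQ hQu hup ?_, siegel_mem_commutator hQ hn5 hQu hup⟩) (h q hq)
  rcases hX with rfl | rfl
  exacts [Or.inl ⟨hu, hp⟩, Or.inr ⟨hu, hp⟩]

/-- One Siegel transformation mixing the two sides gives a full root group (large other side). -/
theorem full_of_mixed {X : Submodule F V} (hX : X = U ∨ X = perpS Q U)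
    (h3 : 3 ≤ Module.finrank F (perpS Q X)) {u : V} (hu : u ∈ X) (hQu : Q u = 0) {b : V}
    (hb : b ∈ perpS Q X) (hb0 : b ≠ 0) (hm : siegel Q u b ∈ M) : Full M u := by
  have hn5 : 5 ≤ Module.finrank F V := by omega
  have hXnd : ND Q X := by rcases hX with rfl | rfl; exacts [hU, ND.perp hQ hU]
  refine full_of_perp hQ hn hU hU7 hM hX hu hQu ?_
  refine fill hQ (ND.perp hQ hXnd) h3 (fun q => siegel Q u q ∈ M) ?_ ?_ ?_ hb hb0 hm
  · intro a a' ha ha' h h'
    rw [← siegel_mul hQu (ha u hu) (ha' u hu)]; exact mul_mem h h'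
  · intro a ha h
    rw [← siegel_inv hQu (ha u hu)]; exact inv_mem h
  · intro e c he hc hQe hec q hq h
    have hmem : siegel Q e c ∈ M := by
      refine hM ⟨siegel_mem_stabO hQ hQe hec ?_, siegel_mem_commutator hQ hn5 hQe hec⟩
      rcases hX with rfl | rfl
      · exact Or.inr ⟨he, hc⟩
      · exact Or.inl ⟨by rwa [perpS_perpS hQ] at he, by rwa [perpS_perpS hQ] at hc⟩
    have := siegel_conj_mem hmem hQu (hq u hu) h
    rwa [siegel_fix hQe hec (by rw [polar_comm]; exact (polar_comm (⇑Q) e u).trans (he u hu))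
      (hc u hu)] at this

/-- One Siegel transformation mixing the two sides gives a full root group (small other side). -/
theorem full_of_mixed_small (hq : Module.finrank F (perpS Q U) = 2 →
      (∀ x ∈ perpS Q U, Q x = 0 → x = 0) ∨ 4 ≤ Nat.card F)
    (hW2 : Module.finrank F (perpS Q U) ≤ 2) {u : V} (hu : u ∈ U) (hu0 : u ≠ 0) (hQu : Q u = 0)
    {b : V} (hb : b ∈ perpS Q U) (hb0 : b ≠ 0) (hm : siegel Q u b ∈ M) : Full M u := by
  have hn5 : 5 ≤ Module.finrank F V := by omega
  set W := perpS Q U with hWdef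
  have hW : ND Q W := ND.perp hQ hU
  have huW : ∀ x ∈ W, polar Q u x = 0 := fun x hx => hx u hu
  set P := fun x : V => siegel Q u x ∈ M with hP
  have hsmul : ∀ x ∈ W, P x → ∀ t : F, P (t • x) := by
    intro x hx h t
    rcases eq_or_ne t 0 with rfl | ht
    · simp only [hP]; rw [zero_smul, siegel_zero hQu]; exact one_mem _
    obtain ⟨g, hg, hgu, hgW⟩ := exists_scale hQ hn hU (by omega) hu hu0 hQu ht
    have := siegel_conj_mem (hM hg) hQu (huW x hx) h
    rw [hgu, hgW x hx, siegel_smul hQu (huW x hx)] at this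
    exact this
  have hadd : ∀ x y, x ∈ W → y ∈ W → P x → P y → P (x + y) := fun x y hx hy h h' => by
    simp only [hP]; rw [← siegel_mul hQu (huW x hx) (huW y hy)]; exact mul_mem h h'
  have hrefl : ∀ d ∈ W, Q d ≠ 0 → ∀ x ∈ W, P x → P ((refl Q d).1 x) := by
    intro d hd hQd x hx h
    obtain ⟨d', hd', hud', hQd'⟩ := exists_value_on hQ hU (by omega) hu (Q d)
    have hg : refl Q d * refl Q d' ∈ M := hM ⟨mul_mem (refl_mem_stabO hQ (Or.inr hd))
      (refl_mem_stabO hQ (Or.inl hd')), refl_pair_mem_commutator hQ hQd (by rwa [hQd'])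
        (by rw [hQd']; exact IsSquare.mul_self _)⟩
    have := siegel_conj_mem hg hQu (huW x hx) h
    change siegel Q ((refl Q d).1 ((refl Q d').1 u)) ((refl Q d).1 ((refl Q d').1 x)) ∈ M at this
    rwa [refl_fix hud', refl_fix (show polar Q u d = 0 from huW d hd),
      refl_fix (show polar Q x d' = 0 by rw [polar_comm]; exact hx d' hd')] at this
  refine full_of_perp hQ hn hU hU7 hM (Or.inl rfl) hu hQu ?_
  have hbspan : ∀ x ∈ Submodule.span F {b}, P x := fun x hx => by
    obtain ⟨t, rfl⟩ := Submodule.mem_span_singleton.1 hx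
    exact hsmul b hb hm t
  have hb1 : Module.finrank F (Submodule.span F {b}) = 1 := finrank_span_singleton hb0
  have hble : Submodule.span F {b} ≤ W := (Submodule.span_singleton_le_iff_mem _ _).2 hb
  intro x hx
  change x ∈ W at hx
  by_cases hW1 : Module.finrank F W ≤ 1
  · rw [← Submodule.eq_of_le_of_finrank_le hble (by omega)] at hx
    exact hbspan x hx
  obtain ⟨y, hy, hyb, hyn⟩ : ∃ y ∈ W, polar Q b y ≠ 0 ∧ y ∉ Submodule.span F {b} := by
    obtain ⟨y0, hy0, hby0⟩ := ND.partner hW hb hb0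
    by_cases h0 : y0 ∈ Submodule.span F {b}
    swap
    · exact ⟨y0, hy0, hby0, h0⟩
    obtain ⟨c, hc, hcn⟩ : ∃ c ∈ W, c ∉ Submodule.span F {b} := by
      by_contra hcc
      push Not at hcc
      have := Submodule.finrank_mono (show W ≤ Submodule.span F {b} from hcc)
      omega
    by_cases hbc : polar Q b c = 0
    · refine ⟨y0 + c, W.add_mem hy0 hc, by rwa [polar_add_right, hbc, add_zero], fun h => hcn ?_⟩
      have := Submodule.sub_mem _ h h0
      rwa [add_sub_cancel_left] at this
    · exact ⟨c, hc, hbc, hcn⟩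
  obtain ⟨t, ht1, ht2⟩ : ∃ t : F, polar Q b (y + t • b) ≠ 0 ∧ Q (y + t • b) ≠ 0 := by
    have hev : ∀ t : F, polar Q b (y + t • b) = polar Q b y + t * (2 * Q b) ∧
        Q (y + t • b) = Q y + t * polar Q b y + t * t * Q b := fun t => by
      constructor
      · rw [polar_add_right, polar_smul_right, polar_self, two_nsmul, smul_eq_mul, ← two_mul]
      · rw [quad_add, quad_smul, polar_smul_right, smul_eq_mul, polar_comm (⇑Q) y b]; ring
    rcases hq (by omega) with haniso | h4
    · refine ⟨0, by rwa [zero_smul, add_zero], fun h => ?_⟩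
      rw [zero_smul, add_zero] at h
      exact hyn (by rw [haniso y hy h]; exact Submodule.zero_mem _)
    haveI := Fintype.ofFinite F
    rw [Nat.card_eq_fintype_card] at h4
    classical
    open Polynomial in
    set p1 : F[X] := C (2 * Q b) * X + C (polar Q b y) with hp1
    open Polynomial in
    set p2 : F[X] := C (Q b) * X ^ 2 + C (polar Q b y) * X + C (Q y) with hp2
    have hp10 : p1 ≠ 0 := fun h => hyb (by
      have := congrArg (fun p : Polynomial F => p.coeff 0) h
      simpa [hp1] using this)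
    have hp20 : p2 ≠ 0 := fun h => hyb (by
      have := congrArg (fun p : Polynomial F => p.coeff 1) h
      simpa [hp2, Polynomial.coeff_X_pow] using this)
    have hdeg : (p1 * p2).natDegree ≤ 3 := by
      refine Polynomial.natDegree_mul_le.trans ?_
      have a1 : p1.natDegree ≤ 1 := Polynomial.natDegree_linear_le
      have a2 : p2.natDegree ≤ 2 := Polynomial.natDegree_quadratic_le
      omega
    obtain ⟨t, ht⟩ : ∃ t : F, (p1 * p2).eval t ≠ 0 := by
      by_contra hcc
      push Not at hcc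
      refine mul_ne_zero hp10 hp20 (Polynomial.eq_zero_of_natDegree_lt_card_of_eval_eq_zero' _
        Finset.univ (fun t _ => hcc t) ?_)
      rw [Finset.card_univ]; omega
    rw [Polynomial.eval_mul] at ht
    refine ⟨t, fun h => left_ne_zero_of_mul ht ?_, fun h => right_ne_zero_of_mul ht ?_⟩
    · rw [(hev t).1] at h
      simp only [hp1, Polynomial.eval_add, Polynomial.eval_mul, Polynomial.eval_C, Polynomial.eval_X]
      linear_combination h
    · rw [(hev t).2] at h
      simp only [hp2, Polynomial.eval_add, Polynomial.eval_mul, Polynomial.eval_C, Polynomial.eval_X,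
        Polynomial.eval_pow]
      linear_combination h
  set d := y + t • b with hddef
  have hd : d ∈ W := W.add_mem hy (W.smul_mem _ hb)
  have hPd : P d := by
    have h1 := hadd _ _ (by rw [refl_apply]; exact W.add_mem hb (W.smul_mem _ hd)) (W.neg_mem hb)
      (hrefl d hd ht2 b hb hm) (by have := hsmul b hb hm (-1); rwa [neg_one_smul] at this)
    rw [refl_apply, add_neg_eq_iff_eq_add.2 (add_comm b _)] at h1
    have hk : -(Q d)⁻¹ * polar Q b d ≠ 0 := mul_ne_zero (neg_ne_zero.2 (inv_ne_zero ht2)) ht1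
    have h2 := hsmul _ (W.smul_mem _ hd) h1 (-(Q d)⁻¹ * polar Q b d)⁻¹
    rwa [smul_smul, inv_mul_cancel₀ hk, one_smul] at h2
  have hdn : d ∉ Submodule.span F {b} := fun h => hyn (by
    have := Submodule.sub_mem _ h (Submodule.smul_mem _ t (Submodule.mem_span_singleton_self b))
    rwa [hddef, add_sub_cancel_right] at this)
  have hsup : Submodule.span F {b} ⊔ Submodule.span F {d} = W := by
    refine Submodule.eq_of_le_of_finrank_le
      (sup_le hble ((Submodule.span_singleton_le_iff_mem _ _).2 hd)) ?_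
    have hlt : Submodule.span F {b} < Submodule.span F {b} ⊔ Submodule.span F {d} :=
      left_lt_sup.2 fun h => hdn (h (Submodule.mem_span_singleton_self d))
    have := Submodule.finrank_lt_finrank_of_lt hlt
    change Module.finrank F W ≤ Module.finrank F ↥(Submodule.span F {b} ⊔ Submodule.span F {d})
    omega
  rw [← hsup] at hx
  obtain ⟨x1, hx1, x2, hx2, rfl⟩ := Submodule.mem_sup.1 hx
  obtain ⟨s, rfl⟩ := Submodule.mem_span_singleton.1 hx2
  exact hadd _ _ (hble hx1) (W.smul_mem _ hd) (hbspan x1 hx1) (hsmul d hd hPd s)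

/-- A full root group centred on either side gives all of `Ω`. -/
theorem le_of_full {X : Submodule F V} (hX : X = U ∨ X = perpS Q U) {z : V} (hz : z ∈ X)
    (hz0 : z ≠ 0) (hQz : Q z = 0) (hF : Full M z) : commutator (oGroup Q) ≤ M := by
  have hn5 : 5 ≤ Module.finrank F V := by omega
  have hXnd : ND Q X := by rcases hX with rfl | rfl; exacts [hU, ND.perp hQ hU]
  obtain ⟨f, hf, hQf, hzf⟩ := ND.singular_partner hXnd hz hz0 hQz
  set d := z - f with hd_def
  have hQd : Q d = -polar Q z f := by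
    rw [hd_def, sub_eq_add_neg, quad_add, QuadraticMap.map_neg, hQz, hQf, polar_neg_right]; ring
  have hd0 : Q d ≠ 0 := by rw [hQd, neg_ne_zero]; exact hzf
  obtain ⟨d', hd', hzd', hQd'⟩ : ∃ d' ∈ U, polar Q z d' = 0 ∧ Q d' = Q d := by
    rcases hX with rfl | rfl
    · exact exists_value_on hQ hU (by omega) hz (Q d)
    · obtain ⟨d', hd', -, h⟩ := exists_value_on hQ hU (by omega) (Submodule.zero_mem U) (Q d)
      exact ⟨d', hd', by rw [polar_comm]; exact hz d' hd', h⟩
  have hdU : d ∈ U ∨ d ∈ perpS Q U := by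
    rcases hX with rfl | rfl
    · exact Or.inl (Submodule.sub_mem _ hz hf)
    · exact Or.inr (Submodule.sub_mem _ hz hf)
  have hg : refl Q d * refl Q d' ∈ M := hM ⟨mul_mem (refl_mem_stabO hQ hdU)
    (refl_mem_stabO hQ (Or.inl hd')), refl_pair_mem_commutator hQ hd0 (by rwa [hQd'])
      (by rw [hQd']; exact IsSquare.mul_self _)⟩
  have himg : (refl Q d * refl Q d').1 z = f := by
    change (refl Q d).1 ((refl Q d').1 z) = f
    rw [refl_fix hzd', refl_apply, hQd, hd_def, polar_sub_right, polar_self, hQz]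
    simp only [smul_zero, zero_sub]
    match_scalars <;> field_simp <;> ring
  have hFf := Full.conj hg hQz hF
  rw [himg] at hFf
  exact commutator_le_of_two hQ hn5 hQz hQf hzf hF hFf

/-- The key property. -/
theorem nondeg_key (hW0 : perpS Q U ≠ ⊥)
    (hq : Module.finrank F (perpS Q U) = 2 → (∀ x ∈ perpS Q U, Q x = 0 → x = 0) ∨ 4 ≤ Nat.card F)
    (hsmall : Module.finrank F (perpS Q U) ≤ Module.finrank F U)
    (hsame : ∀ g : oGroup Q, ¬ ∀ x ∈ U, g.1 x ∈ perpS Q U)
    (hnle : ¬ M ≤ stabO Q U) : commutator (oGroup Q) ≤ M := by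
  have hn5 : 5 ≤ Module.finrank F V := by omega
  set W := perpS Q U with hWdef
  have hW : ND Q W := ND.perp hQ hU
  have hWp : perpS Q W = U := by rw [hWdef, perpS_perpS hQ]
  have _ := hW0
  have finish : ∀ X, (X = U ∨ X = W) → ∀ z ∈ X, z ≠ 0 → Q z = 0 → ∀ b ∈ perpS Q X, b ≠ 0 →
      siegel Q z b ∈ M → commutator (oGroup Q) ≤ M := by
    intro X hX z hz hz0 hQz b hb hb0 hm
    refine le_of_full hQ hn hU hU7 hM hX hz hz0 hQz ?_
    rcases hX with rfl | rfl
    · by_cases h3 : 3 ≤ Module.finrank F W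
      · exact full_of_mixed hQ hn hU hU7 hM (Or.inl rfl) h3 hz hQz hb hb0 hm
      · exact full_of_mixed_small hQ hn hU hU7 hM hq (show Module.finrank F W ≤ 2 by omega) hz hz0 hQz hb hb0 hm
    · exact full_of_mixed hQ hn hU hU7 hM (Or.inr rfl) (by
        change 3 ≤ Module.finrank F ↥(perpS Q (perpS Q U))
        rw [perpS_perpS hQ]; omega) hz hQz hb hb0 hm
  obtain ⟨g, hg, hgU⟩ := SetLike.not_le_iff_exists.1 hnle
  set U' := U.map g.1.toLinearMap
  have hU' : ND Q U' := ND.map hQ hU g
  have hU'd : Module.finrank F U' = Module.finrank F U := LinearEquiv.finrank_map_eq g.1 U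
  have hmem : ∀ x ∈ U', Q x = 0 → ∀ b ∈ U', polar Q x b = 0 → siegel Q x b ∈ M := by
    rintro _ ⟨x, hx, rfl⟩ hQx _ ⟨b, hb, rfl⟩ hxb
    have hx' : Q x = 0 := (g.2 x).symm.trans hQx
    have hxb' : polar Q x b = 0 := (polar_oGroup g x b).symm.trans hxb
    exact siegel_conj_mem hg hx' hxb' (hM ⟨siegel_mem_stabO hQ hx' hxb' (Or.inl ⟨hx, hb⟩),
      siegel_mem_commutator hQ hn5 hx' hxb'⟩)
  have hnU : ¬ U' ≤ U := fun h => hgU (mem_stabO_of_le fun x hx => h ⟨x, hx, rfl⟩)
  have hnW : ¬ U' ≤ W := fun h => hsame g fun x hx => h ⟨x, hx, rfl⟩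
  have caseX : ∀ X, (X = U ∨ X = W) → ∀ x ∈ U', x ∈ X → x ≠ 0 → Q x = 0 →
      commutator (oGroup Q) ≤ M := by
    intro X hX
    have hXnd : ND Q X := by rcases hX with rfl | rfl; exacts [hU, hW]
    have hnX : ¬ U' ≤ X := by rcases hX with rfl | rfl; exacts [hnU, hnW]
    have hout : ∀ x ∈ U', x ∈ X → x ≠ 0 → Q x = 0 →
        ∀ b ∈ U', polar Q x b = 0 → b ∉ X → commutator (oGroup Q) ≤ M := by
      intro x hx' hx hx0 hQx b hb hxb hbX
      obtain ⟨p, hp, q, hq, rfl⟩ := ND.decomp hQ hXnd b
      have hxq : polar Q x q = 0 := hq x hx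
      have hxp : polar Q x p = 0 := by rwa [polar_add_right, hxq, add_zero] at hxb
      have h := hmem x hx' hQx _ hb hxb
      rw [← siegel_mul hQx hxp hxq] at h
      have hpM : siegel Q x p ∈ M := by
        refine hM ⟨siegel_mem_stabO hQ hQx hxp ?_, siegel_mem_commutator hQ hn5 hQx hxp⟩
        rcases hX with rfl | rfl
        exacts [Or.inl ⟨hx, hp⟩, Or.inr ⟨hx, hp⟩]
      refine finish X hX x hx hx0 hQx q hq (fun h0 => hbX ?_) ((mul_mem_cancel_left hpM).1 h)
      rw [h0, add_zero]; exact hp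
    intro x hx' hx hx0 hQx
    by_contra hM'
    have hK : ∀ z, z ∈ U' → z ∈ X → z ≠ 0 → Q z = 0 → ∀ b ∈ U', polar Q z b = 0 → b ∈ X :=
      fun z h1 h2 h3 h4 b hb hzb => by_contra fun hc => hM' (hout z h1 h2 h3 h4 b hb hzb hc)
    have h1 := ND.finrank_inf_perp_singleton hQ U' x
    have h2 : Module.finrank F (Submodule.span F {x}) ≤ 1 :=
      (finrank_span_le_card ({x} : Set V)).trans (by simp)
    obtain ⟨z, ⟨hz', hzx⟩, hQz, hzn⟩ :=
      exists_singular_outside hQ (U' ⊓ perpS Q (Submodule.span F {x})) (Submodule.span F {x}) (by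
        change _ + 3 ≤ Module.finrank F ↥(U' ⊓ perpS Q (Submodule.span F {x}))
        omega)
    have hzX : z ∈ X := hK x hx' hx hx0 hQx z hz' (hzx x (Submodule.mem_span_singleton_self x))
    have hz0 : z ≠ 0 := fun h => hzn (by rw [h]; exact Submodule.zero_mem _)
    obtain ⟨p, hp', hpx, hzp⟩ := ND.partner_perp hQ hU'
      ((Submodule.span_singleton_le_iff_mem _ _).2 hx') hz' hzn
    have hpX : p ∈ X := hK x hx' hx hx0 hQx p hp' (hpx x (Submodule.mem_span_singleton_self x))
    refine hnX fun v hv => ?_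
    have := hK z hz' hzX hz0 hQz (v - (polar Q z v / polar Q z p) • p)
      (U'.sub_mem hv (U'.smul_mem _ hp'))
      (by rw [polar_sub_right, polar_smul_right, smul_eq_mul, div_mul_cancel₀ _ hzp, sub_self])
    have h3 := X.add_mem this (X.smul_mem (polar Q z v / polar Q z p) hpX)
    rwa [sub_add_cancel] at h3
  -- a singular vector of `U'` with singular components
  set π := U.projection W (ND.isCompl hQ hU)
  obtain ⟨x', hx'0, hxQ', hxπ'⟩ := CfsgLib.Geo.exists_common_zero (Q.comp U'.subtype)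
    ((Q.comp π).comp U'.subtype) (show 5 ≤ Module.finrank F U' by omega)
  obtain ⟨x, hxU', hx0, hQx, hxπ⟩ : ∃ x : V, x ∈ U' ∧ x ≠ 0 ∧ Q x = 0 ∧ Q (π x) = 0 :=
    ⟨x'.1, x'.2, fun h => hx'0 (Subtype.ext h), hxQ', hxπ'⟩
  have huU : π x ∈ U := Submodule.projection_apply_mem _ x
  have hwW : x - π x ∈ W := Submodule.sub_projection_mem _ x
  obtain ⟨u, w, hu, hw, hxe, hQu⟩ : ∃ u w, u ∈ U ∧ w ∈ W ∧ x = w + u ∧ Q u = 0 :=
    ⟨π x, x - π x, huU, hwW, (sub_add_cancel x _).symm, hxπ⟩
  subst hxe
  have hwu : polar Q w u = 0 := by rw [polar_comm]; exact hw u hu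
  have hQw : Q w = 0 := by rwa [quad_add, hQu, hwu, add_zero, add_zero] at hQx
  by_cases hw0 : w = 0
  · subst hw0
    rw [zero_add] at hxU' hx0
    exact caseX U (Or.inl rfl) u hxU' hu hx0 hQu
  by_cases hu0 : u = 0
  · subst hu0
    rw [add_zero] at hxU' hx0
    exact caseX W (Or.inr rfl) w hxU' hw hx0 hQw
  -- move `b` by an element of the stabiliser fixing `x`
  have hmove : ∀ b ∈ U', polar Q (w + u) b = 0 → ∀ e c, e ∈ U → c ∈ U → Q e = 0 →
      polar Q e c = 0 → polar Q u e = 0 → polar Q u c = 0 →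
      polar Q (w + u) ((siegel Q e c).1 b - b) = 0 ∧
      siegel Q (w + u) ((siegel Q e c).1 b - b) ∈ M := by
    intro b hb hxb e c he hc hQe hec hue huc
    have hs : siegel Q e c ∈ M := hM ⟨siegel_mem_stabO hQ hQe hec (Or.inl ⟨he, hc⟩),
      siegel_mem_commutator hQ hn5 hQe hec⟩
    have hfix : (siegel Q e c).1 (w + u) = w + u :=
      siegel_fix hQe hec (by rw [polar_add_left, hue, add_zero, polar_comm]; exact hw e he)
        (by rw [polar_add_left, huc, add_zero, polar_comm]; exact hw c hc)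
    have h1 := siegel_conj_mem hs hQx hxb (hmem _ hxU' hQx b hb hxb)
    rw [hfix] at h1
    have hxsb : polar Q (w + u) ((siegel Q e c).1 b) = 0 := by
      conv_lhs => rw [← hfix]
      rw [polar_oGroup, hxb]
    have h2 := inv_mem (hmem _ hxU' hQx b hb hxb)
    rw [siegel_inv hQx hxb] at h2
    have h3 := mul_mem h1 h2
    rw [siegel_mul hQx hxsb (by rw [polar_neg_right, hxb, neg_zero]), ← sub_eq_add_neg] at h3
    exact ⟨by rw [polar_sub_right, hxsb, hxb, sub_self], h3⟩
  -- a singular vector of `U` orthogonal to `u` finishes the proof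
  have hgood : ∀ v ∈ U, v ≠ 0 → Q v = 0 → polar Q u v = 0 → siegel Q (w + u) v ∈ M →
      commutator (oGroup Q) ≤ M := by
    intro v hv hv0 hQv huv hm
    have hwv : polar Q w v = 0 := by rw [polar_comm]; exact hw v hv
    rw [siegel_add_left hQw hQu hQv hwu hwv huv] at hm
    refine finish W (Or.inr rfl) w hw hw0 hQw v (by rw [hWp]; exact hv) hv0
      ((mul_mem_cancel_right ?_).1 hm)
    exact hM ⟨siegel_mem_stabO hQ hQu huv (Or.inl ⟨hu, hv⟩), siegel_mem_commutator hQ hn5 hQu huv⟩
  have hsu : Module.finrank F (Submodule.span F {u}) ≤ 1 :=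
    (finrank_span_le_card ({u} : Set V)).trans (by simp)
  by_cases hA : ∃ b ∈ U', polar Q (w + u) b = 0 ∧ polar Q b u ≠ 0
  · obtain ⟨b, hb, hxb, hbu⟩ := hA
    have h1 := ND.finrank_inf_perp_singleton hQ U u
    obtain ⟨c, ⟨hc, hcu⟩, hQc, hcn⟩ :=
      exists_singular_outside hQ (U ⊓ perpS Q (Submodule.span F {u})) (Submodule.span F {u}) (by
        change _ + 3 ≤ Module.finrank F ↥(U ⊓ perpS Q (Submodule.span F {u}))
        omega)
    have huc : polar Q u c = 0 := hcu u (Submodule.mem_span_singleton_self u)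
    have huu : polar Q u u = 0 := by rw [polar_self, hQu, smul_zero]
    obtain ⟨h2, h3⟩ := hmove b hb hxb u c hu hc hQu huc huu huc
    have heq : (siegel Q u c).1 b - b = polar Q b u • c - polar Q b c • u := by
      rw [siegel_apply hQu huc, hQc, zero_mul, add_zero]; abel
    rw [heq] at h3
    refine hgood _ (U.sub_mem (U.smul_mem _ hc) (U.smul_mem _ hu)) (fun h0 => hcn ?_) ?_ ?_ h3
    · rw [sub_eq_zero] at h0
      have : c = ((polar Q b u)⁻¹ * polar Q b c) • u := by
        rw [← smul_smul, ← h0, smul_smul, inv_mul_cancel₀ hbu, one_smul]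
      rw [this]
      exact Submodule.smul_mem _ _ (Submodule.mem_span_singleton_self u)
    · rw [sub_eq_add_neg, ← neg_smul, quad_add, quad_smul, quad_smul, hQc, hQu, polar_smul_left,
        polar_smul_right, polar_comm (⇑Q) c u, huc]
      simp
    · rw [polar_sub_right, polar_smul_right, polar_smul_right, huc, huu, smul_zero, smul_zero,
        sub_zero]
  push Not at hA
  by_cases hB : ∃ b ∈ U', polar Q (w + u) b = 0 ∧ π b ∉ Submodule.span F {u}
  · obtain ⟨b, hb, hxb, hbn⟩ := hB
    have hbU : π b ∈ U := Submodule.projection_apply_mem _ b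
    have hbW : b - π b ∈ W := Submodule.sub_projection_mem _ b
    have hsplit : ∀ a ∈ U, polar Q b a = polar Q (π b) a := fun a ha => by
      have h0 : polar Q (b - π b) a = 0 := by rw [polar_comm]; exact hbW a ha
      rw [polar_sub_left, sub_eq_zero] at h0
      exact h0
    have huu : polar Q u u = 0 := by rw [polar_self, hQu, smul_zero]
    -- a singular vector orthogonal to `u` and not to `b`
    obtain ⟨e, he, hQe, hue, hbe⟩ : ∃ e ∈ U, Q e = 0 ∧ polar Q u e = 0 ∧ polar Q (π b) e ≠ 0 := by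
      obtain ⟨y, hy, hyu, hby⟩ := ND.partner_perp hQ hU
        ((Submodule.span_singleton_le_iff_mem _ _).2 hu) hbU hbn
      have h1 := ND.finrank_inf_perp_singleton hQ U u
      obtain ⟨s, ⟨hs, hsu⟩, hQs, hsn⟩ :=
        exists_singular_outside hQ (U ⊓ perpS Q (Submodule.span F {u})) (Submodule.span F {u}) (by
          change _ + 3 ≤ Module.finrank F ↥(U ⊓ perpS Q (Submodule.span F {u}))
          omega)
      have hus : polar Q u s = 0 := hsu u (Submodule.mem_span_singleton_self u)
      by_cases hbs : polar Q (π b) s = 0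
      swap
      · exact ⟨s, hs, hQs, hus, hbs⟩
      obtain ⟨z, hz, hzu, hsz⟩ := ND.partner_perp hQ hU
        ((Submodule.span_singleton_le_iff_mem _ _).2 hu) hs hsn
      have hyu' : polar Q u y = 0 := hyu u (Submodule.mem_span_singleton_self u)
      have hzu' : polar Q u z = 0 := hzu u (Submodule.mem_span_singleton_self u)
      obtain ⟨q, hq', huq, hbq, hsq⟩ : ∃ q ∈ U, polar Q u q = 0 ∧ polar Q (π b) q ≠ 0 ∧
          polar Q s q ≠ 0 := by
        by_cases hbz : polar Q (π b) z = 0
        swap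
        · exact ⟨z, hz, hzu', hbz, hsz⟩
        by_cases hsy : polar Q s y = 0
        swap
        · exact ⟨y, hy, hyu', hby, hsy⟩
        exact ⟨y + z, U.add_mem hy hz, by rw [polar_add_right, hyu', hzu', add_zero],
          by rw [polar_add_right, hbz, add_zero]; exact hby,
          by rw [polar_add_right, hsy, zero_add]; exact hsz⟩
      refine ⟨q + (-(Q q / polar Q s q)) • s, U.add_mem hq' (U.smul_mem _ hs), ?_, ?_, ?_⟩
      · rw [quad_add, quad_smul, hQs, polar_smul_right, polar_comm (⇑Q) q s, smul_eq_mul]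
        field_simp; ring
      · rw [polar_add_right, polar_smul_right, huq, hus, smul_zero, add_zero]
      · rw [polar_add_right, polar_smul_right, hbs, smul_zero, add_zero]; exact hbq
    have hbe' : polar Q b e ≠ 0 := by rwa [hsplit e he]
    have heu : polar Q e u = 0 := by rw [polar_comm]; exact hue
    obtain ⟨h2, h3⟩ := hmove b hb hxb e u he hu hQe heu hue huu
    have heq : (siegel Q e u).1 b - b = polar Q b e • u := by
      rw [siegel_apply hQe heu, hA b hb hxb, hQu]
      simp
    rw [heq] at h3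
    exact hgood _ (U.smul_mem _ hu) (smul_ne_zero hbe' hu0) (by rw [quad_smul, hQu, mul_zero])
      (by rw [polar_smul_right, huu, smul_zero]) h3
  push Not at hB
  -- otherwise `U'` meets `W` in a singular vector
  set K := U' ⊓ perpS Q (Submodule.span F {w + u})
  have hK := ND.finrank_inf_perp_singleton hQ U' (w + u)
  change Module.finrank F U' ≤ Module.finrank F K + 1 at hK
  have hKle : K ≤ (K ⊓ W) ⊔ Submodule.span F {w + u} := by
    intro b hb
    obtain ⟨t, ht⟩ := Submodule.mem_span_singleton.1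
      (hB b hb.1 (hb.2 _ (Submodule.mem_span_singleton_self _)))
    have hxx : w + u ∈ K := ⟨hxU', fun h hh => by
      obtain ⟨s, rfl⟩ := Submodule.mem_span_singleton.1 hh
      rw [polar_smul_left, polar_self, hQx, smul_zero, smul_zero]⟩
    refine Submodule.mem_sup.2 ⟨b - t • (w + u), ⟨K.sub_mem hb (K.smul_mem _ hxx), ?_⟩,
      t • (w + u), Submodule.smul_mem _ _ (Submodule.mem_span_singleton_self _), sub_add_cancel _ _⟩
    have e : b - t • (w + u) = (b - π b) - t • w := by rw [← ht, smul_add]; abel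
    change b - t • (w + u) ∈ W
    rw [e]
    exact W.sub_mem (Submodule.sub_projection_mem _ b) (W.smul_mem _ hw)
  obtain ⟨z, hz, hz0, hQz⟩ := exists_singular_of_three (Q := Q) (K ⊓ W) (by
    have a1 := Submodule.finrank_mono hKle
    have a2 := Submodule.finrank_add_le_finrank_add_finrank (K ⊓ W) (Submodule.span F {w + u})
    have a3 : Module.finrank F (Submodule.span F {w + u}) ≤ 1 :=
      (finrank_span_le_card ({w + u} : Set V)).trans (by simp)
    change 3 ≤ Module.finrank F ↥(K ⊓ W)
    omega)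
  exact caseX W (Or.inr rfl) z hz.1.1 hz.2 hz0 hQz

omit hM

theorem nondeg_proper (hW0 : perpS Q U ≠ ⊥) : ¬ commutator (oGroup Q) ≤ stabO Q U := by
  intro hle
  obtain ⟨b, hb, hb0⟩ := Submodule.exists_mem_ne_zero_of_ne_bot hW0
  obtain ⟨u, hu, hu0, hQu⟩ := exists_singular_of_three (Q := Q) U (by omega)
  obtain ⟨y, hy, huy⟩ := ND.partner hU hu hu0
  have hub : polar Q u b = 0 := hb u hu
  have h := (hle (siegel_mem_commutator hQ (by omega) hQu hub) y).2 hy
  rw [siegel_apply hQu hub] at h
  have h2 := U.add_mem h (U.smul_mem (polar Q y b + Q b * polar Q y u) hu)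
  rw [sub_add_cancel] at h2
  have h3 := U.sub_mem h2 hy
  rw [add_sub_cancel_left] at h3
  exact smul_ne_zero (by rwa [polar_comm]) hb0 (ND.eq_zero hU h3 (Submodule.smul_mem _ _ hb))

/-- Maximality. -/
theorem nondeg_maximal (hW0 : perpS Q U ≠ ⊥)
    (hq : Module.finrank F (perpS Q U) = 2 → (∀ x ∈ perpS Q U, Q x = 0 → x = 0) ∨ 4 ≤ Nat.card F)
    (hsmall : Module.finrank F (perpS Q U) ≤ Module.finrank F U)
    (hsame : ∀ g : oGroup Q, ¬ ∀ x ∈ U, g.1 x ∈ perpS Q U) :
    Cfsg.Geo.IsMaximalIn (commutator (oGroup Q)) (stabO Q U ⊓ commutator (oGroup Q)) :=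
  isMaximalIn_of (nondeg_proper hQ hn hU hU7 hW0)
    fun _ a _ c => nondeg_key hQ hn hU hU7 a hW0 hq hsmall hsame c

omit hn hU hU7 in
theorem stabO_perp_eq : stabO Q (perpS Q U) = stabO Q U := by
  refine le_antisymm (fun g hg => ?_) fun g hg => stabO_perp hg
  have := stabO_perp hg
  rwa [perpS_perpS hQ] at this

end CfsgLib.Geo.OS
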