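import Cfsg.Agent.Geo.OrthPlus

/-!
The stabiliser in `Ω` of a non-degenerate subspace `U` is maximal, odd characteristic, when
`dim U ≥ 4` and the orthogonal space is smaller and of dimension at least three. This includes the
split `4 + 3` of a seven-space.
-/

set_option autoImplicit false
set_option linter.unusedSectionVars false
set_option linter.style.longLine false

namespace CfsgLib.Geo.OS.NDLow

open QuadraticMap CfsgLib.Forms CfsgLib.Quad CfsgLib.Geo.OS

variable {F V : Type*} [Field F] [AddCommGroup V] [Module F V] [FiniteDimensional F V] [Finite F]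
  {Q : QuadraticForm F V} (hQ : (polarBilin Q).Nondegenerate) (h2 : (2 : F) ≠ 0)

include hQ h2

/-- An anisotropic vector orthogonal to a given one. -/
theorem aniso_perp {X : Submodule F V} (hX : ND Q X) {e : V} (he : e ∈ X) {z : V} (hz : z ∈ X)
    (hez : polar Q e z = 0) (hzn : z ∉ Submodule.span F {e}) :
    ∃ c ∈ X, polar Q e c = 0 ∧ Q c ≠ 0 := by
  by_cases hQz : Q z = 0
  swap
  · exact ⟨z, hz, hez, hQz⟩
  obtain ⟨y, hy, hye, hzy⟩ := ND.partner_perp hQ hX
    ((Submodule.span_singleton_le_iff_mem _ _).2 he) hz hzn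
  have hey : polar Q e y = 0 := hye e (Submodule.mem_span_singleton_self e)
  by_cases hQy : Q y = 0
  swap
  · exact ⟨y, hy, hey, hQy⟩
  refine ⟨z + y, X.add_mem hz hy, by rw [polar_add_right, hez, hey, add_zero], ?_⟩
  rw [quad_add, hQz, hQy, zero_add, zero_add]
  exact hzy

/-- A vector orthogonal to `e` outside its line. -/
theorem exists_perp_outside {X : Submodule F V} (e : V) (h3 : 3 ≤ Module.finrank F X) :
    ∃ z ∈ X, polar Q e z = 0 ∧ z ∉ Submodule.span F {e} := by
  by_contra hc
  push Not at hc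
  have h1 := ND.finrank_inf_perp_singleton hQ X e
  have h4 : Module.finrank F ↥(X ⊓ perpS Q (Submodule.span F {e})) ≤
      Module.finrank F (Submodule.span F {e}) :=
    Submodule.finrank_mono fun z hz => hc z hz.1 (hz.2 e (Submodule.mem_span_singleton_self e))
  have h5 : Module.finrank F (Submodule.span F {e}) ≤ 1 :=
    (finrank_span_le_card ({e} : Set V)).trans (by simp)
  change Module.finrank F X ≤ Module.finrank F ↥(X ⊓ perpS Q (Submodule.span F {e})) + 1 at h1
  omega

/-- A non-degenerate space of dimension at least two represents every value. -/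
theorem exists_value {X : Submodule F V} (hX : ND Q X) (hd : 2 ≤ Module.finrank F X) (c : F) :
    ∃ d ∈ X, Q d = c := by
  obtain ⟨a, ha, hQa⟩ : ∃ a ∈ X, Q a ≠ 0 := by
    obtain ⟨x, hx, hx0⟩ := Submodule.exists_mem_ne_zero_of_ne_bot (p := X)
      (fun h => by rw [h, finrank_bot] at hd; omega)
    obtain ⟨y, hy, hxy⟩ := ND.partner hX hx hx0
    by_contra hc
    push Not at hc
    have h := hc _ (X.add_mem hx hy)
    rw [quad_add, hc x hx, hc y hy, zero_add, zero_add] at h
    exact hxy h
  have haa : polar Q a a ≠ 0 := by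
    rw [polar_self, two_nsmul, ← two_mul]; exact mul_ne_zero h2 hQa
  obtain ⟨z, hz, hzn⟩ : ∃ z ∈ X, z ∉ Submodule.span F {a} := by
    by_contra hc
    push Not at hc
    have h4 := Submodule.finrank_mono (show X ≤ Submodule.span F {a} from hc)
    have h5 : Module.finrank F (Submodule.span F {a}) ≤ 1 :=
      (finrank_span_le_card ({a} : Set V)).trans (by simp)
    omega
  obtain ⟨b, hb, hab, hQb⟩ := aniso_perp hQ h2 hX ha
    (z := z - (polar Q a z / polar Q a a) • a) (X.sub_mem hz (X.smul_mem _ ha))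
    (by rw [polar_sub_right, polar_smul_right, smul_eq_mul, div_mul_cancel₀ _ haa, sub_self])
    (fun h => hzn (by
      simpa using Submodule.add_mem _ h (Submodule.smul_mem _ (polar Q a z / polar Q a a)
        (Submodule.mem_span_singleton_self a))))
  obtain ⟨s, t, hst⟩ := exists_binary h2 hQa hQb c
  refine ⟨s • a + t • b, X.add_mem (X.smul_mem _ ha) (X.smul_mem _ hb), ?_⟩
  rw [quad_add, quad_smul, quad_smul, polar_smul_left, polar_smul_right, hab, smul_zero, smul_zero,
    add_zero]
  linear_combination hst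

variable (hn : 7 ≤ Module.finrank F V)
  {U : Submodule F V} (hU : ND Q U) (hU4 : 4 ≤ Module.finrank F U)
  (hW3 : 3 ≤ Module.finrank F (perpS Q U))

include hU hU4

/-- Every value, orthogonally to a vector of `U`. -/
theorem exists_value_perp {u : V} (hu : u ∈ U) (hQu : Q u = 0) (c : F) :
    ∃ d ∈ U, polar Q u d = 0 ∧ Q d = c := by
  rcases eq_or_ne u 0 with rfl | hu0
  · obtain ⟨d, hd, h⟩ := exists_value hQ h2 hU (by omega) c
    exact ⟨d, hd, polar_zero_left Q d, h⟩
  obtain ⟨f, hf, hQf, huf⟩ := ND.singular_partner hU hu hu0 hQu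
  set P : Submodule F V := Submodule.span F {u, f}
  set X : Submodule F V := U ⊓ perpS Q P
  have hPU : P ≤ U := Submodule.span_le.2 (by
    rintro _ (rfl | rfl)
    exacts [hu, hf])
  have hX2 : 2 ≤ Module.finrank F X := by
    have h1 := ND.finrank_inf_perp hQ U P
    have h3 : Module.finrank F P ≤ 2 := by
      classical
      refine (finrank_span_le_card ({u, f} : Set V)).trans ?_
      simp only [Set.toFinset_insert, Set.toFinset_singleton]
      exact Finset.card_le_two
    change Module.finrank F U ≤ Module.finrank F X + _ at h1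
    omega
  have hperp : ∀ v ∈ X, polar Q u v = 0 ∧ polar Q f v = 0 := fun v hv =>
    ⟨hv.2 u (Submodule.subset_span (Set.mem_insert u _)),
      hv.2 f (Submodule.subset_span (Set.mem_insert_of_mem u rfl))⟩
  have hX : ND Q X := by
    refine (Submodule.eq_bot_iff _).2 fun v hv => ?_
    obtain ⟨hvX, hvp⟩ := hv
    refine ND.eq_zero hU hvX.1 fun y hy => ?_
    set y' := y - (polar Q u y / polar Q u f) • f - (polar Q f y / polar Q f u) • u with hy'
    have huu : polar Q u u = 0 := by rw [polar_self, hQu, smul_zero]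
    have hff : polar Q f f = 0 := by rw [polar_self, hQf, smul_zero]
    have hfu : polar Q f u ≠ 0 := by rwa [polar_comm]
    have hy'X : y' ∈ X := by
      refine ⟨U.sub_mem (U.sub_mem hy (U.smul_mem _ hf)) (U.smul_mem _ hu), fun h hh => ?_⟩
      obtain ⟨a, b, rfl⟩ := Submodule.mem_span_pair.1 hh
      simp only [hy', polar_add_left, polar_smul_left, polar_sub_right, polar_smul_right,
        smul_eq_mul, huu, hff, mul_zero, sub_zero]
      field_simp
      ring
    have h := hvp y' hy'X
    simp only [hy', polar_sub_left, polar_smul_left, (hperp v hvX).1, (hperp v hvX).2,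
      smul_eq_mul, mul_zero, sub_zero] at h
    exact h
  obtain ⟨d, hd, h⟩ := exists_value hQ h2 hX hX2 c
  exact ⟨d, hd.1, (hperp d hd).1, h⟩

include hn hW3

variable {M : Subgroup (oGroup Q)} (hM : stabO Q U ⊓ commutator (oGroup Q) ≤ M)

include hM

/-- One Siegel transformation mixing the two sides gives everything. -/
theorem le_of_mixed {X : Submodule F V} (hX : X = U ∨ X = perpS Q U) {z : V} (hz : z ∈ X)
    (hz0 : z ≠ 0) (hQz : Q z = 0) {b : V} (hb : b ∈ perpS Q X) (hb0 : b ≠ 0)
    (hm : siegel Q z b ∈ M) : commutator (oGroup Q) ≤ M := by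
  have hn5 : 5 ≤ Module.finrank F V := by omega
  have hXnd : ND Q X := by rcases hX with rfl | rfl; exacts [hU, ND.perp hQ hU]
  have h3 : 3 ≤ Module.finrank F (perpS Q X) := by
    rcases hX with rfl | rfl
    · exact hW3
    · rw [perpS_perpS hQ]; omega
  have hfill : ∀ q ∈ perpS Q X, siegel Q z q ∈ M := by
    refine fill hQ (ND.perp hQ hXnd) h3 (fun q => siegel Q z q ∈ M) ?_ ?_ ?_ hb hb0 hm
    · intro a a' ha ha' h h'
      rw [← siegel_mul hQz (ha z hz) (ha' z hz)]; exact mul_mem h h'
    · intro a ha h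
      rw [← siegel_inv hQz (ha z hz)]; exact inv_mem h
    · intro e c he hc hQe hec q hq h
      have hmem : siegel Q e c ∈ M := by
        refine hM ⟨siegel_mem_stabO hQ hQe hec ?_, siegel_mem_commutator hQ hn5 hQe hec⟩
        rcases hX with rfl | rfl
        · exact Or.inr ⟨he, hc⟩
        · exact Or.inl ⟨by rwa [perpS_perpS hQ] at he, by rwa [perpS_perpS hQ] at hc⟩
      have := siegel_conj_mem hmem hQz (hq z hz) h
      rwa [siegel_fix hQe hec (he z hz) (hc z hz)] at this
  have hF : Full M z := by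
    intro a ha
    obtain ⟨p, hp, q, hq, rfl⟩ := ND.decomp hQ hXnd a
    have hzq : polar Q z q = 0 := hq z hz
    have hzp : polar Q z p = 0 := by rwa [polar_add_right, hzq, add_zero] at ha
    rw [← siegel_mul hQz hzp hzq]
    refine mul_mem (hM ⟨siegel_mem_stabO hQ hQz hzp ?_, siegel_mem_commutator hQ hn5 hQz hzp⟩)
      (hfill q hq)
    rcases hX with rfl | rfl
    exacts [Or.inl ⟨hz, hp⟩, Or.inr ⟨hz, hp⟩]
  obtain ⟨f, hf, hQf, hzf⟩ := ND.singular_partner hXnd hz hz0 hQz
  set d := z - f with hd_def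
  have hQd : Q d = -polar Q z f := by
    rw [hd_def, sub_eq_add_neg, quad_add, QuadraticMap.map_neg, hQz, hQf, polar_neg_right]; ring
  have hd0 : Q d ≠ 0 := by rw [hQd, neg_ne_zero]; exact hzf
  obtain ⟨d', hd', hzd', hQd'⟩ : ∃ d' ∈ U, polar Q z d' = 0 ∧ Q d' = Q d := by
    rcases hX with rfl | rfl
    · exact exists_value_perp hQ h2 hU hU4 hz hQz (Q d)
    · obtain ⟨d', hd', h⟩ := exists_value hQ h2 hU (by omega) (Q d)
      exact ⟨d', hd', by rw [polar_comm]; exact hz d' hd', h⟩
  have hdU : d ∈ U ∨ d ∈ perpS Q U := by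
    rcases hX with rfl | rfl
    · exact Or.inl (Submodule.sub_mem _ hz hf)
    · exact Or.inr (Submodule.sub_mem _ hz hf)
  have hg : refl Q d * refl Q d' ∈ M := hM ⟨mul_mem (refl_mem_stabO hQ hdU)
    (refl_mem_stabO hQ (Or.inl hd')), refl_pair_mem_commutator hQ hd0 (by rwa [hQd'])
      (by rw [hQd']; exact IsSquare.mul_self _)⟩
  have himg : (refl Q d * refl Q d').1 z = f := by
    change (refl Q d).1 ((refl Q d').1 z) = f
    rw [refl_fix hzd', refl_apply, hQd, hd_def, polar_sub_right, polar_self, hQz]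
    simp only [smul_zero, zero_sub]
    match_scalars <;> field_simp <;> ring
  have hFf := Full.conj hg hQz hF
  rw [himg] at hFf
  exact commutator_le_of_two hQ hn5 hQz hQf hzf hF hFf

/-- The key property. -/
theorem key (hlt : Module.finrank F (perpS Q U) < Module.finrank F U)
    (hnle : ¬ M ≤ stabO Q U) : commutator (oGroup Q) ≤ M := by
  have hn5 : 5 ≤ Module.finrank F V := by omega
  set W := perpS Q U with hWdef
  have hW : ND Q W := ND.perp hQ hU
  obtain ⟨g, hg, hgU⟩ := SetLike.not_le_iff_exists.1 hnle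
  set U' := U.map g.1.toLinearMap
  have hU' : ND Q U' := ND.map hQ hU g
  have hU'd : Module.finrank F U' = Module.finrank F U := LinearEquiv.finrank_map_eq g.1 U
  have hmem : ∀ x ∈ U', Q x = 0 → ∀ b ∈ U', polar Q x b = 0 → siegel Q x b ∈ M := by
    rintro _ ⟨x, hx, rfl⟩ hQx _ ⟨b, hb, rfl⟩ hxb
    have hx' : Q x = 0 := (g.2 x).symm.trans hQx
    have hxb' : polar Q x b = 0 := (polar_oGroup g x b).symm.trans hxb
    exact siegel_conj_mem hg hx' hxb' (hM ⟨siegel_mem_stabO hQ hx' hxb' (Or.inl ⟨hx, hb⟩),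
      siegel_mem_commutator hQ hn5 hx' hxb'⟩)
  have hnU : ¬ U' ≤ U := fun h => hgU (mem_stabO_of_le fun x hx => h ⟨x, hx, rfl⟩)
  by_contra hM'
  have hK : ∀ X, (X = U ∨ X = W) → ∀ x ∈ U', x ∈ X → x ≠ 0 → Q x = 0 →
      ∀ b ∈ U', polar Q x b = 0 → b ∈ X := by
    intro X hX x hx' hx hx0 hQx b hb hxb
    have hXnd : ND Q X := by rcases hX with rfl | rfl; exacts [hU, hW]
    by_contra hbX
    obtain ⟨p, hp, q, hq, rfl⟩ := ND.decomp hQ hXnd b
    have hxq : polar Q x q = 0 := hq x hx
    have hxp : polar Q x p = 0 := by rwa [polar_add_right, hxq, add_zero] at hxb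
    have h := hmem x hx' hQx _ hb hxb
    rw [← siegel_mul hQx hxp hxq] at h
    have hpM : siegel Q x p ∈ M := by
      refine hM ⟨siegel_mem_stabO hQ hQx hxp ?_, siegel_mem_commutator hQ hn5 hQx hxp⟩
      rcases hX with rfl | rfl
      exacts [Or.inl ⟨hx, hp⟩, Or.inr ⟨hx, hp⟩]
    refine hM' (le_of_mixed hQ h2 hn hU hU4 hW3 hM hX hx hx0 hQx hq (fun h0 => hbX ?_)
      ((mul_mem_cancel_left hpM).1 h))
    rw [h0, add_zero]; exact hp
  -- no singular vector of `U'` lies in `W`
  have hnW : ∀ x ∈ U', x ∈ W → Q x = 0 → x = 0 := by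
    intro x hx' hx hQx
    by_contra hx0
    obtain ⟨y, hy, hxy⟩ := ND.partner hW hx hx0
    have hle : U' ⊓ perpS Q (Submodule.span F {x}) ≤ W ⊓ perpS Q (Submodule.span F {x}) :=
      fun b hb => ⟨hK W (Or.inr rfl) x hx' hx hx0 hQx b hb.1
        (hb.2 x (Submodule.mem_span_singleton_self x)), hb.2⟩
    have hlt' : W ⊓ perpS Q (Submodule.span F {x}) < W := inf_lt_left.2 fun h =>
      hxy ((h hy) x (Submodule.mem_span_singleton_self x))
    have a1 := Submodule.finrank_mono hle
    have a2 := Submodule.finrank_lt_finrank_of_lt hlt'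
    have a3 := ND.finrank_inf_perp_singleton hQ U' x
    omega
  set π := U.projection W (ND.isCompl hQ hU)
  have hπU : ∀ b, π b ∈ U := fun b => Submodule.projection_apply_mem _ b
  have hπW : ∀ b, b - π b ∈ W := fun b => Submodule.sub_projection_mem _ b
  have hsplit : ∀ b, ∀ a ∈ U, polar Q b a = polar Q (π b) a := fun b a ha => by
    have h0 : polar Q (b - π b) a = 0 := by rw [polar_comm]; exact hπW b a ha
    rw [polar_sub_left, sub_eq_zero] at h0
    exact h0
  -- move `b` by an element of the stabiliser fixing `x`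
  have hmove : ∀ x b, x ∈ U' → Q x = 0 → polar Q x b = 0 → siegel Q x b ∈ M →
      ∀ e c, e ∈ U → c ∈ U → Q e = 0 → polar Q e c = 0 → polar Q (π x) e = 0 →
      polar Q (π x) c = 0 →
      polar Q x ((siegel Q e c).1 b - b) = 0 ∧ siegel Q x ((siegel Q e c).1 b - b) ∈ M := by
    intro x b hx hQx hxb hbM e c he hc hQe hec hue huc
    have hs : siegel Q e c ∈ M := hM ⟨siegel_mem_stabO hQ hQe hec (Or.inl ⟨he, hc⟩),
      siegel_mem_commutator hQ hn5 hQe hec⟩
    have hfix : (siegel Q e c).1 x = x :=
      siegel_fix hQe hec ((hsplit x e he).trans hue) ((hsplit x c hc).trans huc)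
    have h1 := siegel_conj_mem hs hQx hxb hbM
    rw [hfix] at h1
    have hxsb : polar Q x ((siegel Q e c).1 b) = 0 := by
      conv_lhs => rw [← hfix]
      rw [polar_oGroup, hxb]
    have h3 := mul_mem h1 (inv_mem hbM)
    rw [siegel_inv hQx hxb,
      siegel_mul hQx hxsb (by rw [polar_neg_right, hxb, neg_zero]), ← sub_eq_add_neg] at h3
    exact ⟨by rw [polar_sub_right, hxsb, hxb, sub_self], h3⟩
  -- a singular vector with singular components lies in `U` or in `W`
  have hAB : ∀ x ∈ U', Q x = 0 → Q (π x) = 0 → π x ≠ 0 → x - π x ≠ 0 → False := by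
    intro x hx hQx hQu hu0 hw0
    set u := π x with hu_def
    set w := x - u with hw_def
    have hu : u ∈ U := hπU x
    have hw : w ∈ W := hπW x
    have hxe : x = w + u := (sub_add_cancel x u).symm
    have hwu : polar Q w u = 0 := by rw [polar_comm]; exact hw u hu
    have hQw : Q w = 0 := by
      rw [hxe, quad_add, hQu, hwu, add_zero, add_zero] at hQx; exact hQx
    have huu : polar Q u u = 0 := by rw [polar_self, hQu, smul_zero]
    have hxu : polar Q x u = 0 := (hsplit x u hu).trans huu
    have hgood : siegel Q x u ∈ M → False := by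
      intro h
      rw [hxe, siegel_add_left hQw hQu hQu hwu hwu huu] at h
      refine hM' (le_of_mixed hQ h2 hn hU hU4 hW3 hM (Or.inr rfl) hw hw0 hQw (b := u)
        (show u ∈ perpS Q (perpS Q U) by rw [perpS_perpS hQ]; exact hu) hu0 ((mul_mem_cancel_right ?_).1 h))
      exact hM ⟨siegel_mem_stabO hQ hQu huu (Or.inl ⟨hu, hu⟩),
        siegel_mem_commutator hQ hn5 hQu huu⟩
    have hdone : ∀ (v : V) (c : V), c ∈ U → polar Q u c = 0 → polar Q x v = 0 → siegel Q x v ∈ M →
        polar Q v u = 0 → polar Q v c ≠ 0 → False := by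
      intro v c hc huc hxv hvM hvu hvc
      obtain ⟨-, h3⟩ := hmove x v hx hQx hxv hvM u c hu hc hQu huc huu huc
      have heq : (siegel Q u c).1 v - v = (-polar Q v c) • u := by
        rw [siegel_apply hQu huc, hvu, mul_zero, add_zero, zero_smul, add_zero, neg_smul]; abel
      rw [heq] at h3
      have hk : -polar Q v c ≠ 0 := neg_ne_zero.2 hvc
      -- scale back
      refine hgood ?_
      obtain ⟨-, h4⟩ := hmove x v hx hQx hxv hvM u ((-polar Q v c)⁻¹ • c) hu (U.smul_mem _ hc) hQu
        (by rw [polar_smul_right, huc, smul_zero]) huu (by rw [polar_smul_right, huc, smul_zero])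
      have heq' : (siegel Q u ((-polar Q v c)⁻¹ • c)).1 v - v = u := by
        rw [siegel_apply hQu (by rw [polar_smul_right, huc, smul_zero]), hvu, mul_zero, add_zero,
          zero_smul, add_zero, polar_smul_right, smul_eq_mul]
        have : -((-polar Q v c)⁻¹ * polar Q v c) = 1 := by field_simp
        rw [sub_sub_cancel_left, ← neg_smul, this, one_smul]
      rwa [heq'] at h4
    by_cases hB : ∃ b ∈ U', polar Q x b = 0 ∧ π b ∉ Submodule.span F {u}
    · obtain ⟨b, hb, hxb, hbn⟩ := hB
      by_cases hbu : polar Q b u = 0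
      · obtain ⟨c, hc, hcu, hbc⟩ := ND.partner_perp hQ hU
          ((Submodule.span_singleton_le_iff_mem _ _).2 hu) (hπU b) hbn
        exact hdone b c hc (hcu u (Submodule.mem_span_singleton_self u)) hxb
          (hmem x hx hQx b hb hxb) hbu (by rwa [hsplit b c hc])
      · obtain ⟨c, hc, huc, hQc⟩ := exists_value_perp hQ h2 hU hU4 hu hQu 1
        obtain ⟨h4, h3⟩ := hmove x b hx hQx hxb (hmem x hx hQx b hb hxb) u c hu hc hQu huc huu huc
        have heq : (siegel Q u c).1 b - b =
            polar Q b u • c - (polar Q b c + Q c * polar Q b u) • u := by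
          rw [siegel_apply hQu huc]; abel
        rw [heq] at h3 h4
        refine hdone _ c hc huc h4 h3 ?_ ?_
        · simp [polar_sub_left, polar_smul_left, huu, show polar Q c u = 0 by rw [polar_comm]; exact huc]
        · simp only [polar_sub_left, polar_smul_left, huc, smul_eq_mul, mul_zero, sub_zero,
            polar_self, hQc, two_nsmul]
          refine mul_ne_zero hbu ?_
          rwa [one_add_one_eq_two]
    push Not at hB
    set K := U' ⊓ perpS Q (Submodule.span F {x})
    have hKd := ND.finrank_inf_perp_singleton hQ U' x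
    change Module.finrank F U' ≤ Module.finrank F K + 1 at hKd
    set S := K ⊓ W
    have hKle : K ≤ S ⊔ Submodule.span F {x} := by
      intro b hb
      obtain ⟨t, ht⟩ := Submodule.mem_span_singleton.1
        (hB b hb.1 (hb.2 _ (Submodule.mem_span_singleton_self _)))
      have hxx : x ∈ K := ⟨hx, fun h hh => by
        obtain ⟨s, rfl⟩ := Submodule.mem_span_singleton.1 hh
        rw [polar_smul_left, polar_self, hQx, smul_zero, smul_zero]⟩
      refine Submodule.mem_sup.2 ⟨b - t • x, ⟨K.sub_mem hb (K.smul_mem _ hxx), ?_⟩,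
        t • x, Submodule.smul_mem _ _ (Submodule.mem_span_singleton_self _), sub_add_cancel _ _⟩
      have e : b - t • x = (b - π b) - t • w := by rw [hw_def, ← ht, smul_sub]; abel
      change b - t • x ∈ W
      rw [e]
      exact W.sub_mem (hπW b) (W.smul_mem _ hw)
    have hSle : S ≤ W ⊓ perpS Q (Submodule.span F {w}) := fun b hb => ⟨hb.2, fun h hh => by
      obtain ⟨s, rfl⟩ := Submodule.mem_span_singleton.1 hh
      have h0 : polar Q u b = 0 := hb.2 u hu
      have h1 : polar Q x b = 0 := hb.1.2 x (Submodule.mem_span_singleton_self x)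
      rw [hxe, polar_add_left, h0, add_zero] at h1
      rw [polar_smul_left, h1, smul_zero]⟩
    obtain ⟨y, hy, hwy⟩ := ND.partner hW hw hw0
    have hlt' : W ⊓ perpS Q (Submodule.span F {w}) < W := inf_lt_left.2 fun h =>
      hwy ((h hy) w (Submodule.mem_span_singleton_self w))
    have a1 := Submodule.finrank_lt_finrank_of_lt hlt'
    have a2 := Submodule.finrank_mono hKle
    have a3 := Submodule.finrank_add_le_finrank_add_finrank S (Submodule.span F {x})
    have a4 : Module.finrank F (Submodule.span F {x}) ≤ 1 :=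
      (finrank_span_le_card ({x} : Set V)).trans (by simp)
    have a5 : S = W ⊓ perpS Q (Submodule.span F {w}) :=
      Submodule.eq_of_le_of_finrank_le hSle (by omega)
    have hwS : w ∈ S := a5 ▸ ⟨hw, fun h hh => by
      obtain ⟨s, rfl⟩ := Submodule.mem_span_singleton.1 hh
      rw [polar_smul_left, polar_self, hQw, smul_zero, smul_zero]⟩
    have hwn : w ∉ Submodule.span F {x} := fun h => by
      obtain ⟨s, hs⟩ := Submodule.mem_span_singleton.1 h
      have h5 : s • u ∈ W := by
        have : s • u = w - s • w := by rw [eq_sub_iff_add_eq, ← smul_add, add_comm, ← hxe, hs]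
        rw [this]; exact W.sub_mem hw (W.smul_mem _ hw)
      rcases eq_or_ne s 0 with rfl | hs0
      · exact hw0 (by rw [← hs, zero_smul])
      · exact hu0 (ND.eq_zero hU hu (by
          have := W.smul_mem s⁻¹ h5
          rwa [smul_smul, inv_mul_cancel₀ hs0, one_smul] at this))
    obtain ⟨z, hz, hzx, hwz⟩ := ND.partner_perp hQ hU'
      ((Submodule.span_singleton_le_iff_mem _ _).2 hx) hwS.1.1 hwn
    have hzK : z ∈ K := ⟨hz, fun h hh => hzx h hh⟩
    obtain ⟨p, hp, q, hq, hpq⟩ := Submodule.mem_sup.1 (hKle hzK)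
    obtain ⟨s, rfl⟩ := Submodule.mem_span_singleton.1 hq
    refine hwz ?_
    have h6 : polar Q w p = 0 := (hSle hp).2 w (Submodule.mem_span_singleton_self w)
    have h7 : polar Q w w = 0 := by rw [polar_self, hQw, smul_zero]
    rw [← hpq, polar_add_right, polar_smul_right, h6, hxe, polar_add_right, h7, hwu, add_zero,
      smul_zero, add_zero]
  -- a singular vector with anisotropic components
  have hAn : ∀ x ∈ U', Q x = 0 → Q (π x) ≠ 0 →
      ∀ b ∈ U', polar Q x b = 0 → π b ∈ Submodule.span F {π x} := by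
    intro x hx hQx hQu b hb hxb
    by_contra hbn
    set u := π x with hu_def
    set w := x - u with hw_def
    have hu : u ∈ U := hπU x
    have hw : w ∈ W := hπW x
    set U0 := U ⊓ perpS Q (Submodule.span F {u})
    have huu : polar Q u u ≠ 0 := by
      rw [polar_self, two_nsmul, ← two_mul]; exact mul_ne_zero h2 hQu
    have hu0' : ∀ d ∈ U0, polar Q u d = 0 := fun d hd =>
      hd.2 u (Submodule.mem_span_singleton_self u)
    have hU0 : ND Q U0 := by
      refine (Submodule.eq_bot_iff _).2 fun v hv => ND.eq_zero hU hv.1.1 fun y hy => ?_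
      have h := hv.2 (y - (polar Q u y / polar Q u u) • u) ⟨U.sub_mem hy (U.smul_mem _ hu),
        fun h hh => by
          obtain ⟨s, rfl⟩ := Submodule.mem_span_singleton.1 hh
          rw [polar_smul_left, polar_sub_right, polar_smul_right, smul_eq_mul, smul_eq_mul,
            div_mul_cancel₀ _ huu, sub_self, mul_zero]⟩
      rw [polar_sub_left, polar_smul_left, hu0' v hv.1, smul_zero, sub_zero] at h
      exact h
    have hU03 : 3 ≤ Module.finrank F U0 := by
      have := ND.finrank_inf_perp_singleton hQ U u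
      change Module.finrank F U ≤ Module.finrank F U0 + 1 at this
      omega
    have hxd : ∀ d ∈ U0, polar Q x d = 0 := fun d hd => (hsplit x d hd.1).trans (hu0' d hd)
    set d0 := π b - (polar Q u (π b) / polar Q u u) • u with hd0_def
    have hd0 : d0 ∈ U0 := ⟨U.sub_mem (hπU b) (U.smul_mem _ hu), fun h hh => by
      obtain ⟨s, rfl⟩ := Submodule.mem_span_singleton.1 hh
      rw [polar_smul_left, hd0_def, polar_sub_right, polar_smul_right, smul_eq_mul, smul_eq_mul,
        div_mul_cancel₀ _ huu, sub_self, mul_zero]⟩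
    have hd00 : d0 ≠ 0 := fun h => hbn (Submodule.mem_span_singleton.2
      ⟨polar Q u (π b) / polar Q u u, (sub_eq_zero.1 h).symm⟩)
    obtain ⟨e, he, hQe, hde⟩ := ND.exists_singular_partner hQ hU0 hU03 hd0 hd00
    obtain ⟨z, hz, hez, hzn⟩ := exists_perp_outside hQ h2 (X := U0) e hU03
    obtain ⟨c, hc, hec, hQc⟩ := aniso_perp hQ h2 hU0 he hz hez hzn
    have hbe : polar Q b e ≠ 0 := by
      rw [hsplit b e he.1]
      rwa [hd0_def, polar_sub_left, polar_smul_left, hu0' e he, smul_zero, sub_zero] at hde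
    obtain ⟨h4, h3⟩ := hmove x b hx hQx hxb (hmem x hx hQx b hb hxb) e c he.1 hc.1 hQe hec
      (hu0' e he) (hu0' c hc)
    have heq : (siegel Q e c).1 b - b =
        polar Q b e • c - (polar Q b c + Q c * polar Q b e) • e := by
      rw [siegel_apply hQe hec]; abel
    rw [heq] at h3 h4
    have hvne : polar Q b e • c - (polar Q b c + Q c * polar Q b e) • e ≠ 0 := fun h => by
      have h5 := congrArg (fun v => polar Q v c) h
      simp only [polar_sub_left, polar_smul_left, hec, polar_self, smul_eq_mul, mul_zero, sub_zero,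
        polar_zero_left, two_nsmul] at h5
      rw [← two_mul] at h5
      exact mul_ne_zero hbe (mul_ne_zero h2 hQc) h5
    have hall := fill hQ hU0 hU03 (fun d => siegel Q x d ∈ M) ?_ ?_ ?_
      (U0.sub_mem (U0.smul_mem _ hc) (U0.smul_mem _ he)) hvne h3
    rotate_left
    · intro a a' ha ha' h h'
      rw [← siegel_mul hQx (hxd a ha) (hxd a' ha')]; exact mul_mem h h'
    · intro a ha h
      rw [← siegel_inv hQx (hxd a ha)]; exact inv_mem h
    · intro e' c' he' hc' hQe' hec' q hq h
      have hs : siegel Q e' c' ∈ M := hM ⟨siegel_mem_stabO hQ hQe' hec' (Or.inl ⟨he'.1, hc'.1⟩),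
        siegel_mem_commutator hQ hn5 hQe' hec'⟩
      have := siegel_conj_mem hs hQx (hxd q hq) h
      rwa [siegel_fix hQe' hec' (hxd e' he') (hxd c' hc')] at this
    -- the commutator with a root element of `U`
    have hecM : siegel Q e c ∈ M := hM ⟨siegel_mem_stabO hQ hQe hec (Or.inl ⟨he.1, hc.1⟩),
      siegel_mem_commutator hQ hn5 hQe hec⟩
    have hxc : polar Q x c = 0 := hxd c hc
    have hex : polar Q e x = 0 := by rw [polar_comm]; exact hxd e he
    have h6 := siegel_conj_mem (hall c hc) hQe hec hecM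
    rw [siegel_fix hQx hxc hex hec, siegel_apply hQx hxc, polar_comm (⇑Q) c x, hxc, zero_smul,
      add_zero, mul_zero, add_zero, sub_eq_add_neg, ← neg_smul] at h6
    set t := -polar Q c c with ht
    have htne : t ≠ 0 := by
      rw [ht, polar_self, two_nsmul, ← two_mul]; exact neg_ne_zero.2 (mul_ne_zero h2 hQc)
    have hew : polar Q e (t • w) = 0 := by
      rw [polar_smul_right, show polar Q e w = 0 from hw e he.1, smul_zero]
    have heu : polar Q e (t • u) = 0 := by
      rw [polar_smul_right, polar_comm, hu0' e he, smul_zero]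
    rw [show t • x = t • u + t • w by rw [hw_def, ← smul_add, add_sub_cancel],
      ← siegel_mul hQe hec (by rw [polar_add_right, heu, hew, add_zero]),
      ← siegel_mul hQe heu hew] at h6
    have hwu : polar Q w u = 0 := by rw [polar_comm]; exact hw u hu
    have hw0 : w ≠ 0 := fun h => hQu (by
      rwa [show x = u from sub_eq_zero.1 h] at hQx)
    have he0 : e ≠ 0 := fun h => hde (by rw [h, polar_zero_right])
    have heuM : siegel Q e (t • u) ∈ M := hM ⟨siegel_mem_stabO hQ hQe heu
      (Or.inl ⟨he.1, U.smul_mem _ hu⟩), siegel_mem_commutator hQ hn5 hQe heu⟩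
    exact hM' (le_of_mixed hQ h2 hn hU hU4 hW3 hM (Or.inl rfl) he.1 he0 hQe (b := t • w)
      (W.smul_mem _ hw) (smul_ne_zero htne hw0)
      ((mul_mem_cancel_left heuM).1 ((mul_mem_cancel_left hecM).1 h6)))
  -- every singular vector of `U'` lies in `U`
  have hin : ∀ x ∈ U', Q x = 0 → x ∈ U := by
    intro x hx hQx
    rcases eq_or_ne x 0 with rfl | hx0
    · exact U.zero_mem
    by_contra hxU
    have hu0 : π x ≠ 0 := fun h => by
      have h1 := hπW x
      rw [h, sub_zero] at h1
      exact hx0 (hnW x hx h1 hQx)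
    have hw0 : x - π x ≠ 0 := fun h => hxU (by rw [sub_eq_zero.1 h]; exact hπU x)
    have hcl : ∀ y ∈ U', Q y = 0 → Q (π y) ≠ 0 →
        Module.finrank F U' ≤
          Module.finrank F (U' ⊓ perpS Q (Submodule.span F {y}) ⊓ W : Submodule F V) + 2 := by
      intro y hy hQy hQuy
      have hle : U' ⊓ perpS Q (Submodule.span F {y}) ≤
          (U' ⊓ perpS Q (Submodule.span F {y}) ⊓ W) ⊔ Submodule.span F {y} := by
        intro b hb
        obtain ⟨t, ht⟩ := Submodule.mem_span_singleton.1
          (hAn y hy hQy hQuy b hb.1 (hb.2 _ (Submodule.mem_span_singleton_self _)))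
        have hyy : t • y ∈ U' ⊓ perpS Q (Submodule.span F {y}) :=
          Submodule.smul_mem _ _ ⟨hy, fun h hh => by
            obtain ⟨s, rfl⟩ := Submodule.mem_span_singleton.1 hh
            rw [polar_smul_left, polar_self, hQy, smul_zero, smul_zero]⟩
        refine Submodule.mem_sup.2 ⟨b - t • y, ⟨Submodule.sub_mem _ hb hyy, ?_⟩,
          t • y, Submodule.smul_mem _ _ (Submodule.mem_span_singleton_self _), sub_add_cancel _ _⟩
        have e : b - t • y = (b - π b) - t • (y - π y) := by rw [smul_sub, ← ht]; abel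
        change b - t • y ∈ W
        rw [e]
        exact W.sub_mem (hπW b) (W.smul_mem _ (hπW y))
      have a1 := Submodule.finrank_mono hle
      have a2 := Submodule.finrank_add_le_finrank_add_finrank
        (U' ⊓ perpS Q (Submodule.span F {y}) ⊓ W) (Submodule.span F {y})
      have a4 : Module.finrank F (Submodule.span F {y}) ≤ 1 :=
        (finrank_span_le_card ({y} : Set V)).trans (by simp)
      have a3 := ND.finrank_inf_perp_singleton hQ U' y
      omega
    have hQu : Q (π x) ≠ 0 := fun h => hAB x hx hQx h hu0 hw0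
    have h1 := hcl x hx hQx hQu
    obtain ⟨l, hl, hl0⟩ := Submodule.exists_mem_ne_zero_of_ne_bot
      (p := U' ⊓ perpS Q (Submodule.span F {x}) ⊓ W) fun h => by
        rw [h, finrank_bot] at h1; omega
    obtain ⟨x', hx', hQx', hlx'⟩ :=
      ND.exists_singular_partner hQ hU' (by omega) hl.1.1 hl0
    have hx'0 : x' ≠ 0 := fun h => hlx' (by rw [h, polar_zero_right])
    have hu0' : π x' ≠ 0 := fun h => by
      have h1 := hπW x'
      rw [h, sub_zero] at h1
      exact hx'0 (hnW x' hx' h1 hQx')
    have hw0' : x' - π x' ≠ 0 := fun h => hlx' (by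
      rw [polar_comm]
      exact hl.2 x' (by rw [sub_eq_zero.1 h]; exact hπU x'))
    have h2' := hcl x' hx' hQx' fun h => hAB x' hx' hQx' h hu0' hw0'
    have hlt' : U' ⊓ perpS Q (Submodule.span F {x'}) ⊓ W < U' ⊓ W := by
      refine lt_of_le_of_ne (inf_le_inf_right _ inf_le_left) fun h => hlx' ?_
      have : l ∈ U' ⊓ perpS Q (Submodule.span F {x'}) ⊓ W := h.symm ▸ ⟨hl.1.1, hl.2⟩
      rw [polar_comm]
      exact this.1.2 x' (Submodule.mem_span_singleton_self x')
    have a1 := Submodule.finrank_lt_finrank_of_lt hlt'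
    have heqW : U' ⊓ W = W := Submodule.eq_of_le_of_finrank_le inf_le_right (by omega)
    obtain ⟨z, hz, hz0, hQz⟩ := exists_singular_of_three (Q := Q) W (by omega)
    exact hz0 (hnW z (heqW.symm ▸ hz : z ∈ U' ⊓ W).1 hz hQz)
  obtain ⟨x, hx, hx0, hQx⟩ := exists_singular_of_three (Q := Q) U' (by omega)
  obtain ⟨y, hy, hQy, hxy⟩ := ND.singular_partner hU' hx hx0 hQx
  refine hnU fun v hv => ?_
  have h1 := hK U (Or.inl rfl) x hx (hin x hx hQx) hx0 hQx (v - (polar Q x v / polar Q x y) • y)
    (U'.sub_mem hv (U'.smul_mem _ hy))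
    (by rw [polar_sub_right, polar_smul_right, smul_eq_mul, div_mul_cancel₀ _ hxy, sub_self])
  have h3 := U.add_mem h1 (U.smul_mem (polar Q x v / polar Q x y) (hin y hy hQy))
  rwa [sub_add_cancel] at h3

omit hM

/-- Maximality. -/
theorem maximal (hlt : Module.finrank F (perpS Q U) < Module.finrank F U) :
    Cfsg.Geo.IsMaximalIn (commutator (oGroup Q)) (stabO Q U ⊓ commutator (oGroup Q)) := by
  refine isMaximalIn_of ?_ fun _ a _ c => key hQ h2 hn hU hU4 hW3 a hlt c
  intro hle
  obtain ⟨b, hb, hb0⟩ := Submodule.exists_mem_ne_zero_of_ne_bot (p := perpS Q U)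
    fun h => by rw [h, finrank_bot] at hW3; omega
  obtain ⟨u, hu, hu0, hQu⟩ := exists_singular_of_three (Q := Q) U (by omega)
  obtain ⟨y, hy, huy⟩ := ND.partner hU hu hu0
  have hub : polar Q u b = 0 := hb u hu
  have h := (hle (siegel_mem_commutator hQ (by omega) hQu hub) y).2 hy
  rw [siegel_apply hQu hub] at h
  have h4 := U.add_mem h (U.smul_mem (polar Q y b + Q b * polar Q y u) hu)
  rw [sub_add_cancel] at h4
  have h3 := U.sub_mem h4 hy
  rw [add_sub_cancel_left] at h3
  exact smul_ne_zero (by rwa [polar_comm]) hb0 (ND.eq_zero hU h3 (Submodule.smul_mem _ _ hb))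

end CfsgLib.Geo.OS.NDLow

namespace CfsgLib.Geo.OS

open QuadraticMap CfsgLib.Forms CfsgLib.Quad

variable {F : Type*} [Field F] [Finite F] {ι : Type} [Fintype ι] [DecidableEq ι]
  {Q : QuadraticForm F (ι → F)}

/-- Maximality for a non-degenerate subspace in odd dimension at least seven, odd characteristic. -/
theorem nondeg_subspace_maximal_odd (hQ : (polarBilin Q).Nondegenerate) (h2 : (2 : F) ≠ 0)
    (hn : 7 ≤ Fintype.card ι) (hodd : Odd (Fintype.card ι)) {W : Submodule F (ι → F)}
    (hW0 : W ≠ ⊥) (hW1 : W ≠ ⊤) (hW : ND Q W)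
    (hq : ∀ S : Submodule F (ι → F), S = W ∨ S = perpS Q W → Module.finrank F S = 2 →
      (∀ x ∈ S, Q x = 0 → x = 0) ∨ 4 ≤ Nat.card F) :
    Cfsg.Geo.IsMaximalIn (Cfsg.Geo.omegaGL ⇑Q)
      (Cfsg.Geo.subspaceStabilizer W ⊓ Cfsg.Geo.omegaGL ⇑Q) := by
  refine isMaximalIn_omegaGL Q W ?_
  have hd : Module.finrank F (ι → F) = Fintype.card ι := Module.finrank_fintype_fun_eq_card F
  have hsum := finrank_perpS hQ W
  obtain ⟨k, hk⟩ := hodd
  have hpp : perpS Q (perpS Q W) = W := perpS_perpS hQ W
  have htop : perpS Q W ≠ ⊥ := fun h => by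
    rw [h] at hpp
    exact hW1 (hpp ▸ eq_top_iff.2 fun x _ y hy => by
      rw [(Submodule.mem_bot F).1 hy]; exact polar_zero_left Q x)
  have hswap : ∀ X : Submodule F (ι → F), Module.finrank F (perpS Q X) < Module.finrank F X →
      ∀ g : oGroup Q, ¬ ∀ x ∈ X, g.1 x ∈ perpS Q X := fun X hX g hg => by
    have h1 : X.map g.1.toLinearMap ≤ perpS Q X := by
      rintro _ ⟨x, hx, rfl⟩; exact hg x hx
    have := Submodule.finrank_mono h1
    rw [LinearEquiv.finrank_map_eq] at this
    omega
  rcases Nat.lt_or_ge (Module.finrank F (perpS Q W)) (Module.finrank F W) with hbig | hbig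
  · by_cases h5 : 5 ≤ Module.finrank F W
    · exact nondeg_maximal hQ (by omega) hW h5 htop (hq _ (Or.inr rfl)) hbig.le (hswap W hbig)
    · exact NDLow.maximal hQ h2 (by omega) hW (by omega) (by omega) hbig
  · have hbig' : Module.finrank F (perpS Q (perpS Q W)) < Module.finrank F (perpS Q W) := by
      rw [hpp]; omega
    rw [← stabO_perp_eq hQ]
    by_cases h5 : 5 ≤ Module.finrank F (perpS Q W)
    · refine nondeg_maximal hQ (by omega) (ND.perp hQ hW) h5 (by rwa [hpp]) ?_ hbig'.le
        (hswap _ hbig')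
      rw [hpp]; exact hq _ (Or.inl rfl)
    · exact NDLow.maximal hQ h2 (by omega) (ND.perp hQ hW) (by omega) (by rw [hpp]; omega) hbig'

end CfsgLib.Geo.OS
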