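import Cfsg.Agent.Geo.OrthSingular
import Mathlib.LinearAlgebra.Projection

/-!
Tools for the stabiliser of a non-degenerate subspace in `Ω`.
-/

set_option autoImplicit false
set_option linter.unusedSectionVars false

namespace CfsgLib.Geo.OS

open QuadraticMap CfsgLib.Forms CfsgLib.Quad

variable {F V : Type*} [Field F] [AddCommGroup V] [Module F V] [FiniteDimensional F V] [Finite F]
  {Q : QuadraticForm F V} (hQ : (polarBilin Q).Nondegenerate) (hn : 7 ≤ Module.finrank F V)

/-- A non-degenerate subspace. -/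
def ND (Q : QuadraticForm F V) (X : Submodule F V) : Prop := X ⊓ perpS Q X = ⊥

theorem ND.partner {X : Submodule F V} (hX : ND Q X) {x : V} (hx : x ∈ X) (h0 : x ≠ 0) :
    ∃ y ∈ X, polar Q x y ≠ 0 := by
  by_contra hc
  push Not at hc
  have : x ∈ X ⊓ perpS Q X := ⟨hx, fun h hh => by rw [polar_comm]; exact hc h hh⟩
  rw [hX] at this
  exact h0 this

theorem ND.eq_zero {X : Submodule F V} (hX : ND Q X) {x : V} (hx : x ∈ X) (hx' : x ∈ perpS Q X) :
    x = 0 := (Submodule.mem_bot F).1 (hX ▸ (⟨hx, hx'⟩ : x ∈ X ⊓ perpS Q X))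

include hQ

theorem ND.perp {X : Submodule F V} (hX : ND Q X) : ND Q (perpS Q X) := by
  rw [ND, perpS_perpS hQ, inf_comm]; exact hX

theorem ND.isCompl {X : Submodule F V} (hX : ND Q X) : IsCompl X (perpS Q X) := by
  refine ⟨disjoint_iff.2 hX, codisjoint_iff.2 (Submodule.eq_top_of_finrank_eq ?_)⟩
  have h1 := Submodule.finrank_sup_add_finrank_inf_eq X (perpS Q X)
  rw [hX, finrank_bot, add_zero] at h1
  rw [h1, finrank_perpS hQ]

theorem ND.decomp {X : Submodule F V} (hX : ND Q X) (v : V) :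
    ∃ x ∈ X, ∃ y ∈ perpS Q X, v = x + y := by
  have : v ∈ X ⊔ perpS Q X := by rw [(ND.isCompl hQ hX).sup_eq_top]; trivial
  obtain ⟨x, hx, y, hy, h⟩ := Submodule.mem_sup.1 this
  exact ⟨x, hx, y, hy, h.symm⟩

theorem ND.finrank_inf_perp (X S : Submodule F V) :
    Module.finrank F X ≤ Module.finrank F (X ⊓ perpS Q S : Submodule F V) + Module.finrank F S := by
  have h1 := Submodule.finrank_sup_add_finrank_inf_eq X (perpS Q S)
  have h2 := finrank_perpS hQ S
  have h3 := Submodule.finrank_le (X ⊔ perpS Q S)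
  change Module.finrank F X ≤ Module.finrank F ↥(X ⊓ perpS Q S) + _
  omega

theorem ND.finrank_inf_perp_singleton (X : Submodule F V) (x : V) :
    Module.finrank F X ≤ Module.finrank F (X ⊓ perpS Q (Submodule.span F {x}) : Submodule F V) + 1 :=
  (ND.finrank_inf_perp hQ X _).trans
    (Nat.add_le_add_left ((finrank_span_le_card ({x} : Set V)).trans (by simp)) _)

/-- A vector of `X` orthogonal to `S` and not to `z`. -/
theorem ND.partner_perp {X S : Submodule F V} (hX : ND Q X) (hS : S ≤ X) {z : V} (hz : z ∈ X)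
    (hzS : z ∉ S) : ∃ y ∈ X, (∀ s ∈ S, polar Q s y = 0) ∧ polar Q z y ≠ 0 := by
  by_contra hc
  push Not at hc
  refine hzS ?_
  have hz' : z ∈ perpS Q X ⊔ S := by
    rw [← perpS_perpS hQ (perpS Q X ⊔ S)]
    intro h hh
    rw [polar_comm]
    refine hc h ?_ fun s hs => hh s (Submodule.mem_sup_right hs)
    rw [← perpS_perpS hQ X]
    exact fun a ha => hh a (Submodule.mem_sup_left ha)
  obtain ⟨p, hp, s, hs, rfl⟩ := Submodule.mem_sup.1 hz'
  have hp0 : p = 0 := ND.eq_zero hX (by simpa using X.sub_mem hz (hS hs)) hp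
  rw [hp0, zero_add]; exact hs

theorem ND.map {X : Submodule F V} (hX : ND Q X) (g : oGroup Q) :
    ND Q (X.map g.1.toLinearMap) := by
  refine (Submodule.eq_bot_iff _).2 fun v hv => ?_
  obtain ⟨⟨x, hx, rfl⟩, hv2⟩ := hv
  have : x = 0 := ND.eq_zero hX hx fun h hh => by
    rw [← polar_oGroup g]
    exact hv2 _ ⟨h, hh, rfl⟩
  simp [this]

/-- In a non-degenerate space of dimension at least three every non-zero vector is non-orthogonal
to a singular one. -/
theorem ND.exists_singular_partner {X : Submodule F V} (hX : ND Q X) (h3 : 3 ≤ Module.finrank F X)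
    {b : V} (hb : b ∈ X) (hb0 : b ≠ 0) : ∃ e ∈ X, Q e = 0 ∧ polar Q b e ≠ 0 := by
  obtain ⟨z, hz, hz0, hQz⟩ := exists_singular_of_three (Q := Q) X h3
  obtain ⟨y, hy, hzy⟩ := ND.partner hX hz hz0
  by_contra hc
  push Not at hc
  obtain ⟨x, hx, hbx⟩ := ND.partner hX hb hb0
  rw [← span_singular_eq hQ hz hy hQz hzy] at hx
  refine hbx ?_
  clear hbx
  induction hx using Submodule.span_induction with
  | mem a ha => exact hc a ha.1 ha.2
  | zero => exact polar_zero_right Q b
  | add a a' _ _ h h' => rw [polar_add_right, h, h', add_zero]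
  | smul t a _ h => rw [polar_smul_right, h, smul_zero]

omit hQ in
theorem ND.singular_partner {X : Submodule F V} (hX : ND Q X) {z : V} (hz : z ∈ X) (h0 : z ≠ 0)
    (hQz : Q z = 0) : ∃ f ∈ X, Q f = 0 ∧ polar Q z f ≠ 0 := by
  obtain ⟨y, hy, hzy⟩ := ND.partner hX hz h0
  refine ⟨y + (-(Q y / polar Q z y)) • z, X.add_mem hy (X.smul_mem _ hz), ?_, ?_⟩
  · rw [quad_add, quad_smul, hQz, polar_smul_right, polar_comm (⇑Q) y z, smul_eq_mul]
    field_simp; ring
  · rw [polar_add_right, polar_smul_right, polar_self, hQz, smul_zero, smul_zero, add_zero]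
    exact hzy

/-- An additive set in a non-degenerate space of dimension at least three invariant under the
Siegel transformations of that space is everything. -/
theorem fill {X : Submodule F V} (hX : ND Q X) (h3 : 3 ≤ Module.finrank F X) (P : V → Prop)
    (hadd : ∀ a b, a ∈ X → b ∈ X → P a → P b → P (a + b))
    (hneg : ∀ a, a ∈ X → P a → P (-a))
    (hinv : ∀ e c, e ∈ X → c ∈ X → Q e = 0 → polar Q e c = 0 →
      ∀ b, b ∈ X → P b → P ((siegel Q e c).1 b))
    {b : V} (hb : b ∈ X) (hb0 : b ≠ 0) (hPb : P b) : ∀ x ∈ X, P x := by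
  have hpair : ∀ e, e ∈ X → ∃ c1 ∈ X, ∃ c2 ∈ X,
      polar Q e c1 = 0 ∧ polar Q e c2 = 0 ∧ polar Q c1 c2 ≠ 0 := by
    intro e he
    by_contra hc
    push Not at hc
    set Y : Submodule F V := X ⊓ perpS Q (Submodule.span F {e})
    have hY : ∀ c ∈ Y, polar Q e c = 0 := fun c hcY =>
      hcY.2 e (Submodule.mem_span_singleton_self e)
    have hle : Y ⊔ perpS Q X ≤ perpS Q Y := by
      refine sup_le (fun c hcY h hh => hc h hh.1 c hcY.1 (hY h hh) (hY c hcY))
        fun c hcp h hh => hcp h hh.1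
    have h1 := Submodule.finrank_sup_add_finrank_inf_eq Y (perpS Q X)
    have h0 : Y ⊓ perpS Q X = ⊥ := (Submodule.eq_bot_iff _).2 fun v hv => ND.eq_zero hX hv.1.1 hv.2
    rw [h0, finrank_bot, add_zero] at h1
    have h2 := Submodule.finrank_mono hle
    have h4 := finrank_perpS hQ Y
    have h5 := finrank_perpS hQ X
    have h6 := ND.finrank_inf_perp_singleton hQ X e
    change Module.finrank F X ≤ Module.finrank F ↥Y + 1 at h6
    omega
  have hdiff : ∀ b e c, b ∈ X → P b → e ∈ X → Q e = 0 → c ∈ X → polar Q e c = 0 →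
      polar Q b e • c - (polar Q b c + Q c * polar Q b e) • e ∈ X ∧
      P (polar Q b e • c - (polar Q b c + Q c * polar Q b e) • e) := by
    intro b e c hb hPb he hQe hc hec
    have hm := X.sub_mem (X.smul_mem (polar Q b e) hc)
      (X.smul_mem (polar Q b c + Q c * polar Q b e) he)
    refine ⟨hm, ?_⟩
    have h := hinv e c he hc hQe hec b hb hPb
    rw [siegel_apply hQe hec, add_sub_assoc] at h
    have := hadd _ _ (X.add_mem hb hm) (X.neg_mem hb) h (hneg b hb hPb)
    rwa [add_neg_eq_iff_eq_add.2 (add_comm b _)] at this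
  have hstep : ∀ b e, b ∈ X → P b → e ∈ X → Q e = 0 → polar Q b e ≠ 0 →
      (∀ t : F, P (t • e)) ∧ ∀ c ∈ X, polar Q e c = 0 → P c := by
    intro b e hb hPb he hQe hbe
    obtain ⟨c1, hc1, c2, hc2, he1, he2, h12⟩ := hpair e he
    have hall : ∀ t : F, P (t • e) := by
      intro t
      set s := -t / (polar Q b e * polar Q c1 c2) with hs
      obtain ⟨m1, p1⟩ := hdiff b e (s • c1) hb hPb he hQe (X.smul_mem s hc1)
        (by rw [polar_smul_right, he1, smul_zero])
      obtain ⟨m2, p2⟩ := hdiff b e c2 hb hPb he hQe hc2 he2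
      obtain ⟨m3, p3⟩ := hdiff b e (s • c1 + c2) hb hPb he hQe
        (X.add_mem (X.smul_mem s hc1) hc2)
        (by rw [polar_add_right, polar_smul_right, he1, he2, smul_zero, add_zero])
      have := hadd _ _ m3 (X.neg_mem (X.add_mem m1 m2)) p3
        (hneg _ (X.add_mem m1 m2) (hadd _ _ m1 m2 p1 p2))
      convert this using 1
      rw [polar_add_right, quad_add, polar_smul_left, smul_eq_mul, hs]
      match_scalars <;> field_simp <;> ring
    refine ⟨hall, fun c hc hec => ?_⟩
    obtain ⟨m, p⟩ := hdiff b e ((polar Q b e)⁻¹ • c) hb hPb he hQe (X.smul_mem _ hc)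
      (by rw [polar_smul_right, hec, smul_zero])
    have := hadd _ _ m (X.smul_mem _ he) p
      (hall (polar Q b ((polar Q b e)⁻¹ • c) + Q ((polar Q b e)⁻¹ • c) * polar Q b e))
    rwa [sub_add_cancel, smul_smul, mul_inv_cancel₀ hbe, one_smul] at this
  obtain ⟨e, he, hQe, hbe⟩ := ND.exists_singular_partner hQ hX h3 hb hb0
  have hY := (hstep b e hb hPb he hQe hbe).2
  have hee : polar Q e e = 0 := by rw [polar_self, hQe, smul_zero]
  obtain ⟨b', hb', hPb', hb'e, hQb'⟩ :
      ∃ b' ∈ X, P b' ∧ polar Q b' e ≠ 0 ∧ Q b' ≠ 0 := by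
    by_cases hQb : Q b = 0
    swap
    · exact ⟨b, hb, hPb, hbe, hQb⟩
    obtain ⟨c, hc, hec, hne⟩ : ∃ c ∈ X, polar Q e c = 0 ∧ Q c + polar Q b c ≠ 0 := by
      by_contra hcc
      push Not at hcc
      obtain ⟨c1, hc1, c2, hc2, he1, he2, h12⟩ := hpair e he
      have h := hcc (c1 + c2) (X.add_mem hc1 hc2)
        (by rw [polar_add_right, he1, he2, add_zero])
      rw [quad_add, polar_add_right] at h
      exact h12 (by linear_combination h - hcc c1 hc1 he1 - hcc c2 hc2 he2)
    refine ⟨b + c, X.add_mem hb hc, hadd _ _ hb hc hPb (hY c hc hec), ?_, ?_⟩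
    · rw [polar_add_left, polar_comm (⇑Q) c e, hec, add_zero]; exact hbe
    · rw [quad_add, hQb, zero_add]; exact hne
  set z := b' + (-(Q b' / polar Q b' e)) • e with hz_def
  have hz : z ∈ X := X.add_mem hb' (X.smul_mem _ he)
  have hQz : Q z = 0 := by
    rw [hz_def, quad_add, quad_smul, hQe, polar_smul_right, smul_eq_mul]
    field_simp; ring
  have hbz : polar Q b' z ≠ 0 := by
    rw [hz_def, polar_add_right, polar_self, polar_smul_right, two_nsmul, smul_eq_mul, neg_mul,
      div_mul_cancel₀ _ hb'e, add_neg_cancel_right]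
    exact hQb'
  have hzall := (hstep b' z hb' hPb' hz hQz hbz).1
  have hez : polar Q e z = polar Q b' e := by
    rw [hz_def, polar_add_right, polar_smul_right, hee, smul_zero, add_zero, polar_comm]
  intro x hx
  set t := polar Q e x / polar Q e z with ht
  have := hadd _ _ (X.sub_mem hx (X.smul_mem t hz)) (X.smul_mem t hz)
    (hY (x - t • z) (X.sub_mem hx (X.smul_mem t hz))
      (by rw [polar_sub_right, polar_smul_right, smul_eq_mul, ht,
        div_mul_cancel₀ _ (by rw [hez]; exact hb'e), sub_self])) (hzall t)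
  rwa [sub_add_cancel] at this

omit [Finite F] in
/-- The Siegel transformations of `X` or of its orthogonal space stabilise `X`. -/
theorem siegel_mem_stabO {X : Submodule F V} {e a : V} (he : Q e = 0) (hea : polar Q e a = 0)
    (h : (e ∈ X ∧ a ∈ X) ∨ (e ∈ perpS Q X ∧ a ∈ perpS Q X)) : siegel Q e a ∈ stabO Q X := by
  refine mem_stabO_of_le fun x hx => ?_
  rcases h with ⟨h1, h2⟩ | ⟨h1, h2⟩
  · rw [siegel_apply he hea]
    exact X.sub_mem (X.add_mem hx (X.smul_mem _ h2)) (X.smul_mem _ h1)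
  · rw [siegel_fix he hea (h1 x hx) (h2 x hx)]; exact hx

omit [Finite F] in
theorem refl_mem_stabO {X : Submodule F V} {d : V} (h : d ∈ X ∨ d ∈ perpS Q X) :
    refl Q d ∈ stabO Q X := by
  refine mem_stabO_of_le fun x hx => ?_
  rcases h with h | h
  · rw [refl_apply]; exact X.add_mem hx (X.smul_mem _ h)
  · rw [refl_fix (h x hx)]; exact hx

omit hQ [Finite F] in
/-- A Siegel transformation with totally singular data is linear in the centre. -/
theorem siegel_add_left {w u b : V} (hw : Q w = 0) (hu : Q u = 0) (hb : Q b = 0)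
    (hwu : polar Q w u = 0) (hwb : polar Q w b = 0) (hub : polar Q u b = 0) :
    siegel Q (w + u) b = siegel Q w b * siegel Q u b := by
  refine Subtype.ext (LinearEquiv.ext fun x => ?_)
  change _ = (siegel Q w b).1 ((siegel Q u b).1 x)
  rw [siegel_apply (by rw [quad_add, hw, hu, hwu, add_zero, add_zero])
      (by rw [polar_add_left, hwb, hub, add_zero]),
    siegel_apply hw hwb, siegel_apply hu hub]
  simp only [polar_add_right, polar_sub_left, polar_add_left, polar_smul_left, polar_self, hb,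
    polar_comm (⇑Q) b w, polar_comm (⇑Q) u w, hwu, hwb, hub, smul_zero, zero_mul, add_zero,
    sub_zero, smul_eq_mul, mul_zero]
  module

/-- `Q` takes every value on a large non-degenerate space, orthogonally to a singular vector. -/
theorem exists_value_on {U : Submodule F V} (hU : ND Q U) (hU7 : 5 ≤ Module.finrank F U)
    {u : V} (hu : u ∈ U) (c : F) : ∃ d ∈ U, polar Q u d = 0 ∧ Q d = c := by
  have h1 := ND.finrank_inf_perp_singleton hQ U u
  have h2 : Module.finrank F (Submodule.span F {u}) ≤ 1 :=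
    (finrank_span_le_card ({u} : Set V)).trans (by simp)
  obtain ⟨z, ⟨hz, hzu⟩, hQz, hznu⟩ :=
    exists_singular_outside hQ (U ⊓ perpS Q (Submodule.span F {u})) (Submodule.span F {u}) (by
      change _ + 3 ≤ Module.finrank F ↥(U ⊓ perpS Q (Submodule.span F {u}))
      omega)
  obtain ⟨y, hy, hyu, hzy⟩ := ND.partner_perp hQ hU
    ((Submodule.span_singleton_le_iff_mem _ _).2 hu) hz hznu
  have huz : polar Q u z = 0 := hzu u (Submodule.mem_span_singleton_self u)
  refine ⟨y + ((c - Q y) / polar Q z y) • z, U.add_mem hy (U.smul_mem _ hz), ?_, ?_⟩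
  · rw [polar_add_right, polar_smul_right, huz, hyu u (Submodule.mem_span_singleton_self u)]; simp
  · rw [quad_add, quad_smul, hQz, polar_smul_right, polar_comm (⇑Q) y z, smul_eq_mul]
    field_simp; ring

include hn

/-- Scaling a singular vector of `U` by an element of `Ω` fixing the orthogonal space. -/
theorem exists_scale {U : Submodule F V} (hU : ND Q U) (hU7 : 5 ≤ Module.finrank F U)
    {u : V} (hu : u ∈ U) (hu0 : u ≠ 0) (hQu : Q u = 0) {t : F} (ht : t ≠ 0) :
    ∃ g ∈ stabO Q U ⊓ commutator (oGroup Q), g.1 u = t • u ∧ ∀ x ∈ perpS Q U, g.1 x = x := by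
  have hn5 : 5 ≤ Module.finrank F V := by omega
  have h1 := ND.finrank_inf_perp_singleton hQ U u
  have h2 : Module.finrank F (Submodule.span F {u}) ≤ 1 :=
    (finrank_span_le_card ({u} : Set V)).trans (by simp)
  obtain ⟨v, ⟨hv, hvu⟩, hQv, hvnu⟩ :=
    exists_singular_outside hQ (U ⊓ perpS Q (Submodule.span F {u})) (Submodule.span F {u}) (by
      change _ + 3 ≤ Module.finrank F ↥(U ⊓ perpS Q (Submodule.span F {u}))
      omega)
  have huv : polar Q u v = 0 := hvu u (Submodule.mem_span_singleton_self u)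
  have hunv : u ∉ Submodule.span F {v} := fun h => by
    obtain ⟨s, hs⟩ := Submodule.mem_span_singleton.1 h
    have hs0 : s ≠ 0 := fun h0 => hu0 (by rw [← hs, h0, zero_smul])
    exact hvnu (Submodule.mem_span_singleton.2 ⟨s⁻¹,
      by rw [← hs, smul_smul, inv_mul_cancel₀ hs0, one_smul]⟩)
  obtain ⟨yu, hyu, hyuv, hyu1⟩ := ND.partner_perp hQ hU
    ((Submodule.span_singleton_le_iff_mem _ _).2 hv) hu hunv
  obtain ⟨yv, hyv, hyvu, hyv1⟩ := ND.partner_perp hQ hU
    ((Submodule.span_singleton_le_iff_mem _ _).2 hu) hv hvnu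
  have huu : polar Q u u = 0 := by rw [polar_self, hQu, smul_zero]
  have hval : ∀ α β : F, α ≠ 0 → ∃ e ∈ U, Q e = 0 ∧ polar Q e u = α ∧ polar Q e v = β := by
    intro α β hα
    set y := (α / polar Q u yu) • yu + (β / polar Q v yv) • yv with hy
    have hy1 : polar Q u y = α := by
      rw [hy, polar_add_right, polar_smul_right, polar_smul_right,
        hyvu u (Submodule.mem_span_singleton_self u), smul_zero, add_zero, smul_eq_mul,
        div_mul_cancel₀ _ hyu1]
    have hy2 : polar Q v y = β := by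
      rw [hy, polar_add_right, polar_smul_right, polar_smul_right,
        hyuv v (Submodule.mem_span_singleton_self v), smul_zero, zero_add, smul_eq_mul,
        div_mul_cancel₀ _ hyv1]
    refine ⟨y + (-(Q y / α)) • u, U.add_mem (U.add_mem (U.smul_mem _ hyu) (U.smul_mem _ hyv))
      (U.smul_mem _ hu), ?_, ?_, ?_⟩
    · rw [quad_add, quad_smul, hQu, polar_smul_right, polar_comm (⇑Q) y u, hy1, smul_eq_mul]
      field_simp; ring
    · rw [polar_add_left, polar_smul_left, huu, smul_zero, add_zero, polar_comm, hy1]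
    · rw [polar_add_left, polar_smul_left, huv, smul_zero, add_zero, polar_comm, hy2]
  obtain ⟨e1, he1, hQe1, he1u, he1v⟩ := hval 1 1 one_ne_zero
  obtain ⟨e2, he2, hQe2, he2u, he2v⟩ := hval t⁻¹ 1 (inv_ne_zero ht)
  obtain ⟨ha1, hm1⟩ := siegel_move hQe1 hQu hQv he1u he1v
  obtain ⟨ha2, hm2⟩ := siegel_move hQe2 hQv (h := t • u) (by rw [quad_smul, hQu, mul_zero]) he2v
    (by rw [polar_smul_right, he2u, smul_eq_mul, mul_inv_cancel₀ ht])
  refine ⟨siegel Q e2 (t • u - v) * siegel Q e1 (v - u),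
    mul_mem ⟨siegel_mem_stabO hQ hQe2 ha2 (Or.inl ⟨he2, U.sub_mem (U.smul_mem _ hu) hv⟩),
      siegel_mem_commutator hQ hn5 hQe2 ha2⟩
    ⟨siegel_mem_stabO hQ hQe1 ha1 (Or.inl ⟨he1, U.sub_mem hv hu⟩),
      siegel_mem_commutator hQ hn5 hQe1 ha1⟩, ?_, fun x hx => ?_⟩
  · change (siegel Q e2 (t • u - v)).1 ((siegel Q e1 (v - u)).1 u) = _
    rw [hm1, hm2]
  · have hp : ∀ a ∈ U, polar Q x a = 0 := fun a ha => by rw [polar_comm]; exact hx a ha
    change (siegel Q e2 (t • u - v)).1 ((siegel Q e1 (v - u)).1 x) = x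
    rw [siegel_fix hQe1 ha1 (hp _ he1) (hp _ (U.sub_mem hv hu)),
      siegel_fix hQe2 ha2 (hp _ he2) (hp _ (U.sub_mem (U.smul_mem _ hu) hv))]

end CfsgLib.Geo.OS
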