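import Cfsg.Agent.Geo.OrthNondegTools
import Mathlib.LinearAlgebra.Basis.Basic

/-!
Rational structures on quadratic spaces: an `F₀`-span of a basis on which the form takes values in
the subfield `F₀`, the rational form, and extension of rational subspaces.
-/

set_option autoImplicit false
set_option linter.unusedSectionVars false
set_option linter.style.haveILetI false

namespace CfsgLib.Geo.OS

open QuadraticMap CfsgLib.Forms CfsgLib.Quad

variable {F : Type*} [Field F] {V : Type*} [AddCommGroup V] [Module F V]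

/-- A rational structure. -/
structure RatStr (Q : QuadraticForm F V) (F₀ : Subfield F) (R : Submodule F₀ V) : Prop where
  exists_basis : ∃ (n : ℕ) (b : Module.Basis (Fin n) F V), R = Submodule.span F₀ (Set.range b)
  rat : ∀ x ∈ R, Q x ∈ F₀

variable {Q : QuadraticForm F V} {F₀ : Subfield F} {R : Submodule F₀ V}

theorem RatStr.polar_mem (hR : RatStr Q F₀ R) {x y : V} (hx : x ∈ R) (hy : y ∈ R) :
    polar Q x y ∈ F₀ :=
  F₀.sub_mem (F₀.sub_mem (hR.rat _ (R.add_mem hx hy)) (hR.rat x hx)) (hR.rat y hy)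

/-- The rational quadratic form. -/
noncomputable def ratForm (hR : RatStr Q F₀ R) : QuadraticForm F₀ R :=
  QuadraticMap.ofPolar (fun x => ⟨Q x.1, hR.rat x.1 x.2⟩)
    (fun a x => Subtype.ext (quad_smul Q (a : F) x.1))
    (fun x x' y => Subtype.ext (polar_add_left Q x.1 x'.1 y.1))
    (fun a x y => Subtype.ext (polar_smul_left Q (a : F) x.1 y.1))

theorem ratForm_coe (hR : RatStr Q F₀ R) (x : R) : ((ratForm hR x : F₀) : F) = Q x.1 := rfl

theorem ratForm_polar (hR : RatStr Q F₀ R) (x y : R) :
    ((polar (⇑(ratForm hR)) x y : F₀) : F) = polar Q x.1 y.1 := rfl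

theorem ratForm_eq_zero (hR : RatStr Q F₀ R) {x : R} : ratForm hR x = 0 ↔ Q x.1 = 0 :=
  Subtype.ext_iff

theorem ratForm_polar_eq_zero (hR : RatStr Q F₀ R) {x y : R} :
    polar (ratForm hR) x y = 0 ↔ polar Q x.1 y.1 = 0 :=
  Subtype.ext_iff

/-- The `F`-subspace generated by a rational subspace. -/
def ext (S : Submodule F₀ R) : Submodule F V := Submodule.span F (Subtype.val '' (S : Set R))

theorem mem_ext {S : Submodule F₀ R} {x : R} (hx : x ∈ S) : x.1 ∈ ext S :=
  Submodule.subset_span ⟨x, hx, rfl⟩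

theorem ext_induction {S : Submodule F₀ R} {p : V → Prop} (h0 : p 0)
    (hadd : ∀ x y, p x → p y → p (x + y)) (hmem : ∀ (c : F) (x : R), x ∈ S → p (c • x.1)) {v : V}
    (hv : v ∈ ext S) : p v := by
  suffices ∀ c : F, p (c • v) by simpa using this 1
  induction hv using Submodule.span_induction with
  | mem y hy => obtain ⟨x, hx, rfl⟩ := hy; exact fun c => hmem c x hx
  | zero => intro c; rwa [smul_zero]
  | add a b _ _ ha hb => intro c; rw [smul_add]; exact hadd _ _ (ha c) (hb c)
  | smul t a _ ha => intro c; rw [smul_smul]; exact ha _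

theorem ext_mono {S T : Submodule F₀ R} (h : S ≤ T) : ext S ≤ ext T :=
  Submodule.span_mono (Set.image_mono h)

theorem ext_le {S : Submodule F₀ R} {X : Submodule F V} (h : ∀ x ∈ S, x.1 ∈ X) : ext S ≤ X := by
  refine Submodule.span_le.2 ?_
  rintro _ ⟨x, hx, rfl⟩
  exact h x hx

theorem ext_sup (S T : Submodule F₀ R) : ext (S ⊔ T) = ext S ⊔ ext T := by
  refine le_antisymm (ext_le fun x hx => ?_) (sup_le (ext_mono le_sup_left) (ext_mono le_sup_right))
  obtain ⟨a, ha, b, hb, rfl⟩ := Submodule.mem_sup.1 hx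
  exact Submodule.add_mem_sup (mem_ext ha) (mem_ext hb)

theorem ext_bot : ext (⊥ : Submodule F₀ R) = ⊥ :=
  le_bot_iff.1 (ext_le fun x hx => by rw [(Submodule.mem_bot F₀).1 hx]; rfl)

/-- A linear map preserving rational vectors, applied to an extended subspace. -/
theorem map_ext_le {S T : Submodule F₀ R} {φ : V →ₗ[F] V}
    (h : ∀ x ∈ S, φ x.1 ∈ ext T) : ∀ v ∈ ext S, φ v ∈ ext T :=
  fun v hv => (ext_le (X := (ext T).comap φ) h) hv

theorem RatStr.ext_top (hR : RatStr Q F₀ R) : ext (⊤ : Submodule F₀ R) = ⊤ := by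
  obtain ⟨n, b, hb⟩ := hR.exists_basis
  rw [eq_top_iff, ← b.span_eq]
  refine Submodule.span_le.2 ?_
  rintro _ ⟨i, rfl⟩
  exact mem_ext (x := ⟨b i, hb ▸ Submodule.subset_span ⟨i, rfl⟩⟩) trivial

theorem RatStr.eq_zero_of_perp (hR : RatStr Q F₀ R) (hQ : (polarBilin Q).Nondegenerate) {x : V}
    (h : ∀ r ∈ R, polar Q r x = 0) : x = 0 := by
  refine hQ.1 x fun y => ?_
  have hy : y ∈ ext (⊤ : Submodule F₀ R) := hR.ext_top ▸ Submodule.mem_top
  rw [polarBilin_apply_apply, polar_comm]
  exact ext_induction (p := fun z => polar Q z x = 0) (polar_zero_left Q x)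
    (fun a b ha hb => by rw [polar_add_left, ha, hb, add_zero])
    (fun c r _ => by rw [polar_smul_left, h r.1 r.2, smul_zero]) hy

theorem RatStr.ratForm_nondeg (hR : RatStr Q F₀ R) (hQ : (polarBilin Q).Nondegenerate) :
    (polarBilin (ratForm hR)).Nondegenerate := by
  refine ⟨fun x hx => Subtype.ext (hR.eq_zero_of_perp hQ fun r hr => ?_),
    fun x hx => Subtype.ext (hR.eq_zero_of_perp hQ fun r hr => ?_)⟩
  · rw [polar_comm]; exact congrArg Subtype.val (hx ⟨r, hr⟩)
  · exact congrArg Subtype.val (hx ⟨r, hr⟩)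

/-- A rational scalar: a multiple of a non-zero rational vector which is rational. -/
theorem RatStr.scalar_mem (hR : RatStr Q F₀ R) (hQ : (polarBilin Q).Nondegenerate) {x : V}
    (hx : x ∈ R) (hx0 : x ≠ 0) {c : F} (hc : c • x ∈ R) : c ∈ F₀ := by
  obtain ⟨r, hr, hrx⟩ : ∃ r ∈ R, polar Q r x ≠ 0 := by
    by_contra hcon
    push Not at hcon
    exact hx0 (hR.eq_zero_of_perp hQ hcon)
  have h1 := hR.polar_mem hr hc
  rw [polar_smul_right, smul_eq_mul] at h1
  have h2 := F₀.mul_mem h1 (F₀.inv_mem (hR.polar_mem hr hx))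
  rwa [mul_assoc, mul_inv_cancel₀ hrx, mul_one] at h2

theorem RatStr.finrank_eq (hR : RatStr Q F₀ R) : Module.finrank F₀ R = Module.finrank F V := by
  obtain ⟨n, b, rfl⟩ := hR.exists_basis
  rw [Module.finrank_eq_card_basis (b.restrictScalars F₀), Module.finrank_eq_card_basis b]

variable [FiniteDimensional F V] [Finite F]

theorem RatStr.finite (_hR : RatStr Q F₀ R) : Finite R :=
  haveI : Finite V := Module.finite_of_finite F
  inferInstance

/-- The dimension of an extended subspace. -/
theorem RatStr.finrank_ext (hR : RatStr Q F₀ R) (S : Submodule F₀ R) :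
    Module.finrank F (ext S) = Module.finrank F₀ S := by
  haveI := hR.finite
  haveI : Module.Finite F₀ R := Module.Finite.of_finite
  obtain ⟨T, hT⟩ := Submodule.exists_isCompl S
  have hle : ∀ U : Submodule F₀ R, Module.finrank F (ext U) ≤ Module.finrank F₀ U := by
    intro U
    let b := Module.finBasis F₀ U
    have hspan : ext U ≤ Submodule.span F (Set.range fun i => (b i).1.1) := ext_le fun x hx => by
      have h1 := b.sum_repr ⟨x, hx⟩
      rw [show x.1 = ∑ i, (b.repr ⟨x, hx⟩ i : F) • (b i).1.1 by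
        conv_lhs => rw [show x = ((⟨x, hx⟩ : U) : R) from rfl, ← h1]
        simp only [Submodule.coe_sum, Submodule.coe_smul]
        exact Finset.sum_congr rfl fun i _ => rfl]
      exact Submodule.sum_mem _ fun i _ => Submodule.smul_mem _ _ (Submodule.subset_span ⟨i, rfl⟩)
    exact (Submodule.finrank_mono hspan).trans ((finrank_range_le_card _).trans (by simp))
  have h1 : ext S ⊔ ext T = ⊤ := by rw [← ext_sup, hT.sup_eq_top, hR.ext_top]
  have h2 := Submodule.finrank_add_le_finrank_add_finrank (ext S) (ext T)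
  rw [h1, finrank_top] at h2
  have h3 := Submodule.finrank_add_eq_of_isCompl hT
  rw [hR.finrank_eq] at h3
  have := hle S
  have := hle T
  omega

theorem RatStr.ext_inf (hR : RatStr Q F₀ R) (S T : Submodule F₀ R) :
    ext S ⊓ ext T = ext (S ⊓ T) := by
  haveI := hR.finite
  haveI : Module.Finite F₀ R := Module.Finite.of_finite
  refine (Submodule.eq_of_le_of_finrank_le
    (le_inf (ext_mono inf_le_left) (ext_mono inf_le_right)) ?_).symm
  have h1 := Submodule.finrank_sup_add_finrank_inf_eq (ext S) (ext T)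
  have h2 := Submodule.finrank_sup_add_finrank_inf_eq S T
  have a1 := hR.finrank_ext (S ⊔ T)
  rw [ext_sup] at a1
  have a2 := hR.finrank_ext S
  have a3 := hR.finrank_ext T
  have a4 := hR.finrank_ext (S ⊓ T)
  omega

theorem RatStr.mem_of_mem_ext (hR : RatStr Q F₀ R) {S : Submodule F₀ R} {x : R}
    (h : x.1 ∈ ext S) : x ∈ S := by
  haveI := hR.finite
  haveI : Module.Finite F₀ R := Module.Finite.of_finite
  by_contra hx
  have hlt : S < S ⊔ Submodule.span F₀ {x} :=
    left_lt_sup.2 fun hle => hx (hle (Submodule.mem_span_singleton_self x))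
  have h1 := Submodule.finrank_lt_finrank_of_lt hlt
  have h2 : ext (S ⊔ Submodule.span F₀ {x}) ≤ ext S := by
    rw [ext_sup]
    refine sup_le le_rfl (ext_le fun y hy => ?_)
    obtain ⟨t, rfl⟩ := Submodule.mem_span_singleton.1 hy
    exact (ext S).smul_mem (t : F) h
  have h3 := Submodule.finrank_mono h2
  rw [hR.finrank_ext, hR.finrank_ext] at h3
  omega

theorem RatStr.ext_perp (hR : RatStr Q F₀ R) (hQ : (polarBilin Q).Nondegenerate)
    (S : Submodule F₀ R) : perpS Q (ext S) = ext (perpS (ratForm hR) S) := by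
  haveI := hR.finite
  haveI : Module.Finite F₀ R := Module.Finite.of_finite
  have hle : ext (perpS (ratForm hR) S) ≤ perpS Q (ext S) := ext_le fun x hx h hh =>
    ext_induction (p := fun z => polar Q z x.1 = 0) (polar_zero_left Q _)
      (fun a b ha hb => by rw [polar_add_left, ha, hb, add_zero])
      (fun c r hr => by rw [polar_smul_left, (ratForm_polar_eq_zero hR).1 (hx r hr), smul_zero]) hh
  refine (Submodule.eq_of_le_of_finrank_le hle ?_).symm
  have h1 := finrank_perpS hQ (ext S)
  have h2 := finrank_perpS (hR.ratForm_nondeg hQ) S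
  rw [hR.finrank_eq] at h2
  rw [hR.finrank_ext] at h1 ⊢
  omega

end CfsgLib.Geo.OS
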