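import Cfsg.Agent.Geo.OrthSiegel

/-!
Stabilisers of totally singular subspaces and of non-singular points (characteristic two) are
maximal in `Ω`.
-/

set_option autoImplicit false
set_option linter.unusedSectionVars false

namespace CfsgLib.Geo.OS

open QuadraticMap CfsgLib.Forms CfsgLib.Quad

variable {F V : Type*} [Field F] [AddCommGroup V] [Module F V] [FiniteDimensional F V] [Finite F]
  {Q : QuadraticForm F V} (hQ : (polarBilin Q).Nondegenerate) (hn : 7 ≤ Module.finrank F V)

omit [FiniteDimensional F V] [Finite F] in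
theorem polar_eq_zero_of_singular {W : Submodule F V} (hW : ∀ w ∈ W, Q w = 0) {x y : V}
    (hx : x ∈ W) (hy : y ∈ W) : polar Q x y = 0 := by
  rw [polar, hW x hx, hW y hy, hW _ (W.add_mem hx hy)]; simp

/-- The span of pairwise orthogonal singular vectors is totally singular. -/
theorem quad_span_zero {S : Set V} (h0 : ∀ x ∈ S, Q x = 0)
    (h1 : ∀ x ∈ S, ∀ y ∈ S, polar Q x y = 0) : ∀ x ∈ Submodule.span F S, Q x = 0 := by
  have hS : Submodule.span F S ≤ perpS Q (Submodule.span F S) := by
    refine Submodule.span_le.2 fun y hy h hh => ?_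
    induction hh using Submodule.span_induction with
    | mem x hx => exact h1 x hx y hy
    | zero => exact polar_zero_left Q y
    | add a b _ _ ha hb => rw [polar_add_left, ha, hb, add_zero]
    | smul t a _ ha => rw [polar_smul_left, ha, smul_zero]
  intro x hx
  induction hx using Submodule.span_induction with
  | mem x hx => exact h0 x hx
  | zero => exact QuadraticMap.map_zero _
  | add a b ha hb hQa hQb =>
    rw [quad_add, hQa, hQb, hS hb a ha, add_zero, add_zero]
  | smul t a _ hQa => rw [quad_smul, hQa, mul_zero]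

section ts

variable {W : Submodule F V} (hW : ∀ w ∈ W, Q w = 0)

include hQ hn hW

theorem ts_key
    (hmax : 2 * Module.finrank F W + 3 ≤ Module.finrank F V ∨
      ∀ U : Submodule F V, W ≤ U → (∀ u ∈ U, Q u = 0) → U = W)
    {M : Subgroup (oGroup Q)} (hM : stabO Q W ⊓ commutator (oGroup Q) ≤ M)
    (hMK : M ≤ commutator (oGroup Q)) (hnle : ¬ M ≤ stabO Q W) :
    commutator (oGroup Q) ≤ M := by
  have hn5 : 5 ≤ Module.finrank F V := by omega
  have hfull : ∀ e ∈ W, Full M e := fun e he a ha => by
    refine hM ⟨mem_stabO_of_le fun x hx => ?_, siegel_mem_commutator hQ hn5 (hW e he) ha⟩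
    rw [siegel_apply (hW e he) ha, polar_eq_zero_of_singular hW hx he, zero_smul, add_zero]
    exact W.sub_mem hx (W.smul_mem _ he)
  by_cases hc : ∃ g ∈ M, ∃ e ∈ W, ∃ f ∈ W, polar Q (g.1 e) f ≠ 0
  · obtain ⟨g, hg, e, he, f, hf, hne⟩ := hc
    exact commutator_le_of_two hQ hn5 (by rw [g.2, hW e he]) (hW f hf) hne
      (Full.conj hg (hW e he) (hfull e he)) (hfull f hf)
  push Not at hc
  exfalso
  set S := {x : V | ∃ g ∈ M, ∃ w ∈ W, x = g.1 w}
  have h0 : ∀ x ∈ S, Q x = 0 := by
    rintro _ ⟨g, hg, w, hw, rfl⟩; rw [g.2, hW w hw]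
  have h1 : ∀ x ∈ S, ∀ y ∈ S, polar Q x y = 0 := by
    rintro _ ⟨g, hg, w, hw, rfl⟩ _ ⟨g', hg', w', hw', rfl⟩
    rw [← polar_oGroup g'⁻¹]
    change polar Q ((g'⁻¹ * g).1 w) (g'.1.symm (g'.1 w')) = 0
    rw [LinearEquiv.symm_apply_apply]
    exact hc _ (mul_mem (inv_mem hg') hg) w hw w' hw'
  have hWS : ∀ w ∈ W, w ∈ S := fun w hw => ⟨1, one_mem _, w, hw, rfl⟩
  obtain ⟨g, hg, hgW⟩ := SetLike.not_le_iff_exists.1 hnle
  obtain ⟨w, hw, hwu⟩ : ∃ w ∈ W, g.1 w ∉ W := by
    by_contra hcc
    push Not at hcc
    exact hgW (mem_stabO_of_le hcc)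
  set u := g.1 w with hu
  have huS : u ∈ S := ⟨g, hg, w, hw, rfl⟩
  have hQu : Q u = 0 := h0 u huS
  rcases hmax with hdim | huniq
  swap
  · exact hwu ((huniq _ (fun x hx => Submodule.subset_span (hWS x hx)) (quad_span_zero h0 h1)) ▸
      Submodule.subset_span huS)
  obtain ⟨y, hy, huy⟩ : ∃ y ∈ perpS Q W, polar Q y u ≠ 0 := by
    by_contra hcc
    push Not at hcc
    refine hwu ?_
    rw [← perpS_perpS hQ W]
    exact fun h hh => hcc h hh
  set e := y + (-(Q y / polar Q y u)) • u with he_def
  have hQe : Q e = 0 := by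
    rw [he_def, quad_add, quad_smul, hQu, polar_smul_right, smul_eq_mul]
    field_simp; ring
  have huu : polar Q u u = 0 := h1 u huS u huS
  have hue : polar Q u e ≠ 0 := by
    rw [he_def, polar_add_right, polar_smul_right, huu, smul_zero, add_zero, polar_comm]
    exact huy
  have hWe : ∀ x ∈ W, polar Q x e = 0 := fun x hx => by
    rw [he_def, polar_add_right, hy x hx, polar_smul_right, h1 x (hWS x hx) u huS, smul_zero,
      add_zero]
  have huW : ∀ x ∈ W, polar Q x u = 0 := fun x hx => h1 x (hWS x hx) u huS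
  set T := W ⊔ Submodule.span F {u} ⊔ Submodule.span F {e}
  set X := perpS Q T
  have hu0 : u ≠ 0 := fun h => hue (by rw [h, polar_zero_left])
  have hTdim : Module.finrank F T ≤ Module.finrank F W + 2 := by
    have a1 := Submodule.finrank_add_le_finrank_add_finrank (W ⊔ Submodule.span F {u})
      (Submodule.span F {e})
    have a2 := Submodule.finrank_add_le_finrank_add_finrank W (Submodule.span F {u})
    have a3 : Module.finrank F (Submodule.span F {u}) ≤ 1 :=
      (finrank_span_le_card ({u} : Set V)).trans (by simp)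
    have a4 : Module.finrank F (Submodule.span F {e}) ≤ 1 :=
      (finrank_span_le_card ({e} : Set V)).trans (by simp)
    change Module.finrank F ↥(W ⊔ Submodule.span F {u} ⊔ Submodule.span F {e}) ≤ _
    omega
  have hXu : X < X ⊔ Submodule.span F {u} := by
    refine left_lt_sup.2 fun h => hue ?_
    rw [polar_comm]
    exact h (Submodule.mem_span_singleton_self u) e
      (Submodule.mem_sup_right (Submodule.mem_span_singleton_self e))
  obtain ⟨z, hz, hQz⟩ := exists_aniso_of_finrank hQ (K := X ⊔ Submodule.span F {u}) (by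
    have a1 := finrank_perpS hQ T
    have a2 := Submodule.finrank_lt_finrank_of_lt hXu
    change Module.finrank F V < 2 * Module.finrank F ↥(perpS Q T ⊔ Submodule.span F {u})
    change Module.finrank F ↥(perpS Q T) < Module.finrank F ↥(perpS Q T ⊔ Submodule.span F {u}) at a2
    omega)
  obtain ⟨a, haX, b, hb, rfl⟩ := Submodule.mem_sup.1 hz
  obtain ⟨t, rfl⟩ := Submodule.mem_span_singleton.1 hb
  have hua : polar Q u a = 0 :=
    haX u (Submodule.mem_sup_left (Submodule.mem_sup_right (Submodule.mem_span_singleton_self u)))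
  have hea : polar Q e a = 0 :=
    haX e (Submodule.mem_sup_right (Submodule.mem_span_singleton_self e))
  have hQa : Q a ≠ 0 := by
    rw [quad_add, quad_smul, hQu, polar_smul_right, polar_comm (⇑Q) a u, hua] at hQz
    simpa using hQz
  have hs : siegel Q e a ∈ M := hM ⟨mem_stabO_of_le fun x hx => by
    rw [siegel_fix hQe hea (hWe x hx)
      (haX x (Submodule.mem_sup_left (Submodule.mem_sup_left hx)))]
    exact hx, siegel_mem_commutator hQ hn5 hQe hea⟩
  have h2 := h1 u huS ((siegel Q e a).1 u) ⟨siegel Q e a * g, mul_mem hs hg, w, hw, rfl⟩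
  rw [siegel_apply hQe hea, hua, zero_add, polar_sub_right, polar_add_right, polar_smul_right,
    polar_smul_right, huu, hua, smul_eq_mul, smul_eq_mul] at h2
  exact mul_ne_zero (mul_ne_zero hQa hue) hue (by linear_combination -h2)

theorem ts_proper (hW0 : W ≠ ⊥) : ¬ commutator (oGroup Q) ≤ stabO Q W := by
  intro hle
  obtain ⟨w, hw, hw0⟩ := Submodule.exists_mem_ne_zero_of_ne_bot hW0
  obtain ⟨f, hf, hwf⟩ : ∃ f, Q f = 0 ∧ polar Q w f ≠ 0 := by
    obtain ⟨x, hx, hwx, -⟩ :=
      exists_common_nonorth hQ (by omega) hw0 hw0 (hW w hw) (hW w hw)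
    exact ⟨x, hx, hwx⟩
  set T := Submodule.span F (Set.range ![w, f])
  have hT : Module.finrank F T ≤ 2 := (finrank_range_le_card _).trans (by simp)
  have h1 := finrank_perpS hQ T
  obtain ⟨a, ha, hQa⟩ := exists_aniso_of_finrank hQ (K := perpS Q T) (by omega)
  have hwa : polar Q w a = 0 := ha w (Submodule.subset_span ⟨0, rfl⟩)
  have hfa : polar Q f a = 0 := ha f (Submodule.subset_span ⟨1, rfl⟩)
  have hm := (hle (siegel_mem_commutator hQ (by omega) hf hfa) w).2 hw
  have h2 := polar_eq_zero_of_singular hW hw hm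
  rw [siegel_apply hf hfa, hwa, zero_add, polar_sub_right, polar_add_right, polar_smul_right,
    polar_smul_right, polar_eq_zero_of_singular hW hw hw, hwa, smul_eq_mul, smul_eq_mul] at h2
  exact mul_ne_zero (mul_ne_zero hQa hwf) hwf (by linear_combination -h2)

theorem ts_maximal (hW0 : W ≠ ⊥)
    (hmax : 2 * Module.finrank F W + 3 ≤ Module.finrank F V ∨
      ∀ U : Submodule F V, W ≤ U → (∀ u ∈ U, Q u = 0) → U = W) :
    Cfsg.Geo.IsMaximalIn (commutator (oGroup Q)) (stabO Q W ⊓ commutator (oGroup Q)) :=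
  isMaximalIn_of (ts_proper hQ hn hW hW0) fun _ a b c => ts_key hQ hn hW hmax a b c

end ts

section point

variable (h2 : (2 : F) = 0) {v : V} (hv : Q v ≠ 0)

include hQ hn h2 hv

theorem point_key {M : Subgroup (oGroup Q)}
    (hM : stabO Q (Submodule.span F {v}) ⊓ commutator (oGroup Q) ≤ M)
    (hnle : ¬ M ≤ stabO Q (Submodule.span F {v})) : commutator (oGroup Q) ≤ M := by
  have hn5 : 5 ≤ Module.finrank F V := by omega
  obtain ⟨g, hg, hgv⟩ := SetLike.not_le_iff_exists.1 hnle
  have hgv' : g.1 v ∉ Submodule.span F {v} := fun h => hgv (mem_stabO_of_le fun x hx => by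
    obtain ⟨c, rfl⟩ := Submodule.mem_span_singleton.1 hx
    rw [map_smul]; exact Submodule.smul_mem _ c h)
  set v' := g.1 v with hv'def
  have hbase : ∀ e a, Q e = 0 → polar Q e a = 0 → polar Q v e = 0 → polar Q v a = 0 →
      siegel Q e a ∈ M := fun e a he hea hve hva =>
    hM ⟨mem_stabO_of_le fun x hx => by
      obtain ⟨c, rfl⟩ := Submodule.mem_span_singleton.1 hx
      rw [map_smul, siegel_fix he hea hve hva]; exact hx, siegel_mem_commutator hQ hn5 he hea⟩
  set S := Submodule.span F (Set.range ![v, v'])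
  have hvS : v ∈ S := Submodule.subset_span ⟨0, rfl⟩
  have hv'S : v' ∈ S := Submodule.subset_span ⟨1, rfl⟩
  have hS : Module.finrank F S ≤ 2 := (finrank_range_le_card _).trans (by simp)
  have hD := finrank_perpS hQ S
  have hfull : ∀ e, Q e = 0 → e ∈ perpS Q S → e ∉ S → Full M e := by
    intro e he heD heS a hea
    have hve : polar Q v e = 0 := heD v hvS
    have hv'e : polar Q v' e = 0 := heD v' hv'S
    set Y := Submodule.span F (Set.range ![e, v'])
    obtain ⟨c0, hc0, hvc0⟩ : ∃ c ∈ perpS Q Y, polar Q v c ≠ 0 := by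
      by_contra hcc
      push Not at hcc
      have : v ∈ Y := by
        rw [← perpS_perpS hQ Y]; intro h hh; rw [polar_comm]; exact hcc h hh
      obtain ⟨s, t, hst⟩ := Submodule.mem_span_pair.1
        (by simpa [Y, Matrix.range_cons, Matrix.range_empty, Set.pair_comm] using this :
          v ∈ Submodule.span F {e, v'})
      by_cases hs : s = 0
      · rw [hs, zero_smul, zero_add] at hst
        have ht : t ≠ 0 := fun ht => hv (by rw [← hst, ht, zero_smul, QuadraticMap.map_zero])
        refine hgv' (Submodule.mem_span_singleton.2 ⟨t⁻¹, ?_⟩)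
        rw [← hst, smul_smul, inv_mul_cancel₀ ht, one_smul]
      · refine heS ?_
        have hee : e = s⁻¹ • (v - t • v') := by
          rw [← hst, add_sub_cancel_right, smul_smul, inv_mul_cancel₀ hs, one_smul]
        rw [hee]; exact S.smul_mem _ (S.sub_mem hvS (S.smul_mem _ hv'S))
    have hec0 : polar Q e c0 = 0 := hc0 e (Submodule.subset_span ⟨0, rfl⟩)
    have hv'c0 : polar Q v' c0 = 0 := hc0 v' (Submodule.subset_span ⟨1, rfl⟩)
    set t := polar Q v a / polar Q v c0 with ht
    have hb : siegel Q e (a - t • c0) ∈ M := hbase e _ he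
      (by rw [polar_sub_right, polar_smul_right, hea, hec0, smul_zero, sub_zero]) hve
      (by rw [polar_sub_right, polar_smul_right, smul_eq_mul, ht, div_mul_cancel₀ _ hvc0, sub_self])
    have hc : siegel Q e (t • c0) ∈ M := by
      obtain ⟨e1, he1⟩ := g.1.surjective e
      obtain ⟨c1, hc1⟩ := g.1.surjective (t • c0)
      rw [← he1, ← hc1]
      have q1 : Q e1 = 0 := by rw [← g.2, he1, he]
      have q2 : polar Q e1 c1 = 0 := by
        rw [← polar_oGroup g, he1, hc1, polar_smul_right, hec0, smul_zero]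
      refine siegel_conj_mem hg q1 q2 (hbase e1 c1 q1 q2 ?_ ?_)
      · rw [← polar_oGroup g, he1, ← hv'def, hv'e]
      · rw [← polar_oGroup g, hc1, ← hv'def, polar_smul_right, hv'c0, smul_zero]
    have := mul_mem hb hc
    rwa [siegel_mul he (by rw [polar_sub_right, polar_smul_right, hea, hec0, smul_zero, sub_zero])
      (by rw [polar_smul_right, hec0, smul_zero]), sub_add_cancel] at this
  obtain ⟨e, heD, he, heS⟩ := exists_singular_outside hQ (perpS Q S) S (by omega)
  obtain ⟨y, hy, hey⟩ : ∃ y ∈ perpS Q S, polar Q y e ≠ 0 := by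
    by_contra hcc
    push Not at hcc
    refine heS ?_
    rw [← perpS_perpS hQ S]
    exact fun h hh => hcc h hh
  set f := y + (-(Q y / polar Q y e)) • e with hf_def
  have hfD : f ∈ perpS Q S := (perpS Q S).add_mem hy ((perpS Q S).smul_mem _ heD)
  have hQf : Q f = 0 := by
    rw [hf_def, quad_add, quad_smul, he, polar_smul_right, smul_eq_mul]
    field_simp; ring
  have hef : polar Q e f ≠ 0 := by
    rw [hf_def, polar_add_right, polar_smul_right, polar_self, he, smul_zero, smul_zero, add_zero,
      polar_comm]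
    exact hey
  have hfS : f ∉ S := fun h => hef (by rw [polar_comm]; exact heD f h)
  exact commutator_le_of_two hQ hn5 he hQf hef (hfull e he heD heS) (hfull f hQf hfD hfS)

theorem point_proper : ¬ commutator (oGroup Q) ≤ stabO Q (Submodule.span F {v}) := by
  intro hle
  have hn5 : 5 ≤ Module.finrank F V := by omega
  obtain ⟨e, he, hve⟩ : ∃ e, Q e = 0 ∧ polar Q v e ≠ 0 := by
    by_contra hcc
    push Not at hcc
    have hvK : ∀ x, polar Q v x = 0 := fun x => by
      have hx : x ∈ Submodule.span F {x : V | Q x = 0} := by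
        rw [span_singular_top hQ hn5]; trivial
      induction hx using Submodule.span_induction with
      | mem x hx => exact hcc x hx
      | zero => exact polar_zero_right Q v
      | add a b _ _ ha hb => rw [polar_add_right, ha, hb, add_zero]
      | smul t a _ ha => rw [polar_smul_right, ha, smul_zero]
    exact hv (by rw [hQ.1 v hvK, QuadraticMap.map_zero])
  set T := Submodule.span F (Set.range ![v, e])
  have hT : Module.finrank F T ≤ 2 := (finrank_range_le_card _).trans (by simp)
  have h1 := finrank_perpS hQ T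
  obtain ⟨a, ha, hQa⟩ := exists_aniso_of_finrank hQ (K := perpS Q T) (by omega)
  have hva : polar Q v a = 0 := ha v (Submodule.subset_span ⟨0, rfl⟩)
  have hea : polar Q e a = 0 := ha e (Submodule.subset_span ⟨1, rfl⟩)
  have hm := (hle (siegel_mem_commutator hQ hn5 he hea) v).2 (Submodule.mem_span_singleton_self v)
  obtain ⟨c, hc⟩ := Submodule.mem_span_singleton.1 hm
  have hvv : polar Q v v = 0 := by
    rw [polar_self, two_nsmul, ← two_mul, h2, zero_mul]
  have h3 := congrArg (fun x => polar Q v x) hc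
  simp only [siegel_apply he hea, hva, zero_add, polar_sub_right, polar_add_right, polar_smul_right,
    hvv, smul_eq_mul, mul_zero] at h3
  exact mul_ne_zero (mul_ne_zero hQa hve) hve (by linear_combination h3)

theorem point_maximal : Cfsg.Geo.IsMaximalIn (commutator (oGroup Q))
    (stabO Q (Submodule.span F {v}) ⊓ commutator (oGroup Q)) :=
  isMaximalIn_of (point_proper hQ hn h2 hv) fun _ a _ c => point_key hQ hn h2 hv a c

end point

end CfsgLib.Geo.OS
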