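import Cfsg.Agent.Geo.OrthSubfieldMaximal
import Cfsg.Agent.Geo.RatPoints

/-!
Orthogonal subfield subgroups of matrix groups.
-/

set_option autoImplicit false
set_option linter.unusedSectionVars false

namespace CfsgLib.Geo.OS

open QuadraticMap CfsgLib.Forms CfsgLib.Quad Matrix

variable {F : Type*} [Field F] [Finite F] {ι : Type} [Fintype ι] [DecidableEq ι]

/-- The rational vectors of an invertible matrix. -/
def ratSpace (F₀ : Subfield F) (P : GL ι F) : Submodule F₀ (ι → F) where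
  carrier := {x | CfsgLib.Geo.InRS F₀ P x}
  add_mem' := fun {_ _} hx hy => hx.add hy
  zero_mem' := CfsgLib.Geo.inRS_zero
  smul_mem' := fun t _ hx => hx.smul t.2

/-- The maximality of subfield subgroups, for a quadratic form rational on the columns of `P`. -/
theorem subfield_maximal_matrix_of_eleven (Q : QuadraticForm F (ι → F))
    (hQ : (polarBilin Q).Nondegenerate) (hn : 10 ≤ Fintype.card ι)
    (h13 : (2 : F) ≠ 0 → 10 ≤ Fintype.card ι) {F₀ : Subfield F} {r : ℕ} (hr : r.Prime)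
    (hcard : Nat.card F = Nat.card F₀ ^ r) {P : GL ι F}
    (hP : Cfsg.Geo.IsQuadFormRationalStructure ⇑Q F₀ P) :
    Cfsg.Geo.IsMaximalIn (Cfsg.Geo.omegaGL ⇑Q)
      (Cfsg.Geo.subfieldSubgroup F₀ P ⊓ Cfsg.Geo.omegaGL ⇑Q) := by
  have hfr : Module.finrank F (ι → F) = Fintype.card ι := Module.finrank_fintype_fun_eq_card F
  have hR : RatStr Q F₀ (ratSpace F₀ P) := by
    refine ⟨⟨Fintype.card ι, ((Pi.basisFun F ι).map
      (CfsgLib.Geo.glEquiv P : (ι → F) ≃ₗ[F] (ι → F))).reindex (Fintype.equivFin ι), ?_⟩, ?_⟩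
    · have hcol : ∀ i, ((Pi.basisFun F ι).map (CfsgLib.Geo.glEquiv P : (ι → F) ≃ₗ[F] (ι → F))) i =
          (P : Matrix ι ι F) *ᵥ Pi.single i 1 := fun i => by
        rw [Module.Basis.map_apply, CfsgLib.Geo.glEquiv_apply, Pi.basisFun_apply]
      rw [Module.Basis.range_reindex]
      refine le_antisymm (fun x hx => ?_) (Submodule.span_le.2 ?_)
      · rw [CfsgLib.Geo.eq_sum_cols (P := P) x]
        refine Submodule.sum_mem _ fun i _ => ?_
        exact Submodule.smul_mem _ (⟨_, hx i⟩ : F₀) (Submodule.subset_span ⟨i, hcol i⟩)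
      · rintro _ ⟨i, rfl⟩
        rw [hcol]
        exact CfsgLib.Geo.inRS_col i
    · intro x hx
      obtain ⟨u, hu, rfl⟩ := CfsgLib.Geo.InRS.eq hx
      exact hP u hu
  refine isMaximalIn_map_omega (L := ratStab Q (ratSpace F₀ P)) (fun g _ => ?_)
    (subfield_maximal_of_eleven hR hQ (by rw [hfr]; exact hn) (fun h => by rw [hfr]; exact h13 h) hr hcard)
  constructor
  · intro hg
    obtain ⟨d, hd, h⟩ := CfsgLib.Geo.exists_scaled_rs_of_mem hg
    exact ⟨d, hd, fun x hx => by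
      have := h x hx
      rw [toGL_mulVec] at this
      exact this⟩
  · rintro ⟨d, hd, h⟩
    exact CfsgLib.Geo.mem_subfield_of_scaled_rs hd fun x hx => by
      rw [toGL_mulVec]; exact h x hx

/-- The same in dimension at least twelve, thirteen in odd characteristic. -/
theorem subfield_maximal_matrix (Q : QuadraticForm F (ι → F))
    (hQ : (polarBilin Q).Nondegenerate) (hn : 12 ≤ Fintype.card ι)
    (h13 : (2 : F) ≠ 0 → 13 ≤ Fintype.card ι) {F₀ : Subfield F} {r : ℕ} (hr : r.Prime)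
    (hcard : Nat.card F = Nat.card F₀ ^ r) {P : GL ι F}
    (hP : Cfsg.Geo.IsQuadFormRationalStructure ⇑Q F₀ P) :
    Cfsg.Geo.IsMaximalIn (Cfsg.Geo.omegaGL ⇑Q)
      (Cfsg.Geo.subfieldSubgroup F₀ P ⊓ Cfsg.Geo.omegaGL ⇑Q) :=
  subfield_maximal_matrix_of_eleven Q hQ (by omega) (fun h => by have := h13 h; omega) hr hcard hP

omit [Finite F] in
/-- Scaling a form does not change its `Ω`. -/
theorem omegaGL_smul (Q : (ι → F) → F) {ζ : F} (hζ : ζ ≠ 0) :
    Cfsg.Geo.omegaGL (fun v => ζ * Q v) = Cfsg.Geo.omegaGL Q := by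
  have h : Cfsg.isometryGroup F (fun v => ζ * Q v) = Cfsg.isometryGroup F Q := by
    ext g
    simp only [Cfsg.isometryGroup, Cfsg.preserving, Subgroup.mem_mk, Submonoid.mem_mk,
      Subsemigroup.mem_mk, Set.mem_ofPred_eq, mul_right_inj' hζ]
  unfold Cfsg.Geo.omegaGL Cfsg.Omega
  rw [h]

end CfsgLib.Geo.OS
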