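import Cfsg.Agent.Geo.OrthSubfieldPoints
import Cfsg.Agent.Quad.OmegaMem

/-!
Without irrational root elements at rational centres an overgroup of an orthogonal subfield
subgroup is contained in it: two involutions and the central involution of their dihedral group.
-/

set_option autoImplicit false
set_option linter.unusedSectionVars false
set_option linter.style.haveILetI false

namespace CfsgLib.Geo.OS

open QuadraticMap CfsgLib.Forms CfsgLib.Quad

/-- The two possibilities for the dihedral group of two involutions. -/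
theorem dihedral_cases {G : Type*} [Group G] [Finite G] {x y : G} (hx : x * x = 1) (hy : y * y = 1) :
    (∃ k ∈ Subgroup.closure {x, y}, k * x * k⁻¹ = y) ∨
      ∃ z ∈ Subgroup.closure {x, y}, z * z = 1 ∧ z ≠ 1 ∧ z * x = x * z ∧ z * y = y * z ∧
        ∃ k ∈ Subgroup.closure {x, y}, k * x * k⁻¹ = z * x ∨ k * (z * x) * k⁻¹ = y := by
  have hxi : x⁻¹ = x := inv_eq_of_mul_eq_one_right hx
  have hyi : y⁻¹ = y := inv_eq_of_mul_eq_one_right hy
  set c := y * x with hc
  have hcmem : ∀ n : ℕ, c ^ n ∈ Subgroup.closure {x, y} := fun n =>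
    pow_mem (mul_mem (Subgroup.subset_closure (by simp)) (Subgroup.subset_closure (by simp))) n
  have hxc : x * c * x = c⁻¹ := by
    rw [hc, _root_.mul_inv_rev, hxi, hyi, mul_assoc, mul_assoc, hx, mul_one]
  have hflip : ∀ n : ℕ, c ^ n * x * (c ^ n)⁻¹ = c ^ (2 * n) * x := by
    intro n
    have h1 : x * c ^ n * x = (c ^ n)⁻¹ := by
      have h2 := conj_pow (a := x) (b := c) (i := n)
      rw [hxi, hxc, inv_pow] at h2
      exact h2.symm
    rw [← h1, two_mul, pow_add]
    simp only [mul_assoc]
    rw [← mul_assoc x x, hx, one_mul]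
  have hycx : y = c * x := by rw [hc, mul_assoc, hx, mul_one]
  rcases Nat.even_or_odd' (orderOf c) with ⟨j, hj | hj⟩
  swap
  · exact Or.inl ⟨c ^ (j + 1), hcmem _, by
      rw [hflip, show 2 * (j + 1) = orderOf c + 1 by omega, pow_succ, pow_orderOf_eq_one, one_mul,
        ← hycx]⟩
  have hn0 : 0 < orderOf c := orderOf_pos c
  set z := c ^ j with hz
  have hz2 : z * z = 1 := by rw [hz, ← pow_add, ← two_mul, ← hj, pow_orderOf_eq_one]
  have hz1 : z ≠ 1 := by
    intro e
    have := orderOf_dvd_of_pow_eq_one e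
    have := Nat.le_of_dvd (by omega) this
    omega
  have hzi : z⁻¹ = z := inv_eq_of_mul_eq_one_right hz2
  have hzx : z * x = x * z := by
    have h1 := hflip j
    rw [← hz, hzi, two_mul, pow_add, ← hz, hz2, one_mul] at h1
    calc z * x = z * x * z * z := by rw [mul_assoc (z * x), hz2, mul_one]
      _ = x * z := by rw [h1]
  have hzc : z * c = c * z := by rw [hz, ← pow_succ, ← pow_succ']
  have hzy : z * y = y * z := by
    rw [hycx, ← mul_assoc, hzc, mul_assoc, hzx, ← mul_assoc]
  refine Or.inr ⟨z, hcmem _, hz2, hz1, hzx, hzy, ?_⟩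
  rcases Nat.even_or_odd' j with ⟨i, hi | hi⟩
  · exact ⟨c ^ i, hcmem _, Or.inl (by rw [hflip, ← hi, ← hz])⟩
  · refine ⟨c ^ (i + 1), hcmem _, Or.inr ?_⟩
    have hk : c ^ (i + 1) * z = z * c ^ (i + 1) := by rw [hz, ← pow_add, ← pow_add, add_comm]
    rw [← mul_assoc, hk, mul_assoc z, mul_assoc z, hflip,
      show 2 * (i + 1) = j + 1 by omega, pow_succ, ← hz, mul_assoc, ← hycx, ← mul_assoc, hz2, one_mul]

variable {F : Type*} [Field F] {V : Type*} [AddCommGroup V] [Module F V] [FiniteDimensional F V]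
  [Finite F] {Q : QuadraticForm F V} {F₀ : Subfield F} {R : Submodule F₀ V}

/-- The image of `g - 1`. -/
def movedSp (g : oGroup Q) : Submodule F V := LinearMap.range (g.1.toLinearMap - LinearMap.id)

theorem mem_movedSp {g : oGroup Q} {v : V} : v ∈ movedSp g ↔ ∃ x, g.1 x - x = v := Iff.rfl

/-- The space negated by `g`. -/
def negSp (g : oGroup Q) : Submodule F V := LinearMap.ker (g.1.toLinearMap + LinearMap.id)

theorem mem_negSp {g : oGroup Q} {v : V} : v ∈ negSp g ↔ g.1 v = -v := by
  rw [negSp, LinearMap.mem_ker]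
  exact add_eq_zero_iff_eq_neg

theorem movedSp_conj (k g : oGroup Q) :
    movedSp (k * g * k⁻¹) = (movedSp g).map k.1.toLinearMap := by
  ext v
  simp only [mem_movedSp, Submodule.mem_map]
  constructor
  · rintro ⟨x, rfl⟩
    exact ⟨_, ⟨k.1.symm x, rfl⟩, by
      change k.1 (g.1 (k.1.symm x) - k.1.symm x) = k.1 (g.1 (k.1.symm x)) - x
      rw [map_sub, LinearEquiv.apply_symm_apply]⟩
  · rintro ⟨_, ⟨x, rfl⟩, rfl⟩
    exact ⟨k.1 x, by
      change k.1 (g.1 (k.1.symm (k.1 x))) - k.1 x = k.1 (g.1 x - x)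
      rw [LinearEquiv.symm_apply_apply, map_sub]⟩

theorem negSp_conj (k g : oGroup Q) : negSp (k * g * k⁻¹) = (negSp g).map k.1.toLinearMap := by
  ext v
  simp only [mem_negSp, Submodule.mem_map]
  constructor
  · intro h
    refine ⟨k.1.symm v, ?_, k.1.apply_symm_apply v⟩
    change k.1 (g.1 (k.1.symm v)) = -v at h
    rw [← k.1.injective.eq_iff, h, map_neg, LinearEquiv.apply_symm_apply]
  · rintro ⟨x, hx, rfl⟩
    change k.1 (g.1 (k.1.symm (k.1 x))) = -(k.1 x)
    rw [LinearEquiv.symm_apply_apply, hx, map_neg]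

theorem mul_apply (g h : oGroup Q) (v : V) : (g * h).1 v = g.1 (h.1 v) := rfl

theorem apply_comm {g h : oGroup Q} (e : g * h = h * g) (v : V) : g.1 (h.1 v) = h.1 (g.1 v) := by
  rw [← mul_apply, e, mul_apply]

theorem apply_sq {g : oGroup Q} (e : g * g = 1) (v : V) : g.1 (g.1 v) = v := by
  rw [← mul_apply, e]; rfl

/-- The rational vectors negated by an element. -/
def negRat (g : oGroup Q) (R : Submodule F₀ V) : Submodule F₀ R where
  carrier := {x | g.1 x.1 = -x.1}
  add_mem' := fun {a b} ha hb => by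
    change g.1 (a.1 + b.1) = -(a.1 + b.1)
    rw [map_add, show g.1 a.1 = -a.1 from ha, show g.1 b.1 = -b.1 from hb, neg_add]
  zero_mem' := by change g.1 (0 : V) = -(0 : V); rw [map_zero, neg_zero]
  smul_mem' := fun t a ha => by
    change g.1 ((t : F) • a.1) = -((t : F) • a.1)
    rw [map_smul, show g.1 a.1 = -a.1 from ha, smul_neg]

/-- The rational vectors fixed by an element. -/
def fixRat (g : oGroup Q) (R : Submodule F₀ V) : Submodule F₀ R where
  carrier := {x | g.1 x.1 = x.1}
  add_mem' := fun {a b} ha hb => by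
    change g.1 (a.1 + b.1) = a.1 + b.1
    rw [map_add, show g.1 a.1 = a.1 from ha, show g.1 b.1 = b.1 from hb]
  zero_mem' := by change g.1 (0 : V) = (0 : V); rw [map_zero]
  smul_mem' := fun t a ha => by
    change g.1 ((t : F) • a.1) = (t : F) • a.1
    rw [map_smul, show g.1 a.1 = a.1 from ha]

section

variable (hR : RatStr Q F₀ R) (hQ : (polarBilin Q).Nondegenerate)
  (hn : 10 ≤ Module.finrank F V)

include hR hQ hn

/-- For large prime index a rational element maps rational vectors to rational vectors. -/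
theorem preserves_of_index {r : ℕ} (hr : r.Prime) (hr2 : r ≠ 2)
    (hcard : Nat.card F = Nat.card F₀ ^ r) {g : oGroup Q} (hg : g ∈ ratStab Q R) {x : V}
    (hx : x ∈ R) : g.1 x ∈ R := by
  obtain ⟨d, hd0, hd⟩ := hg
  obtain ⟨u, -, hu, -⟩ := exists_rat_perp hR hQ (le_trans (by norm_num) hn) ∅ (by simp; omega)
  have hd2 := sq_mem_of_scaled hR hQ u.2 (fun h0 => hu (by
    rw [show u = 0 from Subtype.ext h0]; exact zero_mem _)) hd
  have hdF : d ∈ F₀ := by
    by_contra hd'
    have hall := eq_univ_of_subring' hr hcard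
      (S := {x | ∃ a ∈ F₀, ∃ b ∈ F₀, x = a + b * d})
      (fun x hx => ⟨x, hx, 0, F₀.zero_mem, by ring⟩)
      (by rintro _ ⟨a, ha, b, hb, rfl⟩ _ ⟨a', ha', b', hb', rfl⟩
          exact ⟨a + a', F₀.add_mem ha ha', b + b', F₀.add_mem hb hb', by ring⟩)
      (by rintro _ ⟨a, ha, b, hb, rfl⟩ _ ⟨a', ha', b', hb', rfl⟩
          exact ⟨a * a' + b * b' * (d * d),
            F₀.add_mem (F₀.mul_mem ha ha') (F₀.mul_mem (F₀.mul_mem hb hb') hd2),
            a * b' + b * a', F₀.add_mem (F₀.mul_mem ha hb') (F₀.mul_mem hb ha'), by ring⟩)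
      (c := d) ⟨0, F₀.zero_mem, 1, F₀.one_mem, by ring⟩ hd'
    let φ : F₀ × F₀ → F := fun p => (p.1 : F) + (p.2 : F) * d
    have hsurj : Function.Surjective φ := fun x => by
      obtain ⟨a, ha, b, hb, e⟩ := hall x
      exact ⟨(⟨a, ha⟩, ⟨b, hb⟩), e.symm⟩
    have h1 := Nat.card_le_card_of_surjective φ hsurj
    rw [Nat.card_prod, hcard, ← pow_two] at h1
    have := Nat.pow_le_pow_iff_right (Finite.one_lt_card (α := F₀)) |>.1 h1
    have := hr.two_le
    omega
  have h1 := R.smul_mem (⟨d⁻¹, F₀.inv_mem hdF⟩ : F₀) (hd x hx)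
  change d⁻¹ • d • g.1 x ∈ R at h1
  rwa [smul_smul, inv_mul_cancel₀ hd0, one_smul] at h1

variable {M : Subgroup (oGroup Q)} (hM : ratStab Q R ⊓ commutator (oGroup Q) ≤ M)
  (hMK : M ≤ commutator (oGroup Q)) (hG : RatRoots Q R M)
  (hpres : ∀ g ∈ ratStab Q R, ∀ x ∈ R, g.1 x ∈ R)

include hM hMK hG hpres

set_option maxHeartbeats 1000000 in
-- one long proof
/-- Characteristic two. -/
theorem le_ratStab_char_two (h2 : (2 : F) = 0) : M ≤ ratStab Q R := by
  classical
  haveI := hR.finite
  haveI : Module.Finite F₀ R := Module.Finite.of_finite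
  haveI : Finite V := Module.finite_of_finite F
  haveI : Finite (oGroup Q) := Finite.of_injective (fun g => (g.1 : V → V)) fun a b e =>
    Subtype.ext (LinearEquiv.ext (congrFun e))
  intro g hg
  -- four orthogonal rational singular vectors
  obtain ⟨e1, q1, s1, -⟩ := exists_rat_perp hR hQ (le_trans (by norm_num) hn) ∅ (by simp; omega)
  obtain ⟨e2, q2, s2, p2⟩ := exists_rat_perp hR hQ (le_trans (by norm_num) hn) {e1} (by simp; omega)
  obtain ⟨e3, q3, s3, p3⟩ := exists_rat_perp hR hQ (le_trans (by norm_num) hn) {e1, e2} (by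
    have : ({e1, e2} : Finset R).card ≤ 2 := Finset.card_le_two
    omega)
  obtain ⟨e4, q4, s4, p4⟩ := exists_rat_perp hR hQ (le_trans (by norm_num) hn) {e1, e2, e3} (by
    have : ({e1, e2, e3} : Finset R).card ≤ 3 := Finset.card_le_three
    omega)
  have c12 : polar Q e1.1 e2.1 = 0 := p2 e1 (by simp)
  have c13 : polar Q e1.1 e3.1 = 0 := p3 e1 (by simp)
  have c23 : polar Q e2.1 e3.1 = 0 := p3 e2 (by simp)
  have c14 : polar Q e1.1 e4.1 = 0 := p4 e1 (by simp)
  have c24 : polar Q e2.1 e4.1 = 0 := p4 e2 (by simp)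
  have c34 : polar Q e3.1 e4.1 = 0 := p4 e3 (by simp)
  set x := siegel Q e1.1 e2.1
  set s := siegel Q e3.1 e4.1
  set y0 := x * s
  have hxs : ∀ v, x.1 v - v = polar Q v e1.1 • e2.1 - polar Q v e2.1 • e1.1 := fun v => by
    rw [siegel_apply q1 c12, q2, zero_mul, add_zero]; abel
  have hss : ∀ v, s.1 v - v = polar Q v e3.1 • e4.1 - polar Q v e4.1 • e3.1 := fun v => by
    rw [siegel_apply q3 c34, q4, zero_mul, add_zero]; abel
  have hy0s : ∀ v, y0.1 v - v = (polar Q v e1.1 • e2.1 - polar Q v e2.1 • e1.1) +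
      (polar Q v e3.1 • e4.1 - polar Q v e4.1 • e3.1) := fun v => by
    have h1 : x.1 (s.1 v - v) = s.1 v - v := by
      rw [hss, map_sub, map_smul, map_smul, siegel_fix q1 c12 (by rw [polar_comm]; exact c14)
        (by rw [polar_comm]; exact c24), siegel_fix q1 c12 (by rw [polar_comm]; exact c13)
        (by rw [polar_comm]; exact c23)]
    rw [map_sub, sub_eq_iff_eq_add] at h1
    change x.1 (s.1 v) - v = _
    rw [h1, ← hxs, ← hss]
    abel
  have hsq : ∀ {e a : R}, Q e.1 = 0 → polar Q e.1 a.1 = 0 →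
      siegel Q e.1 a.1 * siegel Q e.1 a.1 = 1 := fun {e a} he hea => by
    rw [siegel_mul he hea hea, ← two_smul F a.1, h2, zero_smul, siegel_zero he]
  have hxx : x * x = 1 := hsq q1 c12
  have hxs' : x * s = s * x := Subtype.ext (LinearEquiv.ext fun v => by
    change x.1 (s.1 v) = s.1 (x.1 v)
    have h1 : x.1 (s.1 v - v) = s.1 v - v := by
      rw [hss, map_sub, map_smul, map_smul, siegel_fix q1 c12 (by rw [polar_comm]; exact c14)
        (by rw [polar_comm]; exact c24), siegel_fix q1 c12 (by rw [polar_comm]; exact c13)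
        (by rw [polar_comm]; exact c23)]
    have h3 : s.1 (x.1 v - v) = x.1 v - v := by
      rw [hxs, map_sub, map_smul, map_smul, siegel_fix q3 c34 c23 c24, siegel_fix q3 c34 c13 c14]
    rw [map_sub, sub_eq_iff_eq_add] at h1 h3
    rw [h1, h3]
    abel)
  have hy00 : y0 * y0 = 1 := by
    change x * s * (x * s) = 1
    rw [mul_assoc, ← mul_assoc s, ← hxs', mul_assoc x s s, hsq q3 c34, mul_one, hxx]
  have hxM : x ∈ M := siegel_rat_mem hR hQ (le_trans (by norm_num) hn) hM e1.2 q1 e2.2 c12
  have hy0M : y0 ∈ M := mul_mem hxM (siegel_rat_mem hR hQ (le_trans (by norm_num) hn) hM e3.2 q3 e4.2 c34)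
  set Y0 := Submodule.span F₀ (({e1, e2, e3, e4} : Finset R) : Set R)
  have hY0 : Module.finrank F₀ Y0 ≤ 4 :=
    (finrank_span_finset_le_card _).trans Finset.card_le_four
  have hY0s : ∀ v ∈ ext Y0, Q v = 0 := fun v hv => by
    refine quad_span_zero ?_ ?_ v (Submodule.span_le.2 ?_ hv)
      (S := ({e1.1, e2.1, e3.1, e4.1} : Set V))
    · rintro _ (rfl | rfl | rfl | rfl) <;> assumption
    · rintro _ (rfl | rfl | rfl | rfl) _ (rfl | rfl | rfl | rfl) <;>
        first
          | (rw [polar_self]; simp [q1, q2, q3, q4])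
          | assumption
          | (rw [polar_comm]; assumption)
    · rintro _ ⟨z, hz, rfl⟩
      induction hz using Submodule.span_induction with
      | mem z hz =>
        refine Submodule.subset_span ?_
        simp only [Finset.coe_insert, Finset.coe_singleton, Set.mem_insert_iff,
          Set.mem_singleton_iff] at hz
        rcases hz with rfl | rfl | rfl | rfl <;> simp
      | zero => exact zero_mem _
      | add a b _ _ ha hb => exact add_mem ha hb
      | smul t a _ ha => exact Submodule.smul_mem _ (t : F) ha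
  have he2x : e2.1 ∈ movedSp x := by
    obtain ⟨p, -, hp1, hp2⟩ := exists_rat_dual hR hQ (le_trans (by norm_num) hn) {e2} q1 (fun h => by
      obtain ⟨t, ht⟩ := Submodule.mem_span_singleton.1 (by simpa using h)
      rcases eq_or_ne t 0 with rfl | ht0
      · exact s1 (by rw [← ht, zero_smul]; exact zero_mem _)
      · exact s2 (by
          simp only [Finset.coe_singleton]
          exact Submodule.mem_span_singleton.2 ⟨t⁻¹, by
            rw [← ht, smul_smul, inv_mul_cancel₀ ht0, one_smul]⟩)) (by simpa using (by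
        rw [polar_comm]; exact c12 : polar Q e2.1 e1.1 = 0))
    exact mem_movedSp.2 ⟨p.1, by
      rw [hxs, polar_comm (⇑Q) p.1, hp1, polar_comm (⇑Q) p.1, hp2 e2 (by simp), zero_smul,
        sub_zero, one_smul]⟩
  have hmx : movedSp x ≤ ext (Submodule.span F₀ (({e1, e2} : Finset R) : Set R)) := fun v hv => by
    obtain ⟨w, rfl⟩ := mem_movedSp.1 hv
    rw [hxs]
    exact Submodule.sub_mem _ (Submodule.smul_mem _ _ (mem_ext (Submodule.subset_span (by simp))))
      (Submodule.smul_mem _ _ (mem_ext (Submodule.subset_span (by simp))))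
  have hy0e : e2.1 ∈ movedSp y0 ∧ e4.1 ∈ movedSp y0 ∧ e3.1 ∈ movedSp y0 := by
    obtain ⟨p, -, hp1, hp2⟩ := exists_rat_dual hR hQ (le_trans (by norm_num) hn) {e2, e3, e4} q1 (fun h => by
      rw [Finset.coe_insert, Finset.coe_insert, Finset.coe_singleton, Submodule.mem_span_triple] at h
      obtain ⟨a, b, c, habc⟩ := h
      rcases eq_or_ne c 0 with rfl | hc
      · rcases eq_or_ne b 0 with rfl | hb
        · rcases eq_or_ne a 0 with rfl | ha
          · exact s1 (by rw [← habc]; simp)
          · refine s2 ((Submodule.smul_mem_iff _ ha).1 ?_)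
            rw [show a • e2 = e1 by rw [← habc]; simp]
            exact Submodule.subset_span (by simp)
        · refine s3 ((Submodule.smul_mem_iff _ hb).1 ?_)
          rw [show b • e3 = e1 - a • e2 by rw [← habc]; module]
          exact Submodule.sub_mem _ (Submodule.subset_span (by simp))
            (Submodule.smul_mem _ _ (Submodule.subset_span (by simp)))
      · refine s4 ((Submodule.smul_mem_iff _ hc).1 ?_)
        rw [show c • e4 = e1 - a • e2 - b • e3 by rw [← habc]; module]
        exact Submodule.sub_mem _ (Submodule.sub_mem _ (Submodule.subset_span (by simp))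
          (Submodule.smul_mem _ _ (Submodule.subset_span (by simp))))
            (Submodule.smul_mem _ _ (Submodule.subset_span (by simp))))
      (by simp [polar_comm (⇑Q) e2.1 e1.1, polar_comm (⇑Q) e3.1 e1.1, polar_comm (⇑Q) e4.1 e1.1,
        c12, c13, c14])
    obtain ⟨p', -, hp1', hp2'⟩ := exists_rat_dual hR hQ (le_trans (by norm_num) hn) {e1, e2, e3} q4 s4 p4
    have h3' : e3 ∉ Submodule.span F₀ (({e1, e2, e4} : Finset R) : Set R) := fun h => by
      rw [Finset.coe_insert, Finset.coe_insert, Finset.coe_singleton, Submodule.mem_span_triple] at h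
      obtain ⟨a, b, c, habc⟩ := h
      rcases eq_or_ne c 0 with rfl | hc
      · refine s3 ?_
        rw [← habc]
        exact Submodule.add_mem _ (Submodule.add_mem _
          (Submodule.smul_mem _ _ (Submodule.subset_span (by simp)))
          (Submodule.smul_mem _ _ (Submodule.subset_span (by simp)))) (by simp)
      · refine s4 ((Submodule.smul_mem_iff _ hc).1 ?_)
        rw [show c • e4 = e3 - a • e1 - b • e2 by rw [← habc]; module]
        exact Submodule.sub_mem _ (Submodule.sub_mem _ (Submodule.subset_span (by simp))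
          (Submodule.smul_mem _ _ (Submodule.subset_span (by simp))))
            (Submodule.smul_mem _ _ (Submodule.subset_span (by simp)))
    obtain ⟨p'', -, hp1'', hp2''⟩ := exists_rat_dual hR hQ (le_trans (by norm_num) hn) {e1, e2, e4} q3 h3'
      (by simp [c13, c23, polar_comm (⇑Q) e4.1 e3.1, c34])
    refine ⟨mem_movedSp.2 ⟨p.1, ?_⟩, mem_movedSp.2 ⟨p''.1, ?_⟩, mem_movedSp.2 ⟨-p'.1, ?_⟩⟩
    · rw [hy0s, polar_comm (⇑Q) p.1, hp1, polar_comm (⇑Q) p.1, hp2 e2 (by simp),
        polar_comm (⇑Q) p.1, hp2 e3 (by simp), polar_comm (⇑Q) p.1, hp2 e4 (by simp)]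
      simp
    · rw [hy0s, polar_comm (⇑Q) p''.1, hp2'' e1 (by simp), polar_comm (⇑Q) p''.1,
        hp2'' e2 (by simp), polar_comm (⇑Q) p''.1, hp1'', polar_comm (⇑Q) p''.1,
        hp2'' e4 (by simp)]
      simp
    · rw [hy0s]
      simp only [polar_neg_left, polar_comm (⇑Q) p'.1, hp1', hp2' e1 (by simp), hp2' e2 (by simp),
        hp2' e3 (by simp)]
      simp
  set y := g * y0 * g⁻¹ with hy
  have hyM : y ∈ M := mul_mem (mul_mem hg hy0M) (inv_mem hg)
  have hyy : y * y = 1 := by
    rw [hy, show g * y0 * g⁻¹ * (g * y0 * g⁻¹) = g * (y0 * y0) * g⁻¹ by group, hy00, mul_one,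
      mul_inv_cancel]
  have hmy : movedSp y = (movedSp y0).map g.1.toLinearMap := movedSp_conj g y0
  have hclos : Subgroup.closure {x, y} ≤ M := by
    refine (Subgroup.closure_le _).2 ?_
    rintro _ (rfl | rfl)
    exacts [hxM, hyM]
  rcases dihedral_cases hxx hyy with ⟨k, -, hk⟩ | ⟨z, hzmem, hzz, hz1, hzx, hzy, -⟩
  · exfalso
    have h1 : Module.finrank F (movedSp y0) ≤ Module.finrank F
        (ext (Submodule.span F₀ (({e1, e2} : Finset R) : Set R))) := by
      have a1 := LinearEquiv.finrank_map_eq g.1 (movedSp y0)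
      have a2 := LinearEquiv.finrank_map_eq k.1 (movedSp x)
      rw [← hmy, ← hk, movedSp_conj, a2] at a1
      rw [← a1]
      exact Submodule.finrank_mono hmx
    set T1 := Submodule.span F₀ (({e2} : Finset R) : Set R)
    set T2 := Submodule.span F₀ (({e2, e3} : Finset R) : Set R)
    set T3 := Submodule.span F₀ (({e2, e3, e4} : Finset R) : Set R)
    have l1 : T1 < T2 := lt_of_le_of_ne (Submodule.span_mono (by simp)) fun h2 =>
      s3 (Submodule.span_mono (by simp) (h2.symm ▸ Submodule.subset_span (by simp) : e3 ∈ T1))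
    have l2 : T2 < T3 := lt_of_le_of_ne
      (Submodule.span_mono (by simp [Set.insert_subset_iff])) fun h2 =>
      s4 (Submodule.span_mono (by simp) (h2.symm ▸ Submodule.subset_span (by simp) : e4 ∈ T2))
    have l0 : ⊥ < T1 := bot_lt_iff_ne_bot.2 fun h2 => s2 (by
      rw [show e2 = 0 from (Submodule.mem_bot F₀).1 (h2 ▸ Submodule.subset_span (by simp))]
      exact zero_mem _)
    have n0 := Submodule.finrank_lt_finrank_of_lt l0
    have n1 := Submodule.finrank_lt_finrank_of_lt l1
    have n2 := Submodule.finrank_lt_finrank_of_lt l2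
    rw [finrank_bot] at n0
    have h4 : ext T3 ≤ movedSp y0 := ext_le fun v hv => by
      induction hv using Submodule.span_induction with
      | mem w hw =>
        simp only [Finset.coe_insert, Finset.coe_singleton, Set.mem_insert_iff,
          Set.mem_singleton_iff] at hw
        rcases hw with rfl | rfl | rfl
        exacts [hy0e.1, hy0e.2.2, hy0e.2.1]
      | zero => exact zero_mem _
      | add a b _ _ ha hb => exact add_mem ha hb
      | smul t a _ ha => exact Submodule.smul_mem _ (t : F) ha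
    have a3 := Submodule.finrank_mono h4
    rw [hR.finrank_ext] at a3
    rw [hR.finrank_ext] at h1
    have a4 : Module.finrank F₀ (Submodule.span F₀ (({e1, e2} : Finset R) : Set R)) ≤ 2 :=
      (finrank_span_finset_le_card _).trans Finset.card_le_two
    omega
  -- the central involution is rational
  have hzM : z ∈ M := hclos hzmem
  have hY1 : Module.finrank F₀ (Submodule.span F₀ (({e1, e2} : Finset R) : Set R)) + 6 ≤
      Module.finrank F V := by
    have : Module.finrank F₀ (Submodule.span F₀ (({e1, e2} : Finset R) : Set R)) ≤ 2 :=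
      (finrank_span_finset_le_card _).trans Finset.card_le_two
    omega
  have he20 : e2 ≠ 0 := fun h0 => s2 (h0 ▸ zero_mem _)
  have hzR : z ∈ ratStab Q R := by
    have h1 : z.1 e2.1 ∈ movedSp x := by
      obtain ⟨p, hp⟩ := mem_movedSp.1 he2x
      exact mem_movedSp.2 ⟨z.1 p, by rw [← apply_comm hzx, ← map_sub, hp]⟩
    have h2 := mem_of_small hR hQ (le_trans (by norm_num) hn) hM hMK hG (inv_mem hzM) he20 q2 hY1 (hmx h1)
      (z.1.symm_apply_apply e2.1)
    exact (ratStab Q R).inv_mem_iff.1 h2
  have hzp := hpres z hzR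
  -- the image of `z - 1`
  set S := Submodule.span F₀ (Set.range fun w : R =>
    (⟨z.1 w.1 - w.1, R.sub_mem (hzp w.1 w.2) w.2⟩ : R))
  have hSm : ∀ v, z.1 v - v ∈ ext S := fun v => by
    refine ext_induction (S := (⊤ : Submodule F₀ R)) (p := fun u => z.1 u - u ∈ ext S)
      (by rw [map_zero, sub_zero]; exact zero_mem _)
      (fun a b ha hb => by
        rw [map_add, show z.1 a + z.1 b - (a + b) = (z.1 a - a) + (z.1 b - b) by abel]
        exact add_mem ha hb)
      (fun c w _ => by
        rw [map_smul, ← smul_sub]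
        exact Submodule.smul_mem _ c (mem_ext (x := (⟨z.1 w.1 - w.1,
          R.sub_mem (hzp w.1 w.2) w.2⟩ : R)) (Submodule.subset_span ⟨w, rfl⟩)))
      (by rw [hR.ext_top]; trivial)
  have hSle : ext S ≤ movedSp z := ext_le fun v hv => by
    induction hv using Submodule.span_induction with
    | mem w hw => obtain ⟨u, rfl⟩ := hw; exact mem_movedSp.2 ⟨u.1, rfl⟩
    | zero => exact zero_mem _
    | add a b _ _ ha hb => exact add_mem ha hb
    | smul t a _ ha => exact Submodule.smul_mem _ (t : F) ha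
  have hiso : ∀ a b : V, polar Q (z.1 a - a) (z.1 b - b) = 0 := fun a b => by
    have h1 : polar Q (z.1 a) b = polar Q a (z.1 b) := by
      conv_lhs => rw [← apply_sq hzz b, polar_oGroup]
    rw [polar_sub_left, polar_sub_right, polar_sub_right, polar_oGroup, h1]
    linear_combination (polar Q a b - polar Q a (z.1 b)) * h2
  have hSperp : ext S ≤ perpS Q (ext S) := fun v hv w hw => by
    obtain ⟨a, rfl⟩ := mem_movedSp.1 (hSle hw)
    obtain ⟨b, rfl⟩ := mem_movedSp.1 (hSle hv)
    exact hiso a b
  have hSdim : Module.finrank F₀ S + 6 ≤ Module.finrank F V := by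
    have a1 := Submodule.finrank_mono hSperp
    have a2 := finrank_perpS hQ (ext S)
    rw [hR.finrank_ext] at a1 a2
    -- the moved space of an element of `Ω` has even dimension
    haveI : CharP F 2 := CharTwo.of_one_ne_zero_of_two_eq_zero one_ne_zero h2
    obtain ⟨j, hj⟩ := (mem_commutator_iff_fixSp hQ (Or.inr (by omega)) z).1 (hMK hzM)
    have hmv : movedSp z = ext S := le_antisymm (fun v hv => by
      obtain ⟨u, rfl⟩ := mem_movedSp.1 hv; exact hSm u) hSle
    have a3 := (z.1.toLinearMap - LinearMap.id).finrank_range_add_finrank_ker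
    change Module.finrank F (movedSp z) + Module.finrank F (fixSp z) = _ at a3
    rw [hmv, hR.finrank_ext] at a3
    omega
  obtain ⟨f, hfS, hf0, hf⟩ : ∃ f ∈ S, f ≠ 0 ∧ Q f.1 = 0 := by
    have hSS : ∀ a ∈ S, ∀ b ∈ S, polar Q a.1 b.1 = 0 := fun a ha b hb =>
      hSperp (mem_ext hb) a.1 (mem_ext ha)
    by_contra hcon
    push Not at hcon
    have hSle1 : Module.finrank F₀ S ≤ 1 := by
      by_contra h1
      obtain ⟨a, ha, ha0⟩ : ∃ a ∈ S, a ≠ 0 := Submodule.exists_mem_ne_zero_of_ne_bot fun h0 => by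
        rw [h0, finrank_bot] at h1; omega
      obtain ⟨b, hb, hba⟩ : ∃ b ∈ S, b ∉ Submodule.span F₀ {a} := by
        by_contra hc
        push Not at hc
        have h3 := Submodule.finrank_mono (show S ≤ Submodule.span F₀ {a} from hc)
        have h4 : Module.finrank F₀ (Submodule.span F₀ {a}) = 1 := finrank_span_singleton ha0
        omega
      have hb0 : b ≠ 0 := fun h0 => hba (h0 ▸ zero_mem _)
      haveI : CharP F₀ 2 := CharTwo.of_one_ne_zero_of_two_eq_zero one_ne_zero (Subtype.ext h2)
      obtain ⟨c, hc⟩ := isSquare_char_two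
        (ratForm hR a * (ratForm hR b)⁻¹)
      have hQa : ratForm hR a ≠ 0 := fun h0 => hcon a ha ha0 ((ratForm_eq_zero hR).1 h0)
      have hQb : ratForm hR b ≠ 0 := fun h0 => hcon b hb hb0 ((ratForm_eq_zero hR).1 h0)
      refine hcon (a + c • b) (S.add_mem ha (S.smul_mem _ hb)) (fun h0 => ?_)
        ((ratForm_eq_zero hR).1 ?_)
      · rcases eq_or_ne c 0 with rfl | hc0
        · rw [zero_smul, add_zero] at h0; exact ha0 h0
        · refine hba ((Submodule.smul_mem_iff _ hc0).1 ?_)
          rw [eq_neg_of_add_eq_zero_right h0]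
          exact Submodule.neg_mem _ (Submodule.mem_span_singleton_self a)
      · rw [quad_add, quad_smul, polar_smul_right,
          (ratForm_polar_eq_zero hR).2 (hSS a ha b hb), smul_zero, add_zero, ← hc, mul_assoc,
          inv_mul_cancel₀ hQb, mul_one, CharTwo.add_self_eq_zero]
    -- otherwise `z` is a reflection
    have hfix : Module.finrank F (fixSp z) + 1 = Module.finrank F V := by
      have hrange : movedSp z ≤ ext S := fun v hv => by
        obtain ⟨u, rfl⟩ := mem_movedSp.1 hv; exact hSm u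
      have a1 := (z.1.toLinearMap - LinearMap.id).finrank_range_add_finrank_ker
      change Module.finrank F (movedSp z) + Module.finrank F (fixSp z) = _ at a1
      have a2 := Submodule.finrank_mono hrange
      rw [hR.finrank_ext] at a2
      have a3 : Module.finrank F (fixSp z) ≠ Module.finrank F V := fun h0 => hz1 (Subtype.ext
        (LinearEquiv.ext fun v => mem_fixSp.1 (by
          rw [Submodule.eq_top_of_finrank_eq h0]; trivial)))
      omega
    obtain ⟨d, hd, hzd⟩ := exists_refl_of_fixSp hQ hfix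
    obtain ⟨ε, hε⟩ := exists_parity hQ (Or.inr (by omega))
    have h1 : ε z = 1 := (Abelianization.commutator_subset_ker ε (hMK hzM))
    rw [hzd, hε d hd] at h1
    exact absurd h1 (by decide)
  have hyR : y ∈ ratStab Q R := mem_of_invariant hR hQ (le_trans (by norm_num) hn) hM hMK hG hyM hSdim
    (fun v hv => by
      obtain ⟨u, rfl⟩ := mem_movedSp.1 (hSle hv)
      rw [map_sub, ← apply_comm hzy]
      exact hSm _) hfS hf0 hf
  -- back to `g`
  have hyp := hpres y hyR
  have h1 : ∃ f : R, f ≠ 0 ∧ f.1 ∈ movedSp y := by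
    by_contra hcon
    push Not at hcon
    refine (show e2.1 ≠ 0 from fun h0 => he20 (Subtype.ext h0)) ?_
    obtain ⟨u, hu⟩ := mem_movedSp.1 hy0e.1
    have h3 : ∀ v, y.1 v - v = 0 := fun v => ext_induction (S := (⊤ : Submodule F₀ R))
      (p := fun u => y.1 u - u = 0) (by rw [map_zero, sub_zero])
      (fun a b ha hb => by
        rw [map_add, show y.1 a + y.1 b - (a + b) = (y.1 a - a) + (y.1 b - b) by abel, ha, hb,
          add_zero])
      (fun c w _ => by
        rw [map_smul, ← smul_sub]
        by_contra h0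
        exact hcon ⟨_, R.sub_mem (hyp w.1 w.2) w.2⟩ (fun h4 => h0 (by
          rw [show y.1 w.1 - w.1 = 0 from congrArg Subtype.val h4, smul_zero]))
          (mem_movedSp.2 ⟨w.1, rfl⟩))
      (by rw [hR.ext_top]; trivial)
    have h4 : g.1 e2.1 ∈ movedSp y := hmy ▸ ⟨_, hy0e.1, rfl⟩
    obtain ⟨w, hw⟩ := mem_movedSp.1 h4
    rw [h3] at hw
    exact (LinearEquiv.map_eq_zero_iff g.1).1 hw.symm
  obtain ⟨f', hf'0, hf'y⟩ := h1
  rw [hmy] at hf'y
  obtain ⟨v, hv, hgv⟩ := hf'y
  have hvY : v ∈ ext Y0 := by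
    obtain ⟨u, rfl⟩ := mem_movedSp.1 hv
    rw [hy0s]
    exact Submodule.add_mem _
      (Submodule.sub_mem _ (Submodule.smul_mem _ _ (mem_ext (Submodule.subset_span (by simp))))
        (Submodule.smul_mem _ _ (mem_ext (Submodule.subset_span (by simp)))))
      (Submodule.sub_mem _ (Submodule.smul_mem _ _ (mem_ext (Submodule.subset_span (by simp))))
        (Submodule.smul_mem _ _ (mem_ext (Submodule.subset_span (by simp)))))
  have hgv' : g.1 v = f'.1 := hgv
  exact mem_of_small hR hQ (le_trans (by norm_num) hn) hM hMK hG hg hf'0 (by rw [← hgv', g.2, hY0s v hvY]) (by omega) hvY hgv'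

end

end CfsgLib.Geo.OS
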