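import Cfsg.Agent.Geo.OrthSubfieldRoots

/-!
Overgroups of orthogonal subfield subgroups without irrational root elements at rational centres:
elements moving a rational point into a small rational subspace lie in the subfield subgroup.
-/

set_option autoImplicit false
set_option linter.unusedSectionVars false
set_option linter.style.haveILetI false

namespace CfsgLib.Geo.OS

open QuadraticMap CfsgLib.Forms CfsgLib.Quad

variable {F : Type*} [Field F] {V : Type*} [AddCommGroup V] [Module F V] [FiniteDimensional F V]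
  [Finite F] {Q : QuadraticForm F V} {F₀ : Subfield F} {R : Submodule F₀ V}

/-- Only rational root elements occur at rational centres. -/
def RatRoots (Q : QuadraticForm F V) (R : Submodule F₀ V) (M : Subgroup (oGroup Q)) : Prop :=
  ∀ e : R, e ≠ 0 → Q e.1 = 0 → ∀ a : V, polar Q e.1 a = 0 → siegel Q e.1 a ∈ M →
    ∃ x ∈ R, ∃ t : F, a = x + t • e.1

variable (hR : RatStr Q F₀ R) (hQ : (polarBilin Q).Nondegenerate)
  (hn : 7 ≤ Module.finrank F V) {M : Subgroup (oGroup Q)}
  (hM : ratStab Q R ⊓ commutator (oGroup Q) ≤ M) (hMK : M ≤ commutator (oGroup Q))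
  (hG : RatRoots Q R M)

include hR hQ hn hM hMK hG

/-- An element fixing a rational singular point. -/
theorem mem_of_fix_point {h : oGroup Q} (hh : h ∈ M) {e : R} (he0 : e ≠ 0) (he : Q e.1 = 0)
    {c : F} (hc : h.1 e.1 = c • e.1) : h ∈ ratStab Q R := by
  haveI := hR.finite
  haveI : Module.Finite F₀ R := Module.Finite.of_finite
  have he0' : e.1 ≠ 0 := fun h0 => he0 (Subtype.ext h0)
  have hc0 : c ≠ 0 := fun h0 => by
    rw [h0, zero_smul, LinearEquiv.map_eq_zero_iff] at hc
    exact he0' hc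
  obtain ⟨f, hf, hef, -⟩ := exists_rat_dual hR hQ hn ∅ he (by simpa using he0) (by simp)
  have hfe : polar Q f.1 e.1 = 1 := by rw [polar_comm, hef]
  have hQf' : Q (c • h.1 f.1) = 0 := by rw [quad_smul, h.2, hf, mul_zero]
  have hef' : polar Q e.1 (c • h.1 f.1) = 1 := by
    rw [polar_smul_right, ← polar_smul_left, ← hc, polar_oGroup, hef]
  obtain ⟨hea, hmove⟩ := siegel_move he hf hQf' hef hef'
  set a := c • h.1 f.1 - f.1
  set s := siegel Q e.1 a with hs
  have hsK : s ∈ commutator (oGroup Q) := siegel_mem_commutator hQ (by omega) he hea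
  set h0 := s⁻¹ * h with hh0
  have hsi : ∀ v : V, (s⁻¹).1 (s.1 v) = v := fun v => s.1.symm_apply_apply v
  have hh0e : h0.1 e.1 = c • e.1 := by
    change (s⁻¹).1 (h.1 e.1) = _
    conv_lhs => rw [hc, ← siegel_fix he hea (show polar Q e.1 e.1 = 0 by
      rw [polar_self, he, smul_zero]) hea]
    rw [← hs, ← map_smul, hsi]
  have hh0f : h0.1 (c • f.1) = f.1 := by
    change (s⁻¹).1 (h.1 (c • f.1)) = _
    rw [map_smul, ← hmove, hsi]
  have hkey : ∀ a0 : R, polar Q e.1 a0.1 = 0 → polar Q f.1 a0.1 = 0 →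
      c • h0.1 a0.1 ∈ R ∧ c * c * Q a0.1 ∈ F₀ := by
    intro a0 hea0 hfa0
    have hec : polar Q e.1 (c • h.1 a0.1) = 0 := by
      rw [polar_smul_right, ← polar_smul_left, ← hc, polar_oGroup, hea0]
    have h1 := siegel_conj_mem hh he hea0 (siegel_rat_mem hR hQ hn hM e.2 he a0.2 hea0)
    rw [hc, siegel_smul he (by
      rw [← smul_eq_zero_iff_right hc0, ← polar_smul_right]; exact hec)] at h1
    obtain ⟨x, hx, t, ht⟩ := hG e he0 he _ hec h1
    have hex : polar Q e.1 x = 0 := by
      rw [ht, polar_add_right, polar_smul_right, polar_self, he, smul_zero, smul_zero,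
        add_zero] at hec
      exact hec
    have hxe : polar Q (h.1 a0.1) e.1 = 0 := by
      rw [← smul_eq_zero_iff_right hc0, ← polar_smul_left, polar_comm]
      exact hec
    refine ⟨?_, ?_⟩
    · obtain ⟨τ, hτ⟩ : ∃ τ : F, c • h0.1 a0.1 = x + τ • e.1 := by
        refine ⟨t + c * polar Q (h.1 a0.1) a, ?_⟩
        change c • (s⁻¹).1 (h.1 a0.1) = _
        rw [hs, siegel_inv he hea, siegel_apply he (by rw [polar_neg_right, hea, neg_zero]), hxe,
          zero_smul, add_zero, mul_zero, add_zero, polar_neg_right, neg_smul, sub_neg_eq_add,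
          smul_add, smul_smul, ht, add_assoc, ← add_smul]
      have h2 : polar Q (c • h0.1 a0.1) f.1 = 0 := by
        conv_lhs => arg 3; rw [← hh0f]
        rw [polar_smul_left, polar_oGroup, polar_smul_right, polar_comm, hfa0, smul_zero, smul_zero]
      rw [hτ, polar_add_left, polar_smul_left, hef, smul_eq_mul, mul_one] at h2
      rw [hτ, show τ = -(polar Q x f.1) by linear_combination h2]
      exact R.add_mem hx (R.smul_mem (⟨_, F₀.neg_mem (hR.polar_mem hx f.2)⟩ : F₀) e.2)
    · have h2 : Q (c • h.1 a0.1) = c * c * Q a0.1 := by rw [quad_smul, h.2]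
      rw [← h2, ht, quad_add, quad_smul, he, polar_smul_right, polar_comm (⇑Q) x e.1, hex,
        smul_zero, mul_zero, add_zero, add_zero]
      exact hR.rat x hx
  have hperp : ∀ {a0 : R}, a0 ∈ perpS (ratForm hR) (Submodule.span F₀ {e, f}) →
      polar Q e.1 a0.1 = 0 ∧ polar Q f.1 a0.1 = 0 := fun ha =>
    ⟨(ratForm_polar_eq_zero hR).1 (ha e (Submodule.subset_span (by simp))),
      (ratForm_polar_eq_zero hR).1 (ha f (Submodule.subset_span (by simp)))⟩
  have hcc : c * c ∈ F₀ := by
    classical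
    obtain ⟨a0, ha0, hQa0⟩ := exists_aniso_of_finrank (hR.ratForm_nondeg hQ)
      (K := perpS (ratForm hR) (Submodule.span F₀ (({e, f} : Finset R) : Set R))) (by
        have := finrank_rat_perp hR hQ hn {e, f}
        have : ({e, f} : Finset R).card ≤ 2 := Finset.card_le_two
        have := hR.finrank_eq
        omega)
    rw [Finset.coe_pair] at ha0
    have h1 := F₀.mul_mem (hkey a0 (hperp ha0).1 (hperp ha0).2).2 (F₀.inv_mem (hR.rat _ a0.2))
    rwa [mul_assoc, mul_inv_cancel₀ (fun h0 => hQa0 ((ratForm_eq_zero hR).2 h0)), mul_one] at h1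
  have hh0R : h0 ∈ ratStab Q R := by
    refine ⟨c, hc0, fun x hx => ?_⟩
    set α := polar Q x f.1
    set β := polar Q x e.1
    have hαm : α ∈ F₀ := hR.polar_mem hx f.2
    have hβm : β ∈ F₀ := hR.polar_mem hx e.2
    have ha0 : x - α • e.1 - β • f.1 ∈ R :=
      R.sub_mem (R.sub_mem hx (R.smul_mem (⟨α, hαm⟩ : F₀) e.2)) (R.smul_mem (⟨β, hβm⟩ : F₀) f.2)
    have h1 : polar Q e.1 (x - α • e.1 - β • f.1) = 0 := by
      rw [polar_sub_right, polar_sub_right, polar_smul_right, polar_smul_right, polar_self, he,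
        hef, polar_comm (⇑Q) e.1 x, smul_zero, smul_zero, sub_zero, smul_eq_mul, mul_one, sub_self]
    have h2 : polar Q f.1 (x - α • e.1 - β • f.1) = 0 := by
      rw [polar_sub_right, polar_sub_right, polar_smul_right, polar_smul_right, polar_self, hf,
        hfe, polar_comm (⇑Q) f.1 x, smul_zero, smul_zero, sub_zero, smul_eq_mul, mul_one, sub_self]
    have h3 := (hkey ⟨_, ha0⟩ h1 h2).1
    have e1 : c • h0.1 x =
        (α * (c * c)) • e.1 + β • f.1 + c • h0.1 (x - α • e.1 - β • f.1) := by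
      have h4 : (c • h0.1 f.1) = f.1 := by rw [← map_smul, hh0f]
      simp only [map_sub, map_smul, hh0e, smul_sub, smul_smul]
      rw [show c * β = β * c from mul_comm _ _, ← smul_smul β c, h4]
      module
    rw [e1]
    exact R.add_mem (R.add_mem (R.smul_mem (⟨_, F₀.mul_mem hαm hcc⟩ : F₀) e.2)
      (R.smul_mem (⟨β, hβm⟩ : F₀) f.2)) h3
  have hh0M : h0 ∈ M :=
    hM ⟨hh0R, (commutator (oGroup Q)).mul_mem ((commutator (oGroup Q)).inv_mem hsK) (hMK hh)⟩
  have hsM : s ∈ M := by
    rw [show s = h * h0⁻¹ by rw [hh0]; group]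
    exact mul_mem hh (inv_mem hh0M)
  obtain ⟨x, hx, t, ht⟩ := hG e he0 he a hea hsM
  have hex : polar Q e.1 x = 0 := by
    rw [ht, polar_add_right, polar_smul_right, polar_self, he, smul_zero, smul_zero,
      add_zero] at hea
    exact hea
  have hsR : s ∈ ratStab Q R := by
    rw [hs, ht, siegel_add_smul he hex]
    exact siegel_mem_ratStab hR e.2 he hx hex
  rw [show h = s * h0 by rw [hh0]; group]
  exact mul_mem hsR hh0R

/-- An element mapping a rational singular point to a rational point. -/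
theorem mem_of_point {h : oGroup Q} (hh : h ∈ M) {e e' : R} (he0 : e ≠ 0) (he : Q e.1 = 0)
    {c : F} (hc : h.1 e.1 = c • e'.1) : h ∈ ratStab Q R := by
  have he0' : e.1 ≠ 0 := fun h0 => he0 (Subtype.ext h0)
  have hc0 : c ≠ 0 := fun h0 => by
    rw [h0, zero_smul, LinearEquiv.map_eq_zero_iff] at hc
    exact he0' hc
  have he' : Q e'.1 = 0 := by
    have h1 := h.2 e.1
    rw [hc, he, quad_smul] at h1
    exact (mul_eq_zero.1 h1).resolve_left (mul_ne_zero hc0 hc0)
  have he'0 : e' ≠ 0 := fun h0 => by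
    rw [h0, show ((0 : R) : V) = 0 from rfl, smul_zero, LinearEquiv.map_eq_zero_iff] at hc
    exact he0' hc
  obtain ⟨k, hk, t, -, -, hke⟩ := exists_rat_move hR hQ hn he'0 he0 he' he
  have h1 : k * h ∈ ratStab Q R := mem_of_fix_point hR hQ hn hM hMK hG (mul_mem (hM hk) hh) he0 he
    (c := c * t) (by
      change k.1 (h.1 e.1) = _
      rw [hc, map_smul, hke, smul_smul])
  simpa using (ratStab Q R).mul_mem ((ratStab Q R).inv_mem hk.1) h1

/-- An element sending a point to a rational singular point, given two lines through a rational singular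
point orthogonal to the point. -/
theorem mem_of_lines {h : oGroup Q} (hh : h ∈ M) {f : R} (hf0 : f ≠ 0) (hf : Q f.1 = 0)
    {Y : Submodule F₀ R} {v : V} (hv : v ∈ ext Y) (hhv : h.1 v = f.1) {u a a' : R} (hu0' : u ≠ 0)
    (hu : Q u.1 = 0) (huK : u ∈ perpS (ratForm hR) Y) (ha : Q a.1 = 0) (ha' : Q a'.1 = 0)
    (haK : a ∈ perpS (ratForm hR) Y ⊓ perpS (ratForm hR) (Submodule.span F₀ {u}))
    (ha'K : a' ∈ perpS (ratForm hR) Y ⊓ perpS (ratForm hR) (Submodule.span F₀ {u}))
    (hau : a ∉ Submodule.span F₀ {u}) (ha'u : a' ∉ Submodule.span F₀ ({u, a} : Set R)) :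
    h ∈ ratStab Q R := by
  classical
  haveI := hR.finite
  haveI : Module.Finite F₀ R := Module.Finite.of_finite
  set K := perpS (ratForm hR) Y with hK
  set K1 := K ⊓ perpS (ratForm hR) (Submodule.span F₀ {u})
  have hvK : ∀ {x : R}, x ∈ K → polar Q v x.1 = 0 := by
    intro x hx
    exact ext_induction (p := fun z => polar Q z x.1 = 0) (polar_zero_left Q _)
      (fun a b ha hb => by rw [polar_add_left, ha, hb, add_zero])
      (fun c r hr => by rw [polar_smul_left, (ratForm_polar_eq_zero hR).1 (hx r hr), smul_zero]) hv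
  -- for each of the two lines, a rational line inside its image
  have hkey : ∀ b : R, b ∈ K1 → Q b.1 = 0 → b ∉ Submodule.span F₀ {u} → ∃ S : Submodule F₀ R,
      h.1 u.1 ∈ ext S ∧ ∀ x ∈ S, ∃ s t : F, x.1 = h.1 (s • u.1 + t • b.1) := by
    intro b hb hQb hbu
    have hub : polar Q u.1 b.1 = 0 :=
      (ratForm_polar_eq_zero hR).1 (hb.2 u (Submodule.mem_span_singleton_self u))
    have hyM := siegel_conj_mem hh hu hub (siegel_rat_mem hR hQ hn hM u.2 hu b.2 hub)
    set y := siegel Q (h.1 u.1) (h.1 b.1)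
    have hQu : Q (h.1 u.1) = 0 := by rw [h.2, hu]
    have hub' : polar Q (h.1 u.1) (h.1 b.1) = 0 := by rw [polar_oGroup, hub]
    have hyf : y.1 f.1 = f.1 := siegel_fix hQu hub'
      (by rw [← hhv, polar_oGroup, hvK huK]) (by rw [← hhv, polar_oGroup, hvK hb.1])
    obtain ⟨d, hd, hyR⟩ := mem_of_fix_point hR hQ hn hM hMK hG hyM hf0 hf (c := 1)
      (by rw [hyf, one_smul])
    have hdm : d ∈ F₀ := hR.scalar_mem hQ f.2 (fun h0 => hf0 (Subtype.ext h0))
      (by have := hyR f.1 f.2; rwa [hyf] at this)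
    have hpres : ∀ x ∈ R, y.1 x ∈ R := fun x hx => by
      have := R.smul_mem (⟨d⁻¹, F₀.inv_mem hdm⟩ : F₀) (hyR x hx)
      change d⁻¹ • d • y.1 x ∈ R at this
      rwa [smul_smul, inv_mul_cancel₀ hd, one_smul] at this
    have hdiff : ∀ z : V, y.1 z - z = h.1 ((-(polar Q z (h.1 b.1))) • u.1 +
        polar Q z (h.1 u.1) • b.1) := fun z => by
      rw [siegel_apply hQu hub', h.2, hQb, zero_mul, add_zero, map_add, map_smul, map_smul]
      module
    refine ⟨Submodule.span F₀ (Set.range fun x : R => (⟨y.1 x.1 - x.1,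
      R.sub_mem (hpres x.1 x.2) x.2⟩ : R)), ?_, fun x hx => ?_⟩
    · obtain ⟨x0, hx0, hx0b⟩ : ∃ x0, polar Q x0 (h.1 u.1) = 0 ∧ polar Q x0 (h.1 b.1) ≠ 0 := by
        by_contra hcon
        push Not at hcon
        have hmem : h.1 b.1 ∈ perpS Q (perpS Q (Submodule.span F {h.1 u.1})) := fun z hz => by
          refine hcon z ?_
          rw [polar_comm]
          exact hz _ (Submodule.mem_span_singleton_self _)
        rw [perpS_perpS hQ, Submodule.mem_span_singleton] at hmem
        obtain ⟨t, ht⟩ := hmem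
        rw [← map_smul] at ht
        refine hbu (hR.mem_of_mem_ext ?_)
        rw [← h.1.injective ht]
        exact Submodule.smul_mem _ _ (mem_ext (Submodule.mem_span_singleton_self u))
      set S := Submodule.span F₀ (Set.range fun x : R => (⟨y.1 x.1 - x.1,
        R.sub_mem (hpres x.1 x.2) x.2⟩ : R))
      have h1 : y.1 x0 - x0 ∈ ext S := by
        refine ext_induction (S := (⊤ : Submodule F₀ R)) (p := fun z => y.1 z - z ∈ ext S)
          (by rw [map_zero, sub_zero]; exact zero_mem _)
          (fun a b ha hb => by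
            rw [map_add, show y.1 a + y.1 b - (a + b) = (y.1 a - a) + (y.1 b - b) by abel]
            exact add_mem ha hb)
          (fun c x _ => by
            rw [map_smul, ← smul_sub]
            exact Submodule.smul_mem _ c
              (mem_ext (x := (⟨y.1 x.1 - x.1, R.sub_mem (hpres x.1 x.2) x.2⟩ : R))
                (Submodule.subset_span ⟨x, rfl⟩)))
          (by rw [hR.ext_top]; trivial)
      rw [hdiff, hx0, zero_smul, add_zero, map_smul] at h1
      exact (Submodule.smul_mem_iff _ (neg_ne_zero.2 hx0b)).1 h1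
    · induction hx using Submodule.span_induction with
      | mem z hz =>
        obtain ⟨w, rfl⟩ := hz
        exact ⟨_, _, hdiff w.1⟩
      | zero => exact ⟨0, 0, by simp⟩
      | add z w _ _ hz hw =>
        obtain ⟨s, t, e1⟩ := hz
        obtain ⟨s', t', e2⟩ := hw
        exact ⟨s + s', t + t', by
          rw [show ((z + w : R) : V) = z.1 + w.1 from rfl, e1, e2, ← map_add]; congr 1; module⟩
      | smul k z _ hz =>
        obtain ⟨s, t, e1⟩ := hz
        exact ⟨(k : F) * s, (k : F) * t, by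
          rw [show ((k • z : R) : V) = (k : F) • z.1 from rfl, e1, ← map_smul]; congr 1; module⟩
  obtain ⟨S, hS, hS'⟩ := hkey a haK ha hau
  obtain ⟨S', hT, hT'⟩ := hkey a' ha'K ha'
    (fun h1 => ha'u (Submodule.span_mono (by simp) h1))
  have hmem : h.1 u.1 ∈ ext (S ⊓ S') := by rw [← hR.ext_inf]; exact ⟨hS, hT⟩
  obtain ⟨w, hw, hw0⟩ : ∃ w ∈ S ⊓ S', w ≠ 0 := by
    refine Submodule.exists_mem_ne_zero_of_ne_bot fun h0 => ?_
    rw [h0, ext_bot, Submodule.mem_bot, LinearEquiv.map_eq_zero_iff] at hmem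
    exact hu0' (Subtype.ext hmem)
  obtain ⟨s, t, e1⟩ := hS' w hw.1
  obtain ⟨s', t', e2⟩ := hT' w hw.2
  have e3 : s • u.1 + t • a.1 = s' • u.1 + t' • a'.1 := h.1.injective (e1.symm.trans e2)
  have ht' : t' = 0 := by
    by_contra hne
    refine ha'u (hR.mem_of_mem_ext ((Submodule.smul_mem_iff _ hne).1 ?_))
    rw [show t' • a'.1 = (s - s') • u.1 + t • a.1 by rw [sub_smul, eq_sub_of_add_eq' e3.symm]; abel]
    exact Submodule.add_mem _ (Submodule.smul_mem _ _ (mem_ext (Submodule.subset_span (by simp))))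
      (Submodule.smul_mem _ _ (mem_ext (Submodule.subset_span (by simp))))
  rw [ht', zero_smul, add_zero, map_smul] at e2
  have hs' : s' ≠ 0 := fun h0 => hw0 (Subtype.ext (by rw [e2, h0, zero_smul]; rfl))
  exact mem_of_point hR hQ hn hM hMK hG hh hu0' hu (c := s'⁻¹) (e' := w)
    (by rw [e2, smul_smul, inv_mul_cancel₀ hs', one_smul])

/-- An element sending a point of a small rational subspace to a rational singular point. -/
theorem mem_of_small {h : oGroup Q} (hh : h ∈ M) {f : R} (hf0 : f ≠ 0) (hf : Q f.1 = 0)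
    {Y : Submodule F₀ R} (hY : Module.finrank F₀ Y + 6 ≤ Module.finrank F V) {v : V}
    (hv : v ∈ ext Y) (hhv : h.1 v = f.1) : h ∈ ratStab Q R := by
  classical
  haveI := hR.finite
  haveI : Module.Finite F₀ R := Module.Finite.of_finite
  set K := perpS (ratForm hR) Y with hK
  have hK6 : 6 ≤ Module.finrank F₀ K := by
    have h1 := finrank_perpS (hR.ratForm_nondeg hQ) Y
    rw [hR.finrank_eq] at h1
    change 6 ≤ Module.finrank F₀ (perpS (ratForm hR) Y)
    omega
  obtain ⟨u, huK, hu, hu0⟩ := exists_rat_singular hR hQ hn K ⊥ (by rw [finrank_bot]; omega)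
  have hu0' : u ≠ 0 := fun h0 => hu0 (by rw [h0]; exact zero_mem _)
  set K1 := K ⊓ perpS (ratForm hR) (Submodule.span F₀ {u})
  have hK1 : 5 ≤ Module.finrank F₀ K1 := by
    have h1 := Submodule.finrank_sup_add_finrank_inf_eq K
      (perpS (ratForm hR) (Submodule.span F₀ {u}))
    have h2 := Submodule.finrank_le (K ⊔ perpS (ratForm hR) (Submodule.span F₀ {u}))
    have h3 := finrank_perpS (hR.ratForm_nondeg hQ) (Submodule.span F₀ {u})
    have h4 : Module.finrank F₀ (Submodule.span F₀ {u}) = 1 := finrank_span_singleton hu0'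
    change 5 ≤ Module.finrank F₀ ↥(K ⊓ perpS (ratForm hR) (Submodule.span F₀ {u}))
    omega
  obtain ⟨a, haK, ha, hau⟩ := exists_rat_singular hR hQ hn K1 (Submodule.span F₀ {u}) (by
    have : Module.finrank F₀ (Submodule.span F₀ {u}) = 1 := finrank_span_singleton hu0'
    omega)
  obtain ⟨a', ha'K, ha', ha'u⟩ := exists_rat_singular hR hQ hn K1
    (Submodule.span F₀ (({u, a} : Finset R) : Set R)) (by
      have := finrank_span_finset_le_card (R := F₀) ({u, a} : Finset R)
      have : ({u, a} : Finset R).card ≤ 2 := Finset.card_le_two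
      change Module.finrank F₀ (Submodule.span F₀ (({u, a} : Finset R) : Set R)) + 3 ≤ _
      unfold Set.finrank at *
      omega)
  rw [Finset.coe_pair] at ha'u
  exact mem_of_lines hR hQ hn hM hMK hG hh hf0 hf hv hhv hu0' hu huK ha ha' haK ha'K hau ha'u

/-- An element sending a point of a non-degenerate rational subspace of codimension at least five to a
rational singular point. -/
theorem mem_of_small_nd {h : oGroup Q} (hh : h ∈ M) {f : R} (hf0 : f ≠ 0) (hf : Q f.1 = 0)
    {Y : Submodule F₀ R} (hY : Module.finrank F₀ Y + 5 ≤ Module.finrank F V) (hYnd : ND (ratForm hR) Y)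
    {v : V} (hv : v ∈ ext Y) (hhv : h.1 v = f.1) : h ∈ ratStab Q R := by
  haveI := hR.finite
  haveI : Module.Finite F₀ R := Module.Finite.of_finite
  have hQ0 := hR.ratForm_nondeg hQ
  set K := perpS (ratForm hR) Y with hK
  have hK5 : 5 ≤ Module.finrank F₀ K := by
    have h1 := finrank_perpS hQ0 Y
    rw [hR.finrank_eq] at h1
    change 5 ≤ Module.finrank F₀ (perpS (ratForm hR) Y)
    omega
  obtain ⟨u, huK, hu, hu0⟩ := exists_rat_singular hR hQ hn K ⊥ (by rw [finrank_bot]; omega)
  have hu0' : u ≠ 0 := fun h0 => hu0 (by rw [h0]; exact zero_mem _)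
  have hu1 : Module.finrank F₀ (Submodule.span F₀ {u}) = 1 := finrank_span_singleton hu0'
  set K1 := K ⊓ perpS (ratForm hR) (Submodule.span F₀ {u})
  have hK1 : 4 ≤ Module.finrank F₀ K1 := by
    have := ND.finrank_inf_perp_singleton hQ0 K u
    change 4 ≤ Module.finrank F₀ ↥(K ⊓ perpS (ratForm hR) (Submodule.span F₀ {u}))
    omega
  obtain ⟨a, haK, ha, hau⟩ := exists_rat_singular hR hQ hn K1 (Submodule.span F₀ {u}) (by omega)
  obtain ⟨b, hbK, hbu, hab⟩ := ND.partner_perp hQ0 (ND.perp hQ0 hYnd)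
    ((Submodule.span_singleton_le_iff_mem _ _).2 huK) haK.1 hau
  set q := ratForm hR
  have ha0 : q a = 0 := (ratForm_eq_zero hR).2 ha
  set a' := b + (-(q b / polar q a b)) • a
  have hq : q a' = 0 := by
    rw [quad_add, quad_smul, ha0, polar_smul_right, polar_comm (⇑q) b a, smul_eq_mul]
    field_simp; ring
  have ha'K : a' ∈ K1 := K1.add_mem ⟨hbK, hbu⟩ (K1.smul_mem _ haK)
  refine mem_of_lines hR hQ hn hM hMK hG hh hf0 hf hv hhv hu0' hu huK ha ((ratForm_eq_zero hR).1 hq)
    haK ha'K hau fun hmem => hab ?_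
  have hb : b ∈ Submodule.span F₀ ({u, a} : Set R) := by
    have h1 := Submodule.sub_mem _ hmem (Submodule.smul_mem _ (-(q b / polar q a b))
      (Submodule.subset_span (show a ∈ ({u, a} : Set R) by simp)))
    rwa [add_sub_cancel_right] at h1
  obtain ⟨s, t, rfl⟩ := Submodule.mem_span_pair.1 hb
  rw [polar_add_right, polar_smul_right, polar_smul_right, polar_self, ha0, polar_comm (⇑q) a u,
    haK.2 u (Submodule.mem_span_singleton_self u)]
  simp

/-- A large subfield index is needed. -/
theorem le_ratStab_of_small_index {r : ℕ} (hcard : Nat.card F = Nat.card F₀ ^ r)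
    (hr : r + 6 ≤ Module.finrank F V) : M ≤ ratStab Q R := by
  classical
  haveI := hR.finite
  haveI : Module.Finite F₀ R := Module.Finite.of_finite
  haveI : Module.Finite F₀ F := Module.Finite.of_finite
  intro h hh
  obtain ⟨f, hf, hf0, -⟩ := exists_rat_perp hR hQ hn ∅ (by simp; omega)
  have hrank : Module.finrank F₀ F = r := by
    haveI := Fintype.ofFinite F
    haveI := Fintype.ofFinite F₀
    have h1 := Module.card_eq_pow_finrank (K := F₀) (V := F)
    rw [← Nat.card_eq_fintype_card, hcard, Fintype.card_eq_nat_card] at h1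
    exact (Nat.pow_right_injective (Finite.one_lt_card (α := F₀)) h1).symm
  set v := h.1.symm f.1 with hv
  obtain ⟨m, b, hb⟩ := hR.exists_basis
  let w := Module.finBasis F₀ F
  let comp : Fin (Module.finrank F₀ F) → R := fun j =>
    ⟨∑ i, (w.repr (b.repr v i) j : F) • b i, R.sum_mem fun i _ =>
      R.smul_mem (w.repr (b.repr v i) j) (hb ▸ Submodule.subset_span ⟨i, rfl⟩)⟩
  have hmem : v ∈ ext (Submodule.span F₀ (Set.range comp)) := by
    have h1 : v = ∑ j, w j • (comp j).1 := by
      simp only [comp, Finset.smul_sum, smul_smul]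
      rw [Finset.sum_comm]
      simp only [← Finset.sum_smul]
      conv_lhs => rw [← b.sum_repr v]
      refine Finset.sum_congr rfl fun i _ => ?_
      congr 1
      conv_lhs => rw [← w.sum_repr (b.repr v i)]
      exact Finset.sum_congr rfl fun j _ => by rw [Subfield.smul_def, smul_eq_mul, mul_comm]
    rw [h1]
    exact Submodule.sum_mem _ fun j _ =>
      Submodule.smul_mem _ _ (mem_ext (Submodule.subset_span ⟨j, rfl⟩))
  refine mem_of_small hR hQ hn hM hMK hG hh (by simpa using hf0) hf
    (Y := Submodule.span F₀ (Set.range comp)) ?_ hmem (h.1.apply_symm_apply _)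
  have h1 : Module.finrank F₀ (Submodule.span F₀ (Set.range comp)) ≤ r :=
    (finrank_range_le_card comp).trans (by rw [Fintype.card_fin, hrank])
  omega

/-- An element preserving a small rational subspace with a singular vector. -/
theorem mem_of_invariant {y : oGroup Q} (hy : y ∈ M) {Y : Submodule F₀ R}
    (hY : Module.finrank F₀ Y + 6 ≤ Module.finrank F V) (hpres : ∀ v ∈ ext Y, y.1 v ∈ ext Y)
    {f : R} (hfY : f ∈ Y) (hf0 : f ≠ 0) (hf : Q f.1 = 0) : y ∈ ratStab Q R := by
  have h1 := mem_of_small hR hQ hn hM hMK hG (inv_mem hy) hf0 hf hY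
    (hpres _ (mem_ext hfY)) (y.1.symm_apply_apply f.1)
  exact (ratStab Q R).inv_mem_iff.1 h1

end CfsgLib.Geo.OS
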