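import Cfsg.Agent.Geo.OrthRational
import Cfsg.Agent.Geo.OrthLagrangianPair

/-!
Subfield subgroups of orthogonal groups: the rational stabiliser, rational root elements, and the
generation of `Ω` from one irrational root element at a rational centre.
-/

set_option autoImplicit false
set_option linter.unusedSectionVars false
set_option linter.style.haveILetI false

namespace CfsgLib.Geo.OS

open QuadraticMap CfsgLib.Forms CfsgLib.Quad

variable {F : Type*} [Field F] {V : Type*} [AddCommGroup V] [Module F V] [FiniteDimensional F V]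
  [Finite F] {Q : QuadraticForm F V} {F₀ : Subfield F} {R : Submodule F₀ V}

/-- The isometries mapping the rational vectors to a multiple of the rational vectors. -/
def ratStab (Q : QuadraticForm F V) (R : Submodule F₀ V) : Subgroup (oGroup Q) where
  carrier := {g | ∃ d : F, d ≠ 0 ∧ ∀ x ∈ R, d • g.1 x ∈ R}
  one_mem' := ⟨1, one_ne_zero, fun x hx => by simpa using hx⟩
  mul_mem' := by
    rintro g h ⟨d, hd, hg⟩ ⟨d', hd', hh⟩
    refine ⟨d * d', mul_ne_zero hd hd', fun x hx => ?_⟩
    have h1 := hg _ (hh x hx)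
    rw [map_smul, smul_smul] at h1
    exact h1
  inv_mem' := by
    rintro g ⟨d, hd, hg⟩
    haveI : Finite V := Module.finite_of_finite F
    haveI := Fintype.ofFinite V
    let f : R → R := fun x => ⟨d • g.1 x.1, hg x.1 x.2⟩
    have hf : Function.Injective f := fun x y e => by
      have h1 := congrArg Subtype.val e
      exact Subtype.ext (g.1.injective (smul_right_injective V hd h1))
    refine ⟨d⁻¹, inv_ne_zero hd, fun x hx => ?_⟩
    obtain ⟨y, hy⟩ := Finite.surjective_of_injective hf ⟨x, hx⟩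
    have h1 : d • g.1 y.1 = x := congrArg Subtype.val hy
    change d⁻¹ • g.1.symm x ∈ R
    rw [← h1, map_smul, LinearEquiv.symm_apply_apply, smul_smul, inv_mul_cancel₀ hd, one_smul]
    exact y.2

theorem mem_ratStab_of_preserves {g : oGroup Q} (h : ∀ x ∈ R, g.1 x ∈ R) : g ∈ ratStab Q R :=
  ⟨1, one_ne_zero, fun x hx => by rw [one_smul]; exact h x hx⟩

theorem siegel_rat (hR : RatStr Q F₀ R) {e a : V} (he : e ∈ R) (hQe : Q e = 0) (ha : a ∈ R)
    (hea : polar Q e a = 0) {x : V} (hx : x ∈ R) : (siegel Q e a).1 x ∈ R := by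
  rw [siegel_apply hQe hea]
  exact R.sub_mem (R.add_mem hx (R.smul_mem (⟨_, hR.polar_mem hx he⟩ : F₀) ha))
    (R.smul_mem (⟨_, F₀.add_mem (hR.polar_mem hx ha)
      (F₀.mul_mem (hR.rat a ha) (hR.polar_mem hx he))⟩ : F₀) he)

theorem siegel_mem_ratStab (hR : RatStr Q F₀ R) {e a : V} (he : e ∈ R) (hQe : Q e = 0) (ha : a ∈ R)
    (hea : polar Q e a = 0) : siegel Q e a ∈ ratStab Q R :=
  mem_ratStab_of_preserves fun _ => siegel_rat hR he hQe ha hea

theorem refl_rat (hR : RatStr Q F₀ R) {d x : V} (hd : d ∈ R) (hx : x ∈ R) :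
    (refl Q d).1 x ∈ R := by
  rw [refl_apply]
  exact R.add_mem hx (R.smul_mem (⟨_, F₀.mul_mem (F₀.neg_mem (F₀.inv_mem (hR.rat d hd)))
    (hR.polar_mem hx hd)⟩ : F₀) hd)

/-- A rational scalar squares into the subfield. -/
theorem sq_mem_of_scaled (hR : RatStr Q F₀ R) (hQ : (polarBilin Q).Nondegenerate) {x : V}
    (hx : x ∈ R) (hx0 : x ≠ 0) {g : oGroup Q} {d : F} (hd : ∀ y ∈ R, d • g.1 y ∈ R) :
    d * d ∈ F₀ := by
  obtain ⟨r, hr, hrx⟩ : ∃ r ∈ R, polar Q r x ≠ 0 := by
    by_contra hcon
    push Not at hcon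
    exact hx0 (hR.eq_zero_of_perp hQ hcon)
  have h1 := hR.polar_mem (hd r hr) (hd x hx)
  rw [polar_smul_left, polar_smul_right, polar_oGroup, smul_eq_mul, smul_eq_mul, ← mul_assoc] at h1
  have h2 := F₀.mul_mem h1 (F₀.inv_mem (hR.polar_mem hr hx))
  rwa [mul_assoc, mul_inv_cancel₀ hrx, mul_one] at h2

omit [Finite F] in
/-- A subfield of prime index has nothing strictly between. -/
theorem eq_univ_of_subring' [Finite F] {r : ℕ} (hr : r.Prime)
    (hcard : Nat.card F = Nat.card F₀ ^ r) {S : Set F} (hF₀ : ∀ x ∈ F₀, x ∈ S)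
    (hadd : ∀ x ∈ S, ∀ y ∈ S, x + y ∈ S) (hmul : ∀ x ∈ S, ∀ y ∈ S, x * y ∈ S) {c : F} (hc : c ∈ S)
    (hc' : c ∉ F₀) : ∀ x, x ∈ S := by
  haveI := Fintype.ofFinite F
  haveI := Fintype.ofFinite F₀
  let A : Subalgebra F₀ F :=
    { carrier := S
      zero_mem' := hF₀ 0 F₀.zero_mem
      one_mem' := hF₀ 1 F₀.one_mem
      add_mem' := fun {x y} hx hy => hadd x hx y hy
      mul_mem' := fun {x y} hx hy => hmul x hx y hy
      algebraMap_mem' := fun a => hF₀ a a.2 }
  have hrank : Module.finrank F₀ F = r := by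
    have h1 := Module.card_eq_pow_finrank (K := F₀) (V := F)
    rw [← Nat.card_eq_fintype_card, hcard, Fintype.card_eq_nat_card] at h1
    exact (Nat.pow_right_injective (Finite.one_lt_card (α := F₀)) h1).symm
  haveI := Subalgebra.isSimpleOrder_of_finrank_prime F₀ F (hrank ▸ hr)
  have hA : A = ⊤ := (eq_bot_or_eq_top A).resolve_left fun hbot => hc' (by
    have h1 : c ∈ A := hc
    rw [hbot, Algebra.mem_bot] at h1
    obtain ⟨a, rfl⟩ := h1
    exact a.2)
  intro x
  exact (hA ▸ Algebra.mem_top : x ∈ A)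

section

variable (hR : RatStr Q F₀ R) (hQ : (polarBilin Q).Nondegenerate)
  (hn : 7 ≤ Module.finrank F V)

include hR hQ hn

/-- A rational singular vector in a rational subspace, outside another one. -/
theorem exists_rat_singular (K S : Submodule F₀ R)
    (h : Module.finrank F₀ S + 3 ≤ Module.finrank F₀ K) :
    ∃ z ∈ K, Q z.1 = 0 ∧ z ∉ S := by
  haveI := hR.finite
  haveI : Module.Finite F₀ R := Module.Finite.of_finite
  obtain ⟨z, hz, h0, hzS⟩ := exists_singular_outside (hR.ratForm_nondeg hQ) K S h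
  exact ⟨z, hz, (ratForm_eq_zero hR).1 h0, hzS⟩

/-- The rational orthogonal space of finitely many rational vectors is large. -/
theorem finrank_rat_perp (s : Finset R) :
    Module.finrank F V ≤
      s.card + Module.finrank F₀ (perpS (ratForm hR) (Submodule.span F₀ (s : Set R))) := by
  haveI := hR.finite
  haveI : Module.Finite F₀ R := Module.Finite.of_finite
  have h1 := finrank_perpS (hR.ratForm_nondeg hQ) (Submodule.span F₀ (s : Set R))
  rw [hR.finrank_eq] at h1
  have h2 : Module.finrank F₀ (Submodule.span F₀ (s : Set R)) ≤ s.card :=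
    finrank_span_finset_le_card s
  omega

/-- A rational singular vector orthogonal to given ones and outside their span. -/
theorem exists_rat_perp (s : Finset R) (h : 2 * s.card + 3 ≤ Module.finrank F V) :
    ∃ z : R, Q z.1 = 0 ∧ z ∉ Submodule.span F₀ (s : Set R) ∧ ∀ y ∈ s, polar Q y.1 z.1 = 0 := by
  haveI := hR.finite
  haveI : Module.Finite F₀ R := Module.Finite.of_finite
  have h1 := finrank_rat_perp hR hQ hn s
  have h2 : Module.finrank F₀ (Submodule.span F₀ (s : Set R)) ≤ s.card :=
    finrank_span_finset_le_card s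
  obtain ⟨z, hz, h0, hzS⟩ := exists_rat_singular hR hQ hn
    (perpS (ratForm hR) (Submodule.span F₀ (s : Set R))) (Submodule.span F₀ (s : Set R)) (by omega)
  exact ⟨z, h0, hzS, fun y hy => (ratForm_polar_eq_zero hR).1 (hz y (Submodule.subset_span hy))⟩

/-- A rational singular partner. -/
theorem exists_rat_partner (K : Submodule F₀ R) {b : R} (hb : Q b.1 = 0)
    (hbK : b ∈ K) (hb' : b ∉ perpS (ratForm hR) K) :
    ∃ p ∈ K, Q p.1 = 0 ∧ polar Q b.1 p.1 = 1 := by
  obtain ⟨x, hx, hbx⟩ : ∃ x ∈ K, polar (ratForm hR) b x ≠ 0 := by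
    by_contra hc
    push Not at hc
    exact hb' fun h hh => by rw [polar_comm]; exact hc h hh
  obtain ⟨x1, hx1, h1⟩ : ∃ x1 ∈ K, polar (ratForm hR) b x1 = 1 :=
    ⟨(polar (ratForm hR) b x)⁻¹ • x, K.smul_mem _ hx,
      by rw [polar_smul_right, smul_eq_mul, inv_mul_cancel₀ hbx]⟩
  have hb0 : ratForm hR b = 0 := (ratForm_eq_zero hR).2 hb
  refine ⟨x1 - ratForm hR x1 • b, K.sub_mem hx1 (K.smul_mem _ hbK),
    (ratForm_eq_zero hR).1 ?_, ?_⟩
  · rw [sub_eq_add_neg, ← neg_smul, quad_add, quad_smul, hb0, polar_smul_right,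
      polar_comm (⇑(ratForm hR)) x1 b, h1, smul_eq_mul]
    ring
  · have h2 : polar (ratForm hR) b (x1 - ratForm hR x1 • b) = 1 := by
      rw [polar_sub_right, h1, polar_smul_right, polar_self, hb0, smul_zero, smul_zero, sub_zero]
    exact congrArg Subtype.val h2

/-- A rational vector orthogonal to rational ones, non-orthogonal to one outside their span. -/
theorem exists_rat_dual (s : Finset R) {b : R} (hb : Q b.1 = 0)
    (hbs : b ∉ Submodule.span F₀ (s : Set R)) (hperp : ∀ y ∈ s, polar Q y.1 b.1 = 0) :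
    ∃ p : R, Q p.1 = 0 ∧ polar Q b.1 p.1 = 1 ∧ ∀ y ∈ s, polar Q y.1 p.1 = 0 := by
  haveI := hR.finite
  haveI : Module.Finite F₀ R := Module.Finite.of_finite
  set K := perpS (ratForm hR) (Submodule.span F₀ (s : Set R))
  have hbK : b ∈ K := by
    intro h hh
    induction hh using Submodule.span_induction with
    | mem y hy => exact (ratForm_polar_eq_zero hR).2 (hperp y hy)
    | zero => exact polar_zero_left _ _
    | add u v _ _ hu hv => rw [polar_add_left, hu, hv, add_zero]
    | smul t u _ hu => rw [polar_smul_left, hu, smul_zero]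
  obtain ⟨p, hp, h0, h1⟩ := exists_rat_partner hR hQ hn K hb hbK
    (by rwa [perpS_perpS (hR.ratForm_nondeg hQ)])
  exact ⟨p, h0, h1, fun y hy => (ratForm_polar_eq_zero hR).1 (hp y (Submodule.subset_span hy))⟩

/-- Rational singular points are conjugate under rational root elements. -/
theorem exists_rat_move {e e' : R} (he0 : e ≠ 0) (he'0 : e' ≠ 0) (he : Q e.1 = 0)
    (he' : Q e'.1 = 0) :
    ∃ k ∈ ratStab Q R ⊓ commutator (oGroup Q), ∃ t : F, t ∈ F₀ ∧ t ≠ 0 ∧ k.1 e.1 = t • e'.1 := by
  haveI := hR.finite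
  haveI : Module.Finite F₀ R := Module.Finite.of_finite
  obtain ⟨p, hp0, hep, he'p⟩ := exists_common_nonorth (hR.ratForm_nondeg hQ)
    (by rw [hR.finrank_eq]; omega) he0 he'0 ((ratForm_eq_zero hR).2 he) ((ratForm_eq_zero hR).2 he')
  have hp : Q p.1 = 0 := (ratForm_eq_zero hR).1 hp0
  set α := polar Q p.1 e.1 with hα
  set β := polar Q p.1 e'.1 with hβ
  have hα0 : α ≠ 0 := fun h => hep (by
    rw [polar_comm]; exact (ratForm_polar_eq_zero hR).2 h)
  have hβ0 : β ≠ 0 := fun h => he'p (by
    rw [polar_comm]; exact (ratForm_polar_eq_zero hR).2 h)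
  have hαm : α ∈ F₀ := hR.polar_mem p.2 e.2
  have hβm : β ∈ F₀ := hR.polar_mem p.2 e'.2
  have h1 : α⁻¹ • e.1 ∈ R := R.smul_mem (⟨_, F₀.inv_mem hαm⟩ : F₀) e.2
  have h2 : β⁻¹ • e'.1 ∈ R := R.smul_mem (⟨_, F₀.inv_mem hβm⟩ : F₀) e'.2
  obtain ⟨hperp, hmove⟩ := siegel_move hp (f := α⁻¹ • e.1) (h := β⁻¹ • e'.1)
    (by rw [quad_smul, he, mul_zero]) (by rw [quad_smul, he', mul_zero])
    (by rw [polar_smul_right, smul_eq_mul, inv_mul_cancel₀ hα0])
    (by rw [polar_smul_right, smul_eq_mul, inv_mul_cancel₀ hβ0])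
  refine ⟨_, ⟨siegel_mem_ratStab hR p.2 hp (R.sub_mem h2 h1) hperp,
    siegel_mem_commutator hQ (by omega) hp hperp⟩, α * β⁻¹, F₀.mul_mem hαm (F₀.inv_mem hβm),
    mul_ne_zero hα0 (inv_ne_zero hβ0), ?_⟩
  have h3 := congrArg (fun z => α • z) hmove
  simp only [← map_smul, smul_smul, mul_inv_cancel₀ hα0, one_smul] at h3
  exact h3

variable {M : Subgroup (oGroup Q)} (hM : ratStab Q R ⊓ commutator (oGroup Q) ≤ M)

include hM

theorem siegel_rat_mem {e a : V} (he : e ∈ R) (hQe : Q e = 0) (ha : a ∈ R)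
    (hea : polar Q e a = 0) : siegel Q e a ∈ M :=
  hM ⟨siegel_mem_ratStab hR he hQe ha hea, siegel_mem_commutator hQ (by omega) hQe hea⟩

/-- The difference of a root parameter and its image lies again in the root parameters. -/
theorem siegel_diff {e a : V} {k : oGroup Q} (hk : k ∈ M) (he : Q e = 0)
    (hea : polar Q e a = 0) (ha : siegel Q e a ∈ M) (hke : k.1 e = e) :
    polar Q e (k.1 a - a) = 0 ∧ siegel Q e (k.1 a - a) ∈ M := by
  have hea' : polar Q e (k.1 a) = 0 := by rw [← hke, polar_oGroup, hea]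
  have h1 := siegel_conj_mem hk he hea ha
  rw [hke] at h1
  refine ⟨by rw [polar_sub_right, hea', hea, sub_zero], ?_⟩
  rw [sub_eq_add_neg, ← siegel_mul he hea' (by rw [polar_neg_right, hea, neg_zero]),
    ← siegel_inv he hea]
  exact mul_mem h1 (inv_mem ha)

/-- Passing a scalar to an orthogonal singular rational vector. -/
theorem scalar_step {e w v : R} (he : Q e.1 = 0) (hew : polar Q e.1 w.1 = 0) (hw : Q w.1 = 0)
    (hv : Q v.1 = 0) (hev : polar Q e.1 v.1 = 0) (hwv : polar Q w.1 v.1 = 0)
    (hw' : w ∉ Submodule.span F₀ ({e, v} : Set R)) {c : F}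
    (h : siegel Q e.1 (c • w.1) ∈ M) : siegel Q e.1 (c • v.1) ∈ M := by
  classical
  obtain ⟨q, hq, hwq, hqs⟩ := exists_rat_dual hR hQ hn {e, v} hw
    (by simpa using hw') (by simp [hew, polar_comm (⇑Q) v.1 w.1, hwv])
  have hqe : polar Q e.1 q.1 = 0 := hqs e (by simp)
  have hqv : polar Q q.1 v.1 = 0 := by rw [polar_comm]; exact hqs v (by simp)
  have hs := siegel_rat_mem hR hQ hn hM q.2 hq v.2 hqv
  have hfix : (siegel Q q.1 v.1).1 e.1 = e.1 := siegel_fix hq hqv hqe hev
  have hec : polar Q e.1 (c • w.1) = 0 := by rw [polar_smul_right, hew, smul_zero]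
  have h2 := (siegel_diff hR hQ hn hM hs he hec h hfix).2
  rwa [map_smul, ← smul_sub, siegel_apply hq hqv, hwq, hwv, hv, one_smul, zero_mul, add_zero,
    zero_smul, sub_zero, add_sub_cancel_left] at h2

/-- The scalars `c` with `siegel e (c x) ∈ M` for all rational data. -/
def ScalarOK (R : Submodule F₀ V) (M : Subgroup (oGroup Q)) (c : F) : Prop :=
  ∀ e x : R, Q e.1 = 0 → polar Q e.1 x.1 = 0 → siegel Q e.1 (c • x.1) ∈ M

/-- One singular instance of a scalar gives all. -/
theorem scalarOK_of_one {e w : R} (he : Q e.1 = 0) (hew : polar Q e.1 w.1 = 0) (hw : Q w.1 = 0)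
    (he0 : e ≠ 0) (hwe : w ∉ Submodule.span F₀ ({e} : Set R)) {c : F}
    (h : siegel Q e.1 (c • w.1) ∈ M) : ScalarOK R M c := by
  classical
  haveI := hR.finite
  haveI : Module.Finite F₀ R := Module.Finite.of_finite
  have hsing : ∀ v : R, Q v.1 = 0 → polar Q e.1 v.1 = 0 → siegel Q e.1 (c • v.1) ∈ M := by
    intro v hv hev
    -- through a third singular vector
    have step : ∀ u : R, Q u.1 = 0 → polar Q e.1 u.1 = 0 → polar Q w.1 u.1 = 0 →
        polar Q v.1 u.1 = 0 → w ∉ Submodule.span F₀ ({e, u} : Set R) →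
        u ∉ Submodule.span F₀ ({e, v} : Set R) → siegel Q e.1 (c • v.1) ∈ M :=
      fun u hu hue hwu hvu hwn hun =>
        scalar_step hR hQ hn hM he hue hu hv hev (by rw [polar_comm]; exact hvu) hun
          (scalar_step hR hQ hn hM he hew hw hu hue hwu hwn h)
    by_cases hwv : polar Q w.1 v.1 = 0
    · by_cases hmem : w ∈ Submodule.span F₀ ({e, v} : Set R)
      swap
      · exact scalar_step hR hQ hn hM he hew hw hv hev hwv hmem h
      obtain ⟨a, b, hab⟩ := Submodule.mem_span_pair.1 hmem
      have hb : b ≠ 0 := fun hb => hwe (Submodule.mem_span_singleton.2 ⟨a, by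
        simpa [hb] using hab⟩)
      have hvmem : v ∈ Submodule.span F₀ ({e, w} : Set R) := by
        refine (Submodule.smul_mem_iff _ hb).1 ?_
        rw [eq_sub_of_add_eq' hab]
        exact Submodule.sub_mem _ (Submodule.subset_span (by simp))
          (Submodule.smul_mem _ _ (Submodule.subset_span (by simp)))
      obtain ⟨u, hu, hus, hup⟩ := exists_rat_perp hR hQ hn {e, w} (by
        have : ({e, w} : Finset R).card ≤ 2 := Finset.card_le_two
        omega)
      rw [Finset.coe_pair] at hus
      refine step u hu (hup e (by simp)) (hup w (by simp)) ?_ (fun hm => ?_) fun hm => hus ?_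
      · obtain ⟨a', b', hab'⟩ := Submodule.mem_span_pair.1 hvmem
        rw [← hab', show ((a' • e + b' • w : R) : V) = (a' : F) • e.1 + (b' : F) • w.1 from rfl,
          polar_add_left, polar_smul_left, polar_smul_left, hup e (by simp), hup w (by simp),
          smul_zero, smul_zero, add_zero]
      · obtain ⟨a', b', hab'⟩ := Submodule.mem_span_pair.1 hm
        rcases eq_or_ne b' 0 with rfl | hb'
        · exact hwe (Submodule.mem_span_singleton.2 ⟨a', by simpa using hab'⟩)
        · refine hus ((Submodule.smul_mem_iff _ hb').1 ?_)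
          rw [eq_sub_of_add_eq' hab']
          exact Submodule.sub_mem _ (Submodule.subset_span (by simp))
            (Submodule.smul_mem _ _ (Submodule.subset_span (by simp)))
      · refine Submodule.span_le.2 ?_ hm
        rintro y (rfl | rfl)
        exacts [Submodule.subset_span (by simp), hvmem]
    · have h1 := finrank_rat_perp hR hQ hn {e, v, w}
      have h3 : ({e, v, w} : Finset R).card ≤ 3 := Finset.card_le_three
      have h4 : Module.finrank F₀ (Submodule.span F₀ {e}) = 1 := finrank_span_singleton he0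
      obtain ⟨u, huK, hu, hus⟩ := exists_rat_singular hR hQ hn
        (perpS (ratForm hR) (Submodule.span F₀ (({e, v, w} : Finset R) : Set R)))
        (Submodule.span F₀ {e}) (by omega)
      have hup : ∀ y ∈ ({e, v, w} : Finset R), polar Q y.1 u.1 = 0 := fun y hy =>
        (ratForm_polar_eq_zero hR).1 (huK y (Submodule.subset_span hy))
      refine step u hu (hup e (by simp)) (hup w (by simp)) (hup v (by simp)) (fun hm => ?_)
        fun hm => ?_
      · obtain ⟨a', b', hab'⟩ := Submodule.mem_span_pair.1 hm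
        refine hwv ?_
        rw [← hab', show ((a' • e + b' • u : R) : V) = (a' : F) • e.1 + (b' : F) • u.1 from rfl,
          polar_add_left, polar_smul_left, polar_smul_left, hev, polar_comm (⇑Q) u.1 v.1,
          hup v (by simp), smul_zero, smul_zero, add_zero]
      · obtain ⟨a', b', hab'⟩ := Submodule.mem_span_pair.1 hm
        rcases eq_or_ne b' 0 with rfl | hb'
        · exact hus (Submodule.mem_span_singleton.2 ⟨a', by simpa using hab'⟩)
        · have h5 := hup w (by simp)
          rw [← hab', show ((a' • e + b' • v : R) : V) = (a' : F) • e.1 + (b' : F) • v.1 from rfl,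
            polar_add_right, polar_smul_right, polar_smul_right, polar_comm (⇑Q) w.1 e.1, hew,
            smul_zero, zero_add, smul_eq_mul] at h5
          exact mul_ne_zero (fun h0 => hb' (Subtype.ext h0)) hwv h5
  have hall : ∀ x : R, polar Q e.1 x.1 = 0 → siegel Q e.1 (c • x.1) ∈ M := by
    intro x hx
    set K := perpS (ratForm hR) (Submodule.span F₀ {e}) with hK
    have hxK : x ∈ K := fun h hh => by
      obtain ⟨t, rfl⟩ := Submodule.mem_span_singleton.1 hh
      rw [polar_smul_left, (ratForm_polar_eq_zero hR).2 hx, smul_zero]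
    have hwK : w ∈ K := fun h hh => by
      obtain ⟨t, rfl⟩ := Submodule.mem_span_singleton.1 hh
      rw [polar_smul_left, (ratForm_polar_eq_zero hR).2 hew, smul_zero]
    obtain ⟨p, hp, -, hwp⟩ := exists_rat_partner hR hQ hn K hw hwK
      (by rw [hK, perpS_perpS (hR.ratForm_nondeg hQ)]; exact hwe)
    have hgen := span_singular_eq (hR.ratForm_nondeg hQ) hwK hp ((ratForm_eq_zero hR).2 hw)
      (fun h0 => one_ne_zero (hwp.symm.trans ((ratForm_polar_eq_zero hR).1 h0)))
    rw [← hgen] at hxK
    refine (?_ : polar Q e.1 x.1 = 0 ∧ siegel Q e.1 (c • x.1) ∈ M).2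
    clear hx
    induction hxK using Submodule.closure_induction with
    | zero =>
      refine ⟨polar_zero_right _ _, ?_⟩
      rw [show ((0 : R) : V) = 0 from rfl, smul_zero, siegel_zero he]
      exact one_mem _
    | add a b _ _ ha hb =>
      refine ⟨by rw [show ((a + b : R) : V) = a.1 + b.1 from rfl, polar_add_right, ha.1, hb.1,
        add_zero], ?_⟩
      rw [show ((a + b : R) : V) = a.1 + b.1 from rfl, smul_add, ← siegel_mul he
        (by rw [polar_smul_right, ha.1, smul_zero]) (by rw [polar_smul_right, hb.1, smul_zero])]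
      exact mul_mem ha.2 hb.2
    | smul_mem t a ha =>
      have h1 : polar Q e.1 (t • a).1 = 0 :=
        (ratForm_polar_eq_zero hR).1 (by
          rw [polar_smul_right, ha.1 e (Submodule.mem_span_singleton_self e), smul_zero])
      refine ⟨h1, hsing _ ((ratForm_eq_zero hR).1 ?_) h1⟩
      rw [quad_smul, ha.2, mul_zero]
  intro e' x' he' hx'
  rcases eq_or_ne e' 0 with rfl | he'0
  · rw [show ((0 : R) : V) = 0 from rfl, siegel_zero_left]; exact one_mem _
  obtain ⟨k, hk, t, htm, ht, hke⟩ := exists_rat_move hR hQ hn he0 he'0 he he'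
  obtain ⟨d, hd, hkR⟩ := hk.1
  -- the preimage of the rational vector `x'`
  have hd' : d ∈ F₀ := by
    have h1 := hkR e.1 e.2
    rw [hke, smul_smul] at h1
    have h2 := hR.scalar_mem hQ e'.2 (fun h => he'0 (Subtype.ext h)) h1
    have h3 := F₀.mul_mem h2 (F₀.inv_mem htm)
    rwa [mul_assoc, mul_inv_cancel₀ ht, mul_one] at h3
  let f : R → R := fun y => ⟨d • k.1 y.1, hkR y.1 y.2⟩
  have hf : Function.Injective f := fun a b e => Subtype.ext (k.1.injective
    (smul_right_injective V hd (congrArg Subtype.val e)))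
  obtain ⟨y, hy⟩ := Finite.surjective_of_injective hf ⟨x'.1, x'.2⟩
  have hy' : d • k.1 y.1 = x'.1 := congrArg Subtype.val hy
  let z : R := (⟨t⁻¹ * d, F₀.mul_mem (F₀.inv_mem htm) hd'⟩ : F₀) • y
  have hz : t • k.1 z.1 = x'.1 := by
    change t • k.1 ((t⁻¹ * d) • y.1) = _
    rw [map_smul, smul_smul, ← mul_assoc, mul_inv_cancel₀ ht, one_mul, hy']
  have hze : polar Q e.1 z.1 = 0 := by
    have h1 : polar Q (t • e'.1) (k.1 z.1) = 0 := by
      rw [polar_smul_left, ← polar_smul_right, hz, hx']
    rwa [← hke, polar_oGroup] at h1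
  have hec : polar Q e.1 (c • z.1) = 0 := by rw [polar_smul_right, hze, smul_zero]
  have h2 := siegel_conj_mem (hM hk) he hec (hall z hze)
  have h3 : polar Q e'.1 (k.1 z.1) = 0 := by
    have h4 : polar Q (t • e'.1) (k.1 z.1) = 0 := by rw [← hke, polar_oGroup, hze]
    rw [polar_smul_left] at h4
    exact (mul_eq_zero.1 h4).resolve_left ht
  rw [hke, map_smul, siegel_smul he' (by rw [polar_smul_right, h3, smul_zero]), smul_comm, hz] at h2
  exact h2

/-- One irrational root element at a rational centre generates `Ω`. -/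
theorem le_of_irrational (_h11 : (2 : F) = 0 → 7 ≤ Module.finrank F V) {r : ℕ} (hr : r.Prime) (hcard : Nat.card F = Nat.card F₀ ^ r) {e : R}
    (he0 : e ≠ 0) (he : Q e.1 = 0) {a : V} (hea : polar Q e.1 a = 0)
    (ha : siegel Q e.1 a ∈ M) (hirr : ∀ x ∈ R, ∀ t : F, a ≠ x + t • e.1) :
    commutator (oGroup Q) ≤ M := by
  classical
  haveI := hR.finite
  haveI : Module.Finite F₀ R := Module.Finite.of_finite
  set K := perpS (ratForm hR) (Submodule.span F₀ {e}) with hK
  have hKdim := finrank_rat_perp hR hQ hn {e}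
  rw [Finset.coe_singleton, Finset.card_singleton, ← hK] at hKdim
  have heK : e ∈ K := fun h hh => by
    obtain ⟨t, rfl⟩ := Submodule.mem_span_singleton.1 hh
    rw [polar_smul_left, polar_self, (ratForm_eq_zero hR).2 he, smul_zero, smul_zero]
  have hKe : ∀ {x : R}, x ∈ K → polar Q e.1 x.1 = 0 := fun hx =>
    (ratForm_polar_eq_zero hR).1 (hx e (Submodule.mem_span_singleton_self e))
  -- an irrational coordinate at a rational singular vector
  obtain ⟨p, hpK, hp, hα⟩ : ∃ p ∈ K, Q p.1 = 0 ∧ polar Q a p.1 ∉ F₀ := by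
    by_contra hcon
    push Not at hcon
    obtain ⟨w, hwK, hw, hwe⟩ := exists_rat_singular hR hQ hn K (Submodule.span F₀ {e}) (by
      have : Module.finrank F₀ (Submodule.span F₀ {e}) = 1 := finrank_span_singleton he0
      omega)
    obtain ⟨q, hq, -, hwq⟩ := exists_rat_partner hR hQ hn K hw hwK
      (by rw [hK, perpS_perpS (hR.ratForm_nondeg hQ)]; exact hwe)
    have hgen := span_singular_eq (hR.ratForm_nondeg hQ) hwK hq ((ratForm_eq_zero hR).2 hw)
      (fun h0 => one_ne_zero (hwq.symm.trans ((ratForm_polar_eq_zero hR).1 h0)))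
    have hrat : ∀ x ∈ K, polar Q a x.1 ∈ F₀ := by
      intro x hx
      rw [← hgen] at hx
      induction hx using Submodule.span_induction with
      | mem y hy => exact hcon y hy.1 ((ratForm_eq_zero hR).1 hy.2)
      | zero => rw [show ((0 : R) : V) = 0 from rfl, polar_zero_right]; exact F₀.zero_mem
      | add u v _ _ hu hv =>
        rw [show ((u + v : R) : V) = u.1 + v.1 from rfl, polar_add_right]; exact F₀.add_mem hu hv
      | smul t u _ hu =>
        rw [show ((t • u : R) : V) = (t : F) • u.1 from rfl, polar_smul_right]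
        exact F₀.mul_mem t.2 hu
    let φ : Module.Dual F₀ K :=
      { toFun := fun x => ⟨polar Q a x.1.1, hrat x.1 x.2⟩
        map_add' := fun x y => Subtype.ext (polar_add_right Q a x.1.1 y.1.1)
        map_smul' := fun t x => Subtype.ext (polar_smul_right Q (t : F) a x.1.1) }
    obtain ⟨v, hv⟩ := exists_polar_eq_on (hR.ratForm_nondeg hQ) K φ
    have hmem : a - v.1 ∈ Submodule.span F {e.1} := by
      have h1 : a - v.1 ∈ perpS Q (ext K) := by
        intro h hh
        refine ext_induction (p := fun z => polar Q z (a - v.1) = 0) (polar_zero_left Q _)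
          (fun x y hx hy => by rw [polar_add_left, hx, hy, add_zero]) (fun c x hx => ?_) hh
        rw [polar_smul_left, polar_sub_right, sub_eq_zero.2, smul_zero]
        rw [polar_comm]
        exact (congrArg Subtype.val (hv ⟨x, hx⟩)).symm
      rw [hR.ext_perp hQ, hK, perpS_perpS (hR.ratForm_nondeg hQ)] at h1
      refine ext_le (fun x hx => ?_) h1
      obtain ⟨t, rfl⟩ := Submodule.mem_span_singleton.1 hx
      exact Submodule.mem_span_singleton.2 ⟨(t : F), rfl⟩
    obtain ⟨t, ht⟩ := Submodule.mem_span_singleton.1 hmem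
    exact hirr v.1 v.2 t (by rw [ht]; abel)
  set α := polar Q a p.1
  have hep := hKe hpK
  have hpe : p ∉ Submodule.span F₀ ({e} : Set R) := fun h => hα (by
    obtain ⟨t, rfl⟩ := Submodule.mem_span_singleton.1 h
    change polar Q a ((t : F) • e.1) ∈ F₀
    rw [polar_smul_right, polar_comm, hea, smul_zero]
    exact F₀.zero_mem)
  obtain ⟨b, hb, hbs, hbp⟩ := exists_rat_perp hR hQ hn {e, p} (by
    have : ({e, p} : Finset R).card ≤ 2 := Finset.card_le_two
    omega)
  have heb := hbp e (by simp)
  have hpb := hbp p (by simp)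
  obtain ⟨p', hp', hbp', hp's⟩ := exists_rat_dual hR hQ hn {e, p} hb hbs hbp
  have hep' := hp's e (by simp)
  have hpp' := hp's p (by simp)
  obtain ⟨hea1, ha1⟩ := siegel_diff hR hQ hn hM (siegel_rat_mem hR hQ hn hM p.2 hp b.2 hpb) he hea
    ha (siegel_fix hp hpb hep heb)
  rw [siegel_apply hp hpb, hb, zero_mul, add_zero, add_sub_assoc, add_sub_cancel_left] at hea1 ha1
  have hOK : ScalarOK R M α := by
    -- an anisotropic vector orthogonal to the two pairs
    obtain ⟨w, hwK, hw⟩ : ∃ w ∈ perpS (ratForm hR) (Submodule.span F₀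
        (({e, p, b, p'} : Finset R) : Set R)), Q w.1 ≠ 0 := by
      by_contra hcon
      push Not at hcon
      set K4 := perpS (ratForm hR) (Submodule.span F₀ (({e, p, b, p'} : Finset R) : Set R)) with hK4
      have h1 := finrank_rat_perp hR hQ hn {e, p, b, p'}
      rw [← hK4] at h1
      have h4 : ({e, p, b, p'} : Finset R).card ≤ 4 := Finset.card_le_four
      have hiso : K4 ≤ perpS (ratForm hR) K4 := fun x hx y hy => by
        have h2 := quad_add (ratForm hR) y x
        rw [(ratForm_eq_zero hR).2 (hcon _ (K4.add_mem hy hx)), (ratForm_eq_zero hR).2 (hcon _ hy),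
          (ratForm_eq_zero hR).2 (hcon _ hx), zero_add, zero_add] at h2
        exact h2.symm
      have hle : K4 ≤ Submodule.span F₀ ({e, p} : Set R) := fun x hx => by
        have hxS : x ∈ Submodule.span F₀ (({e, p, b, p'} : Finset R) : Set R) := by
          rw [← perpS_perpS (hR.ratForm_nondeg hQ)
            (Submodule.span F₀ (({e, p, b, p'} : Finset R) : Set R))]
          exact hiso hx
        simp only [Finset.coe_insert, Finset.coe_singleton, Submodule.mem_span_insert,
          Submodule.mem_span_singleton] at hxS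
        obtain ⟨s1, z1, ⟨t1, z2, ⟨u1, z3, ⟨v1, rfl⟩, rfl⟩, rfl⟩, rfl⟩ := hxS
        have hxx : ∀ z ∈ ({e, p, b, p'} : Finset R), polar Q z.1
            ((s1 : F) • e.1 + ((t1 : F) • p.1 + ((u1 : F) • b.1 + (v1 : F) • p'.1))) = 0 := fun z hz =>
          (ratForm_polar_eq_zero hR).1 (hx z (Submodule.subset_span hz))
        have e1 := hxx b (by simp)
        have e2 := hxx p' (by simp)
        simp only [polar_add_right, polar_smul_right, polar_self, smul_eq_mul, polar_comm (⇑Q) b.1 e.1,
          polar_comm (⇑Q) b.1 p.1, polar_comm (⇑Q) p'.1 e.1, polar_comm (⇑Q) p'.1 p.1,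
          polar_comm (⇑Q) p'.1 b.1, heb, hpb, hep', hpp', hbp', hb, hp', mul_zero, smul_zero,
          mul_one, zero_add, add_zero] at e1 e2
        rw [show u1 = 0 from Subtype.ext e2, show v1 = 0 from Subtype.ext e1, zero_smul, zero_smul,
          add_zero, add_zero]
        exact Submodule.add_mem _ (Submodule.smul_mem _ _ (Submodule.subset_span (by simp)))
          (Submodule.smul_mem _ _ (Submodule.subset_span (by simp)))
      have h2 := Submodule.finrank_mono hle
      have h3 : Module.finrank F₀ (Submodule.span F₀ (({e, p} : Finset R) : Set R)) ≤ 2 :=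
        (finrank_span_finset_le_card _).trans Finset.card_le_two
      rw [Finset.coe_pair] at h3
      omega
    have hwp : ∀ y ∈ ({e, p, b, p'} : Finset R), polar Q y.1 w.1 = 0 := fun y hy =>
      (ratForm_polar_eq_zero hR).1 (hwK y (Submodule.subset_span hy))
    have hew := hwp e (by simp)
    have hpw := hwp p (by simp)
    have hbw := hwp b (by simp)
    have hp'w := hwp p' (by simp)
    have hdiff : ∀ w0 : R, polar Q e.1 w0.1 = 0 → polar Q p.1 w0.1 = 0 → polar Q b.1 w0.1 = 0 →
        polar Q p'.1 w0.1 = 0 → polar Q e.1 (α • w0.1 - (α * Q w0.1) • p'.1) = 0 ∧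
          siegel Q e.1 (α • w0.1 - (α * Q w0.1) • p'.1) ∈ M := by
      intro w0 hew hpw hbw hp'w
      have h2 := siegel_diff hR hQ hn hM (siegel_rat_mem hR hQ hn hM p'.2 hp' w0.2 hp'w) he hea1 ha1
        (siegel_fix hp' hp'w hep' hew)
      rwa [map_sub, map_smul, map_smul, siegel_fix hp' hp'w hpp' hpw, siegel_apply hp' hp'w, hbp',
        hbw, one_smul, zero_add, mul_one,
        show α • (b.1 + w0.1 - Q w0.1 • p'.1) - polar Q a b.1 • p.1 -
            (α • b.1 - polar Q a b.1 • p.1) = α • w0.1 - (α * Q w0.1) • p'.1 by module] at h2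
    obtain ⟨f1, m1⟩ := hdiff w hew hpw hbw hp'w
    set v0 : R := w - (⟨Q w.1, hR.rat _ w.2⟩ : F₀) • p' with hv0
    have hv0c : v0.1 = w.1 - Q w.1 • p'.1 := rfl
    have hv0S : v0 ∉ Submodule.span F₀ ({e, p'} : Set R) := fun h => by
      have h1 : w ∈ Submodule.span F₀ ({e, p'} : Set R) := by
        have := Submodule.add_mem _ h (Submodule.smul_mem _ (⟨Q w.1, hR.rat _ w.2⟩ : F₀)
          (Submodule.subset_span (show p' ∈ ({e, p'} : Set R) by simp)))
        rwa [hv0, sub_add_cancel] at this
      obtain ⟨s, t, rfl⟩ := Submodule.mem_span_pair.1 h1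
      refine hw ?_
      rw [show ((s • e + t • p' : R) : V) = (s : F) • e.1 + (t : F) • p'.1 from rfl, quad_add,
        quad_smul, quad_smul, he, hp', polar_smul_left, polar_smul_right, hep']
      simp
    obtain ⟨u, huS, hu⟩ : ∃ u ∈ perpS (ratForm hR) (Submodule.span F₀ ({e, p'} : Set R)),
        polar Q v0.1 u.1 ≠ 0 := by
      by_contra hc
      push Not at hc
      refine hv0S ?_
      rw [← perpS_perpS (hR.ratForm_nondeg hQ) (Submodule.span F₀ ({e, p'} : Set R))]
      exact fun x hx => (ratForm_polar_eq_zero hR).2 (by rw [polar_comm]; exact hc x hx)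
    have heu : polar Q e.1 u.1 = 0 :=
      (ratForm_polar_eq_zero hR).1 (huS e (Submodule.subset_span (by simp)))
    have hp'u : polar Q p'.1 u.1 = 0 :=
      (ratForm_polar_eq_zero hR).1 (huS p' (Submodule.subset_span (by simp)))
    obtain ⟨-, m2⟩ := siegel_diff hR hQ hn hM (siegel_rat_mem hR hQ hn hM p'.2 hp' u.2 hp'u) he
      f1 m1 (siegel_fix hp' hp'u hep' heu)
    have hv0p : polar Q v0.1 p'.1 = 0 := by
      rw [hv0c, polar_sub_left, polar_smul_left, polar_comm (⇑Q) w.1 p'.1, hp'w, polar_self, hp',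
        smul_zero, smul_zero, sub_zero]
    rw [show α • w.1 - (α * Q w.1) • p'.1 = α • v0.1 by rw [hv0c, smul_sub, smul_smul], map_smul,
      ← smul_sub, siegel_apply hp' hp'u, hv0p, zero_smul, add_zero, mul_zero, add_zero,
      sub_sub_cancel_left, ← neg_smul] at m2
    set k : F₀ := ⟨-polar Q v0.1 u.1, F₀.neg_mem (hR.polar_mem v0.2 u.2)⟩
    have hk0 : k ≠ 0 := fun h0 => hu (neg_eq_zero.1 (congrArg Subtype.val h0))
    have hp'e : p' ∉ Submodule.span F₀ ({e} : Set R) := fun h => by
      obtain ⟨t, rfl⟩ := Submodule.mem_span_singleton.1 h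
      rw [show ((t • e : R) : V) = (t : F) • e.1 from rfl, polar_smul_right, polar_comm (⇑Q) b.1 e.1,
        heb, smul_zero] at hbp'
      exact one_ne_zero hbp'.symm
    refine scalarOK_of_one hR hQ hn hM he (w := k • p') ?_ ?_ he0
      (fun h => hp'e ((Submodule.smul_mem_iff _ hk0).1 h)) m2
    · rw [show ((k • p' : R) : V) = (k : F) • p'.1 from rfl, polar_smul_right, hep', smul_zero]
    · rw [show ((k • p' : R) : V) = (k : F) • p'.1 from rfl, quad_smul, hp', mul_zero]
  -- the scalars form a subfield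
  have hS0 : ∀ c ∈ F₀, ScalarOK R M c := fun c hc e x hQe hex =>
    siegel_rat_mem hR hQ hn hM e.2 hQe (R.smul_mem (⟨c, hc⟩ : F₀) x.2)
      (by rw [polar_smul_right, hex, smul_zero])
  have hSadd : ∀ c, ScalarOK R M c → ∀ c', ScalarOK R M c' → ScalarOK R M (c + c') :=
    fun c hc c' hc' e x hQe hex => by
      rw [add_smul, ← siegel_mul hQe (by rw [polar_smul_right, hex, smul_zero])
        (by rw [polar_smul_right, hex, smul_zero])]
      exact mul_mem (hc e x hQe hex) (hc' e x hQe hex)
  have hSmul : ∀ c, ScalarOK R M c → ∀ c', ScalarOK R M c' → ScalarOK R M (c * c') := by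
    intro c hc c' hc'
    obtain ⟨u, hu, hus, hup⟩ := exists_rat_perp hR hQ hn {e} (by simp; omega)
    have heu := hup e (by simp)
    obtain ⟨x, hx, hux, hxs⟩ := exists_rat_dual hR hQ hn {e} hu hus hup
    have hex := hxs e (by simp)
    have h1 := finrank_rat_perp hR hQ hn {e, u, x}
    have h3 : ({e, u, x} : Finset R).card ≤ 3 := Finset.card_le_three
    have h4 : Module.finrank F₀ (Submodule.span F₀ {e}) = 1 := finrank_span_singleton he0
    obtain ⟨y, hyK, hy, hys⟩ := exists_rat_singular hR hQ hn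
      (perpS (ratForm hR) (Submodule.span F₀ (({e, u, x} : Finset R) : Set R)))
      (Submodule.span F₀ {e}) (by omega)
    have hyp : ∀ z ∈ ({e, u, x} : Finset R), polar Q z.1 y.1 = 0 := fun z hz =>
      (ratForm_polar_eq_zero hR).1 (hyK z (Submodule.subset_span hz))
    have hey := hyp e (by simp)
    have huy := hyp u (by simp)
    have hxy := hyp x (by simp)
    have huc : polar Q u.1 (c' • y.1) = 0 := by rw [polar_smul_right, huy, smul_zero]
    have hec : polar Q e.1 (c • x.1) = 0 := by rw [polar_smul_right, hex, smul_zero]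
    obtain ⟨-, h1⟩ := siegel_diff hR hQ hn hM (hc' u y hu huy) he hec (hc e x he hex)
      (siegel_fix hu huc heu (by rw [polar_smul_right, hey, smul_zero]))
    refine scalarOK_of_one hR hQ hn hM he hey hy he0 hys ?_
    rwa [map_smul, ← smul_sub, siegel_apply hu huc, polar_comm (⇑Q) x.1 u.1, hux, one_smul,
      polar_smul_right, hxy, smul_zero, quad_smul, hy, mul_zero, zero_mul, add_zero, zero_smul,
      sub_zero, add_sub_cancel_left, smul_smul] at h1
  have hall : ∀ c, ScalarOK R M c :=
    eq_univ_of_subring' hr hcard (S := {c | ScalarOK R M c}) hS0 hSadd hSmul hOK hα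
  have hfull : ∀ e : R, Q e.1 = 0 → Full M e.1 := by
    intro e he a ha
    have hmem : a ∈ ext (perpS (ratForm hR) (Submodule.span F₀ {e})) := by
      rw [← hR.ext_perp hQ]
      intro h hh
      refine ext_induction (p := fun z => polar Q z a = 0) (polar_zero_left Q a)
        (fun x y hx hy => by rw [polar_add_left, hx, hy, add_zero]) (fun c x hx => ?_) hh
      obtain ⟨t, rfl⟩ := Submodule.mem_span_singleton.1 hx
      change polar Q (c • (t : F) • e.1) a = 0
      rw [polar_smul_left, polar_smul_left, ha, smul_zero, smul_zero]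
    refine (?_ : polar Q e.1 a = 0 ∧ siegel Q e.1 a ∈ M).2
    refine ext_induction (p := fun z => polar Q e.1 z = 0 ∧ siegel Q e.1 z ∈ M)
      ⟨polar_zero_right _ _, by rw [siegel_zero he]; exact one_mem _⟩
      (fun x y hx hy => ⟨by rw [polar_add_right, hx.1, hy.1, add_zero],
        by rw [← siegel_mul he hx.1 hy.1]; exact mul_mem hx.2 hy.2⟩) (fun c x hx => ?_) hmem
    have h1 := (ratForm_polar_eq_zero hR).1 (hx e (Submodule.mem_span_singleton_self e))
    exact ⟨by rw [polar_smul_right, h1, smul_zero], hall c e x he h1⟩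
  obtain ⟨f, hf, hef, -⟩ := exists_rat_dual hR hQ hn ∅ he (by simpa using he0) (by simp)
  exact commutator_le_of_two hQ (by omega) he hf (by rw [hef]; exact one_ne_zero)
    (hfull e he) (hfull f hf)

end

end CfsgLib.Geo.OS
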