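import Cfsg.Agent.Geo.OrthPlus
import Cfsg.Agent.Geo.OrthSingular
import Cfsg.Agent.Geo.OrthNonMaximal
import Cfsg.Agent.Geo.Basic
import Cfsg.Agent.Geo.OrthFrame.Main
import Cfsg.Agent.Geo.OrthDec2.Main
import Cfsg.Agent.Geo.OrthSubfieldMatrix
import Cfsg.Agent.OrthField.Bridge
import Cfsg.Agent.Quad.Concrete

/-!
Geometric maximal subgroups of `Ω` in dimension ten, clause by clause, for forms of either type.
-/

set_option autoImplicit false

namespace CfsgLib.Geo.O10

open Cfsg Cfsg.Geo CfsgLib.Quad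

variable {F : Type*} [Field F] [Fintype F] {Q : (Fin 10 → F) → F}
  (hQ : IsNondegenerateQuadraticForm Q)

include hQ

/-- Stabiliser of a non-degenerate subspace of dimension other than five. -/
theorem nondeg {W : Submodule F (Fin 10 → F)} (h0 : W ≠ ⊥) (h1 : W ≠ ⊤)
    (hk : 2 * Module.finrank F W ≠ 10) (hW : IsNondegenerateOn (QuadraticMap.polar Q) W)
    (h8 : Module.finrank F W ≠ 8)
    (h2 : Module.finrank F W = 2 → ¬ IsPlusTypeOn Q W ∨ 4 ≤ Fintype.card F) :
    IsMaximalIn (omegaGL Q) (subspaceStabilizer W ⊓ omegaGL Q) := by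
  obtain ⟨q, rfl, hq⟩ := CfsgLib.Geo.OS.exists_quadraticForm hQ
  have hsum := finrank_perpS hq W
  have hd : Module.finrank F (Fin 10 → F) = 10 := Module.finrank_fin_fun F
  refine CfsgLib.Geo.OS.nondeg_subspace_maximal_of_eleven hq (by simp) h0 h1
    (CfsgLib.Geo.OS.nd_of_isNondegenerateOn hW) ?_ (fun h => (hk (by simpa using h)).elim)
  rintro S (rfl | rfl) hS
  swap
  · exfalso; omega
  rcases h2 hS with hnp | hq4
  · refine Or.inl fun z hz hz0 => ?_
    by_contra hne
    exact hnp (CfsgLib.Geo.OS.plusType_of_singular hS hz hne hz0)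
  · exact Or.inr (by rwa [Nat.card_eq_fintype_card])

/-- Stabiliser of a non-degenerate subspace of dimension four. -/
theorem four {W : Submodule F (Fin 10 → F)} (h : Module.finrank F W = 4)
    (hW : IsNondegenerateOn (QuadraticMap.polar Q) W) :
    IsMaximalIn (omegaGL Q) (subspaceStabilizer W ⊓ omegaGL Q) :=
  nondeg hQ (fun e => by rw [e, finrank_bot] at h; omega)
    (fun e => by rw [e, finrank_top, Module.finrank_fin_fun] at h; omega) (by omega) hW (by omega)
    fun e => by omega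

/-- Stabiliser of a non-degenerate plane. -/
theorem two {W : Submodule F (Fin 10 → F)} (h : Module.finrank F W = 2)
    (hW : IsNondegenerateOn (QuadraticMap.polar Q) W)
    (hp : ¬ IsPlusTypeOn Q W ∨ 4 ≤ Fintype.card F) :
    IsMaximalIn (omegaGL Q) (subspaceStabilizer W ⊓ omegaGL Q) :=
  nondeg hQ (fun e => by rw [e, finrank_bot] at h; omega)
    (fun e => by rw [e, finrank_top, Module.finrank_fin_fun] at h; omega) (by omega) hW (by omega)
    fun _ => hp

/-- Stabiliser of a totally singular subspace. -/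
theorem singular {W : Submodule F (Fin 10 → F)} (h0 : W ≠ ⊥) (hW : IsTotallySingularQuad Q W)
    (h4 : Module.finrank F W = 4 → ¬ IsPlusTypeOn Q ⊤) :
    IsMaximalIn (omegaGL Q) (subspaceStabilizer W ⊓ omegaGL Q) := by
  obtain ⟨q, rfl, hq⟩ := CfsgLib.Geo.OS.exists_quadraticForm hQ
  have hd : Module.finrank F (Fin 10 → F) = 10 := Module.finrank_fin_fun F
  refine CfsgLib.Geo.OS.isMaximalIn_omegaGL q W
    (CfsgLib.Geo.OS.ts_maximal hq (by omega) hW h0 ?_)
  by_cases hk : 2 * Module.finrank F W + 3 ≤ Module.finrank F (Fin 10 → F)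
  · exact Or.inl hk
  right
  intro U hWU hU
  refine (Submodule.eq_of_le_of_finrank_le hWU ?_).symm
  by_contra hcc
  have hU5 : Module.finrank F U ≤ 5 := by
    by_contra h
    obtain ⟨x, hx, hx0⟩ := exists_aniso_of_finrank hq (K := U) (by omega)
    exact hx0 (hU x hx)
  exact h4 (by omega) ⟨U, le_top, hU, by rw [finrank_top]; omega⟩

/-- Stabiliser of a non-singular point in even characteristic. -/
theorem point (hchar : ¬ Odd (Fintype.card F)) {v : Fin 10 → F} (hv : Q v ≠ 0) :
    IsMaximalIn (omegaGL Q) (subspaceStabilizer (Submodule.span F {v}) ⊓ omegaGL Q) := by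
  obtain ⟨q, rfl, hq⟩ := CfsgLib.Geo.OS.exists_quadraticForm hQ
  have hd : Module.finrank F (Fin 10 → F) = 10 := Module.finrank_fin_fun F
  have h2 : (2 : F) = 0 := by
    by_contra h
    refine hchar (Nat.odd_iff.2 ?_)
    rw [← Nat.card_eq_fintype_card]
    exact CfsgLib.Forms.odd_card_of_two_ne h
  exact CfsgLib.Geo.OS.isMaximalIn_omegaGL q _
    (CfsgLib.Geo.OS.point_maximal hq (by omega) h2 hv)

/-- Stabiliser of a decomposition into ten isometric lines over a prime field of odd order. -/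
theorem frame {p : ℕ} (hp : p.Prime) (hc : Fintype.card F = p) (hodd : Odd p)
    {D : Fin 10 → Submodule F (Fin 10 → F)} (hD : IsOrthogonalMDecomposition Q 1 D) :
    IsMaximalIn (omegaGL Q) (decompositionStabilizer D ⊓ omegaGL Q) := by
  obtain ⟨q, rfl, hq⟩ := CfsgLib.Geo.OS.exists_quadraticForm hQ
  exact CfsgLib.Geo.OFrame.frame_maximal (hc ▸ hp) (hc ▸ hodd) (by simp) q hD

/-- Stabiliser of two orthogonal five-spaces that are not isometric. -/
theorem halves_noniso {D : Fin 2 → Submodule F (Fin 10 → F)}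
    (hD : IsNondegenerateMDecomposition (QuadraticMap.polar Q) 5 D)
    (hni : ¬ AreIsometricFor Q (D 0) (D 1)) :
    IsMaximalIn (omegaGL Q) (decompositionStabilizer D ⊓ omegaGL Q) := by
  obtain ⟨q, rfl, hq⟩ := CfsgLib.Geo.OS.exists_quadraticForm hQ
  have hd : Module.finrank F (Fin 10 → F) = 10 := Module.finrank_fin_fun F
  have h0 := hD.decomp.finrank_eq 0
  have h1 := hD.decomp.finrank_eq 1
  have hnd : CfsgLib.Geo.OS.ND q (D 0) := CfsgLib.Geo.OS.nd_of_isNondegenerateOn (hD.nondegenerate 0)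
  have hD1 : D 1 = CfsgLib.Quad.perpS q (D 0) := by
    refine Submodule.eq_of_le_of_finrank_le
      (fun y hy x hx => hD.orthogonal 0 1 (by decide) x hx y hy) ?_
    have := CfsgLib.Quad.finrank_perpS hq (D 0)
    omega
  have hiso : ∀ g : CfsgLib.Quad.oGroup q, ¬ ∀ x ∈ D 0, g.1 x ∈ CfsgLib.Quad.perpS q (D 0) := by
    intro g hg
    refine hni ?_
    have hmap : (D 0).map g.1.toLinearMap = D 1 := by
      refine Submodule.eq_of_le_of_finrank_le ?_ (by rw [LinearEquiv.finrank_map_eq]; omega)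
      rintro _ ⟨x, hx, rfl⟩
      rw [hD1]; exact hg x hx
    exact ⟨(g.1.submoduleMap (D 0)).trans (LinearEquiv.ofEq _ _ hmap), fun w => g.2 w⟩
  have heq : Cfsg.Geo.decompositionStabilizer D ⊓ Cfsg.Geo.omegaGL ⇑q =
      Cfsg.Geo.subspaceStabilizer (D 0) ⊓ Cfsg.Geo.omegaGL ⇑q := by
    ext y
    refine and_congr_left fun hy => ?_
    rw [← CfsgLib.Geo.OS.map_omega] at hy
    obtain ⟨g, -, rfl⟩ := hy
    have hmap : ∀ X : Submodule F (Fin 10 → F),
        X.map (Matrix.toLin' (CfsgLib.Geo.OS.toGL q g : Matrix (Fin 10) (Fin 10) F)) =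
          X.map g.1.toLinearMap := fun X => congrArg (Submodule.map · X)
        (LinearMap.ext fun x => by rw [Matrix.toLin'_apply, CfsgLib.Geo.OS.toGL_mulVec]; rfl)
    change CfsgLib.Geo.OS.toGL q g ∈ Cfsg.Geo.decompositionStabilizer D ↔
      CfsgLib.Geo.OS.toGL q g ∈ Cfsg.Geo.subspaceStabilizer (D 0)
    rw [CfsgLib.Geo.mem_subspaceStabilizer]
    simp only [CfsgLib.Geo.OS.toGL_mulVec]
    constructor
    · rintro ⟨σ, hσ⟩ x hx
      have h := hσ 0
      rw [hmap] at h
      rcases Fin.exists_fin_two.1 ⟨σ 0, rfl⟩ with e | e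
      · rw [e] at h; rw [← h]; exact ⟨x, hx, rfl⟩
      · exfalso
        rw [e] at h
        exact hiso g fun z hz => by rw [← hD1, ← h]; exact ⟨z, hz, rfl⟩
    · intro hg
      have hs : g ∈ CfsgLib.Geo.OS.stabO q (D 0) := CfsgLib.Geo.OS.mem_stabO_of_le hg
      have hs1 := CfsgLib.Geo.OS.stabO_perp hs
      rw [← hD1] at hs1
      refine ⟨1, fun i => ?_⟩
      rw [hmap, Equiv.Perm.one_apply]
      refine Submodule.eq_of_le_of_finrank_le ?_ (LinearEquiv.finrank_map_eq g.1 (D i)).ge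
      rintro _ ⟨x, hx, rfl⟩
      rcases Fin.exists_fin_two.1 ⟨i, rfl⟩ with e | e <;> subst e
      exacts [hg x hx, (hs1 x).2 hx]
  rw [heq]
  refine CfsgLib.Geo.OS.nondeg_subspace_maximal_of_eleven hq (by simp) ?_ ?_ hnd ?_ fun _ => hiso
  · intro h; rw [h, finrank_bot] at h0; omega
  · intro h; rw [h, finrank_top] at h0; omega
  · intro S hS h2
    exfalso
    rcases hS with rfl | rfl
    · omega
    · rw [← hD1] at h2; omega


/-- Normaliser of a self-adjoint quadratic field. -/
theorem field_normalizer (hodd : Odd (Fintype.card F))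
    {K : Subalgebra F (Matrix (Fin 10) (Fin 10) F)} (hK : IsFieldSubalgebra 2 K)
    (hsa : IsSelfAdjointFor (QuadraticMap.polar Q) K) :
    IsMaximalIn (omegaGL Q) (subalgebraNormalizer K ⊓ omegaGL Q) := by
  obtain ⟨q, rfl, hq⟩ := CfsgLib.Geo.OS.exists_quadraticForm hQ
  exact CfsgLib.OrthField.normalizer_maximal (CfsgLib.OrthField.two_ne_of_odd_card hodd) (by simp) q hq
    Nat.prime_two (fun k hk => by rw [Fintype.card_fin] at hk; omega) K hK hsa

/-- Subfield groups. -/
theorem subfield (F₀ : Subfield F) {r : ℕ} (P : Matrix.GeneralLinearGroup (Fin 10) F) {ζ : F}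
    (hr : r.Prime) (hcard : Fintype.card F = Nat.card F₀ ^ r) (hζ : ζ ≠ 0)
    (hP : IsQuadFormRationalStructure (fun v : Fin 10 → F => ζ * Q v) F₀ P) :
    IsMaximalIn (omegaGL Q) (subfieldSubgroup F₀ P ⊓ omegaGL Q) := by
  classical
  obtain ⟨Q₀, hQc, hQn⟩ := CfsgLib.Geo.OS.exists_quadraticForm hQ
  have hQ' : (QuadraticMap.polarBilin (ζ • Q₀)).Nondegenerate := by
    refine ⟨fun x hx => hQn.1 x fun y => ?_, fun x hx => hQn.2 x fun y => ?_⟩ <;>
    · have h := hx y
      rw [QuadraticMap.polarBilin_apply_apply] at h ⊢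
      change QuadraticMap.polar (ζ • ⇑Q₀) _ _ = 0 at h
      rw [QuadraticMap.polar_smul, smul_eq_mul] at h
      exact (mul_eq_zero.1 h).resolve_left hζ
  have hfun : (⇑(ζ • Q₀) : (Fin 10 → F) → F) = fun v => ζ * Q v := by
    rw [← hQc]; rfl
  have h := CfsgLib.Geo.OS.subfield_maximal_matrix_of_eleven (ζ • Q₀) hQ' (by simp) (fun _ => by simp) hr
    (by rw [Nat.card_eq_fintype_card, hcard]) (by rw [hfun]; exact hP)
  rw [hfun, CfsgLib.Geo.OS.omegaGL_smul Q hζ] at h
  exact h

/-- If five orthogonal planes are all of plus type, so is the whole space. -/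
theorem plus_of_planes {D : Fin 5 → Submodule F (Fin 10 → F)}
    (hD : IsNondegenerateMDecomposition (QuadraticMap.polar Q) 2 D)
    (hall : ∀ i, IsPlusTypeOn Q (D i)) : IsPlusTypeOn Q ⊤ := by
  obtain ⟨q, rfl, hq⟩ := CfsgLib.Geo.OS.exists_quadraticForm hQ
  choose U hUD hU hUd using hall
  have hUd' : ∀ i, Module.finrank F (U i) = 1 := fun i => by
    have := hUd i; rw [hD.decomp.finrank_eq] at this; omega
  have hex : ∀ i, ∃ v ∈ U i, v ≠ 0 := fun i => (U i).ne_bot_iff.mp fun h => by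
    have := hUd' i; rw [h, finrank_bot] at this; omega
  choose v hv hv0 using hex
  have hli : LinearIndependent F v :=
    hD.decomp.indep.linearIndependent _ (fun i => hUD i (hv i)) hv0
  refine ⟨Submodule.span F (Set.range v), le_top, fun w hw => ?_, ?_⟩
  · obtain ⟨c, rfl⟩ := (Submodule.mem_span_range_iff_exists_fun F).mp hw
    rw [CfsgLib.Geo.OS.quad_sum_orth _ _ _ fun i j hij =>
      hD.orthogonal i j hij _ (hUD i (hv i)) _ (hUD j (hv j))]
    exact Finset.sum_eq_zero fun i _ => by rw [hU i _ (hv i), mul_zero]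
  · rw [finrank_span_eq_card hli, finrank_top, Module.finrank_fin_fun, Fintype.card_fin]

end CfsgLib.Geo.O10
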