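import Cfsg.Agent.Geo.OrthFrameCases

/-!
Over `F₃` the stabiliser of a tensor decomposition `O₃ ⊗ O_n` in `Ω` is not maximal: it permutes
the three orthogonal blocks `e_i ⊗ F^n`, `(e_i)` the frame of the three-dimensional factor.
-/

set_option autoImplicit false
set_option linter.unusedSectionVars false
set_option linter.style.haveILetI false

namespace CfsgLib.Geo.OS

open QuadraticMap CfsgLib.Forms CfsgLib.Quad
open scoped Kronecker

variable {F : Type*} [Field F]

/-- A bilinear form given as a function, as a linear map. -/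
def bilOfIs {κ : Type} [Fintype κ] [DecidableEq κ] {f : (κ → F) → (κ → F) → F}
    (hf : Cfsg.Geo.IsBilinearForm f) : LinearMap.BilinForm F (κ → F) :=
  LinearMap.mk₂ F f hf.add_left hf.smul_left (fun v x y => hf.add_right v x y)
    (fun c v x => hf.smul_right c v x)

theorem bilOfIs_apply {κ : Type} [Fintype κ] [DecidableEq κ] {f : (κ → F) → (κ → F) → F}
    (hf : Cfsg.Geo.IsBilinearForm f) (x y : κ → F) : bilOfIs hf x y = f x y := rfl

theorem bilinearForm_eq_sum {κ : Type} [Fintype κ] [DecidableEq κ] {f : (κ → F) → (κ → F) → F}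
    (hf : Cfsg.Geo.IsBilinearForm f) (x y : κ → F) :
    f x y = ∑ a, ∑ b, x a * Cfsg.Geo.gramMatrix f a b * y b := by
  have hx : ∀ z : κ → F, z = ∑ a, z a • (Pi.single a 1 : κ → F) := fun z => by
    simp_rw [← Pi.single_smul, smul_eq_mul, mul_one]
    exact (Finset.univ_sum_single z).symm
  calc f x y = bilOfIs hf (∑ a, x a • (Pi.single a 1 : κ → F))
        (∑ b, y b • (Pi.single b 1 : κ → F)) := by rw [bilOfIs_apply, ← hx, ← hx]
    _ = _ := by
      rw [LinearMap.map_sum₂]
      refine Finset.sum_congr rfl fun a _ => ?_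
      rw [map_sum]
      refine Finset.sum_congr rfl fun b _ => ?_
      rw [map_smul, LinearMap.map_smul₂, bilOfIs_apply, smul_eq_mul, smul_eq_mul,
        Cfsg.Geo.gramMatrix]
      ring

/-- A non-degenerate symmetric bilinear form in dimension three over `F₃` has an orthogonal basis
with one value. -/
theorem exists_frame_three (hq : Nat.card F = 3) [Finite F]
    {f : (Fin 3 → F) → (Fin 3 → F) → F} (hf : Cfsg.Geo.IsSymmetricForm f) :
    ∃ (d : F) (w : Module.Basis (Fin 3) F (Fin 3 → F)), d ≠ 0 ∧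
      ∀ i j, f (w i) (w j) = if i = j then d else 0 := by
  obtain ⟨h2, h3, htri⟩ := field_three hq
  haveI := invertibleOfNonzero h2
  have hne : ∀ {v : Fin 3 → F}, (∀ y, f v y = 0) → v = 0 := fun {v} hv => by
    by_contra h
    obtain ⟨-, y, hy⟩ := hf.nondegenerate v h
    exact hy (hv y)
  obtain ⟨b₀, hb₀⟩ := LinearMap.BilinForm.exists_orthogonal_basis (B := bilOfIs hf.bilinear)
    ⟨fun x y => hf.symm x y⟩
  set b : Module.Basis (Fin 3) F (Fin 3 → F) := b₀.reindex (finCongr (by simp)) with hb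
  have horth : ∀ i j, i ≠ j → f (b i) (b j) = 0 := fun i j hij => by
    simp only [hb, Module.Basis.reindex_apply]
    exact hb₀ fun e => hij ((finCongr _).symm.injective e)
  have hval : ∀ i, f (b i) (b i) = 1 ∨ f (b i) (b i) = -1 := fun i => by
    refine (htri _).resolve_left fun h => b.ne_zero i (hne fun y => ?_)
    rw [← bilOfIs_apply hf.bilinear, ← b.sum_repr y, map_sum]
    refine Finset.sum_eq_zero fun k _ => ?_
    rw [map_smul, bilOfIs_apply]
    rcases eq_or_ne i k with rfl | hik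
    · rw [h, smul_zero]
    · rw [horth i k hik, smul_zero]
  by_cases hall : ∀ i, f (b i) (b i) = f (b 0) (b 0)
  · refine ⟨f (b 0) (b 0), b, ?_, fun i j => ?_⟩
    · rcases hval 0 with h | h <;> rw [h]
      · exact one_ne_zero
      · exact neg_ne_zero.2 one_ne_zero
    · split_ifs with h
      · subst h; exact hall i
      · exact horth i j h
  obtain ⟨i, j, k, hij, hik, hjk, hvij, hvk⟩ : ∃ i j k : Fin 3, i ≠ j ∧ i ≠ k ∧ j ≠ k ∧
      f (b i) (b i) = f (b j) (b j) ∧ f (b k) (b k) = -f (b i) (b i) := by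
    push Not at hall
    obtain ⟨a, ha⟩ := hall
    have ha0 : a ≠ 0 := fun h => ha (by rw [h])
    have hflip : ∀ {x y : Fin 3}, f (b x) (b x) ≠ f (b y) (b y) →
        f (b x) (b x) = -f (b y) (b y) := by
      intro x y h
      rcases hval x with hx | hx <;> rcases hval y with hy | hy <;> rw [hx, hy] at h ⊢ <;>
        first | exact absurd rfl h | simp
    obtain ⟨r, hr0, hra⟩ : ∃ r : Fin 3, r ≠ 0 ∧ r ≠ a := by
      fin_cases a
      · exact absurd rfl ha0
      · exact ⟨2, by decide, by decide⟩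
      · exact ⟨1, by decide, by decide⟩
    by_cases hr : f (b r) (b r) = f (b 0) (b 0)
    · exact ⟨0, r, a, hr0.symm, ha0.symm, hra, hr.symm, hflip ha⟩
    · refine ⟨a, r, 0, hra.symm, ha0, hr0, ?_, ?_⟩
      · rw [hflip ha, hflip hr]
      · rw [hflip ha, neg_neg]
  set d := f (b i) (b i) with hd
  have hd0 : -d ≠ 0 := by
    rcases hval i with h | h <;> simp [hd, h]
  set g : Fin 3 → (Fin 3 → F) := ![b i + b j, b i - b j, b k] with hg
  have hgg : ∀ x y, f (g x) (g y) = if x = y then -d else 0 := by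
    have hij' := horth i j hij
    have hji := horth j i hij.symm
    have hik' := horth i k hik
    have hki := horth k i hik.symm
    have hjk' := horth j k hjk
    have hkj := horth k j hjk.symm
    intro x y
    fin_cases x <;> fin_cases y <;>
      simp only [hg, Fin.zero_eta, Fin.mk_one, Fin.reduceFinMk, Matrix.cons_val, Matrix.cons_val_zero,
        Matrix.cons_val_one, Fin.reduceEq, ↓reduceIte, sub_eq_add_neg, hf.bilinear.add_left,
        hf.bilinear.add_right, ← neg_one_smul F (b j), hf.bilinear.smul_left, hf.bilinear.smul_right] <;>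
      simp only [hij', hji, hik', hki, hjk', hkj, hvij.symm, hvk, ← hd] <;>
      first | ring1 | linear_combination (d : F) * h3
  have hli : LinearIndependent F g := by
    rw [Fintype.linearIndependent_iff]
    intro c hc x
    have h1 : f (g x) (∑ y, c y • g y) = c x * -d := by
      rw [← bilOfIs_apply hf.bilinear, map_sum, Finset.sum_eq_single x]
      · rw [map_smul, bilOfIs_apply, hgg, if_pos rfl, smul_eq_mul]
      · intro y _ hy; rw [map_smul, bilOfIs_apply, hgg, if_neg hy.symm, smul_zero]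
      · simp
    rw [hc, ← bilOfIs_apply hf.bilinear, map_zero] at h1
    exact (mul_eq_zero.1 h1.symm).resolve_right hd0
  refine ⟨-d, basisOfLinearIndependentOfCardEqFinrank hli (by simp), hd0, fun x y => ?_⟩
  rw [coe_basisOfLinearIndependentOfCardEqFinrank]
  exact hgg x y

/-- Similitudes of the frame permute it up to signs. -/
theorem frame_three_perm (hq : Nat.card F = 3) [Finite F]
    {f : (Fin 3 → F) → (Fin 3 → F) → F} (hf : Cfsg.Geo.IsBilinearForm f) {d : F} (hd : d ≠ 0)
    {w : Module.Basis (Fin 3) F (Fin 3 → F)} (hw : ∀ i j, f (w i) (w j) = if i = j then d else 0)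
    {A : (Fin 3 → F) → (Fin 3 → F)} {l : F} (hl : l ≠ 0) (hA : ∀ x y, f (A x) (A y) = l * f x y) :
    ∃ σ : Equiv.Perm (Fin 3), ∀ i, ∃ s : F, s * s = 1 ∧ A (w i) = s • w (σ i) := by
  obtain ⟨h2, h3, htri⟩ := field_three hq
  set M : Matrix (Fin 3) (Fin 3) F := fun i k => w.repr (A (w i)) k with hM
  have hexp : ∀ i j, f (A (w i)) (A (w j)) = d * ∑ k, M i k * M j k := fun i j => by
    conv_lhs => rw [← w.sum_repr (A (w i)), ← w.sum_repr (A (w j))]
    rw [← bilOfIs_apply hf]
    simp only [map_sum, LinearMap.coe_sum, Finset.sum_apply, map_smul, LinearMap.smul_apply,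
      smul_eq_mul, bilOfIs_apply, hw, mul_ite, mul_zero, Finset.sum_ite_eq', Finset.sum_ite_eq,
      Finset.mem_univ, if_true, Finset.mul_sum, hM]
    exact Finset.sum_congr rfl fun k _ => by ring
  have hMM : M * M.transpose = l • (1 : Matrix (Fin 3) (Fin 3) F) := by
    ext i j
    refine mul_left_cancel₀ hd ?_
    rw [Matrix.mul_apply, Matrix.smul_apply, Matrix.one_apply]
    simp only [Matrix.transpose_apply]
    rw [← hexp, hA, hw]
    split_ifs <;> simp [mul_comm]
  have hl1 : l = 1 := by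
    have h := congrArg Matrix.det hMM
    rw [Matrix.det_mul, Matrix.det_transpose, Matrix.det_smul, Matrix.det_one, mul_one,
      Fintype.card_fin] at h
    rcases (htri l).resolve_left hl with h1 | h1
    · exact h1
    · rw [h1] at h
      rcases htri M.det with h4 | h4 | h4 <;> rw [h4] at h <;> exfalso
      · exact one_ne_zero (by linear_combination h : (1 : F) = 0)
      · exact one_ne_zero (by linear_combination h3 - h : (1 : F) = 0)
      · exact one_ne_zero (by linear_combination h3 - h : (1 : F) = 0)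
  -- a vector of value `d` has exactly one non-zero coordinate
  have hone : ∀ i, ∃ (k : Fin 3) (s : F), s * s = 1 ∧ A (w i) = s • w k := fun i => by
    have hs : M i 0 * M i 0 + M i 1 * M i 1 + M i 2 * M i 2 = 1 := by
      have := congrFun (congrFun hMM i) i
      simpa [Matrix.mul_apply, Fin.sum_univ_three, hl1] using this
    have hrep : A (w i) = M i 0 • w 0 + M i 1 • w 1 + M i 2 • w 2 := by
      conv_lhs => rw [← w.sum_repr (A (w i))]
      rw [Fin.sum_univ_three]
    have hsq : ∀ a : F, a ≠ 0 → a * a = 1 := fun a ha => by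
      rcases (htri a).resolve_left ha with h | h <;> subst h <;> ring
    have hzero : ∀ a b : F, a * a + b * b = 0 → a = 0 ∧ b = 0 := fun a b h => by
      by_cases ha : a = 0
      · exact ⟨ha, by simpa [ha] using h⟩
      by_cases hb : b = 0
      · rw [hsq a ha, hb, mul_zero, add_zero] at h
        exact absurd h one_ne_zero
      · rw [hsq a ha, hsq b hb] at h
        exact absurd (by linear_combination h : (2 : F) = 0) h2
    by_cases a0 : M i 0 = 0
    · by_cases a1 : M i 1 = 0
      · refine ⟨2, M i 2, by linear_combination hs - M i 0 * a0 - M i 1 * a1, ?_⟩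
        rw [hrep, a0, a1, zero_smul, zero_smul, zero_add, zero_add]
      · obtain ⟨h4, h5⟩ := hzero (M i 0) (M i 2) (by linear_combination hs - hsq _ a1)
        exact ⟨1, M i 1, hsq _ a1, by rw [hrep, h4, h5, zero_smul, zero_smul, zero_add, add_zero]⟩
    · obtain ⟨h4, h5⟩ := hzero (M i 1) (M i 2) (by linear_combination hs - hsq _ a0)
      exact ⟨0, M i 0, hsq _ a0, by rw [hrep, h4, h5, zero_smul, zero_smul, add_zero, add_zero]⟩
  choose k s hs hk using hone
  refine ⟨Equiv.ofBijective k (Finite.injective_iff_bijective.1 fun i j h => ?_),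
    fun i => ⟨s i, hs i, hk i⟩⟩
  by_contra hij
  have h1 := hA (w i) (w j)
  rw [hk i, hk j, h, hf.smul_left, hf.smul_right, hw, if_pos rfl, hw, if_neg hij, mul_zero] at h1
  rw [← mul_assoc] at h1
  rcases mul_eq_zero.1 h1 with h4 | h4
  · rcases mul_eq_zero.1 h4 with h5 | h5
    · exact one_ne_zero (α := F) (by rw [← hs i, h5, mul_zero])
    · exact one_ne_zero (α := F) (by rw [← hs j, h5, mul_zero])
  · exact hd h4

variable [Finite F] {ι : Type} [Fintype ι] [DecidableEq ι] {Q : QuadraticForm F (ι → F)}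

/-- Over `F₃`: the stabiliser of `O₃ ⊗ O_n`, `n ≥ 4`, is not maximal in `Ω`. -/
theorem tensor_three_nonmax (hQ : (polarBilin Q).Nondegenerate) (hq : Nat.card F = 3) {n₂ : ℕ}
    (hn₂ : 4 ≤ n₂) {e : ι ≃ Fin 3 × Fin n₂} {P : GL ι F}
    {f₁ : (Fin 3 → F) → (Fin 3 → F) → F} {f₂ : (Fin n₂ → F) → (Fin n₂ → F) → F}
    (hf₁ : Cfsg.Geo.IsSymmetricForm f₁) (hf₂ : Cfsg.Geo.IsSymmetricForm f₂)
    (hT : Cfsg.Geo.IsTensorFormStructure id (QuadraticMap.polar Q) f₁ f₂ e P) :
    ∃ K : Subgroup (GL ι F), Cfsg.Geo.tensorProductSubgroup 3 n₂ e P ⊓ Cfsg.Geo.omegaGL ⇑Q < K ∧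
      K < Cfsg.Geo.omegaGL ⇑Q := by
  classical
  obtain ⟨h2, h3, htri⟩ := field_three hq
  obtain ⟨c, hc, hc'⟩ := hT
  obtain ⟨d, w, hd, hw⟩ := exists_frame_three hq hf₁
  have hdim : Module.finrank F (ι → F) = 3 * n₂ := by
    rw [Module.finrank_pi, Fintype.card_congr e]; simp
  let u : (Fin 3 × Fin n₂ → F) →ₗ[F] (ι → F) :=
    (Matrix.mulVecLin (P : Matrix ι ι F)).comp (LinearMap.funLeft F F e)
  let T : Fin 3 → ((Fin n₂ → F) →ₗ[F] (ι → F)) := fun i => u.comp (σ₁₂ := RingHom.id F)
    ({ toFun := fun v a => w i a.1 * v a.2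
       map_add' := fun x y => funext fun a => by simp [mul_add]
       map_smul' := fun r x => funext fun a => by
         simp only [Pi.smul_apply, smul_eq_mul, RingHom.id_apply]; ring } :
      (Fin n₂ → F) →ₗ[F] (Fin 3 × Fin n₂ → F))
  have hu : ∀ x, u x = Matrix.mulVec (P : Matrix ι ι F) (x ∘ e) := fun _ => rfl
  have hTd : ∀ i v, T i v = u (fun a => w i a.1 * v a.2) := fun _ _ => rfl
  have hpol : ∀ (x₁ y₁ : Fin 3 → F) (x₂ y₂ : Fin n₂ → F),
      polar Q (u fun a => x₁ a.1 * x₂ a.2) (u fun a => y₁ a.1 * y₂ a.2) =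
        c * (f₁ x₁ y₁ * f₂ x₂ y₂) := fun x₁ y₁ x₂ y₂ => by
    rw [hu, hu, hc', bilinearForm_eq_sum hf₁.bilinear x₁, bilinearForm_eq_sum hf₂.bilinear x₂,
      Cfsg.Geo.formOfGram, Fintype.sum_prod_type, Finset.sum_mul_sum]
    congr 1
    refine Finset.sum_congr rfl fun a _ => Finset.sum_congr rfl fun a' _ => ?_
    rw [Fintype.sum_prod_type, Finset.sum_mul_sum]
    refine Finset.sum_congr rfl fun b _ => Finset.sum_congr rfl fun b' _ => ?_
    simp only [Matrix.kroneckerMap_apply, id_eq]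
    ring
  have hTT : ∀ i j v v', polar Q (T i v) (T j v') = c * ((if i = j then d else 0) * f₂ v v') :=
    fun i j v v' => by rw [hTd, hTd, hpol, hw]
  -- a vector lies in one block only, with one coordinate
  have hTinj : ∀ {i j v v'}, T i v = T j v' → v ≠ 0 → i = j ∧ v = v' := by
    intro i j v v' h hv
    obtain ⟨-, y, hy⟩ := hf₂.nondegenerate v hv
    have hij : i = j := by
      by_contra hij
      have h1 := hTT i i v y
      rw [h, hTT, if_neg (Ne.symm hij), zero_mul, mul_zero, if_pos rfl] at h1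
      exact mul_ne_zero hc (mul_ne_zero hd hy) h1.symm
    subst hij
    refine ⟨rfl, sub_eq_zero.1 ?_⟩
    by_contra hne
    obtain ⟨-, z, hz⟩ := hf₂.nondegenerate _ hne
    have h1 := hTT i i (v - v') z
    rw [map_sub, h, sub_self, polar_zero_left, if_pos rfl] at h1
    exact mul_ne_zero hc (mul_ne_zero hd hz) h1.symm
  have hTinj' : ∀ i, Function.Injective (T i) := fun i v v' h => by
    by_contra hne
    rcases eq_or_ne v 0 with rfl | hv
    · exact hne (hTinj h.symm (Ne.symm hne)).2.symm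
    · exact hne (hTinj h hv).2
  let D : Fin 3 → Submodule F (ι → F) := fun i => LinearMap.range (T i)
  have hDd : ∀ i, Module.finrank F (D i) = n₂ := fun i => by
    rw [LinearMap.finrank_range_of_inj (hTinj' i), Module.finrank_fin_fun]
  -- the action of an element of the tensor subgroup
  have hact : ∀ g : oGroup Q, toGL Q g ∈ Cfsg.Geo.tensorProductSubgroup 3 n₂ e P →
      ∃ (B : GL (Fin n₂) F) (σ : Equiv.Perm (Fin 3)), ∀ i, ∃ s : F, s * s = 1 ∧
        ∀ v, g.1 (T i v) = s • T (σ i) (Matrix.mulVec (B : Matrix _ _ F) v) := by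
    rintro g ⟨g', ⟨k, ⟨A, B, hk⟩, hk'⟩, hg'⟩
    have hgu : ∀ (x : Fin 3 → F) (y : Fin n₂ → F), g.1 (u fun a => x a.1 * y a.2) =
        u fun a => Matrix.mulVec (A : Matrix _ _ F) x a.1 * Matrix.mulVec (B : Matrix _ _ F) y a.2 := by
      intro x y
      have hm : (toGL Q g : Matrix ι ι F) = (P : Matrix ι ι F) *
          Matrix.reindex e.symm e.symm (k : Matrix _ _ F) * ((P⁻¹ : GL ι F) : Matrix ι ι F) := by
        rw [← hg', ← hk']; rfl
      rw [← toGL_mulVec, hm, hu, hu, Matrix.mulVec_mulVec, Matrix.mul_assoc, ← Units.val_mul,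
        inv_mul_cancel, Units.val_one, Matrix.mul_one, ← Matrix.mulVec_mulVec]
      congr 1
      rw [Matrix.reindex_apply, Equiv.symm_symm, Matrix.submatrix_mulVec_equiv]
      ext a
      simp only [Function.comp_apply, Equiv.apply_symm_apply, hk]
      rw [Matrix.mulVec, dotProduct, Fintype.sum_prod_type]
      simp only [Matrix.mulVec, dotProduct, Matrix.kroneckerMap_apply, Finset.sum_mul_sum,
        Function.comp_apply, Equiv.apply_symm_apply]
      exact Finset.sum_congr rfl fun i _ => Finset.sum_congr rfl fun j _ => by ring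
    obtain ⟨x₀, y₀, hxy⟩ : ∃ x y, f₂ x y ≠ 0 := by
      haveI : Nonempty (Fin n₂) := ⟨⟨0, by omega⟩⟩
      obtain ⟨v, hv⟩ := exists_ne (0 : Fin n₂ → F)
      obtain ⟨-, y, hy⟩ := hf₂.nondegenerate v hv
      exact ⟨v, y, hy⟩
    set m₂ := f₂ (Matrix.mulVec (B : Matrix _ _ F) x₀) (Matrix.mulVec (B : Matrix _ _ F) y₀) with hm₂
    have hsim : ∀ x y, f₁ (Matrix.mulVec (A : Matrix _ _ F) x) (Matrix.mulVec (A : Matrix _ _ F) y)
        * m₂ = f₁ x y * f₂ x₀ y₀ := fun x y => by
      refine mul_left_cancel₀ hc ?_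
      rw [hm₂, ← hpol, ← hgu, ← hgu, ← hpol]
      exact polar_oGroup g _ _
    have hm0 : m₂ ≠ 0 := fun h0 => by
      have h := hsim (w 0) (w 0)
      rw [h0, mul_zero, hw, if_pos rfl] at h
      exact mul_ne_zero hd hxy h.symm
    obtain ⟨σ, hσ⟩ := frame_three_perm hq hf₁.bilinear hd hw (l := f₂ x₀ y₀ / m₂)
      (div_ne_zero hxy hm0) (A := Matrix.mulVec (A : Matrix _ _ F)) fun x y => by
        field_simp
        linear_combination hsim x y
    refine ⟨B, σ, fun i => ?_⟩
    obtain ⟨s, hs, hAw⟩ := hσ i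
    refine ⟨s, hs, fun v => ?_⟩
    rw [hTd, hgu, hAw, hTd, ← map_smul u]
    congr 1
    funext a
    simp [mul_assoc]
  have hle : ∀ g ∈ commutator (oGroup Q), toGL Q g ∈ Cfsg.Geo.tensorProductSubgroup 3 n₂ e P →
      g ∈ (Cfsg.Geo.decompositionStabilizer D).comap (toGL Q) := by
    intro g _ hg
    obtain ⟨B, σ, hσ⟩ := hact g hg
    refine ⟨σ, fun i => ?_⟩
    obtain ⟨s, hs, hgT⟩ := hσ i
    ext x
    simp only [Submodule.mem_map, D, LinearMap.mem_range, Matrix.toLin'_apply, toGL_mulVec]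
    constructor
    · rintro ⟨_, ⟨v, rfl⟩, rfl⟩
      exact ⟨s • Matrix.mulVec (B : Matrix _ _ F) v, by rw [map_smul, hgT]⟩
    · rintro ⟨v, rfl⟩
      refine ⟨_, ⟨Matrix.mulVec ((B⁻¹ : GL (Fin n₂) F) : Matrix _ _ F) (s • v), rfl⟩, ?_⟩
      rw [hgT, Matrix.mulVec_mulVec, ← Units.val_mul, mul_inv_cancel, Units.val_one,
        Matrix.one_mulVec, map_smul, smul_smul, hs, one_smul]
  -- two orthogonal vectors of equal value, and a third one, in the second factor
  haveI := invertibleOfNonzero h2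
  obtain ⟨v₁, v₂, v₃, hv₃, h11, h22, h12, h13, h23⟩ : ∃ v₁ v₂ v₃ : Fin n₂ → F, v₃ ≠ 0 ∧
      f₂ v₁ v₁ ≠ 0 ∧ f₂ v₂ v₂ = f₂ v₁ v₁ ∧ f₂ v₁ v₂ = 0 ∧ f₂ v₁ v₃ = 0 ∧ f₂ v₂ v₃ = 0 := by
    obtain ⟨b₀, hb₀⟩ := LinearMap.BilinForm.exists_orthogonal_basis (B := bilOfIs hf₂.bilinear)
      ⟨fun x y => hf₂.symm x y⟩
    set b : Module.Basis (Fin n₂) F (Fin n₂ → F) := b₀.reindex (finCongr (by simp)) with hb
    have horth : ∀ i j, i ≠ j → f₂ (b i) (b j) = 0 := fun i j hij => by
      simp only [hb, Module.Basis.reindex_apply]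
      exact hb₀ fun e => hij ((finCongr _).symm.injective e)
    have hval : ∀ i, f₂ (b i) (b i) ≠ 0 := fun i h => by
      obtain ⟨-, y, hy⟩ := hf₂.nondegenerate _ (b.ne_zero i)
      refine hy ?_
      rw [← bilOfIs_apply hf₂.bilinear, ← b.sum_repr y, map_sum]
      refine Finset.sum_eq_zero fun k _ => ?_
      rw [map_smul, bilOfIs_apply]
      rcases eq_or_ne i k with rfl | hik
      · rw [h, smul_zero]
      · rw [horth i k hik, smul_zero]
    let i : Fin 3 → Fin n₂ := fun j => Fin.castLE (by omega) j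
    have hi : Function.Injective i := Fin.castLE_injective _
    have key : ∀ p q r : Fin 3, p ≠ q → p ≠ r → q ≠ r →
        f₂ (b (i q)) (b (i q)) = f₂ (b (i p)) (b (i p)) →
        ∃ v₁ v₂ v₃ : Fin n₂ → F, v₃ ≠ 0 ∧ f₂ v₁ v₁ ≠ 0 ∧ f₂ v₂ v₂ = f₂ v₁ v₁ ∧
          f₂ v₁ v₂ = 0 ∧ f₂ v₁ v₃ = 0 ∧ f₂ v₂ v₃ = 0 := fun p q r hpq hpr hqr h =>
      ⟨b (i p), b (i q), b (i r), b.ne_zero _, hval _, h, horth _ _ (hi.ne hpq),
        horth _ _ (hi.ne hpr), horth _ _ (hi.ne hqr)⟩
    rcases (htri _).resolve_left (hval (i 0)) with a | a <;>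
      rcases (htri _).resolve_left (hval (i 1)) with b' | b' <;>
      rcases (htri _).resolve_left (hval (i 2)) with c' | c' <;>
      first
      | exact key 0 1 2 (by decide) (by decide) (by decide) (b'.trans a.symm)
      | exact key 0 2 1 (by decide) (by decide) (by decide) (c'.trans a.symm)
      | exact key 1 2 0 (by decide) (by decide) (by decide) (c'.trans b'.symm)
  have hQT : ∀ v, 2 * Q (T 0 v) = c * (d * f₂ v v) := fun v => by
    have h := hTT 0 0 v v
    rwa [polar_self, if_pos rfl, nsmul_eq_mul, Nat.cast_ofNat] at h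
  set x₁ := T 0 v₁ with hx₁
  set x₂ := T 0 v₂ with hx₂
  have hQ1 : Q x₁ ≠ 0 := fun h => by
    have h' := hQT v₁
    rw [← hx₁, h, mul_zero] at h'
    exact mul_ne_zero hc (mul_ne_zero hd h11) h'.symm
  have hQ12 : Q x₂ = Q x₁ := mul_left_cancel₀ h2 (by rw [hQT, hQT, h22])
  have hrr : ∀ v, f₂ v v₁ = 0 → f₂ v v₂ = 0 → (refl Q x₁ * refl Q x₂).1 (T 0 v) = T 0 v :=
    fun v a b => by
      change (refl Q x₁).1 ((refl Q x₂).1 (T 0 v)) = _
      rw [refl_fix (show polar Q (T 0 v) x₂ = 0 by rw [hTT, b, mul_zero, mul_zero]),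
        refl_fix (show polar Q (T 0 v) x₁ = 0 by rw [hTT, a, mul_zero, mul_zero])]
  refine exists_between (L := (Cfsg.Geo.decompositionStabilizer D).comap (toGL Q)) hle
    ⟨refl Q x₁ * refl Q x₂, refl_pair_mem_commutator hQ hQ1 (hQ12 ▸ hQ1)
      (by rw [hQ12]; exact ⟨Q x₁, rfl⟩), ?_, ?_⟩ ?_
  · -- it maps every block to itself
    refine ⟨Equiv.refl _, fun i => ?_⟩
    have hfix : ∀ v ∈ D i, (refl Q x₁ * refl Q x₂).1 v ∈ D i := by
      rintro _ ⟨v, rfl⟩
      change (refl Q x₁).1 ((refl Q x₂).1 (T i v)) ∈ _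
      rcases eq_or_ne i 0 with rfl | hi
      · rw [refl_apply, refl_apply]
        exact Submodule.add_mem _ (Submodule.add_mem _ ⟨v, rfl⟩ (Submodule.smul_mem _ _ ⟨v₂, rfl⟩))
          (Submodule.smul_mem _ _ ⟨v₁, rfl⟩)
      · have hz : ∀ v', polar Q (T i v) (T 0 v') = 0 := fun v' => by
          rw [hTT, if_neg hi, zero_mul, mul_zero]
        rw [refl_fix (hz v₂), refl_fix (hz v₁)]
        exact ⟨v, rfl⟩
    refine Submodule.eq_of_le_of_finrank_le ?_ ?_
    · rintro _ ⟨v, hv, rfl⟩
      rw [Matrix.toLin'_apply, toGL_mulVec]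
      exact hfix v hv
    · refine le_of_eq (LinearEquiv.finrank_eq (Submodule.equivMapOfInjective _ ?_ _))
      intro a b h
      rw [Matrix.toLin'_apply, Matrix.toLin'_apply, toGL_mulVec, toGL_mulVec] at h
      exact (refl Q x₁ * refl Q x₂).1.injective h
  · intro hh
    obtain ⟨B, σ, hσ⟩ := hact _ hh
    obtain ⟨s₀, hs₀, h0⟩ := hσ 0
    obtain ⟨s₁, hs₁, h1⟩ := hσ 1
    have hB : ∀ v, s₁ • Matrix.mulVec (B : Matrix _ _ F) v = v := fun v => by
      rcases eq_or_ne v 0 with rfl | hv
      · simp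
      have hv' := h1 v
      change (refl Q x₁).1 ((refl Q x₂).1 (T 1 v)) = _ at hv'
      have hz : ∀ v', polar Q (T 1 v) (T 0 v') = 0 := fun v' => by
        rw [hTT, if_neg (by decide), zero_mul, mul_zero]
      rw [refl_fix (hz v₂), refl_fix (hz v₁), ← map_smul] at hv'
      exact (hTinj hv' hv).2.symm
    have hB' : ∀ v, Matrix.mulVec (B : Matrix _ _ F) v = s₁ • v := fun v => by
      conv_rhs => rw [← hB v]
      rw [smul_smul, hs₁, one_smul]
    have hneg : (refl Q x₁ * refl Q x₂).1 x₁ = -x₁ := by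
      change (refl Q x₁).1 ((refl Q x₂).1 x₁) = _
      rw [refl_fix (show polar Q x₁ x₂ = 0 by rw [hTT, h12, mul_zero, mul_zero]), refl_apply,
        polar_self, nsmul_eq_mul, Nat.cast_ofNat, ← mul_assoc, mul_comm (-(Q x₁)⁻¹) 2, mul_assoc,
        neg_mul, inv_mul_cancel₀ hQ1, mul_neg, mul_one, neg_smul, two_smul]
      abel
    have e3 := hrr v₃ (by rw [hf₂.symm, h13]) (by rw [hf₂.symm, h23])
    rw [h0, hB', map_smul, smul_smul] at e3
    rw [h0, hB', map_smul, smul_smul, hx₁, ← map_neg, ← map_smul] at hneg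
    rw [← map_smul] at e3
    obtain ⟨hσ0, he3⟩ := hTinj e3.symm hv₃
    have hne1 : -v₁ ≠ 0 := neg_ne_zero.2 fun h => h11 (by
      rw [h, ← bilOfIs_apply hf₂.bilinear, map_zero])
    have hd1 := (hTinj hneg.symm hne1).2
    have hss : s₀ * s₁ = 1 := smul_left_injective F hv₃
      (show (s₀ * s₁) • v₃ = (1 : F) • v₃ by rw [one_smul]; exact he3.symm)
    rw [hss, one_smul] at hd1
    refine mul_ne_zero h2 h11 ?_
    have h4 := congrArg (fun z => f₂ z v₁) hd1
    simp only [← neg_one_smul F v₁, hf₂.bilinear.smul_left, neg_one_mul] at h4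
    linear_combination -h4
  · -- an element moving the first block
    obtain ⟨z, hz, haz⟩ : ∃ z, Q z = 0 ∧ polar Q x₁ z ≠ 0 := by
      by_contra hcon
      push Not at hcon
      obtain ⟨y, hy⟩ := exists_polar_ne hQ
        (fun h0 : x₁ = 0 => hQ1 (by rw [h0, QuadraticMap.map_zero]))
      have : y ∈ Submodule.span F {x | Q x = 0} := by
        rw [span_singular_top hQ (by omega)]; trivial
      refine hy ?_
      clear hy
      induction this using Submodule.span_induction with
      | mem x hx => exact hcon x hx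
      | zero => exact polar_zero_right _ _
      | add u v _ _ hu hv => rw [polar_add_right, hu, hv, add_zero]
      | smul s u _ hu => rw [polar_smul_right, hu, smul_zero]
    obtain ⟨x, hx, hQx, hxD⟩ := exists_singular_outside hQ
      (perpS Q (Submodule.span F {z} ⊔ Submodule.span F {x₁})) (D 0) (by
        have h1 := finrank_perpS hQ (Submodule.span F {z} ⊔ Submodule.span F {x₁})
        have h3 := Submodule.finrank_add_le_finrank_add_finrank (Submodule.span F {z})
          (Submodule.span F {x₁})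
        have hone : ∀ v : ι → F, Module.finrank F (Submodule.span F {v}) ≤ 1 := fun v =>
          (finrank_span_le_card ({v} : Set (ι → F))).trans (by simp)
        have := hone z
        have := hone x₁
        have := hDd 0
        omega)
    have hzx : polar Q z x = 0 :=
      hx z (Submodule.mem_sup_left (Submodule.mem_span_singleton_self z))
    have hax : polar Q x₁ x = 0 :=
      hx x₁ (Submodule.mem_sup_right (Submodule.mem_span_singleton_self x₁))
    refine ⟨siegel Q z x, siegel_mem_commutator hQ (by omega) hz hzx, fun hL => ?_⟩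
    obtain ⟨σ, hσ⟩ := hL
    have h1 : (siegel Q z x).1 x₁ ∈ D (σ 0) := hσ 0 ▸
      ⟨x₁, ⟨v₁, rfl⟩, by rw [Matrix.toLin'_apply, toGL_mulVec]⟩
    rw [siegel_apply hz hzx, hax, hQx, zero_mul, add_zero, zero_smul, sub_zero] at h1
    rcases eq_or_ne (σ 0) 0 with h | h
    · rw [h] at h1
      refine hxD ((Submodule.smul_mem_iff _ haz).1 ?_)
      simpa using Submodule.sub_mem _ h1 ⟨v₁, hx₁.symm⟩
    · obtain ⟨v, hv⟩ := h1
      have h2' := hTT 0 (σ 0) v₁ v
      rw [hv, if_neg (Ne.symm h), zero_mul, mul_zero, ← hx₁, polar_add_right, polar_smul_right,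
        hax, smul_zero, add_zero, polar_self, nsmul_eq_mul, Nat.cast_ofNat] at h2'
      exact mul_ne_zero h2 hQ1 h2'

end CfsgLib.Geo.OS
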