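import Cfsg.Agent.Geo.OrthPlus
import Cfsg.Agent.Geo.OrthSubfieldMatrix
import Cfsg.Agent.Geo.OrthLagrangianPair
import Cfsg.Agent.Geo.OrthNonMaximal
import Cfsg.Agent.OrthField.Bridge

/-!
Clauses shared by the lists of geometric maximal subgroups of `Ω` in dimension twelve.
-/

set_option autoImplicit false
set_option linter.unusedSectionVars false

namespace CfsgLib.Geo.OTwelve

open QuadraticMap CfsgLib.Forms CfsgLib.Quad CfsgLib.Geo.OS

variable {F : Type*} [Field F] [Fintype F]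

theorem two_eq_zero_of_even (h : ¬ Odd (Fintype.card F)) : (2 : F) = 0 := by
  by_contra h2
  refine h (Nat.odd_iff.2 ?_)
  rw [← Nat.card_eq_fintype_card]
  exact CfsgLib.Forms.odd_card_of_two_ne h2

variable {Q : QuadraticForm F (Fin 12 → F)} (hQ : (polarBilin Q).Nondegenerate)

include hQ

theorem finrank_ts_le {U : Submodule F (Fin 12 → F)} (hU : ∀ u ∈ U, Q u = 0) :
    2 * Module.finrank F U ≤ 12 := by
  by_contra hcc
  have hd : Module.finrank F (Fin 12 → F) = 12 := Module.finrank_fin_fun F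
  obtain ⟨x, hx, hx0⟩ := exists_aniso_of_finrank hQ (K := U) (by omega)
  exact hx0 (hU x hx)

/-- A non-degenerate subspace stabiliser whose member planes are anisotropic or over a field of order at least four. -/
theorem nd_clause {W : Submodule F (Fin 12 → F)} (hW0 : W ≠ ⊥) (hW1 : W ≠ ⊤)
    (hW : Cfsg.Geo.IsNondegenerateOn (polar ⇑Q) W)
    (h2 : Module.finrank F W = 2 → ¬ Cfsg.Geo.IsPlusTypeOn ⇑Q W ∨ 4 ≤ Fintype.card F)
    (h10 : Module.finrank F W ≠ 10)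
    (h6 : Module.finrank F W = 6 → ∀ g : oGroup Q, ¬ ∀ x ∈ W, g.1 x ∈ perpS Q W) :
    Cfsg.Geo.IsMaximalIn (Cfsg.Geo.omegaGL ⇑Q)
      (Cfsg.Geo.subspaceStabilizer W ⊓ Cfsg.Geo.omegaGL ⇑Q) := by
  have hd : Module.finrank F (Fin 12 → F) = 12 := Module.finrank_fin_fun F
  have hsum := finrank_perpS hQ W
  refine nondeg_subspace_maximal_of_eleven hQ (by simp) hW0 hW1 (nd_of_isNondegenerateOn hW) ?_
    (fun h => h6 (by rw [Fintype.card_fin] at h; omega))
  rintro S (rfl | rfl) h2S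
  · by_cases han : ∀ x ∈ S, Q x = 0 → x = 0
    · exact Or.inl han
    push Not at han
    obtain ⟨z, hz, hz0, hne⟩ := han
    refine Or.inr ?_
    rw [Nat.card_eq_fintype_card]
    exact (h2 h2S).resolve_left (not_not.2 (plusType_of_singular h2S hz hne hz0))
  · omega

theorem odd_clause {W : Submodule F (Fin 12 → F)} (hW0 : W ≠ ⊥) (hW1 : W ≠ ⊤)
    (hodd : Odd (Module.finrank F W)) (hW : Cfsg.Geo.IsNondegenerateOn (polar ⇑Q) W) :
    Cfsg.Geo.IsMaximalIn (Cfsg.Geo.omegaGL ⇑Q)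
      (Cfsg.Geo.subspaceStabilizer W ⊓ Cfsg.Geo.omegaGL ⇑Q) := by
  obtain ⟨k, hk⟩ := hodd
  exact nd_clause hQ hW0 hW1 hW (fun h => by omega) (by omega) (fun h => by omega)

theorem ne_bot_top {W : Submodule F (Fin 12 → F)} (h0 : 0 < Module.finrank F W)
    (h1 : Module.finrank F W < 12) : W ≠ ⊥ ∧ W ≠ ⊤ := by
  refine ⟨fun h => ?_, fun h => ?_⟩ <;> rw [h] at h0 h1
  · simp at h0
  · rw [finrank_top, Module.finrank_fin_fun] at h1; omega

theorem plane_clause {W : Submodule F (Fin 12 → F)} (hd : Module.finrank F W = 2)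
    (hW : Cfsg.Geo.IsNondegenerateOn (polar ⇑Q) W)
    (h : ¬ Cfsg.Geo.IsPlusTypeOn ⇑Q W ∨ 4 ≤ Fintype.card F) :
    Cfsg.Geo.IsMaximalIn (Cfsg.Geo.omegaGL ⇑Q)
      (Cfsg.Geo.subspaceStabilizer W ⊓ Cfsg.Geo.omegaGL ⇑Q) := by
  obtain ⟨h0, h1⟩ := ne_bot_top hQ (W := W) (by omega) (by omega)
  exact nd_clause hQ h0 h1 hW (fun _ => h) (by omega) (fun h => by omega)

theorem four_clause {W : Submodule F (Fin 12 → F)} (hd : Module.finrank F W = 4)
    (hW : Cfsg.Geo.IsNondegenerateOn (polar ⇑Q) W) :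
    Cfsg.Geo.IsMaximalIn (Cfsg.Geo.omegaGL ⇑Q)
      (Cfsg.Geo.subspaceStabilizer W ⊓ Cfsg.Geo.omegaGL ⇑Q) := by
  obtain ⟨h0, h1⟩ := ne_bot_top hQ (W := W) (by omega) (by omega)
  exact nd_clause hQ h0 h1 hW (fun h => by omega) (by omega) (fun h => by omega)

theorem point_clause (hchar : ¬ Odd (Fintype.card F)) {v : Fin 12 → F} (hv : Q v ≠ 0) :
    Cfsg.Geo.IsMaximalIn (Cfsg.Geo.omegaGL ⇑Q)
      (Cfsg.Geo.subspaceStabilizer (Submodule.span F {v}) ⊓ Cfsg.Geo.omegaGL ⇑Q) :=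
  isMaximalIn_omegaGL Q _
    (point_maximal hQ (by rw [Module.finrank_fin_fun]; omega) (two_eq_zero_of_even hchar) hv)

theorem field_clause {r : ℕ} (hodd : Odd (Fintype.card F)) (hr : r = 2 ∨ r = 3)
    (K : Subalgebra F (Matrix (Fin 12) (Fin 12) F)) (hK : Cfsg.Geo.IsFieldSubalgebra r K)
    (hsa : Cfsg.Geo.IsSelfAdjointFor (polar ⇑Q) K) :
    Cfsg.Geo.IsMaximalIn (Cfsg.Geo.omegaGL ⇑Q)
      (Cfsg.Geo.subalgebraNormalizer K ⊓ Cfsg.Geo.omegaGL ⇑Q) := by
  refine CfsgLib.OrthField.normalizer_maximal (CfsgLib.OrthField.two_ne_of_odd_card hodd) (by simp) Q hQ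
    ?_ (fun k hk => ?_) K hK hsa
  · rcases hr with rfl | rfl <;> norm_num
  · rw [Fintype.card_fin] at hk
    rcases hr with rfl | rfl <;> omega

theorem subfield_clause {F₀ : Subfield F} {r : ℕ} (hr : r.Prime) (hcard : Fintype.card F = Nat.card F₀ ^ r)
    {P : GL (Fin 12) F} {ζ : F} (hζ : ζ ≠ 0)
    (hP : Cfsg.Geo.IsQuadFormRationalStructure (fun v : Fin 12 → F => ζ * Q v) F₀ P) :
    Cfsg.Geo.IsMaximalIn (Cfsg.Geo.omegaGL ⇑Q)
      (Cfsg.Geo.subfieldSubgroup F₀ P ⊓ Cfsg.Geo.omegaGL ⇑Q) := by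
  classical
  have hQ' : (polarBilin (ζ • Q)).Nondegenerate := by
    refine ⟨fun x hx => hQ.1 x fun y => ?_, fun x hx => hQ.2 x fun y => ?_⟩ <;>
    · have h := hx y
      rw [polarBilin_apply_apply] at h ⊢
      change polar (ζ • ⇑Q) _ _ = 0 at h
      rw [polar_smul, smul_eq_mul] at h
      exact (mul_eq_zero.1 h).resolve_left hζ
  have hfun : (⇑(ζ • Q) : (Fin 12 → F) → F) = fun v => ζ * Q v := rfl
  have h := subfield_maximal_matrix_of_eleven (ζ • Q) hQ' (by simp) (fun _ => by simp) hr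
    (by rw [Nat.card_eq_fintype_card, hcard]) (by rw [hfun]; exact hP)
  rw [hfun, omegaGL_smul ⇑Q hζ] at h
  exact h

theorem lagPair_clause {D : Fin 2 → Submodule F (Fin 12 → F)} (hD : Cfsg.Geo.IsMDecomposition 6 D)
    (hts : ∀ i, Cfsg.Geo.IsTotallySingularQuad ⇑Q (D i)) :
    Cfsg.Geo.IsMaximalIn (Cfsg.Geo.omegaGL ⇑Q)
      (Cfsg.Geo.decompositionStabilizer D ⊓ Cfsg.Geo.omegaGL ⇑Q) := by
  have hd : Module.finrank F (Fin 12 → F) = 12 := Module.finrank_fin_fun F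
  have hlag : ∀ i, IsLag Q (D i) := fun i => ⟨hts i, by rw [hD.finrank_eq i]; omega⟩
  have h01 : D 0 ⊓ D 1 = ⊥ := disjoint_iff.1 (hD.indep.pairwiseDisjoint (by decide : (0 : Fin 2) ≠ 1))
  refine isMaximalIn_map_omega (L := pairStab Q (D 0) (D 1)) (fun g _ => ?_)
    (lagPair_maximal hQ (by omega) ⟨hlag 0, hlag 1, h01⟩ (by rw [hD.finrank_eq]; decide)
      (by rw [hD.finrank_eq]; omega))
  have hmap : ∀ X : Submodule F (Fin 12 → F),
      X.map (Matrix.toLin' (toGL Q g : Matrix (Fin 12) (Fin 12) F)) = X.map g.1.toLinearMap :=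
    fun X => congrArg (Submodule.map · X)
      (LinearMap.ext fun x => by rw [Matrix.toLin'_apply, toGL_mulVec]; rfl)
  constructor
  · rintro ⟨σ, hσ⟩
    have h0 := hσ 0
    have h1 := hσ 1
    rw [hmap] at h0 h1
    rcases Fin.exists_fin_two.1 ⟨σ 0, rfl⟩ with e | e <;>
      rcases Fin.exists_fin_two.1 ⟨σ 1, rfl⟩ with e' | e'
    · exact absurd (σ.injective (e.trans e'.symm)) (by decide)
    · rw [e] at h0; rw [e'] at h1; exact Or.inl ⟨h0, h1⟩
    · rw [e] at h0; rw [e'] at h1; exact Or.inr ⟨h0, h1⟩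
    · exact absurd (σ.injective (e.trans e'.symm)) (by decide)
  · rintro (⟨h0, h1⟩ | ⟨h0, h1⟩)
    · refine ⟨1, fun i => ?_⟩
      rw [hmap]
      rcases Fin.exists_fin_two.1 ⟨i, rfl⟩ with e | e <;> subst e
      exacts [h0, h1]
    · refine ⟨Equiv.swap 0 1, fun i => ?_⟩
      rw [hmap]
      rcases Fin.exists_fin_two.1 ⟨i, rfl⟩ with e | e <;> subst e
      · rw [Equiv.swap_apply_left]; exact h0
      · rw [Equiv.swap_apply_right]; exact h1

end CfsgLib.Geo.OTwelve
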