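import Cfsg.Agent.Geo.OrthUnitaryOvergroup

/-!
A quadratic subfield of the matrix algebra acting on a quadratic space by similitudes, without being
self-adjoint, is a unitary structure; its normaliser in `Ω` is maximal.
-/

set_option autoImplicit false
set_option linter.unusedSectionVars false
set_option linter.style.haveILetI false

namespace CfsgLib.Geo.OS

open QuadraticMap CfsgLib.Forms CfsgLib.Quad Matrix

variable {F : Type*} [Field F] [Finite F] {ι : Type} [Fintype ι] [DecidableEq ι]
  {Q : QuadraticForm F (ι → F)}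

/-- Maximality of the normaliser in `Ω` of a quadratic subfield acting by similitudes. -/
theorem unitary_normalizer_maximal (hQ : (polarBilin Q).Nondegenerate)
    (hn : 10 ≤ Module.finrank F (ι → F)) {K : Subalgebra F (Matrix ι ι F)}
    (hK : Cfsg.Geo.IsFieldSubalgebra 2 K) (hac : Cfsg.Geo.IsAdjointClosedFor (polar Q) K)
    (hnsa : ¬ Cfsg.Geo.IsSelfAdjointFor (polar Q) K)
    (hsc : ∀ k ∈ K, ∃ c : F, ∀ v : ι → F, Q (k *ᵥ v) = c * Q v) :
    Cfsg.Geo.IsMaximalIn (Cfsg.Geo.omegaGL ⇑Q)
      (Cfsg.Geo.subalgebraNormalizer K ⊓ Cfsg.Geo.omegaGL ⇑Q) := by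
  classical
  have hscal : ∀ s : F, s • (1 : Matrix ι ι F) ∈ K := fun s => K.smul_mem (one_mem K) s
  -- a generator
  obtain ⟨j, hj, hjn⟩ : ∃ j ∈ K, ∀ s : F, j ≠ s • (1 : Matrix ι ι F) := by
    by_contra h
    push Not at h
    have hle : Subalgebra.toSubmodule K ≤ Submodule.span F {(1 : Matrix ι ι F)} := fun x hx => by
      obtain ⟨s, rfl⟩ := h x hx
      exact Submodule.smul_mem _ _ (Submodule.mem_span_singleton_self _)
    have h1 := (Submodule.finrank_mono hle).trans (finrank_span_le_card _)
    rw [Subalgebra.finrank_toSubmodule, hK.finrank_eq] at h1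
    simp at h1
  have hirrM : ∀ (v : ι → F) (s t : F), v ≠ 0 → s • v + t • (j *ᵥ v) = 0 → s = 0 ∧ t = 0 := by
    intro v s t hv h
    by_cases hk : s • (1 : Matrix ι ι F) + t • j = 0
    · by_cases ht : t = 0
      · subst ht
        rw [zero_smul, add_zero, smul_eq_zero] at h
        exact ⟨h.resolve_right hv, rfl⟩
      · exfalso
        refine hjn (-(t⁻¹ * s)) ?_
        have h' := congrArg (t⁻¹ • ·) hk
        simp only [smul_add, smul_smul, inv_mul_cancel₀ ht, one_smul, smul_zero] at h'
        rw [neg_smul]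
        exact eq_neg_of_add_eq_zero_right h'
    · exfalso
      obtain ⟨y, hy, hky⟩ := hK.inv _ (K.add_mem (hscal s) (K.smul_mem hj t)) hk
      have hyk : y * (s • 1 + t • j) = 1 := (hK.comm _ hy _ (K.add_mem (hscal s) (K.smul_mem hj t))).trans hky
      refine hv ?_
      have h' := congrArg (fun M : Matrix ι ι F => M *ᵥ v) hyk
      simp only [← Matrix.mulVec_mulVec, Matrix.add_mulVec, Matrix.smul_mulVec, Matrix.one_mulVec,
        h, Matrix.mulVec_zero] at h'
      exact h'.symm
  obtain ⟨v₀, hv₀⟩ : ∃ v : ι → F, v ≠ 0 := by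
    haveI : Nontrivial (ι → F) := Module.nontrivial_of_finrank_pos (R := F) (by omega)
    exact exists_ne 0
  -- the whole of `K`
  have hspan : ∀ k ∈ K, ∃ s t : F, k = s • (1 : Matrix ι ι F) + t • j := by
    intro k hk
    have hle : Submodule.span F (Set.range ![(1 : Matrix ι ι F), j]) ≤ Subalgebra.toSubmodule K := by
      rw [Submodule.span_le]
      rintro _ ⟨i, rfl⟩
      fin_cases i
      exacts [one_mem K, hj]
    have hli : LinearIndependent F ![(1 : Matrix ι ι F), j] := by
      rw [LinearIndependent.pair_iff]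
      intro s t h
      refine hirrM v₀ s t hv₀ ?_
      have h' := congrArg (fun M : Matrix ι ι F => M *ᵥ v₀) h
      simpa [Matrix.add_mulVec, Matrix.smul_mulVec] using h'
    have heq := Submodule.eq_of_le_of_finrank_eq hle (by
      rw [finrank_span_eq_card hli, Subalgebra.finrank_toSubmodule, hK.finrank_eq]; rfl)
    obtain ⟨c, hc⟩ := (Submodule.mem_span_range_iff_exists_fun F).1
      (heq ▸ hk : k ∈ Submodule.span F (Set.range ![(1 : Matrix ι ι F), j]))
    exact ⟨c 0, c 1, by rw [← hc, Fin.sum_univ_two]; rfl⟩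
  set J : (ι → F) →ₗ[F] (ι → F) := Matrix.mulVecLin j with hJdef
  have hJa : ∀ v, J v = j *ᵥ v := fun _ => rfl
  have hcomb : ∀ (s t : F) (v : ι → F), (s • (1 : Matrix ι ι F) + t • j) *ᵥ v = s • v + t • J v :=
    fun s t v => by rw [Matrix.add_mulVec, Matrix.smul_mulVec, Matrix.smul_mulVec, Matrix.one_mulVec, hJa]
  have hnd : ∀ x, (∀ y, polar Q x y = 0) → x = 0 := fun x hx => hQ.1 x hx
  -- the adjoint of the generator
  obtain ⟨T, hadj⟩ : ∃ T : F, ∀ u v, polar Q (J u) v = T * polar Q u v - polar Q u (J v) := by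
    obtain ⟨j', hj', hjj⟩ := hac j hj
    obtain ⟨a, b, rfl⟩ := hspan j' hj'
    have h1 : ∀ u v, polar Q (J u) v = a * polar Q u v + b * polar Q u (J v) := fun u v => by
      rw [hJa, hjj u v, hcomb, polar_add_right, polar_smul_right, polar_smul_right, smul_eq_mul,
        smul_eq_mul]
    have h2 : ∀ u, (1 - b * b) • J u - (a * (1 + b)) • u = 0 := fun u => hnd _ fun v => by
      have e2 := h1 v u
      rw [polar_comm (⇑Q) (J v) u, polar_comm (⇑Q) v u, polar_comm (⇑Q) v (J u)] at e2
      rw [polar_sub_left, polar_smul_left, polar_smul_left, smul_eq_mul, smul_eq_mul]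
      linear_combination h1 u v + b * e2
    obtain ⟨h3, h4⟩ := hirrM v₀ (-(a * (1 + b))) (1 - b * b) hv₀ (by
      rw [← h2 v₀, hJa]; module)
    rcases mul_eq_zero.1 (show (1 - b) * (1 + b) = 0 by linear_combination h4) with hb | hb
    · have hb1 : b = 1 := (sub_eq_zero.1 hb).symm
      subst hb1
      by_cases ha : a = 0
      · exfalso
        refine hnsa fun k hk u v => ?_
        obtain ⟨s, t, rfl⟩ := hspan k hk
        rw [hcomb, hcomb, polar_add_left, polar_add_right, polar_smul_left, polar_smul_left,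
          polar_smul_right, polar_smul_right, h1 u v, ha, zero_mul, zero_add, one_mul]
      · have h5 : (2 : F) = 0 := (mul_eq_zero.1 (show a * 2 = 0 by linear_combination -h3)).resolve_left ha
        exact ⟨a, fun u v => by rw [h1 u v]; linear_combination (polar Q u (J v)) * h5⟩
    · refine ⟨a, fun u v => ?_⟩
      rw [h1 u v]; linear_combination (polar Q u (J v)) * hb
  obtain ⟨N, hN⟩ := hsc j hj
  have hnrm : ∀ u v, polar Q (J u) (J v) = N * polar Q u v := fun u v => by
    simp only [polar, hJa, ← Matrix.mulVec_add, hN]; ring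
  have hJ : UStr Q J T N := by
    refine ⟨hadj, hnrm, hN, fun v => ?_, fun v hv => ?_, hirrM⟩
    · refine sub_eq_zero.1 (hnd _ fun y => ?_)
      rw [polar_sub_left, polar_sub_left, polar_smul_left, polar_smul_left, hadj (J v) y, hnrm,
        smul_eq_mul, smul_eq_mul]
      ring
    · obtain ⟨c, hc⟩ := hsc _ (K.add_mem (hscal 1) (K.smul_mem hj 1))
      have h := hc v
      rw [hcomb, one_smul, one_smul, quad_add, hJa, hN, hv] at h
      rw [hJa]
      linear_combination h
  refine isMaximalIn_map_omega (L := (Cfsg.Geo.subalgebraNormalizer K).comap (toGL Q))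
    (fun g _ => Iff.rfl) (hJ.maximal hQ hn ?_ ?_ ?_)
  · intro g hg k
    have hcomm : ∀ k ∈ K, (toGL Q g : Matrix ι ι F) * k = k * (toGL Q g : Matrix ι ι F) := by
      intro k hk
      obtain ⟨s, t, rfl⟩ := hspan k hk
      refine Matrix.ext_of_mulVec_single fun i => ?_
      rw [← Matrix.mulVec_mulVec, ← Matrix.mulVec_mulVec, hcomb, hcomb, toGL_mulVec, toGL_mulVec,
        map_add, map_smul, map_smul, hg]
    refine ⟨fun hk => ?_, fun hk => ?_⟩
    · rw [hcomm k hk, Units.mul_inv_cancel_right]; exact hk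
    · have h := hcomm _ hk
      rw [Units.inv_mul_cancel_right] at h
      rw [← (Units.mul_right_inj (toGL Q g)).1 h]
      exact hk
  · rintro g ⟨a, b, hg⟩
    set G : Matrix ι ι F := (toGL Q g : Matrix ι ι F)
    set G' : Matrix ι ι F := (((toGL Q g)⁻¹ : GL ι F) : Matrix ι ι F)
    have hGj : G * j = (a • (1 : Matrix ι ι F) + b • j) * G := by
      refine Matrix.ext_of_mulVec_single fun i => ?_
      rw [← Matrix.mulVec_mulVec, ← Matrix.mulVec_mulVec, hcomb, toGL_mulVec, toGL_mulVec]
      exact hg _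
    have hmap : ∀ k ∈ K, G * k * G' ∈ K := by
      intro k hk
      obtain ⟨s, t, rfl⟩ := hspan k hk
      have : G * (s • (1 : Matrix ι ι F) + t • j) * G' =
          s • (1 : Matrix ι ι F) + t • (a • (1 : Matrix ι ι F) + b • j) := by
        rw [mul_add, Matrix.mul_smul, Matrix.mul_smul, mul_one, hGj, add_mul, Matrix.smul_mul,
          Matrix.smul_mul, Units.mul_inv_cancel_right, Units.mul_inv]
      rw [this]
      exact K.add_mem (hscal s) (K.smul_mem (K.add_mem (hscal a) (K.smul_mem hj b)) t)
    intro k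
    refine ⟨hmap k, fun hk => ?_⟩
    haveI : Finite K := inferInstance
    let φ : K → K := fun x => ⟨G * x.1 * G', hmap x.1 x.2⟩
    have hφ : Function.Injective φ := fun x y e => Subtype.ext (by
      have h := congrArg Subtype.val e
      exact (Units.mul_right_inj (toGL Q g)).1 ((Units.mul_left_inj (toGL Q g)⁻¹).1 h))
    obtain ⟨x, hx⟩ := Finite.surjective_of_injective hφ ⟨_, hk⟩
    have h := congrArg Subtype.val hx
    rw [← (Units.mul_right_inj (toGL Q g)).1 ((Units.mul_left_inj (toGL Q g)⁻¹).1 h)]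
    exact x.2
  · intro g hg x
    obtain ⟨s, t, hst⟩ := hspan _ ((hg j).1 hj)
    have h : (toGL Q g : Matrix ι ι F) * j =
        (s • (1 : Matrix ι ι F) + t • j) * (toGL Q g : Matrix ι ι F) := by
      rw [← hst, Units.inv_mul_cancel_right]
    have h' := congrArg (fun M : Matrix ι ι F => M *ᵥ x) h
    simp only [← Matrix.mulVec_mulVec, hcomb, toGL_mulVec] at h'
    refine (Submodule.mem_span_range_iff_exists_fun F).2 ⟨![s, t], ?_⟩
    rw [Fin.sum_univ_two]
    exact h'.symm

end CfsgLib.Geo.OS
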