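import Cfsg.Agent.Geo.OrthDecompOvergroup

/-!
The normaliser in `Ω` of a unitary structure on an orthogonal space of dimension at least fourteen is
maximal.

The structure is an endomorphism `J` generating a quadratic extension of the scalars. The subgroup
contains the Siegel transformations `siegel w (c • J w)`, `w` singular. If an overgroup has a Siegel
line `⟨p, r⟩` with `r` off `⟨p, J p⟩`, then conjugating by those elements fills the root space of `p`.
-/

set_option autoImplicit false
set_option linter.unusedSectionVars false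
set_option linter.style.haveILetI false

namespace CfsgLib.Geo.OS

open QuadraticMap CfsgLib.Forms CfsgLib.Quad

variable {F V : Type*} [Field F] [AddCommGroup V] [Module F V] {Q : QuadraticForm F V}

/-- A unitary structure of a quadratic space. -/
structure UStr (Q : QuadraticForm F V) (J : V →ₗ[F] V) (T N : F) : Prop where
  adj : ∀ u v, polar Q (J u) v = T * polar Q u v - polar Q u (J v)
  nrm : ∀ u v, polar Q (J u) (J v) = N * polar Q u v
  qJ : ∀ v, Q (J v) = N * Q v
  sq : ∀ v, J (J v) = T • J v - N • v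
  qsing : ∀ v, Q v = 0 → polar Q v (J v) = 0
  irr : ∀ (v : V) (s t : F), v ≠ 0 → s • v + t • J v = 0 → s = 0 ∧ t = 0

theorem mem_perp_range {k : ℕ} {v : Fin k → V} {x : V} :
    x ∈ perpS Q (Submodule.span F (Set.range v)) ↔ ∀ i, polar Q (v i) x = 0 := by
  refine ⟨fun h i => h _ (Submodule.subset_span ⟨i, rfl⟩), fun h y hy => ?_⟩
  induction hy using Submodule.span_induction with
  | mem y hy => obtain ⟨i, rfl⟩ := hy; exact h i
  | zero => exact polar_zero_left _ _
  | add a b _ _ ha hb => rw [polar_add_left, ha, hb, add_zero]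
  | smul s a _ ha => rw [polar_smul_left, ha, smul_zero]

variable {J : V →ₗ[F] V} {T N : F} (hJ : UStr Q J T N)

include hJ

theorem UStr.adjR (u v : V) : polar Q u (J v) = T * polar Q u v - polar Q (J u) v := by
  rw [hJ.adj]; ring

theorem UStr.norm_ne [Nontrivial V] {a b : F} (h : a ≠ 0 ∨ b ≠ 0) :
    b * b - T * a * b + N * a * a ≠ 0 := by
  intro h0
  obtain ⟨v, hv⟩ := exists_ne (0 : V)
  rcases eq_or_ne a 0 with rfl | ha
  · exact (h.resolve_left (by simp)) (mul_self_eq_zero.1 (by linear_combination h0))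
  set s := b / a with hs
  have hroot : s * s - T * s + N = 0 := by
    rw [hs]; field_simp; linear_combination h0
  set u := J v - s • v with hu
  have hu0 : u ≠ 0 := fun e => one_ne_zero (hJ.irr v (-s) 1 hv (by rw [← e, hu]; module)).2
  refine one_ne_zero (hJ.irr u (s - T) 1 hu0 ?_).2
  have : (s - T) • u + (1 : F) • J u = -(s * s - T * s + N) • v := by
    rw [hu, map_sub, map_smul, hJ.sq]; module
  rw [this, hroot, neg_zero, zero_smul]

theorem UStr.siegel_comm_J {w : V} (hw : Q w = 0) (c : F) (x : V) :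
    (siegel Q w (c • J w)).1 (J x) = J ((siegel Q w (c • J w)).1 x) := by
  have hwc : polar Q w (c • J w) = 0 := by rw [polar_smul_right, hJ.qsing w hw, smul_zero]
  have hQc : Q (c • J w) = 0 := by rw [quad_smul, hJ.qJ, hw, mul_zero, mul_zero]
  rw [siegel_apply hw hwc, siegel_apply hw hwc, hQc]
  simp only [polar_smul_right, zero_mul, add_zero, map_sub, map_add, map_smul, hJ.sq, smul_eq_mul]
  rw [hJ.adj x w, hJ.nrm x w]
  module

theorem UStr.delta_eq {w : V} (hw : Q w = 0) (c : F) (x : V) :
    (siegel Q w (c • J w)).1 x - x = c • (polar Q x w • J w - polar Q x (J w) • w) := by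
  rw [siegel_apply hw (by rw [polar_smul_right, hJ.qsing w hw, smul_zero]), quad_smul, hJ.qJ, hw,
    mul_zero, mul_zero, zero_mul, add_zero, polar_smul_right, smul_eq_mul]
  module

variable [FiniteDimensional F V] [Finite F] (hQ : (polarBilin Q).Nondegenerate)
  (hn : 10 ≤ Module.finrank F V)

include hQ hn

omit hJ hn in
theorem exists_partner_not_mem {U : Submodule F V} {x : V} (hx : x ∉ U) :
    ∃ y ∈ perpS Q U, polar Q x y ≠ 0 := by
  by_contra hc
  push Not at hc
  refine hx ?_
  rw [← perpS_perpS hQ U]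
  intro y hy
  rw [polar_comm]
  exact hc y hy

omit hJ hn in
theorem exists_singular_partner_not_mem {U : Submodule F V} {z : V} (hzU : z ∈ perpS Q U)
    (hz : z ∉ U) (hQz : Q z = 0) : ∃ y ∈ perpS Q U, Q y = 0 ∧ polar Q z y ≠ 0 := by
  obtain ⟨y, hy, hzy⟩ := exists_partner_not_mem hQ hz
  refine ⟨y + (-(Q y) / polar Q z y) • z, Submodule.add_mem _ hy (Submodule.smul_mem _ _ hzU), ?_, ?_⟩
  · rw [quad_add, quad_smul, hQz, polar_smul_right, polar_comm (⇑Q) y z, smul_eq_mul,
      div_mul_cancel₀ _ hzy]
    ring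
  · rwa [polar_add_right, polar_smul_right, polar_self, hQz, smul_zero, smul_zero, add_zero]

omit hJ in
theorem exists_singular_pair {U : Submodule F V} (hU : Module.finrank F U ≤ 3) :
    ∃ z ∈ perpS Q U, Q z = 0 ∧ z ∉ U ∧ ∃ y ∈ perpS Q U, Q y = 0 ∧ polar Q z y ≠ 0 := by
  obtain ⟨z, hz, hQz, hzU⟩ := exists_singular_outside hQ (perpS Q U) U (by
    have := finrank_perpS hQ U
    omega)
  exact ⟨z, hz, hQz, hzU, exists_singular_partner_not_mem hQ hz hzU hQz⟩

omit hJ hn in
/-- A singular vector with a singular partner in the orthogonal of `U`. -/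
theorem exists_singular_pair_of_inf {U : Submodule F V}
    (hU : Module.finrank F ↥(U ⊓ perpS Q U) + 3 ≤ Module.finrank F ↥(perpS Q U)) :
    ∃ z ∈ perpS Q U, Q z = 0 ∧ z ∉ U ∧ ∃ y ∈ perpS Q U, Q y = 0 ∧ polar Q z y ≠ 0 := by
  obtain ⟨z, hz, hQz, hzU⟩ := exists_singular_outside hQ (perpS Q U) (U ⊓ perpS Q U) hU
  have hzU' : z ∉ U := fun h => hzU ⟨h, hz⟩
  exact ⟨z, hz, hQz, hzU', exists_singular_partner_not_mem hQ hz hzU' hQz⟩

/-- An anisotropic vector orthogonal to `⟨p, J p⟩`. -/
theorem exists_anisotropic_perp_pair (p : V) :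
    ∃ a, Q a ≠ 0 ∧ polar Q p a = 0 ∧ polar Q (J p) a = 0 := by
  obtain ⟨z, hz, hQz, -, y, hy, hQy, hzy⟩ := exists_singular_pair (Q := Q) hQ hn
    (U := Submodule.span F (Set.range ![p, J p])) ((finrank_range_le_card _).trans (by simp))
  have hzy' := Submodule.add_mem _ hz hy
  rw [mem_perp_range] at hzy'
  exact ⟨z + y, by rwa [quad_add, hQz, hQy, zero_add, zero_add], hzy' 0, hzy' 1⟩

/-- Siegel transformations spoil the unitary structure. -/
theorem UStr.exists_move {p a : V} (hp0 : p ≠ 0) (hQp : Q p = 0) (hQa : Q a ≠ 0)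
    (hpa : polar Q p a = 0) (hJpa : polar Q (J p) a = 0) :
    ∃ w, w ≠ 0 ∧ Q w = 0 ∧ polar Q (J ((siegel Q p a).1 w)) ((siegel Q p a).1 (J w)) ≠ 0 := by
  have hJp0 : J p ≠ 0 := fun e => one_ne_zero (hJ.irr p 0 1 hp0 (by rw [e]; simp)).2
  have hnp : p ∉ Submodule.span F {J p} := fun h => by
    obtain ⟨s, hs⟩ := Submodule.mem_span_singleton.1 h
    exact one_ne_zero (hJ.irr p 1 (-s) hp0 (by rw [neg_smul, hs, one_smul, add_neg_cancel])).1
  have hnJp : J p ∉ Submodule.span F {p} := fun h => by
    obtain ⟨s, hs⟩ := Submodule.mem_span_singleton.1 h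
    exact one_ne_zero (hJ.irr p (-s) 1 hp0 (by rw [one_smul, ← hs, neg_smul, neg_add_cancel])).2
  obtain ⟨y1, hy1, hpy⟩ := exists_partner_not_mem hQ hnp
  obtain ⟨y2, hy2, hJpy⟩ := exists_partner_not_mem hQ hnJp
  set y := (polar Q p y1)⁻¹ • y1 + (T / polar Q (J p) y2) • y2 with hy
  have hp1 : polar Q p y = 1 := by
    rw [hy, polar_add_right, polar_smul_right, polar_smul_right,
      hy2 p (Submodule.mem_span_singleton_self p), smul_zero, add_zero, smul_eq_mul,
      inv_mul_cancel₀ hpy]
  have hJp1 : polar Q (J p) y = T := by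
    rw [hy, polar_add_right, polar_smul_right, polar_smul_right,
      hy1 (J p) (Submodule.mem_span_singleton_self _), smul_zero, zero_add, smul_eq_mul,
      div_mul_cancel₀ _ hJpy]
  have hpJp : polar Q p (J p) = 0 := hJ.qsing p hQp
  set w := y - Q y • p with hw
  have hwp : polar Q w p = 1 := by
    rw [hw, polar_sub_left, polar_smul_left, polar_self, hQp, smul_zero, smul_zero, sub_zero,
      polar_comm, hp1]
  have hQw : Q w = 0 := by
    rw [hw, sub_eq_add_neg, ← neg_smul, quad_add, quad_smul, hQp, polar_smul_right,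
      polar_comm (⇑Q) y p, hp1, smul_eq_mul]
    ring
  have hJwp : polar Q (J w) p = 0 := by
    rw [hJ.adj, hwp, hw, polar_sub_left, polar_smul_left, hpJp, smul_zero, sub_zero,
      polar_comm (⇑Q) y (J p), hJp1]
    ring
  refine ⟨w, fun e => one_ne_zero (by rw [← hwp, e, polar_zero_left]), hQw, ?_⟩
  rw [siegel_apply hQp hpa, siegel_apply hQp hpa, hwp, hJwp]
  simp only [one_smul, zero_smul, add_zero, mul_one, mul_zero, map_sub, map_add, map_smul]
  simp only [polar_sub_left, polar_sub_right, polar_add_left, polar_smul_left, polar_smul_right,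
    smul_eq_mul, hJ.nrm]
  have hNne : N ≠ 0 := fun e => by
    haveI : Nontrivial V := Module.nontrivial_of_finrank_pos (R := F) (by omega)
    exact hJ.norm_ne (a := 1) (b := 0) (Or.inl one_ne_zero) (by rw [e]; ring)
  have hpw' : polar Q p w = 1 := (polar_comm _ _ _).trans hwp
  have hJpp : polar Q (J p) p = 0 := (polar_comm _ _ _).trans hpJp
  have hJap : polar Q (J a) p = 0 := by
    rw [hJ.adj, (polar_comm (⇑Q) a p).trans hpa, (polar_comm (⇑Q) a (J p)).trans hJpa]; ring
  simp only [polar_self, hQw, hpw', hJpp, hJap, hJwp, smul_zero, mul_zero, sub_zero, mul_one, zero_add]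
  intro h
  refine mul_ne_zero hNne hQa ?_
  rw [polar_comm (⇑Q) a w] at h
  linear_combination -h

variable {M : Subgroup (oGroup Q)}
  (hM : ∀ g ∈ commutator (oGroup Q), (∀ x, g.1 (J x) = J (g.1 x)) → g ∈ M)

include hM

theorem UStr.tv_mem {w : V} (hw : Q w = 0) (c : F) : siegel Q w (c • J w) ∈ M :=
  hM _ (siegel_mem_commutator hQ (by omega) hw
    (by rw [polar_smul_right, hJ.qsing w hw, smul_zero])) fun x => hJ.siegel_comm_J hw c x

theorem UStr.delta_mem {p r w : V} {hp : Q p = 0} (hr : r ∈ rootSpace M hp) (hw : Q w = 0)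
    (hpw : polar Q p w = 0) (hJpw : polar Q (J p) w = 0) :
    polar Q r w • J w - polar Q r (J w) • w ∈ rootSpace M hp := by
  have hpJw : polar Q p (J w) = 0 := by rw [hJ.adjR, hpw, hJpw]; ring
  have h := rootSpace.move (hJ.tv_mem hQ hn hM hw 1)
    (siegel_fix hw (by rw [polar_smul_right, hJ.qsing w hw, smul_zero]) hpw
      (by rw [polar_smul_right, hpJw, smul_zero])) hr
  rwa [hJ.delta_eq hw, one_smul] at h

/-- Polarising the previous lemma. -/
theorem UStr.mem_root {p r w1 w2 : V} {hp : Q p = 0} (hr : r ∈ rootSpace M hp) (hw1 : Q w1 = 0)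
    (hp1 : polar Q p w1 = 0) (hJp1 : polar Q (J p) w1 = 0)
    (hr1 : polar Q r w1 ≠ 0 ∨ polar Q r (J w1) ≠ 0) (hw2 : Q w2 = 0)
    (h2 : w2 ∈ perpS Q (Submodule.span F (Set.range ![p, J p, r, J r, w1, J w1]))) :
    w2 ∈ rootSpace M hp := by
  haveI : Nontrivial V := Module.nontrivial_of_finrank_pos (R := F) (by omega)
  rw [mem_perp_range] at h2
  have hp2 : polar Q p w2 = 0 := h2 0
  have hJp2 : polar Q (J p) w2 = 0 := h2 1
  have hr2 : polar Q r w2 = 0 := h2 2
  have hrJ2 : polar Q r (J w2) = 0 := by
    rw [hJ.adjR, hr2, show polar Q (J r) w2 = 0 from h2 3]; ring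
  have h12 : polar Q w1 w2 = 0 := h2 4
  have h12J : polar Q w1 (J w2) = 0 := by
    rw [hJ.adjR, h12, show polar Q (J w1) w2 = 0 from h2 5]; ring
  set α := polar Q r w1
  set β := polar Q r (J w1)
  set D := β * β - T * α * β + N * α * α
  have hD : D ≠ 0 := hJ.norm_ne hr1
  -- the inverse image of `w2` under `α J - β`
  set v := (-α / D) • J w2 + ((α * T - β) / D) • w2 with hv
  clear_value v
  have hJv : α • J v - β • v = w2 := by
    rw [hv, map_add, map_smul, map_smul, hJ.sq]
    match_scalars
    · field_simp; ring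
    · field_simp; ring
  have hlin : ∀ y, polar Q y w2 = 0 → polar Q y (J w2) = 0 →
      polar Q y v = 0 ∧ polar Q y (J v) = 0 := fun y a b => by
    refine ⟨?_, ?_⟩
    · rw [hv, polar_add_right, polar_smul_right, polar_smul_right, a, b, smul_zero, smul_zero,
        add_zero]
    · rw [hv, map_add, map_smul, map_smul, hJ.sq, polar_add_right, polar_smul_right, polar_sub_right,
        polar_smul_right, polar_smul_right, polar_smul_right, a, b, smul_zero, smul_zero, sub_zero,
        smul_zero, smul_zero, add_zero]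
  have hQv : Q v = 0 := by
    rw [hv, quad_add, quad_smul, quad_smul, hJ.qJ, hw2, polar_smul_left, polar_smul_right,
      polar_comm (⇑Q) (J w2) w2, hJ.qsing w2 hw2]
    simp
  have hpJ2 : polar Q p (J w2) = 0 := by rw [hJ.adjR, hp2, hJp2]; ring
  have hJpJ2 : polar Q (J p) (J w2) = 0 := by rw [hJ.nrm, hp2, mul_zero]
  obtain ⟨hrv, hrJv⟩ := hlin r hr2 hrJ2
  obtain ⟨h1v, -⟩ := hlin w1 h12 h12J
  obtain ⟨hpv, -⟩ := hlin p hp2 hpJ2
  obtain ⟨hJpv, -⟩ := hlin (J p) hJp2 hJpJ2
  have h := Submodule.sub_mem _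
    (hJ.delta_mem hQ hn hM hr (w := w1 + v) (by rw [quad_add, hw1, hQv, h1v, add_zero, add_zero])
      (by rw [polar_add_right, hp1, hpv, add_zero]) (by rw [polar_add_right, hJp1, hJpv, add_zero]))
    (hJ.delta_mem hQ hn hM hr hw1 hp1 hJp1)
  rw [map_add, polar_add_right, polar_add_right, hrv, hrJv, add_zero, add_zero] at h
  convert h using 1
  rw [← hJv]
  module

/-- A line `⟨p, r⟩` spanning a non-degenerate unitary plane. -/
theorem UStr.le_of_hyperbolic {p r : V} {hp : Q p = 0} (hQr : Q r = 0) (hr : r ∈ rootSpace M hp)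
    (hJpr : polar Q (J p) r ≠ 0) : commutator (oGroup Q) ≤ M := by
  have hpr : polar Q p r = 0 := hr.1
  have hpJp : polar Q p (J p) = 0 := hJ.qsing p hp
  have hrJp : polar Q r (J p) ≠ 0 := by rwa [polar_comm]
  have hrp : polar Q r p = 0 := by rw [polar_comm]; exact hpr
  set U := Submodule.span F (Set.range ![p, J p, r, J r]) with hU
  have hUd : Module.finrank F U ≤ 4 := (finrank_range_le_card _).trans (by simp)
  obtain ⟨z, hz, hQz, -, y, hy, hQy, hzy⟩ := exists_singular_pair_of_inf (Q := Q) hQ (U := U) (by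
    have h1 := finrank_perpS hQ U
    have h2 : U ⊓ perpS Q U ≤ Submodule.span F (Set.range ![p, r, J r]) := by
      rintro x ⟨hxU, hx⟩
      obtain ⟨c, rfl⟩ := (Submodule.mem_span_range_iff_exists_fun F).1 hxU
      have e : polar Q r (∑ i, c i • ![p, J p, r, J r] i) = 0 := hx r (Submodule.subset_span ⟨2, rfl⟩)
      simp only [Fin.sum_univ_four, Matrix.cons_val, polar_add_right, polar_smul_right, hrp,
        hJ.qsing r hQr, polar_self, hQr, smul_zero, zero_add, add_zero, smul_eq_mul, mul_zero] at e
      have hc1 : c 1 = 0 := (mul_eq_zero.1 e).resolve_right hrJp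
      refine (Submodule.mem_span_range_iff_exists_fun F).2 ⟨![c 0, c 2, c 3], ?_⟩
      simp only [Fin.sum_univ_three, Fin.sum_univ_four, Matrix.cons_val, hc1, zero_smul, add_zero]
    have h3 : Module.finrank F ↥(Submodule.span F (Set.range ![p, r, J r])) ≤ 3 :=
      (finrank_range_le_card _).trans (by simp)
    have := Submodule.finrank_mono h2
    omega)
  have hY : perpS Q U ≤ rootSpace M hp := by
    rw [← span_singular_eq (Q := Q) hQ hz hy hQz hzy, Submodule.span_le]
    rintro w ⟨hw, hQw⟩
    rw [mem_perp_range] at hw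
    refine hJ.mem_root hQ hn hM hr hp (by rw [polar_self, hp, smul_zero])
      (by rw [polar_comm]; exact hpJp) (Or.inr hrJp) hQw (mem_perp_range.2 fun i => ?_)
    fin_cases i
    exacts [hw 0, hw 1, hw 2, hw 3, hw 0, hw 1]
  have hpA : p ∈ rootSpace M hp := ⟨by rw [polar_self, hp, smul_zero], fun s => by
    have : siegel Q p (s • p) = 1 := Subtype.ext (LinearEquiv.ext fun x => by
      rw [siegel_apply hp (by rw [polar_smul_right, polar_self, hp, smul_zero, smul_zero]), quad_smul,
        hp, mul_zero, zero_mul, add_zero, polar_smul_right, smul_eq_mul]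
      change _ = x
      module)
    rw [this]; exact one_mem _⟩
  have hJpA : J p ∈ rootSpace M hp := ⟨hpJp, fun s => hJ.tv_mem hQ hn hM hp s⟩
  have hFull : Full M p := by
    intro a ha
    set e := polar Q (J p) r
    have hJrp : polar Q (J r) p = -e := by
      rw [hJ.adj, polar_comm (⇑Q) r p, hpr, polar_comm (⇑Q) r (J p)]; ring
    set c3 := polar Q (J p) a / e with hc3
    set c2 := polar Q r a / e with hc2
    set c1 := -(polar Q (J r) a - c2 * N * polar Q r p - c3 * polar Q (J r) r) / e with hc1
    have hb : a - c1 • p - c2 • J p - c3 • r ∈ perpS Q U := by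
      rw [mem_perp_range]
      intro i
      fin_cases i <;>
        simp only [Fin.zero_eta, Fin.mk_one, Fin.reduceFinMk, Matrix.cons_val, Matrix.cons_val_zero,
          Matrix.cons_val_one, polar_sub_right, polar_smul_right, smul_eq_mul]
      · rw [ha, polar_self, hp, hpJp, hpr]; simp
      · rw [polar_comm (⇑Q) (J p) p, hpJp, polar_self, hJ.qJ, hp, hc3]
        field_simp
        simp [e]
      · rw [polar_comm (⇑Q) r p, hpr, polar_self, hQr, hc2, polar_comm (⇑Q) r (J p)]
        field_simp
        simp [e]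
      · rw [hJrp, hJ.nrm, hc1]
        field_simp
        ring
    have hmem : a ∈ rootSpace M hp := by
      have := Submodule.add_mem _ (Submodule.add_mem _ (Submodule.add_mem _ (hY hb)
        (Submodule.smul_mem _ c3 hr)) (Submodule.smul_mem _ c2 hJpA)) (Submodule.smul_mem _ c1 hpA)
      convert this using 1
      module
    exact rootSpace.self_mem hmem
  -- moving `p` off its own orthogonal space
  obtain ⟨hz', hy'⟩ := mem_perp_range.1 hz, mem_perp_range.1 hy
  set k := -polar Q r (J p) / polar Q z y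
  set w := J p + r + (z + k • y) with hw
  have hQw : Q w = 0 := by
    rw [hw, quad_add, quad_add (Q := Q) (J p) r, quad_add (Q := Q) z (k • y), hJ.qJ, hp, hQr, hQz,
      quad_smul, hQy]
    simp only [polar_add_left, polar_add_right, polar_smul_right, smul_eq_mul]
    rw [show polar Q (J p) z = 0 from hz' 1, show polar Q (J p) y = 0 from hy' 1,
      show polar Q r z = 0 from hz' 2, show polar Q r y = 0 from hy' 2]
    simp only [k]
    rw [polar_comm (⇑Q) (J p) r]
    field_simp
    ring
  have hg1 : siegel Q r ((1 : F) • J r) ∈ M := hJ.tv_mem hQ hn hM hQr 1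
  have hg2 : siegel Q w ((1 : F) • J w) ∈ M := hJ.tv_mem hQ hn hM hQw 1
  set g := siegel Q w ((1 : F) • J w) * siegel Q r ((1 : F) • J r)
  have hF' := Full.conj (mul_mem hg2 hg1) hp hFull
  refine commutator_le_of_two hQ (by omega) hp ((g.2 p).trans hp) ?_ hFull hF'
  have hpJr : polar Q p (J r) = -polar Q (J p) r := by rw [hJ.adjR, hpr]; ring
  have h1 : (siegel Q r ((1 : F) • J r)).1 p = p + polar Q (J p) r • r := by
    have := hJ.delta_eq hQr (1 : F) p
    rw [sub_eq_iff_eq_add', hpr, hpJr, zero_smul, zero_sub, neg_smul, neg_neg] at this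
    simpa using this
  have hpw : polar Q p w = 0 := by
    rw [hw, polar_add_right, polar_add_right, hpJp, hpr, polar_add_right, polar_smul_right,
      show polar Q p z = 0 from hz' 0, show polar Q p y = 0 from hy' 0]
    simp
  have hrw : polar Q r w = polar Q r (J p) := by
    rw [hw, polar_add_right, polar_add_right, polar_self, hQr, polar_add_right, polar_smul_right,
      show polar Q r z = 0 from hz' 2, show polar Q r y = 0 from hy' 2]
    simp
  have hpJw : polar Q p (J w) = -polar Q (J p) r := by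
    rw [hJ.adjR, hpw, hw, polar_add_right, polar_add_right, polar_self, hJ.qJ, hp, polar_add_right,
      polar_smul_right, show polar Q (J p) z = 0 from hz' 1, show polar Q (J p) y = 0 from hy' 1]
    simp
  change polar Q p ((siegel Q w ((1 : F) • J w)).1 ((siegel Q r ((1 : F) • J r)).1 p)) ≠ 0
  rw [h1, map_add, map_smul]
  have hdp := hJ.delta_eq hQw (1 : F) p
  have hdr := hJ.delta_eq hQw (1 : F) r
  rw [sub_eq_iff_eq_add'] at hdp hdr
  rw [hdp, hdr]
  simp only [polar_add_right, polar_sub_right, polar_smul_right, smul_eq_mul, hpw, hrw, hpJw, hpr,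
    polar_self, hp, one_mul]
  intro h0
  refine mul_ne_zero (mul_ne_zero hJpr hrJp) hJpr ?_
  linear_combination -h0

/-- A Siegel line which is no line of the unitary structure finishes the proof. -/
theorem UStr.le_of_line {p r : V} {hp : Q p = 0} (hp0 : p ≠ 0) (hQr : Q r = 0)
    (hr : r ∈ rootSpace M hp) (hoff : r ∉ Submodule.span F (Set.range ![p, J p])) :
    commutator (oGroup Q) ≤ M := by
  haveI : Nontrivial V := Module.nontrivial_of_finrank_pos (R := F) (by omega)
  by_cases hJpr : polar Q (J p) r = 0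
  swap
  · exact hJ.le_of_hyperbolic hQ hn hM hQr hr hJpr
  have hpr : polar Q p r = 0 := hr.1
  have hpJr : polar Q p (J r) = 0 := by rw [hJ.adjR, hpr, hJpr]; ring
  have hrr : polar Q r r = 0 := by rw [polar_self, hQr, smul_zero]
  have hrJr : polar Q r (J r) = 0 := hJ.qsing r hQr
  obtain ⟨w1, hw1, hQw1, hrw1⟩ := exists_singular_partner_not_mem hQ
    (U := Submodule.span F (Set.range ![p, J p])) (z := r) (by
      rw [mem_perp_range]
      intro i
      fin_cases i
      · exact hpr
      · exact hJpr) hoff hQr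
  rw [mem_perp_range] at hw1
  have hp1 : polar Q p w1 = 0 := hw1 0
  have hJp1 : polar Q (J p) w1 = 0 := hw1 1
  set α := polar Q r w1 with hα
  set β := polar Q r (J w1) with hβ
  have hD : β * β - T * α * β + N * α * α ≠ 0 := hJ.norm_ne (Or.inl hrw1)
  -- an anisotropic vector orthogonal to the three lines
  set W := Submodule.span F (Set.range ![p, J p, r, J r, w1, J w1]) with hW
  obtain ⟨v, hv, hQv⟩ : ∃ v ∈ perpS Q W, Q v ≠ 0 := by
    by_contra hno
    push Not at hno
    have hle : perpS Q W ≤ Submodule.span F (Set.range ![p, J p]) := by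
      intro x hx
      have hxW : x ∈ W := by
        rw [← perpS_perpS hQ W]
        intro y hy
        have h := quad_add Q y x
        rw [hno _ (Submodule.add_mem _ hy hx), hno y hy, hno x hx, zero_add, zero_add] at h
        exact h.symm
      obtain ⟨c, rfl⟩ := (Submodule.mem_span_range_iff_exists_fun F).1 hxW
      have hrp : polar Q r p = 0 := (polar_comm _ _ _).trans hpr
      have hrJp : polar Q r (J p) = 0 := (polar_comm _ _ _).trans hJpr
      have hJrp : polar Q (J r) p = 0 := (polar_comm _ _ _).trans hpJr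
      have hw1r : polar Q w1 r = α := (polar_comm _ _ _).trans hα.symm
      have hw1Jr : polar Q w1 (J r) = T * α - β := by
        rw [polar_comm, hJ.adj, ← hα, ← hβ]
      have hJ1r : polar Q (J w1) r = β := (polar_comm _ _ _).trans hβ.symm
      have hJ1Jr : polar Q (J w1) (J r) = N * α := by rw [hJ.nrm, hw1r]
      have hw1p : polar Q w1 p = 0 := (polar_comm _ _ _).trans hp1
      have hw1Jp : polar Q w1 (J p) = 0 := (polar_comm _ _ _).trans hJp1
      have hJ1p : polar Q (J w1) p = 0 := by rw [hJ.adj, hw1p, hw1Jp]; ring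
      have hJ1Jp : polar Q (J w1) (J p) = 0 := by rw [hJ.nrm, hw1p, mul_zero]
      have hw11 : polar Q w1 w1 = 0 := by rw [polar_self, hQw1, smul_zero]
      have hw1J1 : polar Q w1 (J w1) = 0 := hJ.qsing w1 hQw1
      have hJ1J1 : polar Q (J w1) (J w1) = 0 := by rw [hJ.nrm, hw11, mul_zero]
      have hJ11 : polar Q (J w1) w1 = 0 := (polar_comm _ _ _).trans hw1J1
      have e := fun i => mem_perp_range.1 hx i
      have e2 := e 2
      have e3 := e 3
      have e4 := e 4
      have e5 := e 5
      simp only [Fin.sum_univ_six, Matrix.cons_val, polar_add_right, polar_smul_right, smul_eq_mul,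
        hrp, hrJp, hrr, hrJr, hJrp, hJ.nrm r, mul_zero, zero_add, add_zero, hw1r, hw1Jr, hJ1r,
        hJ1Jr, hw1p, hw1Jp, hJ1p, hJ1Jp, hw11, hw1J1, hJ1J1, hJ11, polar_comm (⇑Q) (J r) r,
        ← hα, ← hβ] at e2 e3 e4 e5
      rw [hJ.adj r w1, ← hα, ← hβ] at e3
      have h4 : c 4 = 0 := by
        refine (mul_eq_zero.1 (?_ : c 4 * (β * β - T * α * β + N * α * α) = 0)).resolve_right hD
        linear_combination (N * α) * e2 - β * e3
      have h5 : c 5 = 0 := by
        refine (mul_eq_zero.1 (?_ : c 5 * (β * β - T * α * β + N * α * α) = 0)).resolve_right hD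
        linear_combination (β - T * α) * e2 + α * e3
      have h2 : c 2 = 0 := by
        refine (mul_eq_zero.1 (?_ : c 2 * (β * β - T * α * β + N * α * α) = 0)).resolve_right hD
        linear_combination (N * α) * e4 - (T * α - β) * e5
      have h3 : c 3 = 0 := by
        refine (mul_eq_zero.1 (?_ : c 3 * (β * β - T * α * β + N * α * α) = 0)).resolve_right hD
        linear_combination α * e5 - β * e4
      refine (Submodule.mem_span_range_iff_exists_fun F).2 ⟨![c 0, c 1], ?_⟩
      simp only [Fin.sum_univ_two, Fin.sum_univ_six, Matrix.cons_val, h2, h3, h4, h5]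
      module
    have h1 := finrank_perpS hQ W
    have h2 : Module.finrank F W ≤ 6 := (finrank_range_le_card _).trans (by simp)
    have h3 := Submodule.finrank_mono hle
    have h4 : Module.finrank F ↥(Submodule.span F (Set.range ![p, J p])) ≤ 2 :=
      (finrank_range_le_card _).trans (by simp)
    omega
  rw [mem_perp_range] at hv
  have hpv : polar Q p v = 0 := hv 0
  have hJpv : polar Q (J p) v = 0 := hv 1
  have hrv : polar Q r v = 0 := hv 2
  have hJrv : polar Q (J r) v = 0 := hv 3
  have hrJv : polar Q r (J v) = 0 := by rw [hJ.adjR, hrv, hJrv]; ring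
  have h1v : polar Q w1 v = 0 := hv 4
  have h1r : polar Q w1 r = α := (polar_comm _ _ _).trans hα.symm
  -- polarise at a singular vector over `v`
  set k := -Q v / α with hk
  set u := w1 + v + k • r with hu
  have hQu : Q u = 0 := by
    rw [hu, quad_add, quad_add, quad_smul, hQw1, hQr, h1v, polar_add_left, polar_smul_right,
      polar_smul_right, h1r, polar_comm (⇑Q) v r, hrv, smul_zero, smul_eq_mul, hk,
      div_mul_cancel₀ _ hrw1]
    ring
  have hru : polar Q r u = α := by
    rw [hu, polar_add_right, polar_add_right, polar_smul_right, hrr, hrv, smul_zero, ← hα]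
    ring
  have hrJu : polar Q r (J u) = β := by
    rw [hu, map_add, map_add, map_smul, polar_add_right, polar_add_right, polar_smul_right, hrJr,
      hrJv, smul_zero, ← hβ]
    ring
  have h := Submodule.sub_mem _
    (hJ.delta_mem hQ hn hM hr hQu
      (by rw [hu, polar_add_right, polar_add_right, polar_smul_right, hp1, hpv, hpr, smul_zero,
        add_zero, add_zero])
      (by rw [hu, polar_add_right, polar_add_right, polar_smul_right, hJp1, hJpv, hJpr, smul_zero,
        add_zero, add_zero]))
    (hJ.delta_mem hQ hn hM hr hQw1 hp1 hJp1)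
  rw [hru, hrJu, ← hα, ← hβ] at h
  set q := α • J v - β • v with hq
  set a := q + k • (α • J r - β • r) with ha_def
  have haA : a ∈ rootSpace M hp := by
    convert h using 1
    rw [ha_def, hq, hu, map_add, map_add, map_smul]
    module
  have hQq : Q q = (β * β - T * α * β + N * α * α) * Q v := by
    rw [hq, sub_eq_add_neg, ← neg_smul, quad_add, quad_smul, quad_smul, hJ.qJ, polar_smul_left,
      polar_smul_right]
    have h2 := hJ.adj v v
    rw [polar_comm (⇑Q) v (J v), polar_self, two_smul] at h2
    have hN : N ≠ 0 := fun e => hJ.norm_ne (a := 1) (b := 0) (Or.inl one_ne_zero) (by rw [e]; ring)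
    have hJvv : polar Q (J v) v = T * Q v := by
      by_cases h2F : (2 : F) = 0
      · have hT : T ≠ 0 := fun e => by
          haveI : CharP F 2 := CharTwo.of_one_ne_zero_of_two_eq_zero one_ne_zero h2F
          obtain ⟨s, hs⟩ := isSquare_char_two N
          exact hJ.norm_ne (a := 1) (b := s) (Or.inl one_ne_zero)
            (by rw [e]; linear_combination (s * s) * h2F + hs)
        have h3 := quad_add Q v (J v)
        have h4 := hJ.qJ (v + J v)
        rw [map_add, hJ.sq, show J v + (T • J v - N • v) = (1 + T) • J v + (-N) • v by module,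
          quad_add, quad_smul, quad_smul, hJ.qJ, polar_smul_left, polar_smul_right, smul_eq_mul,
          smul_eq_mul, h3, hJ.qJ, polar_comm (⇑Q) v (J v)] at h4
        refine mul_left_cancel₀ (mul_ne_zero hN hT) ?_
        linear_combination -h4 + N * (T * Q v - polar Q (J v) v) * h2F
      · refine mul_left_cancel₀ h2F ?_
        linear_combination h2
    rw [hJvv, smul_eq_mul, smul_eq_mul]
    ring
  have hQa : Q a ≠ 0 := by
    have hqr : polar Q q (α • J r - β • r) = 0 := by
      rw [hq]
      simp only [polar_sub_left, polar_sub_right, polar_smul_left, polar_smul_right, hJ.nrm,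
        smul_eq_mul]
      rw [polar_comm (⇑Q) (J v) r, hrJv, polar_comm (⇑Q) v r, hrv, polar_comm (⇑Q) v (J r), hJrv]
      ring
    have hQ0 : Q (α • J r - β • r) = 0 := by
      rw [sub_eq_add_neg, ← neg_smul, quad_add, quad_smul, quad_smul, hJ.qJ, hQr, polar_smul_left,
        polar_smul_right, polar_comm (⇑Q) (J r) r, hrJr]
      simp
    rw [ha_def, quad_add, quad_smul, hQ0, polar_smul_right, hqr, hQq, smul_zero, mul_zero,
      add_zero, add_zero]
    exact mul_ne_zero hD hQv
  have hJpa : polar Q (J p) a = 0 := by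
    rw [ha_def, hq, polar_add_right, polar_smul_right, polar_sub_right, polar_sub_right,
      polar_smul_right, polar_smul_right, polar_smul_right, polar_smul_right, hJ.nrm, hJ.nrm, hpv,
      hJpv, hpr, hJpr, mul_zero, smul_zero, smul_zero, sub_zero, smul_zero, add_zero]
  obtain ⟨w, hw0, hQw, hmove⟩ := hJ.exists_move hQ hn hp0 hp hQa haA.1 hJpa
  set s := siegel Q p a
  have hQJw : Q (J w) = 0 := by rw [hJ.qJ, hQw, mul_zero]
  have hsw : Q (s.1 w) = 0 := (s.2 w).trans hQw
  refine hJ.le_of_hyperbolic hQ hn hM (hp := hsw) ((s.2 _).trans hQJw)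
    ⟨(polar_oGroup s w (J w)).trans (hJ.qsing w hQw), fun c => ?_⟩ hmove
  rw [← map_smul]
  exact siegel_conj_mem (rootSpace.self_mem haA) hQw (by rw [polar_smul_right, hJ.qsing w hQw, smul_zero])
    (hJ.tv_mem hQ hn hM hQw c)

omit hM hn in
/-- An endomorphism mapping every singular point into its unitary line is a scalar of the structure. -/
theorem UStr.semilinear_of_lines (h9 : 9 ≤ Module.finrank F V) (X : V →ₗ[F] V)
    (hex : ∀ u, Q u = 0 → ∃ ab : F × F, X u = ab.1 • u + ab.2 • J u) :
    ∃ a b : F, ∀ u, X u = a • u + b • J u := by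
  haveI : Nontrivial V := Module.nontrivial_of_finrank_pos (R := F) (by omega)
  obtain ⟨p, -, hp0, hQp⟩ := exists_singular_of_three (Q := Q) (⊤ : Submodule F V)
    (by rw [finrank_top]; omega)
  obtain ⟨⟨a, b⟩, hab⟩ := hex p hQp
    -- orthogonal singular points off each other's lines have the same coefficients
  have hsame : ∀ u v, Q u = 0 → Q v = 0 → u ≠ 0 → polar Q u v = 0 →
      v ∉ Submodule.span F (Set.range ![u, J u]) → ∀ c d : F, X u = c • u + d • J u →
      X v = c • v + d • J v := by
    intro u v hu hv hu0 huv hoff c d hcd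
    obtain ⟨⟨c', d'⟩, hv'⟩ := hex v hv
    obtain ⟨⟨e, f⟩, hs⟩ := hex (u + v) (by rw [quad_add, hu, hv, huv, add_zero, add_zero])
    rw [map_add, hcd, hv', map_add] at hs
    have hu' : (c - e) • u + (d - f) • J u = (e - c') • v + (f - d') • J v := by
      linear_combination (norm := module) hs
    have h2 : e - c' = 0 ∧ f - d' = 0 := by
      by_contra hne
      refine hoff ?_
      set D := (e - c') * (e - c') - T * -(f - d') * (e - c') + N * -(f - d') * -(f - d')
      have hD : D ≠ 0 := hJ.norm_ne (by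
        rcases not_and_or.1 hne with h | h
        · exact Or.inr h
        · exact Or.inl (neg_ne_zero.2 h))
      have hUp : ∀ i, (![u, J u] : Fin 2 → V) i ∈ Submodule.span F (Set.range ![u, J u]) :=
        fun i => Submodule.subset_span ⟨i, rfl⟩
      have hm1 : (e - c') • v + (f - d') • J v ∈ Submodule.span F (Set.range ![u, J u]) := hu' ▸
        Submodule.add_mem _ (Submodule.smul_mem _ _ (hUp 0)) (Submodule.smul_mem _ _ (hUp 1))
      have hm2 : J ((e - c') • v + (f - d') • J v) ∈ Submodule.span F (Set.range ![u, J u]) := by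
        rw [← hu', map_add, map_smul, map_smul, hJ.sq u]
        exact Submodule.add_mem _ (Submodule.smul_mem _ _ (hUp 1)) (Submodule.smul_mem _ _
          (Submodule.sub_mem _ (Submodule.smul_mem _ _ (hUp 1)) (Submodule.smul_mem _ _ (hUp 0))))
      have : D • v = (e - c' + T * (f - d')) • ((e - c') • v + (f - d') • J v) -
          (f - d') • J ((e - c') • v + (f - d') • J v) := by
        simp only [D, map_add, map_smul, hJ.sq]; module
      exact (Submodule.smul_mem_iff _ hD).1 (this ▸ Submodule.sub_mem _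
        (Submodule.smul_mem _ _ hm1) (Submodule.smul_mem _ _ hm2))
    rw [h2.1, h2.2, zero_smul, zero_smul, add_zero] at hu'
    obtain ⟨h3, h4⟩ := hJ.irr u _ _ hu0 hu'
    rw [hv', show c' = c by linear_combination -h3 - h2.1, show d' = d by linear_combination -h4 - h2.2]
  have hall : ∀ u, Q u = 0 → X u = a • u + b • J u := by
    intro u hu
    rcases eq_or_ne u 0 with rfl | hu0
    · simp
    obtain ⟨z, hz, hQz, hzS⟩ := exists_singular_outside hQ (perpS Q (Submodule.span F (Set.range ![p, u])))
      (Submodule.span F (Set.range ![p, J p, u, J u])) (by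
        have h1 := finrank_perpS hQ (Submodule.span F (Set.range ![p, u]))
        have h2 : Module.finrank F ↥(Submodule.span F (Set.range ![p, u])) ≤ 2 :=
          (finrank_range_le_card _).trans (by simp)
        have h3 : Module.finrank F ↥(Submodule.span F (Set.range ![p, J p, u, J u])) ≤ 4 :=
          (finrank_range_le_card _).trans (by simp)
        omega)
    rw [mem_perp_range] at hz
    have hzp : z ∉ Submodule.span F (Set.range ![p, J p]) := fun h => hzS
      (Submodule.span_mono (by
        rintro _ ⟨i, rfl⟩; fin_cases i; exacts [⟨0, rfl⟩, ⟨1, rfl⟩]) h)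
    have hz0 : z ≠ 0 := fun e => hzS (e ▸ Submodule.zero_mem _)
    have hza := hsame p z hQp hQz hp0 (hz 0) hzp a b hab
    refine hsame z u hQz hu hz0 ((polar_comm _ _ _).trans (hz 1)) (fun huz => hzS ?_) a b hza
    -- otherwise `z` would lie on the line of `u`
    obtain ⟨c, hc'⟩ := (Submodule.mem_span_range_iff_exists_fun F).1 huz
    simp only [Fin.sum_univ_two, Matrix.cons_val] at hc'
    set D := c 0 * c 0 - T * -c 1 * c 0 + N * -c 1 * -c 1
    have hD : D ≠ 0 := hJ.norm_ne (by
      by_contra h
      push Not at h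
      exact hu0 (by rw [← hc', h.2, neg_eq_zero.1 h.1, zero_smul, zero_smul, add_zero]))
    have : D • z = (c 0 + T * c 1) • u + -c 1 • J u := by
      simp only [D, ← hc', map_add, map_smul, hJ.sq]; module
    refine (Submodule.smul_mem_iff _ hD).1 (this ▸ Submodule.add_mem _
      (Submodule.smul_mem _ _ (Submodule.subset_span ⟨2, rfl⟩))
      (Submodule.smul_mem _ _ (Submodule.subset_span ⟨3, rfl⟩)))
  refine ⟨a, b, fun u => ?_⟩
  have : u ∈ Submodule.span F {x : V | Q x = 0} := by
    rw [span_singular_top hQ (by omega)]; trivial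
  induction this using Submodule.span_induction with
  | mem x hx => exact hall x hx
  | zero => simp
  | add x y _ _ hx hy => rw [map_add, hx, hy, map_add]; module
  | smul s x _ hx => rw [map_smul, hx, map_smul]; module

omit hM in
/-- Maximality of the normaliser of a unitary structure. -/
theorem UStr.maximal {L : Subgroup (oGroup Q)}
    (hc : ∀ g : oGroup Q, (∀ x, g.1 (J x) = J (g.1 x)) → g ∈ L)
    (hsl : ∀ g : oGroup Q, (∃ a b : F, ∀ x, g.1 (J x) = a • g.1 x + b • J (g.1 x)) → g ∈ L)
    (hL : ∀ g ∈ L, ∀ x, g.1 (J x) ∈ Submodule.span F (Set.range ![g.1 x, J (g.1 x)])) :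
    Cfsg.Geo.IsMaximalIn (commutator (oGroup Q)) (L ⊓ commutator (oGroup Q)) := by
  haveI : Nontrivial V := Module.nontrivial_of_finrank_pos (R := F) (by omega)
  constructor
  · -- properness
    obtain ⟨q, -, hq0, hQq⟩ := exists_singular_of_three (Q := Q) (⊤ : Submodule F V)
      (by rw [finrank_top]; omega)
    obtain ⟨a, hQa, hqa, hJqa⟩ := exists_anisotropic_perp_pair (J := J) hJ hQ hn q
    obtain ⟨w, hw0, hQw, hmove⟩ := hJ.exists_move hQ hn hq0 hQq hQa hqa hJqa
    refine lt_of_le_of_ne inf_le_right fun e => hmove ?_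
    have hg : siegel Q q a ∈ L ⊓ commutator (oGroup Q) := by
      rw [e]; exact siegel_mem_commutator hQ (by omega) hQq hqa
    set u := (siegel Q q a).1 w
    have hu : Q u = 0 := ((siegel Q q a).2 w).trans hQw
    obtain ⟨c, hc'⟩ := (Submodule.mem_span_range_iff_exists_fun F).1 (hL _ hg.1 w)
    simp only [Fin.sum_univ_two, Matrix.cons_val] at hc'
    rw [← hc', polar_add_right, polar_smul_right, polar_smul_right, polar_comm (⇑Q) (J u) u,
      hJ.qsing u hu, polar_self, hJ.qJ, hu, mul_zero, smul_zero, smul_zero, smul_zero, add_zero]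
  intro M hM hMK
  by_cases h : M ≤ L
  · exact Or.inl (le_antisymm (le_inf h hMK) hM)
  refine Or.inr (le_antisymm hMK ?_)
  obtain ⟨g, hg, hgL⟩ := SetLike.not_le_iff_exists.1 h
  have hM' : ∀ g ∈ commutator (oGroup Q), (∀ x, g.1 (J x) = J (g.1 x)) → g ∈ M :=
    fun g hg hgJ => hM ⟨hc g hgJ, hg⟩
  by_cases hline : ∃ v, v ≠ 0 ∧ Q v = 0 ∧
      g.1 (J v) ∉ Submodule.span F (Set.range ![g.1 v, J (g.1 v)])
  · obtain ⟨v, hv0, hQv, hoff⟩ := hline
    refine hJ.le_of_line hQ hn hM' (hp := (g.2 v).trans hQv)
      (fun e => hv0 (g.1.map_eq_zero_iff.1 e))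
      ((g.2 _).trans (by rw [hJ.qJ, hQv, mul_zero]))
      ⟨(polar_oGroup g _ _).trans (hJ.qsing v hQv), fun c => ?_⟩ hoff
    rw [← map_smul]
    exact siegel_conj_mem hg hQv (by rw [polar_smul_right, hJ.qsing v hQv, smul_zero])
      (hJ.tv_mem hQ hn hM' hQv c)
  -- otherwise `g` is semilinear
  push Not at hline
  exfalso
  obtain ⟨a, b, hab⟩ := hJ.semilinear_of_lines hQ (by omega)
    (g.1.toLinearMap ∘ₗ J ∘ₗ g.1.symm.toLinearMap) fun u hu => by
      rcases eq_or_ne u 0 with rfl | hu0
      · exact ⟨(0, 0), by simp⟩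
      have hv : Q (g.1.symm u) = 0 := by rw [← g.2, LinearEquiv.apply_symm_apply]; exact hu
      obtain ⟨c, hc'⟩ := (Submodule.mem_span_range_iff_exists_fun F).1
        (hline _ (fun e => hu0 (g.1.symm.map_eq_zero_iff.1 e)) hv)
      refine ⟨(c 0, c 1), ?_⟩
      simp only [Fin.sum_univ_two, Matrix.cons_val, LinearEquiv.apply_symm_apply] at hc'
      exact hc'.symm
  refine hgL (hsl g ⟨a, b, fun x => ?_⟩)
  have := hab (g.1 x)
  rwa [LinearMap.comp_apply, LinearMap.comp_apply, LinearEquiv.coe_coe, LinearEquiv.coe_coe,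
    LinearEquiv.symm_apply_apply] at this

end CfsgLib.Geo.OS
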