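import Cfsg.Agent.Geo.FieldTwist
import Cfsg.Agent.GLClass.Modules
import Mathlib.NumberTheory.LegendreSymbol.QuadraticChar.Basic
import Mathlib.LinearAlgebra.Matrix.ToLin

/-!
Involution classes of `PGL n`, odd characteristic.
-/

set_option autoImplicit false
set_option linter.style.haveILetI false

namespace CfsgLib.Geo.PGLInvol

open Matrix Polynomial CfsgLib.Geo.FieldTwist

variable {F : Type*} [Field F] {n : ℕ}

theorem center_eq : Subgroup.center (GL (Fin n) F) = (scal (K := F) n).range := by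
  rw [Matrix.GeneralLinearGroup.center_eq_range_scalar]
  have : ∀ a : Fˣ, Matrix.GeneralLinearGroup.scalar (Fin n) a = scal n a := fun a => Units.ext rfl
  ext g
  simp only [MonoidHom.mem_range, this]

/-- The dimension of the `-1` eigenspace. -/
noncomputable def negDim (A : Matrix (Fin n) (Fin n) F) : ℕ :=
  Module.finrank F (LinearMap.ker (A + 1).mulVecLin)

theorem isCompl_eigen (h2 : (2 : F) ≠ 0) {A : Matrix (Fin n) (Fin n) F} (hA : A * A = 1) :
    IsCompl (LinearMap.ker (A + 1).mulVecLin) (LinearMap.ker (A - 1).mulVecLin) := by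
  refine ⟨Submodule.disjoint_def.2 fun v hv hv' => ?_, codisjoint_iff.2 (eq_top_iff.2 fun v _ => ?_)⟩
  · rw [LinearMap.mem_ker, mulVecLin_apply, add_mulVec, one_mulVec] at hv
    rw [LinearMap.mem_ker, mulVecLin_apply, sub_mulVec, one_mulVec] at hv'
    have : (2 : F) • v = 0 := by
      rw [two_smul]
      linear_combination (norm := module) hv - hv'
    exact (smul_eq_zero.mp this).resolve_left h2
  · have e : A *ᵥ (A *ᵥ v) = v := by rw [mulVec_mulVec, hA, one_mulVec]
    refine Submodule.mem_sup.2 ⟨(2 : F)⁻¹ • (v - A *ᵥ v), ?_, (2 : F)⁻¹ • (v + A *ᵥ v), ?_, ?_⟩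
    · rw [LinearMap.mem_ker, mulVecLin_apply, add_mulVec, one_mulVec, mulVec_smul, mulVec_sub, e]
      module
    · rw [LinearMap.mem_ker, mulVecLin_apply, sub_mulVec, one_mulVec, mulVec_smul, mulVec_add, e]
      module
    · rw [← smul_add, sub_add_add_cancel, ← two_smul F v, smul_smul, inv_mul_cancel₀ h2, one_smul]

theorem negDim_neg (h2 : (2 : F) ≠ 0) {A : Matrix (Fin n) (Fin n) F} (hA : A * A = 1) :
    negDim (-A) + negDim A = n := by
  have h := Submodule.finrank_add_eq_of_isCompl (isCompl_eigen h2 hA)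
  rw [Module.finrank_fin_fun] at h
  have e : LinearMap.ker (-A + 1).mulVecLin = LinearMap.ker (A - 1).mulVecLin := by
    ext v
    simp only [LinearMap.mem_ker, mulVecLin_apply]
    rw [show -A + 1 = -(A - 1) by abel, neg_mulVec, neg_eq_zero]
  unfold negDim
  rw [e]; omega

theorem negDim_conj (k : GL (Fin n) F) (A : Matrix (Fin n) (Fin n) F) :
    negDim ((k : Matrix (Fin n) (Fin n) F) * A * ((k⁻¹ : GL (Fin n) F) : Matrix (Fin n) (Fin n) F)) =
      negDim A := by
  have e : (k : Matrix (Fin n) (Fin n) F) * A * ((k⁻¹ : GL (Fin n) F) : Matrix (Fin n) (Fin n) F) + 1 =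
      (k : Matrix (Fin n) (Fin n) F) * (A + 1) * ((k⁻¹ : GL (Fin n) F) : Matrix (Fin n) (Fin n) F) := by
    rw [mul_add, add_mul, mul_one, Units.mul_inv]
  have hr : ∀ M : Matrix (Fin n) (Fin n) F, Module.finrank F (LinearMap.ker M.mulVecLin) = n - M.rank := fun M => by
    have h : Module.finrank F (LinearMap.range M.mulVecLin) + Module.finrank F (LinearMap.ker M.mulVecLin) = n := by
      rw [M.mulVecLin.finrank_range_add_finrank_ker, Module.finrank_fin_fun]
    unfold Matrix.rank
    omega
  rw [negDim, negDim, hr, hr, e, Matrix.rank_mul_eq_left_of_isUnit_det _ _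
      ((Matrix.isUnit_iff_isUnit_det _).mp (Units.isUnit k⁻¹)),
    Matrix.rank_mul_eq_right_of_isUnit_det _ _ ((Matrix.isUnit_iff_isUnit_det _).mp k.isUnit)]

theorem isConj_of_negDim (h2 : (2 : F) ≠ 0) {g h : GL (Fin n) F}
    (hg : (g : Matrix (Fin n) (Fin n) F) * (g : Matrix (Fin n) (Fin n) F) = 1)
    (hh : (h : Matrix (Fin n) (Fin n) F) * (h : Matrix (Fin n) (Fin n) F) = 1)
    (he : negDim (g : Matrix (Fin n) (Fin n) F) = negDim (h : Matrix (Fin n) (Fin n) F)) : IsConj g h := by
  have hc := isCompl_eigen h2 hg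
  have hc' := isCompl_eigen h2 hh
  have h1 := Submodule.finrank_add_eq_of_isCompl hc
  have h1' := Submodule.finrank_add_eq_of_isCompl hc'
  unfold negDim at he
  let e₁ := LinearEquiv.ofFinrankEq (R := F) _ _ he
  let e₂ := LinearEquiv.ofFinrankEq (R := F)
    (LinearMap.ker ((g : Matrix (Fin n) (Fin n) F) - 1).mulVecLin)
    (LinearMap.ker ((h : Matrix (Fin n) (Fin n) F) - 1).mulVecLin) (by omega)
  let T : (Fin n → F) ≃ₗ[F] (Fin n → F) :=
    (Submodule.prodEquivOfIsCompl _ _ hc).symm.trans
      ((e₁.prodCongr e₂).trans (Submodule.prodEquivOfIsCompl _ _ hc'))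
  have hneg : ∀ {M : Matrix (Fin n) (Fin n) F} {v : Fin n → F},
      v ∈ LinearMap.ker (M + 1).mulVecLin → M *ᵥ v = -v := fun {M v} hv => by
    rw [LinearMap.mem_ker, mulVecLin_apply, add_mulVec, one_mulVec] at hv
    exact eq_neg_of_add_eq_zero_left hv
  have hpos : ∀ {M : Matrix (Fin n) (Fin n) F} {v : Fin n → F},
      v ∈ LinearMap.ker (M - 1).mulVecLin → M *ᵥ v = v := fun {M v} hv => by
    rw [LinearMap.mem_ker, mulVecLin_apply, sub_mulVec, one_mulVec] at hv
    exact sub_eq_zero.mp hv
  have key : ∀ v, T ((g : Matrix (Fin n) (Fin n) F) *ᵥ v) = (h : Matrix (Fin n) (Fin n) F) *ᵥ T v := by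
    intro v
    obtain ⟨⟨a, b⟩, rfl⟩ := (Submodule.prodEquivOfIsCompl _ _ hc).surjective v
    have e1 : (g : Matrix (Fin n) (Fin n) F) *ᵥ (Submodule.prodEquivOfIsCompl _ _ hc (a, b)) =
        Submodule.prodEquivOfIsCompl _ _ hc (-a, b) := by
      simp [mulVec_add, hneg a.2, hpos b.2]
    rw [e1]
    simp only [T, LinearEquiv.trans_apply, LinearEquiv.symm_apply_apply]
    simp only [LinearEquiv.prodCongr_apply, map_neg, Submodule.coe_prodEquivOfIsCompl', Submodule.coe_neg,
      mulVec_add]
    rw [hneg (e₁ a).2, hpos (e₂ b).2]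
  refine isConj_iff.2 ⟨CfsgLib.Unitary.glOfEquiv T, mul_inv_eq_iff_eq_mul.2 (Units.ext ?_)⟩
  refine Matrix.toLin'.injective (LinearMap.ext fun x => ?_)
  rw [Units.val_mul, Units.val_mul, Matrix.toLin'_apply, Matrix.toLin'_apply, ← mulVec_mulVec,
    ← mulVec_mulVec, CfsgLib.Unitary.glOfEquiv_mulVec, CfsgLib.Unitary.glOfEquiv_mulVec, key]

theorem irreducible_sq_sub {ν : F} (hν : ¬ IsSquare ν) : Irreducible (X ^ 2 - C ν) := by
  refine Polynomial.irreducible_of_degree_le_three_of_not_isRoot (by simp) fun r hr => hν ⟨r, ?_⟩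
  have : r ^ 2 - ν = 0 := by simpa [IsRoot] using hr
  linear_combination -this

theorem isConj_of_sq_nonsquare {ν : F} (hν : ¬ IsSquare ν) {g h : GL (Fin n) F}
    (hg : (g : Matrix (Fin n) (Fin n) F) * (g : Matrix (Fin n) (Fin n) F) = ν • 1)
    (hh : (h : Matrix (Fin n) (Fin n) F) * (h : Matrix (Fin n) (Fin n) F) = ν • 1) : IsConj g h := by
  have hm : (X ^ 2 - C ν : F[X]).Monic := monic_X_pow_sub_C ν two_ne_zero
  have hdeg : (X ^ 2 - C ν : F[X]).natDegree = 2 := natDegree_X_pow_sub_C
  have key : ∀ A : Matrix (Fin n) (Fin n) F, A * A = ν • 1 →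
      CfsgLib.GLClass.elemDiv A = Multiset.replicate (n / 2) (X ^ 2 - C ν, 1) := by
    intro A hA
    have h0 : aeval A (X ^ 2 - C ν : F[X]) = 0 := by
      rw [map_sub, map_pow, aeval_X, aeval_C, pow_two, hA, Algebra.algebraMap_eq_smul_one, sub_self]
    have hall : ∀ x ∈ CfsgLib.GLClass.elemDiv A, x = (X ^ 2 - C ν, 1) := by
      rintro ⟨p, e⟩ hx
      obtain ⟨hp, hpi, he⟩ := CfsgLib.GLClass.elemDiv_spec A hx
      have hdvd := CfsgLib.GLClass.pow_dvd_of_aeval h0 hx
      have hpeq : p = X ^ 2 - C ν :=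
        eq_of_monic_of_associated hp hm
          (hpi.associated_of_dvd (irreducible_sq_sub hν) ((dvd_pow_self p (Nat.pos_iff_ne_zero.mp he)).trans hdvd))
      subst hpeq
      have hle := natDegree_le_of_dvd hdvd hm.ne_zero
      rw [natDegree_pow, hdeg] at hle
      refine Prod.ext rfl ?_
      show e = 1
      simp only at he
      omega
    have hrep := Multiset.eq_replicate_card.2 hall
    have hsum := CfsgLib.GLClass.sum_elemDiv A
    rw [hrep, Multiset.map_replicate, Multiset.sum_replicate, hdeg, smul_eq_mul, one_mul] at hsum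
    rw [hrep]
    congr 1
    omega
  exact CfsgLib.GLClass.isConj_of_elemDiv_eq ((key _ hg).trans (key _ hh).symm)

theorem mk_isConj_mk {g h : GL (Fin n) F} :
    IsConj (QuotientGroup.mk' (Subgroup.center (GL (Fin n) F)) g)
      (QuotientGroup.mk' (Subgroup.center (GL (Fin n) F)) h) ↔ ∃ a : Fˣ, IsConj g (scal n a * h) := by
  constructor
  · intro hc
    obtain ⟨k, hk⟩ := isConj_iff.1 hc
    obtain ⟨k, rfl⟩ := QuotientGroup.mk'_surjective _ k
    rw [← map_inv, ← map_mul, ← map_mul] at hk
    have hz := QuotientGroup.eq.mp hk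
    rw [center_eq] at hz
    obtain ⟨a, ha⟩ := hz
    refine ⟨a⁻¹, isConj_iff.2 ⟨k, ?_⟩⟩
    have hh : h = k * g * k⁻¹ * scal n a := by rw [ha, mul_inv_cancel_left]
    have hcen : scal n a⁻¹ ∈ Subgroup.center (GL (Fin n) F) := by rw [center_eq]; exact ⟨a⁻¹, rfl⟩
    rw [hh, ← Subgroup.mem_center_iff.mp hcen, map_inv, mul_inv_cancel_right]
  · rintro ⟨a, hc⟩
    have h1 := MonoidHom.map_isConj (QuotientGroup.mk' (Subgroup.center (GL (Fin n) F))) hc
    have hcen : scal n a ∈ Subgroup.center (GL (Fin n) F) := by rw [center_eq]; exact ⟨a, rfl⟩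
    rwa [map_mul, (QuotientGroup.eq_one_iff _).mpr hcen |> fun e => (show QuotientGroup.mk' _ (scal n a) = 1 from e),
      one_mul] at h1

theorem card_classes [Finite F] (h2 : (2 : F) ≠ 0) (hn : 2 ≤ n) :
    Nat.card {C : ConjClasses (GL (Fin n) F ⧸ Subgroup.center (GL (Fin n) F)) //
      ∃ g, ConjClasses.mk g = C ∧ orderOf g = 2} = n / 2 + (if Even n then 1 else 0) := by
  classical
  haveI : Fintype F := Fintype.ofFinite F
  haveI : Nonempty (Fin n) := ⟨⟨0, by omega⟩⟩
  set π := QuotientGroup.mk' (Subgroup.center (GL (Fin n) F))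
  obtain ⟨ν, hν⟩ := FiniteField.exists_nonsquare
    (F := F) (fun h => h2 (by
      haveI := ringChar.charP F
      have : ((2 : ℕ) : F) = 0 := by rw [← h]; exact CharP.cast_eq_zero F _
      exact_mod_cast this))
  have hν0 : ν ≠ 0 := fun h => hν (h ▸ IsSquare.zero)
  -- representatives
  let dia : ℕ → Fin n → F := fun i j => if (j : ℕ) < i then -1 else 1
  have hdia : ∀ i, Matrix.diagonal (dia i) * Matrix.diagonal (dia i) = 1 := fun i => by
    rw [Matrix.diagonal_mul_diagonal, ← Matrix.diagonal_one]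
    congr 1
    funext j
    by_cases hj : (j : ℕ) < i <;> simp [dia, hj]
  let D : ℕ → GL (Fin n) F := fun i => ⟨_, _, hdia i, hdia i⟩
  have hneg : ∀ i ≤ n, negDim (Matrix.diagonal (dia i)) = i := by
    intro i hi
    have h := (Matrix.diagonal (dia i) + 1).mulVecLin.finrank_range_add_finrank_ker
    rw [Module.finrank_fin_fun] at h
    have e : Matrix.diagonal (dia i) + 1 = Matrix.diagonal (fun j => dia i j + 1) := by
      rw [← Matrix.diagonal_one, Matrix.diagonal_add]
    have hr : (Matrix.diagonal (dia i) + 1).rank = n - i := by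
      rw [e, Matrix.rank_diagonal, Fintype.card_subtype]
      have : (Finset.univ.filter fun j : Fin n => dia i j + 1 ≠ 0) =
          (Finset.univ.filter fun j : Fin n => (j : ℕ) < i)ᶜ := by
        ext j
        by_cases hj : (j : ℕ) < i
        · simp [dia, hj]
        · simp [dia, hj, one_add_one_eq_two, h2]
          omega
      rw [this, Finset.card_compl, Fintype.card_fin, Fin.card_filter_val_lt, min_eq_right hi]
    unfold negDim
    unfold Matrix.rank at hr
    omega
  have hsq : ∀ {g : GL (Fin n) F}, (∃ c : F, (g : Matrix (Fin n) (Fin n) F) * g = c • 1) →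
      (∀ c : F, (g : Matrix (Fin n) (Fin n) F) ≠ c • 1) → orderOf (π g) = 2 := by
    rintro g ⟨c, hc⟩ hne
    rw [orderOf_eq_prime_iff]
    refine ⟨?_, fun h => ?_⟩
    · rw [← map_pow]
      refine (QuotientGroup.eq_one_iff _).mpr ?_
      have hc0 : c ≠ 0 := fun h0 => by
        have := (g * g).ne_zero
        rw [Units.val_mul, hc, h0, zero_smul] at this
        exact this rfl
      rw [center_eq]
      exact ⟨Units.mk0 c hc0, Units.ext (by rw [scal_val, pow_two, Units.val_mul, hc, Units.val_mk0])⟩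
    · have hm := (QuotientGroup.eq_one_iff g).mp h
      rw [center_eq] at hm
      obtain ⟨a, rfl⟩ := hm
      exact hne a (scal_val a)
  have hDord : ∀ i, 1 ≤ i → i < n → orderOf (π (D i)) = 2 := fun i h1 h2' => hsq
    ⟨1, by rw [one_smul]; exact hdia i⟩ fun c hc => by
      have e0 := congrFun (congrFun hc ⟨0, by omega⟩) ⟨0, by omega⟩
      have e1 := congrFun (congrFun hc ⟨n - 1, by omega⟩) ⟨n - 1, by omega⟩
      simp [D, dia, show 0 < i by omega, show ¬ (n - 1 < i) by omega] at e0 e1
      rw [← e1] at e0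
      exact h2 (by linear_combination -e0)
  have hW : ∀ _ : Even n, ∃ W : GL (Fin n) F, (W : Matrix (Fin n) (Fin n) F) * W = ν • 1 := by
    rintro ⟨m, rfl⟩
    let M : Matrix (Fin m ⊕ Fin m) (Fin m ⊕ Fin m) F := Matrix.fromBlocks 0 1 (ν • 1) 0
    let e := Matrix.reindexAlgEquiv F F (finSumFinEquiv : Fin m ⊕ Fin m ≃ Fin (m + m))
    have hM : M * M = ν • 1 := by
      simp [M, Matrix.fromBlocks_multiply, ← Matrix.fromBlocks_one, Matrix.fromBlocks_smul]
    have hN : e M * e M = ν • 1 := by rw [← map_mul, hM, map_smul, map_one]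
    refine ⟨⟨e M, ν⁻¹ • e M, ?_, ?_⟩, hN⟩
    · rw [mul_smul_comm, hN, smul_smul, inv_mul_cancel₀ hν0, one_smul]
    · rw [smul_mul_assoc, hN, smul_smul, inv_mul_cancel₀ hν0, one_smul]
  choose W hW using hW
  have hWord : ∀ hev, orderOf (π (W hev)) = 2 := fun hev => hsq ⟨ν, hW hev⟩ fun c hc => hν ⟨c, by
    have := hW hev
    rw [hc, smul_mul_smul_comm, one_mul] at this
    have h00 := congrFun (congrFun this ⟨0, by omega⟩) ⟨0, by omega⟩
    simpa [eq_comm] using h00⟩
  -- squares in a twisted conjugacy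
  have hsquare : ∀ {g h : GL (Fin n) F} {a : Fˣ} {c d : F}, IsConj g (scal n a * h) →
      (g : Matrix (Fin n) (Fin n) F) * g = c • 1 → (h : Matrix (Fin n) (Fin n) F) * h = d • 1 →
        c = (a : F) * a * d := by
    intro g h a c d hc hg hh
    obtain ⟨k, hk⟩ := isConj_iff.1 hc
    have h1 : ((k * (g * g) * k⁻¹ : GL (Fin n) F) : Matrix (Fin n) (Fin n) F) = c • 1 := by
      rw [Units.val_mul, Units.val_mul, Units.val_mul, hg, mul_smul_comm, mul_one, smul_mul_assoc,
        Units.mul_inv]
    rw [show k * (g * g) * k⁻¹ = (k * g * k⁻¹) * (k * g * k⁻¹) by group, hk, Units.val_mul, scal_mul_val,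
      smul_mul_smul_comm, hh, smul_smul] at h1
    have h00 := congrFun (congrFun h1 ⟨0, by omega⟩) ⟨0, by omega⟩
    simpa [eq_comm] using h00
  let f : Fin (n / 2) ⊕ PLift (Even n) → {C : ConjClasses (GL (Fin n) F ⧸ Subgroup.center (GL (Fin n) F)) //
      ∃ g, ConjClasses.mk g = C ∧ orderOf g = 2} := fun x => match x with
    | .inl i => ⟨_, π (D (i + 1)), rfl, hDord _ (by omega) (by have := i.2; omega)⟩
    | .inr h => ⟨_, π (W h.down), rfl, hWord h.down⟩
  have hf : Function.Bijective f := by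
    constructor
    · intro x y hxy
      have hc := congrArg Subtype.val hxy
      rcases x with i | hx <;> rcases y with j | hy
      · obtain ⟨a, ha⟩ := mk_isConj_mk.1 (ConjClasses.mk_eq_mk_iff_isConj.1 hc)
        have hii : negDim (Matrix.diagonal (dia (i + 1))) = i + 1 := hneg _ (by have := i.2; omega)
        have hjj : negDim (Matrix.diagonal (dia (j + 1))) = j + 1 := hneg _ (by have := j.2; omega)
        have hnn := negDim_neg h2 (hdia (j + 1))
        have h1 := hsquare ha (c := 1) (d := 1) (by rw [one_smul]; exact hdia _)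
          (by rw [one_smul]; exact hdia _)
        obtain ⟨k, hk⟩ := isConj_iff.1 ha
        have hk' := negDim_conj k (Matrix.diagonal (dia (i + 1)))
        rw [show (k : Matrix (Fin n) (Fin n) F) * Matrix.diagonal (dia (i + 1)) *
            ((k⁻¹ : GL (Fin n) F) : Matrix (Fin n) (Fin n) F) =
            ((scal n a * D (j + 1) : GL (Fin n) F) : Matrix (Fin n) (Fin n) F) by rw [← hk]; rfl,
          scal_mul_val] at hk'
        refine congrArg Sum.inl (Fin.ext ?_)
        have hi2 := i.2
        have hj2 := j.2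
        rcases mul_self_eq_one_iff.mp (by linear_combination -h1 : (a : F) * a = 1) with ha1 | ha1 <;>
          rw [ha1] at hk'
        · rw [one_smul, show ((D (j + 1) : GL (Fin n) F) : Matrix (Fin n) (Fin n) F) =
            Matrix.diagonal (dia (j + 1)) from rfl] at hk'
          omega
        · rw [neg_one_smul, show ((D (j + 1) : GL (Fin n) F) : Matrix (Fin n) (Fin n) F) =
            Matrix.diagonal (dia (j + 1)) from rfl] at hk'
          omega
      · obtain ⟨a, ha⟩ := mk_isConj_mk.1 (ConjClasses.mk_eq_mk_iff_isConj.1 hc)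
        have h1 := hsquare ha (c := 1) (by rw [one_smul]; exact hdia _) (hW hy.down)
        refine (hν ⟨(a : F)⁻¹, ?_⟩).elim
        have := a.ne_zero
        field_simp
        linear_combination -h1
      · obtain ⟨a, ha⟩ := mk_isConj_mk.1 (ConjClasses.mk_eq_mk_iff_isConj.1 hc)
        have h1 := hsquare ha (hW hx.down) (d := 1) (by rw [one_smul]; exact hdia _)
        exact (hν ⟨a, by rw [h1, mul_one]⟩).elim
      · rw [show hx = hy from Subsingleton.elim _ _]
    · rintro ⟨_, x, rfl, hx⟩
      obtain ⟨g, rfl⟩ := QuotientGroup.mk'_surjective _ x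
      rw [orderOf_eq_prime_iff] at hx
      have hg2 : g ^ 2 ∈ Subgroup.center (GL (Fin n) F) := by
        rw [← QuotientGroup.eq_one_iff]; exact hx.1
      rw [center_eq] at hg2
      obtain ⟨c, hc⟩ := hg2
      have hgg : (g : Matrix (Fin n) (Fin n) F) * g = (c : F) • 1 := by
        rw [← scal_val, hc, pow_two, Units.val_mul]
      have hscale : ∀ (s : Fˣ) (d : F), (c : F) = s * s * d →
          ((scal n s⁻¹ * g : GL (Fin n) F) : Matrix (Fin n) (Fin n) F) * (scal n s⁻¹ * g : GL (Fin n) F) =
            d • 1 := fun s d hd => by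
        rw [scal_mul_val, smul_mul_smul_comm, hgg, smul_smul, hd, Units.val_inv_eq_inv_val]
        congr 1
        field_simp
      have hback : ∀ (s : Fˣ) (h : GL (Fin n) F), IsConj (scal n s⁻¹ * g) h →
          ConjClasses.mk (π h) = ConjClasses.mk (π g) := fun s h hh => by
        refine ConjClasses.mk_eq_mk_iff_isConj.2 (mk_isConj_mk.2 ⟨s⁻¹, hh.symm⟩)
      by_cases hsqc : IsSquare (c : F)
      · obtain ⟨s, hs⟩ := hsqc
        have hs0 : s ≠ 0 := fun h => c.ne_zero (by rw [hs, h, mul_zero])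
        have ht : ∀ b : F, b * b = 1 → ∀ hb : b ≠ 0,
            ((scal n (Units.mk0 (s * b) (mul_ne_zero hs0 hb))⁻¹ * g : GL (Fin n) F) : Matrix (Fin n) (Fin n) F) *
              (scal n (Units.mk0 (s * b) (mul_ne_zero hs0 hb))⁻¹ * g : GL (Fin n) F) = 1 := fun b hb hb0 => by
          rw [hscale _ 1 (by rw [hs, Units.val_mk0]; linear_combination -(s * s) * hb), one_smul]
        set t := scal n (Units.mk0 (s * 1) (mul_ne_zero hs0 one_ne_zero))⁻¹ * g with htdef
        have ht1 : (t : Matrix (Fin n) (Fin n) F) * t = 1 := ht 1 (by ring) one_ne_zero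
        have hnot : ∀ d : F, (t : Matrix (Fin n) (Fin n) F) ≠ d • 1 := by
          intro d hd
          refine hx.2 ((QuotientGroup.eq_one_iff g).mpr ?_)
          rw [Subgroup.mem_center_iff]
          intro k
          refine Units.ext ?_
          have hgt : (g : Matrix (Fin n) (Fin n) F) = (s * 1 * d) • 1 := by
            rw [← smul_smul, ← hd, htdef, scal_mul_val, smul_smul, Units.val_inv_eq_inv_val, Units.val_mk0,
              mul_inv_cancel₀ (mul_ne_zero hs0 one_ne_zero), one_smul]
          rw [Units.val_mul, Units.val_mul, hgt]; simp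
        set i := negDim (t : Matrix (Fin n) (Fin n) F) with hi
        have hni := negDim_neg h2 ht1
        have hk0 : ∀ M : Matrix (Fin n) (Fin n) F, M * M = 1 → negDim M = 0 → M = 1 := fun M hM h0 => by
          have hbot := Submodule.finrank_eq_zero.mp h0
          have htop := eq_top_of_bot_isCompl (hbot ▸ isCompl_eigen h2 hM)
          rw [LinearMap.ker_eq_top] at htop
          refine sub_eq_zero.mp (Matrix.toLin'.injective ?_)
          rw [map_zero]
          exact htop
        have hpos : 1 ≤ i := Nat.one_le_iff_ne_zero.mpr fun h0 => hnot 1 (by rw [one_smul]; exact hk0 _ ht1 h0)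
        have hlt : i < n := by
          by_contra hc'
          have h0 : negDim (-(t : Matrix (Fin n) (Fin n) F)) = 0 := by omega
          refine hnot (-1) ?_
          rw [neg_one_smul]
          exact neg_eq_iff_eq_neg.mp (hk0 _ (by rw [neg_mul_neg, ht1]) h0)
        by_cases hhalf : i ≤ n / 2
        · refine ⟨.inl ⟨i - 1, by omega⟩, Subtype.ext (hback _ _ (isConj_of_negDim h2 ht1 (hdia _) ?_))⟩
          show i = negDim (Matrix.diagonal (dia (i - 1 + 1)))
          rw [hneg _ (by omega)]; omega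
        · refine ⟨.inl ⟨n - i - 1, by omega⟩,
            Subtype.ext (hback _ _ (isConj_of_negDim h2 (ht (-1) (by ring) (neg_ne_zero.mpr one_ne_zero)) (hdia _) ?_))⟩
          have e : ((scal n (Units.mk0 (s * -1) (mul_ne_zero hs0 (neg_ne_zero.mpr one_ne_zero)))⁻¹ * g :
              GL (Fin n) F) : Matrix (Fin n) (Fin n) F) = -(t : Matrix (Fin n) (Fin n) F) := by
            rw [htdef, scal_mul_val, scal_mul_val, ← neg_smul, Units.val_inv_eq_inv_val, Units.val_inv_eq_inv_val,
              Units.val_mk0, Units.val_mk0, mul_one, mul_neg_one, inv_neg]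
          rw [e]
          show negDim (-(t : Matrix (Fin n) (Fin n) F)) = negDim (Matrix.diagonal (dia (n - i - 1 + 1)))
          rw [hneg _ (by omega)]; omega
      · obtain ⟨s, hs⟩ : IsSquare ((c : F) / ν) := by
          rw [← quadraticChar_one_iff_isSquare (div_ne_zero c.ne_zero hν0), div_eq_mul_inv, map_mul,
            quadraticChar_neg_one_iff_not_isSquare.mpr hsqc,
            quadraticChar_neg_one_iff_not_isSquare.mpr (fun h => hν (by simpa using h.inv))]
          norm_num
        have hs0 : s ≠ 0 := fun h => div_ne_zero c.ne_zero hν0 (by rw [hs, h, mul_zero])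
        have ht1 := hscale (Units.mk0 s hs0) ν (by rw [Units.val_mk0, ← hs, div_mul_cancel₀ _ hν0])
        have hev : Even n := by
          by_contra hodd
          obtain ⟨r, hr⟩ := Nat.not_even_iff_odd.mp hodd
          have hd := congrArg Matrix.det ht1
          rw [Matrix.det_mul, Matrix.det_smul, Matrix.det_one, mul_one, Fintype.card_fin] at hd
          refine hν ⟨(((scal n (Units.mk0 s hs0)⁻¹ * g : GL (Fin n) F) : Matrix (Fin n) (Fin n) F).det) / ν ^ r, ?_⟩
          rw [div_mul_div_comm, hd, hr, pow_succ, two_mul, pow_add, mul_div_cancel_left₀]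
          exact mul_ne_zero (pow_ne_zero _ hν0) (pow_ne_zero _ hν0)
        exact ⟨.inr ⟨hev⟩, Subtype.ext (hback _ _ (isConj_of_sq_nonsquare hν ht1 (hW hev)))⟩
  rw [← Nat.card_congr (Equiv.ofBijective f hf), Nat.card_sum, Nat.card_eq_fintype_card, Fintype.card_fin]
  congr 1
  by_cases hev : Even n
  · rw [if_pos hev]
    haveI : Unique (PLift (Even n)) := ⟨⟨⟨hev⟩⟩, fun _ => rfl⟩
    exact Nat.card_unique
  · rw [if_neg hev]
    haveI : IsEmpty (PLift (Even n)) := ⟨fun h => hev h.down⟩
    exact Nat.card_of_isEmpty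

end CfsgLib.Geo.PGLInvol
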