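/-
`Sp(U) ⊗ Sp(W)` inside `Ω(U ⊗ W)`: the forms, contractions and elementary elements.
-/
import Cfsg.Agent.Geo.TensorLinearBasic
import Cfsg.Agent.Geo.OrthSiegel
import Cfsg.Agent.Forms.OfBilin

set_option autoImplicit false
set_option linter.unusedSectionVars false

namespace CfsgLib.Geo.TensorO

open QuadraticMap CfsgLib.Forms CfsgLib.Quad CfsgLib.Geo.Tensor

variable {α β : Type} [Fintype α] [DecidableEq α] [Fintype β] [DecidableEq β] {F : Type*} [Field F]

/-! ### Non-degenerate alternating forms -/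

section forms

variable {κ : Type} [Fintype κ] [DecidableEq κ] {B : LinearMap.BilinForm F (κ → F)}

/-- The covector of a vector. -/
def vec (B : LinearMap.BilinForm F (κ → F)) : (κ → F) →ₗ[F] (κ → F) where
  toFun x j := B x (Pi.single j 1)
  map_add' x y := by funext j; simp
  map_smul' c x := by funext j; simp

theorem vec_dot (B : LinearMap.BilinForm F (κ → F)) (x y : κ → F) : vec B x ⬝ᵥ y = B x y := by
  conv_rhs => rw [pi_eq_sum_univ' y]
  rw [map_sum, dotProduct]
  exact Finset.sum_congr rfl fun j _ => by rw [map_smul, smul_eq_mul, mul_comm]; rfl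

theorem alt_swap (hA : B.IsAlt) (x y : κ → F) : B y x = -B x y := (LinearMap.IsAlt.neg hA x y).symm

theorem alt_zero_swap (hA : B.IsAlt) {x y : κ → F} (h : B x y = 0) : B y x = 0 := by
  rw [alt_swap hA, h, neg_zero]

theorem eq_of_forall (hB : B.Nondegenerate) {x y : κ → F} (h : ∀ z, B x z = B y z) : x = y :=
  sub_eq_zero.1 (hB.1 _ fun z => by rw [map_sub, LinearMap.sub_apply, h, sub_self])

theorem eq_of_forall_left (hB : B.Nondegenerate) (hA : B.IsAlt) {x y : κ → F}
    (h : ∀ z, B z x = B z y) : x = y :=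
  eq_of_forall hB fun z => by rw [alt_swap hA z x, h, ← alt_swap hA z y]

theorem vec_injective (hB : B.Nondegenerate) : Function.Injective (vec B) := fun x y h =>
  eq_of_forall hB fun z => by rw [← vec_dot, h, vec_dot]

theorem exists_vec (hB : B.Nondegenerate) (φ : κ → F) : ∃ x, vec B x = φ :=
  (LinearMap.injective_iff_surjective.1 (vec_injective hB)) φ

/-- A vector with prescribed values against an independent family of size one. -/
theorem exists_left_one (hB : B.Nondegenerate) {y : κ → F} (hy : y ≠ 0) : ∃ x, B x y = 1 := by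
  obtain ⟨ξ, hξ⟩ := exists_dot_one hy
  obtain ⟨x, rfl⟩ := exists_vec hB ξ
  exact ⟨x, by rw [← vec_dot, hξ]⟩

/-- A vector pairing to one with `y` and to zero with a subspace not containing `y`. -/
theorem exists_left_sep (hB : B.Nondegenerate) (S : Submodule F (κ → F)) {y : κ → F} (hy : y ∉ S) :
    ∃ x, (∀ z ∈ S, B x z = 0) ∧ B x y = 1 := by
  obtain ⟨φ, hφ, hφy⟩ := CfsgLib.Geo.exists_covector S hy
  obtain ⟨x, rfl⟩ := exists_vec hB φ
  exact ⟨x, fun z hz => by rw [← vec_dot]; exact hφ z hz, by rw [← vec_dot, hφy]⟩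

/-- Vectors orthogonal to few vectors outside two small subspaces. -/
theorem exists_orth_avoid {m : ℕ} (us : Fin m → (κ → F)) (B : LinearMap.BilinForm F (κ → F))
    (S T : Submodule F (κ → F)) (hS : Module.finrank F S + m < Fintype.card κ)
    (hT : Module.finrank F T + m < Fintype.card κ) :
    ∃ x, (∀ i, B (us i) x = 0) ∧ x ∉ S ∧ x ∉ T := by
  set R : Submodule F (κ → F) := LinearMap.ker (LinearMap.pi fun i => B (us i)) with hR
  have hdim : Fintype.card κ ≤ Module.finrank F R + m := by
    have e1 := (LinearMap.pi fun i => B (us i)).finrank_range_add_finrank_ker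
    have e2 : Module.finrank F (LinearMap.range (LinearMap.pi fun i => B (us i))) ≤ m :=
      (Submodule.finrank_le _).trans_eq (Module.finrank_fin_fun F)
    rw [Module.finrank_fintype_fun_eq_card, ← hR] at e1
    omega
  have hmem : ∀ x ∈ R, ∀ i, B (us i) x = 0 := fun x hx i => congrFun (LinearMap.mem_ker.1 hx) i
  have hout : ∀ U : Submodule F (κ → F), Module.finrank F U + m < Fintype.card κ →
      ∃ x ∈ R, x ∉ U := fun U hU => by
    by_contra hc
    push Not at hc
    have := Submodule.finrank_mono (show R ≤ U from hc)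
    omega
  obtain ⟨a, ha, haS⟩ := hout S hS
  obtain ⟨c, hc, hcT⟩ := hout T hT
  by_cases haT : a ∈ T
  · by_cases hcS : c ∈ S
    · refine ⟨a + c, hmem _ (R.add_mem ha hc), fun h => haS ?_, fun h => hcT ?_⟩
      · simpa using S.sub_mem h hcS
      · simpa using T.sub_mem h haT
    · exact ⟨c, hmem _ hc, hcS, hcT⟩
  · exact ⟨a, hmem _ ha, haS, haT⟩

theorem finrank_span_two_le (a c : κ → F) :
    Module.finrank F (Submodule.span F ({a, c} : Set (κ → F))) ≤ 2 := by
  classical
  have h := finrank_span_le_card (R := F) ({a, c} : Set (κ → F))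
  simp only [Set.toFinset_insert, Set.toFinset_singleton] at h
  exact h.trans Finset.card_le_two

/-- A hyperbolic basis. -/
theorem exists_hyp (hB : B.Nondegenerate) (hA : B.IsAlt) :
    ∃ (m : ℕ) (p q : Fin m → (κ → F)), (∀ i j, B (p i) (q j) = if i = j then 1 else 0) ∧
      (∀ i j, B (p i) (p j) = 0) ∧ (∀ i j, B (q i) (q j) = 0) ∧
      ∀ x, ∑ i, (B (p i) x • q i - B (q i) x • p i) = x := by
  obtain ⟨m, k, bs, h1, h2, h3, h4⟩ :=
    exists_symplectic_basis _ (κ → F) B hA rfl
  set p := fun i : Fin m => bs (Sum.inl (Sum.inl i))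
  set q := fun i : Fin m => bs (Sum.inl (Sum.inr i))
  refine ⟨m, p, q, h1, h2, h3, fun x => ?_⟩
  have hk : ∀ j : Fin k, False := fun j => bs.ne_zero (Sum.inr j) (hB.1 _ (h4 j))
  let L : (κ → F) →ₗ[F] (κ → F) := ∑ i, ((B (p i)).smulRight (q i) - (B (q i)).smulRight (p i))
  have hL : L = LinearMap.id := bs.ext fun j => by
    rcases j with (j | j) | j
    · simp only [L, LinearMap.sum_apply, LinearMap.sub_apply, LinearMap.smulRight_apply,
        LinearMap.id_apply]
      have e : ∀ i, B (p i) (p j) = 0 ∧ B (q i) (p j) = if i = j then -1 else 0 := fun i => by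
        refine ⟨h2 i j, ?_⟩
        rw [alt_swap hA (p j) (q i)]
        rcases eq_or_ne i j with rfl | h
        · simp [p, q, h1]
        · simp [p, q, h1, h, h.symm]
      show ∑ i, (B (p i) (p j) • q i - B (q i) (p j) • p i) = p j
      simp [e, ite_smul]
    · show L (q j) = q j
      simp only [L, LinearMap.sum_apply, LinearMap.sub_apply, LinearMap.smulRight_apply]
      have e : ∀ i, B (p i) (q j) = (if i = j then 1 else 0) ∧ B (q i) (q j) = 0 :=
        fun i => ⟨h1 i j, h3 i j⟩
      simp [e, ite_smul]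
    · exact (hk j).elim
  have := LinearMap.congr_fun hL x
  simpa [L] using this

end forms

/-! ### The tensor space -/

/-- Contraction of the second factor against `w`. -/
def cW (om : LinearMap.BilinForm F (β → F)) (w : β → F) : (α × β → F) →ₗ[F] (α → F) := cL (vec om w)

variable {b : LinearMap.BilinForm F (α → F)} {om : LinearMap.BilinForm F (β → F)}
  {Q : QuadraticForm F (α × β → F)}

theorem cW_ten (om : LinearMap.BilinForm F (β → F)) (w : β → F) (u : α → F) (v : β → F) :
    cW om w (ten u v) = om w v • u := by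
  rw [cW, cL_ten, vec_dot]

theorem cW_add (om : LinearMap.BilinForm F (β → F)) (w w' : β → F) (x : α × β → F) :
    cW om (w + w') x = cW om w x + cW om w' x := by
  simp only [cW, map_add, cL_add]

theorem cW_smul (om : LinearMap.BilinForm F (β → F)) (c : F) (w : β → F) (x : α × β → F) :
    cW om (c • w) x = c • cW om w x := by
  simp only [cW, map_smul, cL_smul]

theorem cW_ten_zero {w v : β → F} (h : om w v = 0) (u : α → F) : cW om w (ten u v) = 0 := by
  rw [cW_ten, h, zero_smul]

omit [Fintype α] [DecidableEq α] [Fintype β] [DecidableEq β] in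
theorem ten_zero_left (w : β → F) : ten (0 : α → F) w = 0 := (tenR w).map_zero

omit [Fintype α] [DecidableEq α] [Fintype β] [DecidableEq β] in
theorem ten_zero_right (u : α → F) : ten u (0 : β → F) = 0 := (tenL u).map_zero

omit [Fintype α] [DecidableEq α] [Fintype β] [DecidableEq β] in
theorem ten_neg_left (u : α → F) (w : β → F) : ten (-u) w = -ten u w := (tenR w).map_neg u

omit [Fintype α] [DecidableEq α] [Fintype β] [DecidableEq β] in
theorem ten_sub_left (u u' : α → F) (w : β → F) : ten (u - u') w = ten u w - ten u' w :=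
  (tenR w).map_sub u u'

omit [Fintype α] [DecidableEq α] [Fintype β] [DecidableEq β] in
theorem ten_sub_right (u : α → F) (w w' : β → F) : ten u (w - w') = ten u w - ten u w' :=
  (tenL u).map_sub w w'

/-- The hypotheses on the forms. -/
structure IsTQ (Q : QuadraticForm F (α × β → F)) (b : LinearMap.BilinForm F (α → F))
    (om : LinearMap.BilinForm F (β → F)) : Prop where
  bnd : b.Nondegenerate
  balt : b.IsAlt
  ond : om.Nondegenerate
  oalt : om.IsAlt
  pol : ∀ u v u' v', polar Q (ten u v) (ten u' v') = b u u' * om v v'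
  sing : ∀ u v, Q (ten u v) = 0

variable (hT : IsTQ Q b om)
include hT

theorem IsTQ.polar_ten (u : α → F) (w : β → F) (x : α × β → F) :
    polar Q (ten u w) x = b u (cW om w x) := by
  have := map_ext (S := polarBilin Q (ten u w)) (T := (b u) ∘ₗ cW om w) fun u' v => by
    show polar Q (ten u w) (ten u' v) = _
    rw [hT.pol, LinearMap.comp_apply, cW_ten, map_smul, smul_eq_mul, mul_comm]
  exact LinearMap.congr_fun this x

theorem IsTQ.nondeg : (polarBilin Q).Nondegenerate := by
  have key : ∀ x : α × β → F, (∀ y, polar Q y x = 0) → x = 0 := by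
    intro x hx
    funext ⟨a, j⟩
    obtain ⟨w, hw⟩ := exists_vec hT.ond (Pi.single j 1)
    have h0 : cW om w x = 0 := eq_of_forall_left hT.bnd hT.balt fun z => by
      rw [← hT.polar_ten, hx, map_zero]
    have := congrFun h0 a
    simpa [cW, hw, cL_apply, Pi.single_apply] using this
  exact ⟨fun x hx => key x fun y => by rw [polar_comm]; exact hx y, fun x hx => key x fun y => hx y⟩

theorem IsTQ.five (ha : 2 ≤ Fintype.card α) (hb : 6 ≤ Fintype.card β) :
    5 ≤ Module.finrank F (α × β → F) := by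
  rw [Module.finrank_fintype_fun_eq_card, Fintype.card_prod]
  nlinarith

/-! ### The stabiliser of the decomposition -/

omit hT in
/-- The isometries preserving the decomposition. -/
def tenStab (Q : QuadraticForm F (α × β → F)) : Subgroup (oGroup Q) where
  carrier := {g | ∃ (a : (α → F) ≃ₗ[F] (α → F)) (c : (β → F) ≃ₗ[F] (β → F)),
    ∀ u v, g.1 (ten u v) = ten (a u) (c v)}
  one_mem' := ⟨LinearEquiv.refl F _, LinearEquiv.refl F _, fun _ _ => rfl⟩
  mul_mem' := fun {g h} ⟨a, c, hg⟩ ⟨a', c', hh⟩ => ⟨a'.trans a, c'.trans c, fun u v => by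
    show g.1 (h.1 (ten u v)) = _
    rw [hh, hg]; rfl⟩
  inv_mem' := fun {g} ⟨a, c, hg⟩ => ⟨a.symm, c.symm, fun u v => by
    show g.1.symm (ten u v) = _
    rw [LinearEquiv.symm_apply_eq, hg, LinearEquiv.apply_symm_apply, LinearEquiv.apply_symm_apply]⟩

omit hT in
/-- The isometries preserving the decomposition and both factor forms. -/
def tenSp (Q : QuadraticForm F (α × β → F)) (b : LinearMap.BilinForm F (α → F))
    (om : LinearMap.BilinForm F (β → F)) : Subgroup (oGroup Q) where
  carrier := {g | ∃ (a : (α → F) ≃ₗ[F] (α → F)) (c : (β → F) ≃ₗ[F] (β → F)),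
    (∀ u u', b (a u) (a u') = b u u') ∧ (∀ v v', om (c v) (c v') = om v v') ∧
      ∀ u v, g.1 (ten u v) = ten (a u) (c v)}
  one_mem' := ⟨LinearEquiv.refl F _, LinearEquiv.refl F _, fun _ _ => rfl, fun _ _ => rfl, fun _ _ => rfl⟩
  mul_mem' := fun {g h} ⟨a, c, ha, hc, hg⟩ ⟨a', c', ha', hc', hh⟩ => ⟨a'.trans a, c'.trans c,
    fun u u' => (ha _ _).trans (ha' u u'), fun v v' => (hc _ _).trans (hc' v v'), fun u v => by
    show g.1 (h.1 (ten u v)) = _
    rw [hh, hg]; rfl⟩
  inv_mem' := fun {g} ⟨a, c, ha, hc, hg⟩ => ⟨a.symm, c.symm,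
    fun u u' => by rw [← ha, a.apply_symm_apply, a.apply_symm_apply],
    fun v v' => by rw [← hc, c.apply_symm_apply, c.apply_symm_apply], fun u v => by
    show g.1.symm (ten u v) = _
    rw [LinearEquiv.symm_apply_eq, hg, LinearEquiv.apply_symm_apply, LinearEquiv.apply_symm_apply]⟩

omit hT in
theorem tenSp_le (Q : QuadraticForm F (α × β → F)) (b : LinearMap.BilinForm F (α → F))
    (om : LinearMap.BilinForm F (β → F)) : tenSp Q b om ≤ tenStab Q :=
  fun _ ⟨a, c, _, _, h⟩ => ⟨a, c, h⟩

omit hT in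
/-- A map with the inverse obtained by negation. -/
theorem exists_equiv {κ : Type} (f : (κ → F) →ₗ[F] (κ → F)) (hf : ∀ x, f (f x) = 0) :
    ∃ g : (κ → F) ≃ₗ[F] (κ → F), ∀ x, g x = x + f x :=
  ⟨LinearEquiv.ofLinearMap (LinearMap.id + f) (LinearMap.id - f)
    (LinearMap.ext fun x => by simp [hf])
    (LinearMap.ext fun x => by simp [hf]), fun _ => rfl⟩

variable [Finite F] (ha : 2 ≤ Fintype.card α) (hb : 6 ≤ Fintype.card β)
include ha hb

/-- `1 ⊗ t` lies in `Ω` and in the stabiliser. -/
theorem IsTQ.exists_T1 (z : β → F) (c : F) : ∃ g : oGroup Q, g ∈ tenSp Q b om ⊓ commutator (oGroup Q) ∧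
    ∀ x, g.1 x = x + c • ten (cW om z x) z := by
  obtain ⟨m, p, q, -, hpp, hqq, hid⟩ := exists_hyp hT.bnd hT.balt
  have key : ∀ S : Finset (Fin m), ∃ g : oGroup Q, g ∈ commutator (oGroup Q) ∧ ∀ x,
      g.1 x = x + c • ∑ i ∈ S, ten (b (p i) (cW om z x) • q i - b (q i) (cW om z x) • p i) z := by
    intro S
    induction S using Finset.induction with
    | empty => exact ⟨1, one_mem _, fun x => by simp⟩
    | @insert i S hi ih =>
      obtain ⟨g, hg, hgx⟩ := ih
      have he : Q (ten (p i) z) = 0 := hT.sing _ _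
      have hea : polar Q (ten (p i) z) (c • ten (q i) z) = 0 := by
        rw [polar_smul_right, hT.pol, hT.oalt z, mul_zero, smul_zero]
      refine ⟨siegel Q (ten (p i) z) (c • ten (q i) z) * g, mul_mem
        (siegel_mem_commutator hT.nondeg (hT.five ha hb) he hea) hg, fun x => ?_⟩
      show (siegel Q _ _).1 (g.1 x) = _
      have h0 : ∀ u, cW om z (ten u z) = (0 : α → F) := fun u => cW_ten_zero (hT.oalt z) u
      rw [hgx, siegel_apply he hea, polar_comm (⇑Q) _ (ten (p i) z), polar_smul_right,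
        polar_comm (⇑Q) _ (ten (q i) z), quad_smul, hT.sing, mul_zero, zero_mul, add_zero,
        hT.polar_ten, hT.polar_ten, map_add, map_smul, map_sum]
      simp only [map_sub, map_smul, h0, sub_self, Finset.sum_const_zero, smul_zero, add_zero, Finset.sum_insert hi, smul_eq_mul,
        ten_sub_left, ten_smul_left, smul_add, smul_sub, smul_smul]
      module
  obtain ⟨g, hg, hgx⟩ := key Finset.univ
  have hgx' : ∀ x, g.1 x = x + c • ten (cW om z x) z := fun x => by
    rw [hgx]
    congr 2
    exact (map_sum (tenR z) _ _).symm.trans (congrArg (fun u => ten u z) (hid (cW om z x)))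
  obtain ⟨t, ht⟩ := exists_equiv ((om z).smulRight (c • z)) fun x => by simp [hT.oalt z]
  refine ⟨g, ⟨⟨LinearEquiv.refl F _, t, fun _ _ => rfl, fun v v' => ?_, fun u v => ?_⟩, hg⟩, hgx'⟩
  · rw [ht, ht]
    simp only [LinearMap.smulRight_apply, map_add, map_smul, LinearMap.add_apply, LinearMap.smul_apply, smul_eq_mul,
      hT.oalt z, alt_swap hT.oalt z v]
    ring
  rw [hgx', cW_ten, ht, LinearMap.smulRight_apply, ten_add_right, ten_smul_left, ten_smul_right,
    ten_smul_right, smul_smul, smul_smul, mul_comm]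
  rfl

/-- `t ⊗ 1` lies in `Ω` and in the stabiliser. -/
theorem IsTQ.exists_T2 (s : α → F) (c : F) : ∃ g : oGroup Q, g ∈ tenSp Q b om ⊓ commutator (oGroup Q) ∧
    ∀ u v, g.1 (ten u v) = ten (u + (c * b s u) • s) v := by
  obtain ⟨m, p, q, -, hpp, hqq, hid⟩ := exists_hyp hT.ond hT.oalt
  have key : ∀ S : Finset (Fin m), ∃ g : oGroup Q, g ∈ commutator (oGroup Q) ∧ ∀ u v,
      g.1 (ten u v) = ten u v
        + (c * b s u) • ∑ i ∈ S, ten s (om (p i) v • q i - om (q i) v • p i) := by
    intro S
    induction S using Finset.induction with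
    | empty => exact ⟨1, one_mem _, fun u v => by simp⟩
    | @insert i S hi ih =>
      obtain ⟨g, hg, hgx⟩ := ih
      have he : Q (ten s (p i)) = 0 := hT.sing _ _
      have hea : polar Q (ten s (p i)) (c • ten s (q i)) = 0 := by
        rw [polar_smul_right, hT.pol, hT.balt s, zero_mul, smul_zero]
      refine ⟨siegel Q (ten s (p i)) (c • ten s (q i)) * g, mul_mem
        (siegel_mem_commutator hT.nondeg (hT.five ha hb) he hea) hg, fun u v => ?_⟩
      show (siegel Q _ _).1 (g.1 (ten u v)) = _
      have h0 : ∀ w w', cW om w (ten s w') = om w w' • s := fun w w' => cW_ten om w s w'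
      rw [hgx, siegel_apply he hea, polar_comm (⇑Q) _ (ten s (p i)), polar_smul_right,
        polar_comm (⇑Q) _ (ten s (q i)), quad_smul, hT.sing, mul_zero, zero_mul, add_zero,
        hT.polar_ten, hT.polar_ten, map_add, map_smul, map_sum]
      simp only [h0, map_add, map_sub, map_smul, map_sum, hT.balt s, smul_eq_mul, mul_zero, sub_self,
        Finset.sum_const_zero, add_zero, cW_ten, smul_zero, Finset.sum_insert hi, ten_sub_right,
        ten_smul_right, smul_add, smul_sub, smul_smul]
      module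
  obtain ⟨g, hg, hgx⟩ := key Finset.univ
  have hgx' : ∀ u v, g.1 (ten u v) = ten (u + (c * b s u) • s) v := fun u v => by
    rw [hgx, ten_add_left, ten_smul_left]
    congr 2
    exact (map_sum (tenL s) _ _).symm.trans (congrArg (fun w => ten s w) (hid v))
  obtain ⟨t, ht⟩ := exists_equiv ((b s).smulRight (c • s)) fun x => by simp [hT.balt s]
  refine ⟨g, ⟨⟨t, LinearEquiv.refl F _, fun u u' => ?_, fun _ _ => rfl, fun u v => ?_⟩, hg⟩, hgx'⟩
  · rw [ht, ht]
    simp only [LinearMap.smulRight_apply, map_add, map_smul, LinearMap.add_apply, LinearMap.smul_apply, smul_eq_mul,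
      hT.balt s, alt_swap hT.balt s u]
    ring
  rw [hgx', ht, LinearMap.smulRight_apply, smul_smul, mul_comm]
  rfl

/-- The Eichler element `1 ⊗ E(w, v)`. -/
theorem IsTQ.exists_E {w v : β → F} (h : om w v = 0) (c : F) :
    ∃ g : oGroup Q, g ∈ tenSp Q b om ⊓ commutator (oGroup Q) ∧
      ∀ x, g.1 x = x + ten (c • cW om v x) w + ten (c • cW om w x) v := by
  obtain ⟨g₁, h₁, e₁⟩ := hT.exists_T1 ha hb (w + v) c
  obtain ⟨g₂, h₂, e₂⟩ := hT.exists_T1 ha hb w (-c)
  obtain ⟨g₃, h₃, e₃⟩ := hT.exists_T1 ha hb v (-c)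
  refine ⟨g₁ * g₂ * g₃, mul_mem (mul_mem h₁ h₂) h₃, fun x => ?_⟩
  show g₁.1 (g₂.1 (g₃.1 x)) = _
  have hww := hT.oalt w
  have hvv := hT.oalt v
  have hvw : om v w = 0 := alt_zero_swap hT.oalt h
  simp only [e₁, e₂, e₃, cW_add, map_add, LinearMap.add_apply, map_smul, cW_ten, ten_add_left, ten_add_right,
    ten_smul_left, hww, hvv, h, hvw, zero_smul, smul_zero, add_zero, ten_zero_left]
  module

end CfsgLib.Geo.TensorO
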