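/-
Overgroups of `Sp(U) ⊗ Sp(W)` in `Ω(U ⊗ W)`: the endomorphisms `N` of `U` for which the elements
`1 + (N ⊗ ·) + (N* ⊗ ·)` supported on a totally isotropic plane of `W` lie in the overgroup form a ring,
stable under `Sp(U)`.  One non-scalar member gives everything.
-/
import Cfsg.Agent.Geo.TensorOrthBasic
import Cfsg.Agent.Geo.TensorLinearRoots

set_option autoImplicit false
set_option linter.unusedSectionVars false
set_option linter.unusedSimpArgs false

namespace CfsgLib.Geo.TensorO

open QuadraticMap CfsgLib.Forms CfsgLib.Quad CfsgLib.Geo.Tensor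

variable {α β : Type} [Fintype α] [DecidableEq α] [Fintype β] [DecidableEq β] {F : Type*} [Field F]
  {b : LinearMap.BilinForm F (α → F)} {om : LinearMap.BilinForm F (β → F)}
  {Q : QuadraticForm F (α × β → F)}

/-- Adjoint pairs. -/
def Adj (b : LinearMap.BilinForm F (α → F)) (N N' : (α → F) →ₗ[F] (α → F)) : Prop :=
  ∀ u u', b (N u) u' = b u (N' u')

/-- `M` contains the element attached to `N` and the pair `w`, `v`. -/
def HasPhi (M : Subgroup (oGroup Q)) (om : LinearMap.BilinForm F (β → F))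
    (N N' : (α → F) →ₗ[F] (α → F)) (w v : β → F) : Prop :=
  ∃ g ∈ M, ∀ x, g.1 x = x + ten (N (cW om v x)) w + ten (N' (cW om w x)) v

/-- `M` contains the elements attached to `N` for all orthogonal pairs. -/
def InR (M : Subgroup (oGroup Q)) (b : LinearMap.BilinForm F (α → F))
    (om : LinearMap.BilinForm F (β → F)) (N : (α → F) →ₗ[F] (α → F)) : Prop :=
  ∃ N', Adj b N N' ∧ ∀ w v, om w v = 0 → HasPhi M om N N' w v

/-- Rank one maps. -/
def rk (b : LinearMap.BilinForm F (α → F)) (p q : α → F) : (α → F) →ₗ[F] (α → F) := (b q).smulRight p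

theorem rk_apply (p q z : α → F) : rk b p q z = b q z • p := rfl

theorem HasPhi.swap {M : Subgroup (oGroup Q)} {N N' : (α → F) →ₗ[F] (α → F)} {w v : β → F}
    (h : HasPhi M om N N' w v) : HasPhi M om N' N v w := by
  obtain ⟨g, hg, hx⟩ := h
  exact ⟨g, hg, fun x => by rw [hx, add_right_comm]⟩

theorem oGroup_inv_apply (g : oGroup Q) {x y : α × β → F} (h : g.1 y = x) : (g⁻¹).1 x = y := by
  rw [← h]; exact g.1.symm_apply_apply y

theorem apply_inv (g : oGroup Q) (x : α × β → F) : g.1 ((g⁻¹).1 x) = x := g.1.apply_symm_apply x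

theorem inv_apply (g : oGroup Q) (x : α × β → F) : (g⁻¹).1 (g.1 x) = x := g.1.symm_apply_apply x

variable (hT : IsTQ Q b om) [Finite F] (ha : 2 ≤ Fintype.card α) (hb : 6 ≤ Fintype.card β)
  {M : Subgroup (oGroup Q)} (hM : tenSp Q b om ⊓ commutator (oGroup Q) ≤ M)

include hT in
/-- The commutator of two elements attached to pairs with one non-orthogonality. -/
theorem comm_phi {N N' P K K' : (α → F) →ₗ[F] (α → F)} {w v w₃ v₃ : β → F} {g h : oGroup Q}
    (hgM : g ∈ M) (hhM : h ∈ M)
    (hg : ∀ x, g.1 x = x + ten (N (cW om v x) + P (cW om w x)) w + ten (N' (cW om w x)) v)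
    (hh : ∀ x, h.1 x = x + ten (K (cW om v₃ x)) w₃ + ten (K' (cW om w₃ x)) v₃)
    (hwv : om w v = 0) (h33 : om w₃ v₃ = 0) (hw3 : om w w₃ = 0) (hv3 : om v w₃ = 0)
    (hwv3 : om w v₃ = 0) (hvv3 : om v v₃ = 1) : HasPhi M om (N ∘ₗ K') (K ∘ₗ N') w w₃ := by
  have hww := hT.oalt w
  have hvv := hT.oalt v
  have h3 := hT.oalt w₃
  have h3' := hT.oalt v₃
  have e1 : om v w = 0 := alt_zero_swap hT.oalt hwv
  have e2 : om v₃ w₃ = 0 := alt_zero_swap hT.oalt h33
  have e3 : om w₃ w = 0 := alt_zero_swap hT.oalt hw3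
  have e4 : om w₃ v = 0 := alt_zero_swap hT.oalt hv3
  have e5 : om v₃ w = 0 := alt_zero_swap hT.oalt hwv3
  have e6 : om v₃ v = -1 := by rw [alt_swap hT.oalt, hvv3]
  have hgi : ∀ x, (g⁻¹).1 x = x - ten (N (cW om v x) + P (cW om w x)) w - ten (N' (cW om w x)) v :=
    fun x => oGroup_inv_apply g (by
      rw [hg]
      simp only [map_sub, cW_ten, hww, hvv, hwv, e1, zero_smul, sub_zero, map_zero]
      abel)
  have hhi : ∀ x, (h⁻¹).1 x = x - ten (K (cW om v₃ x)) w₃ - ten (K' (cW om w₃ x)) v₃ :=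
    fun x => oGroup_inv_apply h (by
      rw [hh]
      simp only [map_sub, cW_ten, h3, h3', h33, e2, zero_smul, sub_zero, map_zero]
      abel)
  refine ⟨g * h * g⁻¹ * h⁻¹, M.mul_mem (M.mul_mem (M.mul_mem hgM hhM) (M.inv_mem hgM))
    (M.inv_mem hhM), fun x => ?_⟩
  show g.1 (h.1 ((g⁻¹).1 ((h⁻¹).1 x))) = _
  simp only [hg, hh, hgi, hhi, map_add, map_sub, cW_ten, hww, hvv, h3, h3', hwv, h33, hw3, hv3, hwv3,
    hvv3, e1, e2, e3, e4, e5, e6, zero_smul, smul_zero, sub_zero, add_zero, zero_add, map_zero,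
    map_neg, one_smul, neg_smul, LinearMap.comp_apply, ten_add_left, ten_sub_left, ten_neg_left,
    ten_zero_left]
  abel

include hT ha hb hM

theorem hasPhi_scalar {w v : β → F} (h : om w v = 0) (c : F) :
    HasPhi M om (c • LinearMap.id) (c • LinearMap.id) w v := by
  obtain ⟨g, hg, hx⟩ := hT.exists_E ha hb h c
  exact ⟨g, hM hg, fun x => by rw [hx]; rfl⟩

theorem hasPhi_step {N N' : (α → F) →ₗ[F] (α → F)} {w v v' : β → F} (h : HasPhi M om N N' w v)
    (hwv : om w v = 0) (hwv' : om w v' = 0) (hvv' : om v v' = 0)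
    (hsep : v ∉ Submodule.span F ({w, v'} : Set (β → F))) : HasPhi M om N N' w v' := by
  obtain ⟨y, hy, hyv⟩ := exists_left_sep hT.ond _ hsep
  obtain ⟨g, hg, hgx⟩ := h
  have h0 : ∀ z ∈ ({w, v'} : Set (β → F)), om z (-y) = 0 := fun z hz => by
    rw [map_neg, alt_zero_swap hT.oalt (hy z (Submodule.subset_span hz)), neg_zero]
  have h1 : om v (-y) = 1 := by rw [map_neg, ← alt_swap hT.oalt, hyv]
  obtain ⟨e, he, hex⟩ := hasPhi_scalar hT ha hb hM (h0 v' (by simp)) (1 : F)
  have := comm_phi hT (N := N) (N' := N') (P := 0) hg he (fun x => by rw [hgx]; simp) hex hwv (h0 v' (by simp)) hwv' hvv'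
    (h0 w (by simp)) h1
  simpa using this

theorem hasPhi_second {N N' : (α → F) →ₗ[F] (α → F)} {w v v' : β → F} (h : HasPhi M om N N' w v)
    (hwv : om w v = 0) (hind : v ∉ F ∙ w) (hwv' : om w v' = 0) : HasPhi M om N N' w v' := by
  obtain ⟨z, hz, hz1, hz2⟩ := exists_orth_avoid ![w, v, v'] om
    (Submodule.span F ({w, v} : Set (β → F))) (Submodule.span F ({w, v'} : Set (β → F)))
    (by have := finrank_span_two_le (F := F) w v; omega)
    (by have := finrank_span_two_le (F := F) w v'; omega)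
  have hsep : v ∉ Submodule.span F ({w, z} : Set (β → F)) := by
    intro hv
    obtain ⟨a, c, hac⟩ := Submodule.mem_span_pair.1 hv
    rcases eq_or_ne c 0 with rfl | hc
    · exact hind (Submodule.mem_span_singleton.2 ⟨a, by simpa using hac⟩)
    · refine hz1 ((Submodule.smul_mem_iff _ hc).1 (Submodule.mem_span_pair.2 ⟨-a, 1, ?_⟩))
      rw [← hac]; module
  exact hasPhi_step hT ha hb hM (hasPhi_step hT ha hb hM h hwv (hz 0) (hz 1) hsep) (hz 0) hwv'
    (alt_zero_swap hT.oalt (hz 2)) hz2

theorem hasPhi_all {N N' : (α → F) →ₗ[F] (α → F)} {w v : β → F} (h : HasPhi M om N N' w v)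
    (hwv : om w v = 0) (hw : w ≠ 0) (hind : v ∉ F ∙ w) {w' v' : β → F} (hwv' : om w' v' = 0) :
    HasPhi M om N N' w' v' := by
  obtain ⟨z, hz, hz1, hz2⟩ := exists_orth_avoid ![w, w'] om (F ∙ w) (F ∙ w')
    (by have := finrank_span_le_card (R := F) ({w} : Set (β → F)); simp at this; omega)
    (by have := finrank_span_le_card (R := F) ({w'} : Set (β → F)); simp at this; omega)
  have h1 := (hasPhi_second hT ha hb hM h hwv hind (hz 0)).swap
  have hzw : w ∉ F ∙ z := fun hm => by
    obtain ⟨c, hc⟩ := Submodule.mem_span_singleton.1 hm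
    have hc0 : c ≠ 0 := fun e => hw (by rw [← hc, e, zero_smul])
    exact hz1 (Submodule.mem_span_singleton.2 ⟨c⁻¹, by rw [← hc, smul_smul, inv_mul_cancel₀ hc0, one_smul]⟩)
  have h2 := (hasPhi_second hT ha hb hM h1 (alt_zero_swap hT.oalt (hz 0)) hzw
    (alt_zero_swap hT.oalt (hz 1))).swap
  exact hasPhi_second hT ha hb hM h2 (hz 1) hz2 hwv'

/-- One element with the pair shape puts `N` in the ring, after composition. -/
theorem inR_comp {N N' P K K' : (α → F) →ₗ[F] (α → F)} {w v : β → F} {g : oGroup Q}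
    (hg : g ∈ M)
    (hgx : ∀ x, g.1 x = x + ten (N (cW om v x) + P (cW om w x)) w + ten (N' (cW om w x)) v)
    (hwv : om w v = 0) (hw : w ≠ 0) (hind : v ∉ F ∙ w) (hN : Adj b N N') (hK : Adj b K K')
    (hKm : ∀ w v, om w v = 0 → HasPhi M om K K' w v) : InR M b om (N ∘ₗ K') := by
  have hswap : ∀ u u', b (K' u) u' = b u (K u') := fun u u' => by
    rw [alt_swap hT.balt u' (K' u), ← hK, ← alt_swap hT.balt (K u') u]
  refine ⟨K ∘ₗ N', fun u u' => ?_, fun w' v' h' => ?_⟩
  · rw [LinearMap.comp_apply, LinearMap.comp_apply, hN, hswap]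
  obtain ⟨z, hz, hz1, -⟩ := exists_orth_avoid ![w, v] om (Submodule.span F ({w, v} : Set (β → F))) ⊥
    (by have := finrank_span_two_le (F := F) w v; omega) (by simp; omega)
  have hsep : v ∉ Submodule.span F ({w, z} : Set (β → F)) := by
    intro hv
    obtain ⟨a, c, hac⟩ := Submodule.mem_span_pair.1 hv
    rcases eq_or_ne c 0 with rfl | hc
    · exact hind (Submodule.mem_span_singleton.2 ⟨a, by simpa using hac⟩)
    · refine hz1 ((Submodule.smul_mem_iff _ hc).1 (Submodule.mem_span_pair.2 ⟨-a, 1, ?_⟩))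
      rw [← hac]; module
  obtain ⟨y, hy, hyv⟩ := exists_left_sep hT.ond _ hsep
  have h0 : ∀ u ∈ ({w, z} : Set (β → F)), om u (-y) = 0 := fun u hu => by
    rw [map_neg, alt_zero_swap hT.oalt (hy u (Submodule.subset_span hu)), neg_zero]
  have h1 : om v (-y) = 1 := by rw [map_neg, ← alt_swap hT.oalt, hyv]
  obtain ⟨e, he, hex⟩ := hKm z (-y) (h0 z (by simp))
  refine hasPhi_all hT ha hb hM (comm_phi hT hg he hgx hex hwv (h0 z (by simp)) (hz 0) (hz 1)
    (h0 w (by simp)) h1) (hz 0) hw (fun hm => hz1 ?_) h'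
  exact Submodule.span_mono (by simp) hm

theorem inR_scalar (c : F) : InR M b om (c • LinearMap.id) :=
  ⟨c • LinearMap.id, fun u u' => by simp, fun _ _ h => hasPhi_scalar hT ha hb hM h c⟩

theorem inR_add {N K : (α → F) →ₗ[F] (α → F)} (h : InR M b om N) (h' : InR M b om K) :
    InR M b om (N + K) := by
  obtain ⟨N', hN, hNm⟩ := h
  obtain ⟨K', hK, hKm⟩ := h'
  refine ⟨N' + K', fun u u' => by simp [hN u u', hK u u'], fun w v hwv => ?_⟩
  obtain ⟨g, hg, hgx⟩ := hNm w v hwv
  obtain ⟨e, he, hex⟩ := hKm w v hwv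
  refine ⟨g * e, M.mul_mem hg he, fun x => ?_⟩
  show g.1 (e.1 x) = _
  have e1 : om v w = 0 := alt_zero_swap hT.oalt hwv
  simp only [hgx, hex, map_add, cW_ten, hwv, e1, hT.oalt w, hT.oalt v, zero_smul, map_zero, add_zero,
    LinearMap.add_apply, ten_add_left]
  abel

theorem inR_mul {N K : (α → F) →ₗ[F] (α → F)} (h : InR M b om N) (h' : InR M b om K) :
    InR M b om (N ∘ₗ K) := by
  obtain ⟨N', hN, hNm⟩ := h
  obtain ⟨K', hK, hKm⟩ := h'
  obtain ⟨j⟩ : Nonempty β := Fintype.card_pos_iff.1 (by omega)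
  set w : β → F := Pi.single j 1 with hw
  obtain ⟨v, hv, hind, -⟩ := exists_orth_avoid ![w] om (F ∙ w) ⊥
    (by have := finrank_span_le_card (R := F) ({w} : Set (β → F)); simp at this; omega) (by simp; omega)
  obtain ⟨g, hg, hgx⟩ := hNm w v (hv 0)
  refine inR_comp hT ha hb hM (P := 0) (K := K') hg (fun x => by rw [hgx]; simp) (hv 0) (by simp [hw])
    hind hN (fun u u' => ?_) fun w' v' h' => (hKm v' w' (alt_zero_swap hT.oalt h')).swap
  rw [alt_swap hT.balt u' (K' u), ← hK, ← alt_swap hT.balt (K u') u]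

theorem inR_smul {N : (α → F) →ₗ[F] (α → F)} (h : InR M b om N) (c : F) : InR M b om (c • N) := by
  have := inR_mul hT ha hb hM (inR_scalar hT ha hb hM c) h
  rwa [LinearMap.smul_comp, LinearMap.id_comp] at this

/-- Stability under transvections of the first factor. -/
theorem inR_diff {N : (α → F) →ₗ[F] (α → F)} (h : InR M b om N) (s : α → F) (c : F) :
    ∃ D, InR M b om D ∧ ∀ z, D z
      = (c * b s (N z)) • s - (c * b s z) • N s - (c * c * b s z * b s (N s)) • s := by
  obtain ⟨N', hN, hNm⟩ := h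
  obtain ⟨t, ht, htx⟩ := hT.exists_T2 ha hb s c
  let τ : (α → F) →ₗ[F] (α → F) := LinearMap.id + (b s).smulRight (c • s)
  let τ' : (α → F) →ₗ[F] (α → F) := LinearMap.id - (b s).smulRight (c • s)
  have hτ : ∀ u, τ u = u + (c * b s u) • s := fun u => by simp [τ, smul_smul, mul_comm]
  have hτ' : ∀ u, τ' u = u - (c * b s u) • s := fun u => by simp [τ', smul_smul, mul_comm]
  have hττ : ∀ u u', b (τ u) u' = b u (τ' u') := fun u u' => by
    simp [hτ, hτ', alt_swap hT.balt s u, mul_comm, mul_left_comm]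
    try ring
  have hττ' : ∀ u u', b (τ' u) u' = b u (τ u') := fun u u' => by
    simp [hτ, hτ', alt_swap hT.balt s u, mul_comm, mul_left_comm]
    try ring
  have htinv : ∀ u v, (t⁻¹).1 (ten u v) = ten (τ' u) v := fun u v => oGroup_inv_apply t (by
    rw [htx, hτ']
    simp [hT.balt s, smul_smul])
  have hcW : ∀ w x, cW om w ((t⁻¹).1 x) = τ' (cW om w x) := fun w x =>
    LinearMap.congr_fun (map_ext (S := (cW om w) ∘ₗ ((t⁻¹).1 : (α × β → F) →ₗ[F] (α × β → F)))
      (T := τ' ∘ₗ cW om w) fun u v => by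
        show cW om w ((t⁻¹).1 (ten u v)) = τ' (cW om w (ten u v))
        rw [htinv, cW_ten, cW_ten, map_smul]) x
  have hconj : InR M b om (τ ∘ₗ N ∘ₗ τ') := by
    refine ⟨τ ∘ₗ N' ∘ₗ τ', fun u u' => ?_, fun w v hwv => ?_⟩
    · rw [LinearMap.comp_apply, LinearMap.comp_apply, LinearMap.comp_apply, LinearMap.comp_apply,
        hττ, hN, hττ']
    · obtain ⟨g, hg, hgx⟩ := hNm w v hwv
      refine ⟨t * g * t⁻¹, M.mul_mem (M.mul_mem (hM ht) hg) (M.inv_mem (hM ht)), fun x => ?_⟩
      show t.1 (g.1 ((t⁻¹).1 x)) = _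
      rw [hgx, map_add, map_add, apply_inv, hcW, hcW, htx, htx, ← hτ, ← hτ]
      rfl
  refine ⟨_, inR_add hT ha hb hM hconj (inR_smul hT ha hb hM ⟨N', hN, hNm⟩ (-1)), fun z => ?_⟩
  simp only [LinearMap.add_apply, LinearMap.comp_apply, LinearMap.smul_apply, hτ, hτ', map_sub,
    map_smul, smul_eq_mul]
  module

/-- From one rank one map of transvection type, all rank one maps. -/
theorem inR_rk_all {σ : α → F} (hσ : σ ≠ 0) (h : InR M b om (rk b σ σ)) (p q : α → F) :
    InR M b om (rk b p q) := by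
  obtain ⟨r₀, hr₀⟩ : ∃ r, b σ r ≠ 0 := by
    by_contra hc
    push Not at hc
    exact hσ (hT.bnd.1 σ hc)
  -- transvections with centres not orthogonal to `σ`
  have hTr : ∀ r, b σ r ≠ 0 → InR M b om (rk b r r) := by
    intro r hr
    obtain ⟨D, hD, hDz⟩ := inR_diff hT ha hb hM h (r - σ) (-(b σ r)⁻¹)
    have h2 := inR_add hT ha hb hM hD h
    have : D + rk b σ σ = rk b r r := by
      refine LinearMap.ext fun z => ?_
      have e0 := hT.balt σ
      have e1 : b r σ = -b σ r := alt_swap hT.balt σ r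
      simp only [LinearMap.add_apply, hDz, rk_apply, map_sub, LinearMap.sub_apply, map_smul, e0, e1,
        smul_eq_mul, sub_zero, zero_smul, smul_zero]
      match_scalars <;> field_simp <;> ring
    rwa [this] at h2
  -- spreading
  have hX : ∀ r, InR M b om (rk b σ r) := by
    have key : ∀ r, b σ r ≠ 0 → InR M b om (rk b σ r) := by
      intro r hr
      have h2 := inR_smul hT ha hb hM (inR_mul hT ha hb hM h (hTr r hr)) (b σ r)⁻¹
      have : (b σ r)⁻¹ • (rk b σ σ ∘ₗ rk b r r) = rk b σ r := LinearMap.ext fun z => by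
        simp [rk_apply, smul_smul, mul_left_comm, hr]
      rwa [this] at h2
    intro r
    by_cases hr : b σ r = 0
    · have h2 := inR_add hT ha hb hM (key (r + r₀) (by simpa [hr] using hr₀))
        (inR_smul hT ha hb hM (key r₀ hr₀) (-1))
      have : rk b σ (r + r₀) + (-1 : F) • rk b σ r₀ = rk b σ r := LinearMap.ext fun z => by
        simp [rk_apply, add_smul]
      rwa [this] at h2
    · exact key r hr
  have key : ∀ p, b σ p ≠ 0 → InR M b om (rk b p q) := by
    intro p hp
    have hp' : b p σ ≠ 0 := by rw [alt_swap hT.balt]; exact neg_ne_zero.2 hp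
    have h2 := inR_smul hT ha hb hM (inR_mul hT ha hb hM (hTr p hp) (hX q)) (b p σ)⁻¹
    have : (b p σ)⁻¹ • (rk b p p ∘ₗ rk b σ q) = rk b p q := LinearMap.ext fun z => by
      simp [rk_apply, smul_smul, mul_left_comm, hp']
    rwa [this] at h2
  by_cases hp : b σ p = 0
  · have h2 := inR_add hT ha hb hM (key (p + r₀) (by simpa [hp] using hr₀))
      (inR_smul hT ha hb hM (key r₀ hr₀) (-1))
    have : rk b (p + r₀) q + (-1 : F) • rk b r₀ q = rk b p q := LinearMap.ext fun z => by
      simp [rk_apply]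
    rwa [this] at h2
  · exact key p hp

/-- A non-scalar member gives a transvection type member. -/
theorem exists_inR_tv (hex : ¬ (Fintype.card α = 2 ∧ Nat.card F = 2))
    {N : (α → F) →ₗ[F] (α → F)} (h : InR M b om N) (hns : ¬ ∃ c : F, ∀ u, N u = c • u) :
    ∃ σ : α → F, σ ≠ 0 ∧ InR M b om (rk b σ σ) := by
  haveI : Nonempty α := Fintype.card_pos_iff.1 (by omega)
  obtain ⟨s, hs⟩ : ∃ s, ¬ ∃ c : F, N s = c • s := by
    by_contra hc
    push Not at hc
    exact hns (exists_scalar_of_eigen N hc)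
  have hs0 : s ≠ 0 := fun e => hs ⟨0, by rw [e, map_zero, smul_zero]⟩
  by_cases hα : 3 ≤ Fintype.card α
  · have hnspan : N s ∉ F ∙ s := fun hm => by
      obtain ⟨c, hc⟩ := Submodule.mem_span_singleton.1 hm
      exact hs ⟨c, hc.symm⟩
    obtain ⟨σ₀, hσ₀, hσ₀n⟩ := exists_left_sep hT.bnd _ hnspan
    have hσ₀s : b σ₀ s = 0 := hσ₀ s (Submodule.mem_span_singleton_self _)
    obtain ⟨σ, hσs, hσn, hσind⟩ : ∃ σ, b σ s = 0 ∧ b σ (N s) = 1 ∧ σ ∉ F ∙ s := by
      by_cases h0 : σ₀ ∈ F ∙ s
      · obtain ⟨x, hx, hx1, -⟩ := exists_orth_avoid ![s, N s] b (⊥ : Submodule F (α → F)) ⊥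
          (by simp; omega) (by simp; omega)
        by_cases hxs : x ∈ F ∙ s
        · exfalso
          obtain ⟨c, hc⟩ := Submodule.mem_span_singleton.1 hxs
          obtain ⟨d, hd⟩ := Submodule.mem_span_singleton.1 h0
          have e : b (N s) x = 0 := hx 1
          rw [← hc, map_smul, smul_eq_mul] at e
          rcases mul_eq_zero.1 e with h' | h'
          · exact hx1 (by rw [← hc, h', zero_smul]; exact Submodule.zero_mem _)
          · rw [← hd, map_smul, LinearMap.smul_apply, alt_zero_swap hT.balt h', smul_zero] at hσ₀n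
            exact zero_ne_one hσ₀n
        · refine ⟨σ₀ + x, ?_, ?_, fun hm => hxs ?_⟩
          · rw [map_add, LinearMap.add_apply, hσ₀s, alt_zero_swap hT.balt (show b s x = 0 from hx 0), add_zero]
          · rw [map_add, LinearMap.add_apply, hσ₀n, alt_zero_swap hT.balt (show b (N s) x = 0 from hx 1), add_zero]
          · simpa using (F ∙ s).sub_mem hm h0
      · exact ⟨σ₀, hσ₀s, hσ₀n, h0⟩
    have hsσ : b s σ = 0 := alt_zero_swap hT.balt hσs
    have hσ0 : σ ≠ 0 := fun e => hσind (by rw [e]; exact Submodule.zero_mem _)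
    obtain ⟨D, hD, hDz⟩ := inR_diff hT ha hb hM h s 1
    obtain ⟨D', hD', hD'z⟩ := inR_diff hT ha hb hM hD σ 1
    set k := b s (N σ) with hk
    have hform : ∀ z, D' z = -(b s z • σ) - (k * b σ z) • s := fun z => by
      rw [hD'z, hDz, hDz]
      simp only [map_sub, map_smul, hσs, hσn, hsσ, hT.balt σ, one_mul, smul_eq_mul, mul_zero, zero_smul,
        sub_zero, ← hk, mul_one]
      module
    by_cases hk0 : k = 0
    · have hE : InR M b om (rk b σ s) := by
        have h2 := inR_smul hT ha hb hM hD' (-1)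
        have : (-1 : F) • D' = rk b σ s := LinearMap.ext fun z => by
          simp [hform, hk0, rk_apply]
        rwa [this] at h2
      obtain ⟨m, hms, hmσ⟩ : ∃ m, b s m = 1 ∧ b σ m = 1 := by
        obtain ⟨y, hy, hy1⟩ := exists_left_sep hT.bnd (F ∙ (σ - s)) (y := s) fun hm => by
          obtain ⟨c, hc⟩ := Submodule.mem_span_singleton.1 hm
          rcases eq_or_ne c 0 with rfl | hc0
          · exact hs0 (by simpa using hc.symm)
          · refine hσind (Submodule.mem_span_singleton.2 ⟨c⁻¹ + 1, ?_⟩)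
            have e : σ - s = c⁻¹ • s := by
              conv_rhs => arg 2; rw [← hc]
              rw [smul_smul, inv_mul_cancel₀ hc0, one_smul]
            rw [add_smul, one_smul, ← e, sub_add_cancel]
        refine ⟨-y, ?_, ?_⟩
        · rw [map_neg, ← alt_swap hT.balt, hy1]
        · have := hy _ (Submodule.mem_span_singleton_self _)
          rw [map_sub, hy1, sub_eq_zero] at this
          rw [map_neg, ← alt_swap hT.balt, this]
      obtain ⟨x, hxσ, hxs⟩ : ∃ x, b σ x = 0 ∧ b s x = 1 := by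
        obtain ⟨y, hy, hy1⟩ := exists_left_sep hT.bnd (F ∙ σ) (y := s) fun hm => by
          obtain ⟨c, hc⟩ := Submodule.mem_span_singleton.1 hm
          have hc0 : c ≠ 0 := fun e => hs0 (by rw [← hc, e, zero_smul])
          exact hσind (Submodule.mem_span_singleton.2
            ⟨c⁻¹, by rw [← hc, smul_smul, inv_mul_cancel₀ hc0, one_smul]⟩)
        exact ⟨-y, by rw [map_neg, ← alt_swap hT.balt, hy σ (Submodule.mem_span_singleton_self _)],
          by rw [map_neg, ← alt_swap hT.balt, hy1]⟩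
      -- conjugate `rk σ s` to `rk q σ` with `b s q = 1`
      have hconjrk : ∀ (p' q' r : α → F) (c : F), InR M b om (rk b p' q') →
          InR M b om (rk b (p' + (c * b r p') • r) (q' + (c * b r q') • r)) := by
        intro p' q' r c h'
        obtain ⟨D₀, hD₀, hD₀z⟩ := inR_diff hT ha hb hM h' r c
        have h2 := inR_add hT ha hb hM hD₀ h'
        have : D₀ + rk b p' q' = rk b (p' + (c * b r p') • r) (q' + (c * b r q') • r) := by
          refine LinearMap.ext fun z => ?_
          simp only [LinearMap.add_apply, hD₀z, rk_apply, map_add, map_smul, LinearMap.add_apply,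
            LinearMap.smul_apply, smul_eq_mul, alt_swap hT.balt r q', smul_add, add_smul, smul_smul]
          module
        rwa [this] at h2
      have hbms : b m s = -1 := by rw [alt_swap hT.balt, hms]
      have hbmσ : b m σ = -1 := by rw [alt_swap hT.balt, hmσ]
      have c1 := hconjrk σ s (m - s) (-1) hE
      have e1 : σ + ((-1 : F) * b (m - s) σ) • (m - s) = σ + m - s := by
        simp [hbmσ, hsσ]; abel
      have e2 : s + ((-1 : F) * b (m - s) s) • (m - s) = m := by
        simp [hbms, hT.balt s]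
      rw [e1, e2] at c1
      have c2 := hconjrk _ _ (σ - m) 1 c1
      have e3 : σ + m - s + ((1 : F) * b (σ - m) (σ + m - s)) • (σ - m) = σ + σ - s := by
        simp [hbms, hbmσ, hmσ, hσs, hT.balt σ, hT.balt m]
        abel
      have e4 : m + ((1 : F) * b (σ - m) m) • (σ - m) = σ := by
        simp [hmσ, hT.balt m]
      rw [e3, e4] at c2
      have c3 := hconjrk _ _ x 1 c2
      have hxσ' : b x σ = 0 := alt_zero_swap hT.balt hxσ
      have hxs' : b x s = -1 := by rw [alt_swap hT.balt, hxs]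
      have e5 : σ + σ - s + ((1 : F) * b x (σ + σ - s)) • x = σ + σ - s + x := by
        simp [hxσ', hxs']
      have e6 : σ + ((1 : F) * b x σ) • x = σ := by simp [hxσ']
      rw [e5, e6] at c3
      refine ⟨σ, hσ0, ?_⟩
      have h2 := inR_mul hT ha hb hM hE c3
      have : rk b σ s ∘ₗ rk b (σ + σ - s + x) σ = rk b σ σ := LinearMap.ext fun z => by
        simp [rk_apply, hsσ, hT.balt s, hxs]
      rwa [this] at h2
    · obtain ⟨τ, hτ, hτs⟩ := exists_left_sep hT.bnd (F ∙ σ) (y := s) fun hm => by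
        obtain ⟨c, hc⟩ := Submodule.mem_span_singleton.1 hm
        have hc0 : c ≠ 0 := fun e => hs0 (by rw [← hc, e, zero_smul])
        exact hσind (Submodule.mem_span_singleton.2
          ⟨c⁻¹, by rw [← hc, smul_smul, inv_mul_cancel₀ hc0, one_smul]⟩)
      have hτσ : b τ σ = 0 := hτ σ (Submodule.mem_span_singleton_self _)
      have hστ : b σ τ = 0 := alt_zero_swap hT.balt hτσ
      have hsτ : b s τ = -1 := by rw [alt_swap hT.balt, hτs]
      obtain ⟨D'', hD'', hD''z⟩ := inR_diff hT ha hb hM hD' τ 1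
      have h2 := inR_smul hT ha hb hM (inR_mul hT ha hb hM hD' hD'') (-k)⁻¹
      have : (-k)⁻¹ • (D' ∘ₗ D'') = rk b σ σ := LinearMap.ext fun z => by
        simp only [LinearMap.smul_apply, LinearMap.comp_apply, hD''z, hform, map_sub, map_neg, map_smul,
          hτσ, hστ, hτs, hsτ, hsσ, hσs, hT.balt σ, hT.balt s, one_mul, smul_eq_mul, mul_zero, zero_smul,
          sub_zero, mul_one, rk_apply, neg_zero]
        match_scalars <;> field_simp <;> ring
      exact ⟨σ, hσ0, this ▸ h2⟩
  · have hα2 : Fintype.card α = 2 := by omega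
    have hq : Nat.card F ≠ 2 := fun e => hex ⟨hα2, e⟩
    have hβ : b s (N s) ≠ 0 := by
      intro e
      have hker : LinearMap.ker (b s) = F ∙ s := by
        refine (Submodule.eq_of_le_of_finrank_le ((Submodule.span_singleton_le_iff_mem _ _).2
          (hT.balt s)) ?_).symm
        have e1 := (b s).finrank_range_add_finrank_ker
        have e2 : (b s).range ≠ ⊥ := fun e2 => hs0 (hT.bnd.1 s fun z => by
          have : b s z ∈ (b s).range := ⟨z, rfl⟩
          rwa [e2, Submodule.mem_bot] at this)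
        have e3 := Submodule.one_le_finrank_iff.2 e2
        rw [Module.finrank_fintype_fun_eq_card] at e1
        rw [finrank_span_singleton hs0]
        omega
      obtain ⟨c, hc⟩ := Submodule.mem_span_singleton.1 (hker ▸ (show N s ∈ LinearMap.ker (b s) from e))
      exact hs ⟨c, hc.symm⟩
    obtain ⟨l, hl0, hl1⟩ : ∃ l : F, l ≠ 0 ∧ l ≠ 1 := by
      by_contra hc
      push Not at hc
      haveI := Fintype.ofFinite F
      classical
      have hcard : (Finset.univ : Finset F).card ≤ 2 :=
        (Finset.card_le_card (t := {0, 1}) fun x _ => by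
          by_cases hx : x = 0
          · simp [hx]
          · simp [hc x hx]).trans Finset.card_le_two
      rw [Finset.card_univ, ← Nat.card_eq_fintype_card] at hcard
      have := Finite.one_lt_card (α := F)
      omega
    obtain ⟨D₁, hD₁, hD₁z⟩ := inR_diff hT ha hb hM h s 1
    obtain ⟨D₂, hD₂, hD₂z⟩ := inR_diff hT ha hb hM h s l
    have hc0 : (l - l * l) * b s (N s) ≠ 0 := mul_ne_zero (by
      rw [← mul_one_sub]; exact mul_ne_zero hl0 (sub_ne_zero.2 hl1.symm)) hβ
    have h2 := inR_smul hT ha hb hM (inR_add hT ha hb hM hD₂ (inR_smul hT ha hb hM hD₁ (-l)))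
      ((l - l * l) * b s (N s))⁻¹
    have : ((l - l * l) * b s (N s))⁻¹ • (D₂ + (-l) • D₁) = rk b s s := LinearMap.ext fun z => by
      simp only [LinearMap.smul_apply, LinearMap.add_apply, hD₁z, hD₂z, rk_apply]
      match_scalars <;> field_simp <;> ring
    exact ⟨s, hs0, this ▸ h2⟩

/-- All Siegel elements on orthogonal pure tensors give `Ω`. -/
theorem omega_le_of_roots (hroot : ∀ p q w v, om w v = 0 → siegel Q (ten p w) (ten q v) ∈ M) :
    commutator (oGroup Q) ≤ M := by
  have hsingle : ∀ p q w v, polar Q (ten p w) (ten q v) = 0 → siegel Q (ten p w) (ten q v) ∈ M := by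
    intro p q w v hpol
    by_cases hwv : om w v = 0
    · exact hroot p q w v hwv
    have hpq : b p q = 0 := by
      rw [hT.pol] at hpol
      exact (mul_eq_zero.1 hpol).resolve_right hwv
    rcases eq_or_ne p 0 with rfl | hp
    · rw [ten_zero_left, CfsgLib.Geo.OS.siegel_zero_left]; exact one_mem _
    have hw : w ≠ 0 := fun e => hwv (by rw [e, map_zero]; rfl)
    obtain ⟨r, hr⟩ := exists_left_one hT.bnd hp
    obtain ⟨z, hz, hzw, -⟩ := exists_orth_avoid ![w, v] om (F ∙ w) ⊥
      (by have := finrank_span_le_card (R := F) ({w} : Set (β → F)); simp at this; omega) (by simp; omega)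
    obtain ⟨y, hy, hyz⟩ := exists_left_sep hT.ond _ hzw
    have hwz : om w z = 0 := hz 0
    have hzv : om z v = 0 := alt_zero_swap hT.oalt (hz 1)
    have hwy : om w y = 0 := alt_zero_swap hT.oalt (hy w (Submodule.mem_span_singleton_self _))
    have hpr : b p (-r) = 1 := by rw [map_neg, ← alt_swap hT.balt, hr]
    set e := ten p w with he
    set a := ten p y with ha'
    set c := ten (-r) z with hc
    set d := ten q v with hd
    have hQe : Q e = 0 := hT.sing _ _
    have hea : polar Q e a = 0 := by rw [hT.pol, hwy, mul_zero]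
    have hcd : polar Q c d = 0 := by rw [hT.pol, hzv, mul_zero]
    have hg : siegel Q c d ∈ M := hroot _ _ _ _ hzv
    have hQc : Q c = 0 := hT.sing _ _
    have hec : polar Q e c = 0 := by rw [hT.pol, hwz, mul_zero]
    have hed : polar Q e d = 0 := hpol
    have hac : polar Q a c = 1 := by rw [hT.pol, hpr, hyz, mul_one]
    have had : polar Q a d = 0 := by rw [hT.pol, hpq, zero_mul]
    have hge : (siegel Q c d).1 e = e := CfsgLib.Geo.OS.siegel_fix hQc hcd hec hed
    have hga : (siegel Q c d).1 a = a + d := by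
      rw [siegel_apply hQc hcd, hac, had, hT.sing]; simp
    have h2 := CfsgLib.Geo.OS.siegel_conj_mem hg hQe hea (hroot _ _ _ _ hwy)
    rw [hge, hga] at h2
    have hea' : polar Q e (-a) = 0 := by rw [polar_neg_right, hea, neg_zero]
    have h3 := M.mul_mem h2 (M.inv_mem (hroot p p w y hwy))
    rw [siegel_inv hQe hea, siegel_mul hQe (by rw [polar_add_right, hea, hed, add_zero]) hea'] at h3
    simpa using h3
  have hfull : ∀ p w, CfsgLib.Geo.OS.Full M (ten p w) := by
    intro p w
    rcases eq_or_ne p 0 with rfl | hp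
    · intro a _
      rw [ten_zero_left, CfsgLib.Geo.OS.siegel_zero_left]; exact one_mem _
    obtain ⟨r, hr⟩ := exists_left_one hT.bnd hp
    have hpr : b p (-r) = 1 := by rw [map_neg, ← alt_swap hT.balt, hr]
    intro a hea
    let f : β → α → F := fun j i => a (i, j)
    let χ : β → F := fun j => b p (f j)
    let g : β → α → F := fun j => f j - χ j • (-r)
    have hg : ∀ j, b p (g j) = 0 := fun j => by simp only [g, χ, map_sub, map_smul, hpr, smul_eq_mul, mul_one, sub_self]
    have hsplit : a = ten (-r) χ + ∑ j, ten (g j) (Pi.single j 1) := by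
      funext ⟨i, j⟩
      simp [Finset.sum_apply, ten, g, f, χ, Pi.single_apply]
      ring
    have hpj : ∀ j, polar Q (ten p w) (ten (g j) (Pi.single j 1)) = 0 := fun j => by
      rw [hT.pol, hg, zero_mul]
    have hprest : polar Q (ten p w) (∑ j, ten (g j) (Pi.single j (1 : F))) = 0 := by
      show polarBilin Q (ten p w) _ = 0
      rw [map_sum]
      exact Finset.sum_eq_zero fun j _ => hpj j
    have hpχ : polar Q (ten p w) (ten (-r) χ) = 0 := by
      rw [hsplit, polar_add_right, hprest, add_zero] at hea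
      exact hea
    have hQe : Q (ten p w) = 0 := hT.sing _ _
    rw [hsplit, ← siegel_mul hQe hpχ hprest]
    refine M.mul_mem (hsingle _ _ _ _ hpχ) ?_
    refine (Finset.sum_induction _ (fun y => polar Q (ten p w) y = 0 ∧ siegel Q (ten p w) y ∈ M)
      (fun x y hx hy => ⟨by rw [polar_add_right, hx.1, hy.1, add_zero],
        by rw [← siegel_mul hQe hx.1 hy.1]; exact M.mul_mem hx.2 hy.2⟩)
      ⟨polar_zero_right Q _, by rw [siegel_zero hQe]; exact one_mem _⟩
      fun j _ => ⟨hpj j, hsingle _ _ _ _ (hpj j)⟩).2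
  obtain ⟨i⟩ : Nonempty α := Fintype.card_pos_iff.1 (by omega)
  obtain ⟨j⟩ : Nonempty β := Fintype.card_pos_iff.1 (by omega)
  obtain ⟨p, hp⟩ := exists_left_one hT.bnd (y := (Pi.single i 1 : α → F)) (by simp)
  obtain ⟨w, hw⟩ := exists_left_one hT.ond (y := (Pi.single j 1 : β → F)) (by simp)
  exact CfsgLib.Geo.OS.commutator_le_of_two hT.nondeg (hT.five ha hb) (hT.sing _ _) (hT.sing _ _)
    (by rw [hT.pol, hp, hw, one_mul]; exact one_ne_zero) (hfull p w) (hfull _ _)

/-- An element of the pair shape with non-scalar `N` gives `Ω`. -/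
theorem omega_le_of_shape (hex : ¬ (Fintype.card α = 2 ∧ Nat.card F = 2))
    {N N' P : (α → F) →ₗ[F] (α → F)} {w v : β → F} {g : oGroup Q} (hg : g ∈ M)
    (hgx : ∀ x, g.1 x = x + ten (N (cW om v x) + P (cW om w x)) w + ten (N' (cW om w x)) v)
    (hwv : om w v = 0) (hw : w ≠ 0) (hind : v ∉ F ∙ w) (hN : Adj b N N')
    (hns : ¬ ∃ c : F, ∀ u, N u = c • u) : commutator (oGroup Q) ≤ M := by
  have hR : InR M b om N := by
    have := inR_comp hT ha hb hM (K := LinearMap.id) (K' := LinearMap.id) hg hgx hwv hw hind hN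
      (fun u u' => rfl) fun w' v' h' => by simpa using hasPhi_scalar hT ha hb hM h' (1 : F)
    rwa [LinearMap.comp_id] at this
  obtain ⟨σ, hσ, hσR⟩ := exists_inR_tv hT ha hb hM hex hR hns
  refine omega_le_of_roots hT ha hb hM fun p q w' v' h' => ?_
  obtain ⟨K', hK, hKm⟩ := inR_smul hT ha hb hM (inR_rk_all hT ha hb hM hσ hσR p q) (-1)
  obtain ⟨e, he, hex'⟩ := hKm w' v' h'
  have hK' : ∀ u, K' u = b p u • q := fun u => eq_of_forall_left hT.bnd hT.balt fun z => by
    rw [← hK]
    simp [rk_apply, alt_swap hT.balt z q, mul_comm]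
  have hea : polar Q (ten p w') (ten q v') = 0 := by rw [hT.pol, h', mul_zero]
  have : siegel Q (ten p w') (ten q v') = e := Subtype.ext (LinearEquiv.ext fun x => by
    rw [siegel_apply (hT.sing _ _) hea, hex', polar_comm (⇑Q) x, polar_comm (⇑Q) x, hT.polar_ten,
      hT.polar_ten, hT.sing, hK']
    simp [rk_apply, ten_smul_left, ten_neg_left]
    abel)
  rw [this]; exact he

end CfsgLib.Geo.TensorO
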