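/-
The stabiliser of `U ⊗ W` (symplectic factors, `dim U + 1 < dim W`) is maximal in `Ω(U ⊗ W)`:
an element outside maps no `U ⊗ w` to some `U ⊗ w'`, while conjugates of `1 ⊗ t` increase the overlap.
-/
import Cfsg.Agent.Geo.TensorOrthRoots
import Cfsg.Agent.Geo.TensorLinearMaximal

set_option autoImplicit false
set_option linter.unusedSectionVars false
set_option linter.unusedSimpArgs false

namespace CfsgLib.Geo.TensorO

open QuadraticMap CfsgLib.Forms CfsgLib.Quad CfsgLib.Geo.Tensor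

variable {α β : Type} [Fintype α] [DecidableEq α] [Fintype β] [DecidableEq β] {F : Type*} [Field F]
  {b : LinearMap.BilinForm F (α → F)} {om : LinearMap.BilinForm F (β → F)}
  {Q : QuadraticForm F (α × β → F)}

theorem exists_tenStab_form (hT : IsTQ Q b om) {w : β → F} (hw : w ≠ 0) {z : α × β → F}
    (h : ∀ s, om s w = 0 → cW om s z = 0) : ∃ u, z = ten u w := by
  obtain ⟨ξ, hξ⟩ := exists_dot_one hw
  refine ⟨cL ξ z, eq_ten_of_forall_cL hξ fun ψ hψ => ?_⟩
  obtain ⟨s, rfl⟩ := exists_vec hT.ond ψ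
  exact h s (by rw [← vec_dot]; exact hψ)

theorem not_mem_span_symm {w v : β → F} (hw : w ≠ 0) (h : v ∉ F ∙ w) : w ∉ F ∙ v := fun hm => by
  obtain ⟨c, hc⟩ := Submodule.mem_span_singleton.1 hm
  have hc0 : c ≠ 0 := fun e => hw (by rw [← hc, e, zero_smul])
  exact h (Submodule.mem_span_singleton.2 ⟨c⁻¹, by rw [← hc, smul_smul, inv_mul_cancel₀ hc0, one_smul]⟩)

variable (hT : IsTQ Q b om) [Finite F] (ha : 2 ≤ Fintype.card α) (hb : 6 ≤ Fintype.card β)
  (hex : ¬ (Fintype.card α = 2 ∧ Nat.card F = 2)) {M : Subgroup (oGroup Q)}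
  (hM : tenSp Q b om ⊓ commutator (oGroup Q) ≤ M) (hnM : ¬ commutator (oGroup Q) ≤ M)
include hT ha hb hex hM hnM

theorem shape_scalar {N N' P : (α → F) →ₗ[F] (α → F)} {w v : β → F} {g : oGroup Q} (hg : g ∈ M)
    (hgx : ∀ x, g.1 x = x + ten (N (cW om v x) + P (cW om w x)) w + ten (N' (cW om w x)) v)
    (hwv : om w v = 0) (hw : w ≠ 0) (hind : v ∉ F ∙ w) (hN : Adj b N N') :
    ∃ c : F, ∀ u, N u = c • u := by
  by_contra hc
  exact hnM (omega_le_of_shape hT ha hb hM hex hg hgx hwv hw hind hN hc)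

theorem zeta_scalar {Γ : (α → F) →ₗ[F] (α → F)} {w : β → F} (hw : w ≠ 0) {g : oGroup Q} (hg : g ∈ M)
    (hgx : ∀ x, g.1 x = x + ten (Γ (cW om w x)) w) : ∃ c : F, ∀ u, Γ u = c • u := by
  obtain ⟨wb, hwb⟩ := exists_left_one hT.ond hw
  have hww := hT.oalt w
  have hwwb : om w wb = -1 := by rw [alt_swap hT.oalt, hwb]
  have hsa : Adj b Γ Γ := by
    intro u u'
    have h1 := polar_oGroup g (ten u wb) (ten u' wb)
    rw [hgx, hgx, cW_ten, cW_ten, hwwb, map_smul, map_smul, ten_smul_left, ten_smul_left,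
      polar_add_left, polar_add_right, polar_add_right, polar_smul_left, polar_smul_left,
      polar_smul_right, polar_smul_right, hT.pol, hT.pol, hT.pol, hT.pol, hwwb, hwb, hT.oalt wb,
      hww] at h1
    simp only [smul_eq_mul, mul_zero, mul_one, zero_add, add_zero] at h1
    linear_combination h1
  obtain ⟨z, hz, hzw, -⟩ := exists_orth_avoid ![w] om (F ∙ w) ⊥
    (by have := finrank_span_le_card (R := F) ({w} : Set (β → F)); simp at this; omega) (by simp; omega)
  have hwz : om w z = 0 := hz 0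
  obtain ⟨s, hs, hsw⟩ := exists_left_sep hT.ond (F ∙ z) (not_mem_span_symm hw hzw)
  have hsz : om s z = 0 := hs z (Submodule.mem_span_singleton_self _)
  have hzs : om z s = 0 := alt_zero_swap hT.oalt hsz
  have hzw' : om z w = 0 := alt_zero_swap hT.oalt hwz
  obtain ⟨k, hk, hkx⟩ := hT.exists_E ha hb hzs 1
  have hkten : ∀ u, k.1 (ten u w) = ten u (w + z) := fun u => by
    rw [hkx, cW_ten, cW_ten, hsw, hzw', one_smul, one_smul, one_smul, zero_smul, ten_zero_left, add_zero,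
      ten_add_right]
  have hkc : ∀ x, cW om w ((k⁻¹).1 x) = cW om (w + z) x := fun x =>
    eq_of_forall_left hT.bnd hT.balt fun u => by
      rw [← hT.polar_ten, ← polar_oGroup k, apply_inv, hkten, hT.polar_ten]
  have hgi : ∀ x, (g⁻¹).1 x = x - ten (Γ (cW om w x)) w := fun x => oGroup_inv_apply g (by
    rw [hgx, map_sub, cW_ten, hww, zero_smul, sub_zero, sub_add_cancel])
  have hkx' : ∀ x, (k * g * k⁻¹ * g⁻¹ : oGroup Q).1 x
      = x + ten (Γ (cW om w x) + Γ (cW om z x)) z + ten (Γ (cW om z x)) w := fun x => by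
    show k.1 (g.1 ((k⁻¹).1 ((g⁻¹).1 x))) = _
    rw [hgx, map_add, apply_inv, hkc, hkten, hgi, map_sub, cW_ten, map_add, LinearMap.add_apply, hww,
      hzw', add_zero, zero_smul, sub_zero, cW_add, map_add]
    simp only [ten_add_left, ten_add_right]
    abel
  exact shape_scalar hT ha hb hex hM hnM
    (M.mul_mem (M.mul_mem (M.mul_mem (hM hk) hg) (M.inv_mem (hM hk))) (M.inv_mem hg))
    hkx' hzw' (fun e => hzw (by rw [e]; exact Submodule.zero_mem _)) (not_mem_span_symm hw hzw) hsa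

theorem r_scalar {N : (α → F) →ₗ[F] (α → F)} {w v : β → F} (hw : w ≠ 0) (hwv : om w v = 0)
    (hind : v ∉ F ∙ w) {r : oGroup Q} (hr : r ∈ M) (hrx : ∀ u, r.1 (ten u v) = ten u v + ten (N u) w) :
    ∃ c : F, ∀ u, N u = c • u := by
  obtain ⟨y, hy, hyw⟩ := exists_left_sep hT.ond (F ∙ v) (not_mem_span_symm hw hind)
  set wb := -y with hwbdef
  have hwwb : om w wb = 1 := by rw [hwbdef, map_neg, ← alt_swap hT.oalt, hyw]
  have hvwb : om v wb = 0 := by
    rw [hwbdef, map_neg, alt_zero_swap hT.oalt (hy v (Submodule.mem_span_singleton_self _)), neg_zero]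
  let N' : (α → F) →ₗ[F] (α → F) := cW om v ∘ₗ ((r⁻¹).1 : (α × β → F) →ₗ[F] (α × β → F)) ∘ₗ tenR wb
  have hq : ∀ u x, b u (cW om v ((r⁻¹).1 x)) = b u (cW om v x) + b (N u) (cW om w x) := fun u x => by
    rw [← hT.polar_ten, ← polar_oGroup r, apply_inv, hrx, polar_add_left, hT.polar_ten, hT.polar_ten]
  have hN : Adj b N N' := fun u u' => by
    have := hq u (ten u' wb)
    rw [cW_ten, cW_ten, hwwb, hvwb, zero_smul, one_smul, map_zero, zero_add] at this
    exact this.symm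
  have hcv : ∀ x, cW om v ((r⁻¹).1 x) = cW om v x + N' (cW om w x) := fun x =>
    eq_of_forall_left hT.bnd hT.balt fun u => by rw [hq, map_add, hN]
  obtain ⟨t, ht, htx⟩ := hT.exists_T1 ha hb v 1
  have hvv := hT.oalt v
  have hti : ∀ x, (t⁻¹).1 x = x - ten (cW om v x) v := fun x => oGroup_inv_apply t (by
    rw [htx, one_smul, map_sub, cW_ten, hvv, zero_smul, sub_zero, sub_add_cancel])
  have hvw : om v w = 0 := alt_zero_swap hT.oalt hwv
  have hsh : ∀ x, (r * t * r⁻¹ * t⁻¹ : oGroup Q).1 x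
      = x + ten (N (cW om v x) + (N ∘ₗ N') (cW om w x)) w + ten (N' (cW om w x)) v := fun x => by
    show r.1 (t.1 ((r⁻¹).1 ((t⁻¹).1 x))) = _
    rw [htx, one_smul, map_add, apply_inv, hcv, hti, map_sub, map_sub, cW_ten, cW_ten, hvv, hwv]
    simp only [zero_smul, sub_zero]
    rw [hrx, map_add, LinearMap.comp_apply]
    simp only [ten_add_left]
    abel
  exact shape_scalar hT ha hb hex hM hnM
    (M.mul_mem (M.mul_mem (M.mul_mem hr (hM ht)) (M.inv_mem hr)) (M.inv_mem (hM ht))) hsh hwv hw hind hN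

theorem transfer {g : oGroup Q} (hg : g ∈ M) {A : (α → F) ≃ₗ[F] (α → F)} {w w' : β → F}
    (hw' : w' ≠ 0) (hA : ∀ u, g.1 (ten u w) = ten (A u) w') {s v : β → F}
    (hs : om w s = 0) (hv : om w' v = 0) :
    ∃ κ : F, ∀ u, cW om s ((g⁻¹).1 (ten u v)) = κ • A.symm u := by
  have hgi : ∀ u, (g⁻¹).1 (ten u w') = ten (A.symm u) w := fun u => oGroup_inv_apply g (by
    rw [hA, LinearEquiv.apply_symm_apply])
  by_cases hind : v ∈ F ∙ w'
  · obtain ⟨c, rfl⟩ := Submodule.mem_span_singleton.1 hind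
    refine ⟨0, fun u => ?_⟩
    rw [ten_smul_right, map_smul, hgi, map_smul, cW_ten, alt_zero_swap hT.oalt hs]
    simp
  obtain ⟨e, he, hex'⟩ := hT.exists_E ha hb hs 1
  let N : (α → F) →ₗ[F] (α → F) :=
    (A : (α → F) →ₗ[F] (α → F)) ∘ₗ cW om s ∘ₗ ((g⁻¹).1 : (α × β → F) →ₗ[F] (α × β → F)) ∘ₗ tenR v
  have hzero : ∀ u, cW om w ((g⁻¹).1 (ten u v)) = 0 := fun u =>
    eq_of_forall_left hT.bnd hT.balt fun u' => by
      rw [← hT.polar_ten, ← polar_oGroup g, apply_inv, hA, hT.pol, hv, mul_zero, map_zero]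
  have hrx : ∀ u, (g * e * g⁻¹ : oGroup Q).1 (ten u v) = ten u v + ten (N u) w' := fun u => by
    show g.1 (e.1 ((g⁻¹).1 (ten u v))) = _
    rw [hex', one_smul, one_smul, hzero, ten_zero_left, add_zero, map_add, apply_inv, hA]
    rfl
  obtain ⟨c, hc⟩ := r_scalar hT ha hb hex hM hnM hw' hv hind
    (M.mul_mem (M.mul_mem hg (hM he)) (M.inv_mem hg)) hrx
  refine ⟨c, fun u => ?_⟩
  rw [← map_smul, LinearEquiv.eq_symm_apply]
  exact hc u

/-- The neighbours of a standard subspace mapped to a standard one are mapped to standard ones. -/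
theorem neighbour {g : oGroup Q} (hg : g ∈ M) {A : (α → F) ≃ₗ[F] (α → F)} {w w' v : β → F}
    (hw : w ≠ 0) (hw' : w' ≠ 0) (hA : ∀ u, g.1 (ten u w) = ten (A u) w') (hwv : om w v = 0)
    (hind : v ∉ F ∙ w) : ∃ v', v' ≠ 0 ∧ ∀ u, g.1 (ten u v) = ten (A u) v' := by
  haveI : Nonempty α := Fintype.card_pos_iff.1 (by omega)
  obtain ⟨i⟩ := ‹Nonempty α›
  obtain ⟨u₀, hu₀⟩ : ∃ u₀ : α → F, A u₀ ≠ 0 := ⟨Pi.single i 1, by simp⟩
  have hgi : ∀ u, (g⁻¹).1 (ten u w') = ten (A.symm u) w := fun u => oGroup_inv_apply g (by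
    rw [hA, LinearEquiv.apply_symm_apply])
  -- the similitude
  obtain ⟨y, hy⟩ := exists_left_one hT.ond hw'
  set wb := -y
  have hwwb : om w' wb = 1 := by rw [map_neg, ← alt_swap hT.oalt, hy]
  let As : (α → F) →ₗ[F] (α → F) := cW om w ∘ₗ ((g⁻¹).1 : (α × β → F) →ₗ[F] (α × β → F)) ∘ₗ tenR wb
  have hAs : ∀ u z, b (A u) z = b u (As z) := fun u z => by
    show _ = b u (cW om w ((g⁻¹).1 (ten z wb)))
    rw [← hT.polar_ten, ← polar_oGroup g, apply_inv, hA, hT.pol, hwwb, mul_one]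
  have hcw : ∀ x, cW om w ((g⁻¹).1 x) = As (cW om w' x) := fun x =>
    eq_of_forall_left hT.bnd hT.balt fun u => by
      rw [← hAs, ← hT.polar_ten, ← hT.polar_ten, ← polar_oGroup g, apply_inv, hA]
  obtain ⟨t, ht, htx⟩ := hT.exists_T1 ha hb w 1
  obtain ⟨μ, hμ⟩ := zeta_scalar hT ha hb hex hM hnM (Γ := (A : (α → F) →ₗ[F] (α → F)) ∘ₗ As) hw'
    (M.mul_mem (M.mul_mem hg (hM ht)) (M.inv_mem hg)) fun x => by
      show g.1 (t.1 ((g⁻¹).1 x)) = _
      rw [htx, one_smul, map_add, apply_inv, hA, hcw]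
      rfl
  simp only [LinearMap.comp_apply, LinearEquiv.coe_coe] at hμ
  have hsim : ∀ u u', b (A u) (A u') = μ * b u u' := fun u u' => by
    have : As (A u') = μ • u' := A.injective (by rw [hμ, map_smul])
    rw [hAs, this, map_smul, smul_eq_mul]
  have hμ0 : μ ≠ 0 := fun e => by
    obtain ⟨x, hx⟩ := exists_left_one hT.bnd hu₀
    obtain ⟨x', rfl⟩ := A.surjective x
    rw [hsim, e, zero_mul] at hx
    exact zero_ne_one hx
  -- the image of `U ⊗ v`
  obtain ⟨f, hf⟩ := exists_dot_one hu₀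
  set Bv := cR f (g.1 (ten u₀ v)) with hBv
  have hz0 : ∀ u, cW om w' (g.1 (ten u v)) = 0 := fun u =>
    eq_of_forall_left hT.bnd hT.balt fun u' => by
      obtain ⟨u'', rfl⟩ := A.surjective u'
      rw [← hT.polar_ten, ← hA, polar_oGroup, hT.pol, hwv, mul_zero, map_zero]
  have hkey : ∀ s, om w' s = 0 → ∀ u, cW om s (g.1 (ten u v)) = om s Bv • A u := by
    intro s hs u
    obtain ⟨κ, hκ⟩ := transfer hT ha hb hex hM hnM (M.inv_mem hg) (A := A.symm) hw hgi hs hwv
    have e1 : ∀ u, cW om s (g.1 (ten u v)) = κ • A u := fun u => by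
      simpa using hκ u
    have e2 : om s Bv = κ := by
      rw [← vec_dot, hBv, dot_cR]
      show f ⬝ᵥ cW om s (g.1 (ten u₀ v)) = κ
      rw [e1, dotProduct_smul, hf, smul_eq_mul, mul_one]
    rw [e1, e2]
  have hBw : om w' Bv = 0 := by
    rw [← vec_dot, hBv, dot_cR]
    show f ⬝ᵥ cW om w' (g.1 (ten u₀ v)) = 0
    rw [hz0, dotProduct_zero]
  have hD : ∀ u, ∃ z, g.1 (ten u v) = ten (A u) Bv + ten z w' := fun u => by
    obtain ⟨z, hz⟩ := exists_tenStab_form hT hw' (z := g.1 (ten u v) - ten (A u) Bv) fun s hs => by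
      rw [map_sub, hkey s (alt_zero_swap hT.oalt hs), cW_ten, sub_self]
    exact ⟨z, by rw [← hz, add_sub_cancel]⟩
  obtain ⟨ξ, hξ⟩ := exists_dot_one hw'
  let Z : (α → F) →ₗ[F] (α → F) := cL ξ ∘ₗ (g.1 : (α × β → F) →ₗ[F] (α × β → F)) ∘ₗ tenR v
    - (ξ ⬝ᵥ Bv) • (A : (α → F) →ₗ[F] (α → F))
  have hZ : ∀ u, g.1 (ten u v) = ten (A u) Bv + ten (Z u) w' := fun u => by
    obtain ⟨z, hz⟩ := hD u
    have : Z u = z := by simp [Z, hz, hξ]
    rw [this, hz]
  have hBind : Bv ∉ F ∙ w' := fun hm => by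
    obtain ⟨c, hc⟩ := Submodule.mem_span_singleton.1 hm
    have h2 : g.1 (ten u₀ v) = g.1 (ten (A.symm (c • A u₀ + Z u₀)) w) := by
      rw [hA, LinearEquiv.apply_symm_apply, hZ, ← hc, ten_smul_right, ten_add_left, ten_smul_left]
    have h3 := g.1.injective h2
    obtain ⟨f', hf'⟩ := exists_dot_one (w := u₀) fun e => hu₀ (by rw [e, map_zero])
    have h4 := congrArg (cR f') h3
    rw [cR_ten, cR_ten, hf', one_smul] at h4
    exact hind (Submodule.mem_span_singleton.2 ⟨_, h4.symm⟩)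
  have hBv0 : Bv ≠ 0 := fun e => hBind (by rw [e]; exact Submodule.zero_mem _)
  obtain ⟨y', hy', hyw'⟩ := exists_left_sep hT.ond (F ∙ Bv) (not_mem_span_symm hw' hBind)
  set wc := -y' with hwc
  have hw'c : om w' wc = 1 := by rw [hwc, map_neg, ← alt_swap hT.oalt, hyw']
  have hBc : om Bv wc = 0 := by
    rw [hwc, map_neg, alt_zero_swap hT.oalt (hy' Bv (Submodule.mem_span_singleton_self _)), neg_zero]
  let Z' : (α → F) →ₗ[F] (α → F) := cW om v ∘ₗ ((g⁻¹).1 : (α × β → F) →ₗ[F] (α × β → F)) ∘ₗ tenR wc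
  have hq : ∀ u x, b u (cW om v ((g⁻¹).1 x)) = b (A u) (cW om Bv x) + b (Z u) (cW om w' x) := fun u x => by
    rw [← hT.polar_ten, ← polar_oGroup g, apply_inv, hZ, polar_add_left, hT.polar_ten, hT.polar_ten]
  have hZ' : ∀ u z, b (Z u) z = b u (Z' z) := fun u z => by
    have := hq u (ten z wc)
    rw [cW_ten, cW_ten, hw'c, hBc, zero_smul, one_smul, map_zero, zero_add] at this
    exact this.symm
  have hcv : ∀ x, cW om v ((g⁻¹).1 x) = μ • A.symm (cW om Bv x) + Z' (cW om w' x) := fun x =>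
    eq_of_forall_left hT.bnd hT.balt fun u => by
      rw [hq, map_add, hZ', map_smul, smul_eq_mul, ← hsim, LinearEquiv.apply_symm_apply]
  obtain ⟨t₁, ht₁, ht₁x⟩ := hT.exists_T1 ha hb v 1
  obtain ⟨t₂, ht₂, ht₂x⟩ := hT.exists_T1 ha hb Bv (-μ)
  let N : (α → F) →ₗ[F] (α → F) := μ • (Z ∘ₗ (A.symm : (α → F) →ₗ[F] (α → F)))
  let N' : (α → F) →ₗ[F] (α → F) := (A : (α → F) →ₗ[F] (α → F)) ∘ₗ Z'
  have hN : Adj b N N' := fun u u' => by
    show b (μ • Z (A.symm u)) u' = b u (A (Z' u'))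
    conv_rhs => rw [← A.apply_symm_apply u]
    rw [hsim, map_smul, LinearMap.smul_apply, hZ', smul_eq_mul]
  have hsh : ∀ x, (g * t₁ * g⁻¹ * t₂ : oGroup Q).1 x
      = x + ten (N (cW om Bv x) + (Z ∘ₗ Z') (cW om w' x)) w' + ten (N' (cW om w' x)) Bv := fun x => by
    show g.1 (t₁.1 ((g⁻¹).1 (t₂.1 x))) = _
    have e1 : cW om v ((g⁻¹).1 (t₂.1 x)) = μ • A.symm (cW om Bv x) + Z' (cW om w' x) := by
      rw [hcv, ht₂x]
      simp [cW_ten, hT.oalt Bv, hBw]
    rw [ht₁x, one_smul, map_add, apply_inv, e1, hZ, ht₂x]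
    simp only [N, N', map_add, map_smul, LinearEquiv.apply_symm_apply, LinearMap.smul_apply,
      LinearMap.comp_apply, LinearEquiv.coe_coe, ten_add_left, ten_smul_left, neg_smul]
    abel
  obtain ⟨c, hc⟩ := shape_scalar hT ha hb hex hM hnM
    (M.mul_mem (M.mul_mem (M.mul_mem hg (hM ht₁)) (M.inv_mem hg)) (hM ht₂)) hsh hBw hw' hBind hN
  refine ⟨Bv + (μ⁻¹ * c) • w', fun e => hBind (Submodule.mem_span_singleton.2
    ⟨-(μ⁻¹ * c), by rw [neg_smul, ← eq_neg_of_add_eq_zero_left e]⟩), fun u => ?_⟩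
  have hZu : Z u = (μ⁻¹ * c) • A u := by
    have h5 := hc (A u)
    simp only [N, LinearMap.smul_apply, LinearMap.comp_apply, LinearEquiv.coe_coe,
      LinearEquiv.symm_apply_apply] at h5
    rw [mul_smul, ← h5, smul_smul, inv_mul_cancel₀ hμ0, one_smul]
  rw [hZ, hZu, ten_add_right, ten_smul_left, ten_smul_right]

/-- An element mapping a standard subspace to a standard one stabilises the decomposition. -/
theorem fix_mem {g : oGroup Q} (hg : g ∈ M) {w w' : β → F} (hw : w ≠ 0) (hw' : w' ≠ 0)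
    (hA : ∀ u, ∃ u', g.1 (ten u w) = ten u' w') : g ∈ tenStab Q := by
  haveI : Nonempty α := Fintype.card_pos_iff.1 (by omega)
  obtain ⟨i⟩ := ‹Nonempty α›
  obtain ⟨ξ, hξ⟩ := exists_dot_one hw'
  let af : (α → F) →ₗ[F] (α → F) := cL ξ ∘ₗ (g.1 : (α × β → F) →ₗ[F] (α × β → F)) ∘ₗ tenR w
  have haf : ∀ u, g.1 (ten u w) = ten (af u) w' := fun u => by
    obtain ⟨u', hu'⟩ := hA u
    simp [af, hu', hξ]
  have hinj : Function.Injective af := fun u u' h => ten_injective hw (g.1.injective (by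
    show g.1 (ten u w) = g.1 (ten u' w)
    rw [haf, haf, h]))
  let A : (α → F) ≃ₗ[F] (α → F) := LinearEquiv.ofInjectiveEndo af hinj
  have hAw : ∀ u, g.1 (ten u w) = ten (A u) w' := haf
  have hall : ∀ v, ∃ v', ∀ u, g.1 (ten u v) = ten (A u) v' := by
    intro v
    rcases eq_or_ne v 0 with rfl | hv
    · exact ⟨0, fun u => by rw [ten_zero_right, map_zero, ten_zero_right]⟩
    obtain ⟨z, hz, hz1, hz2⟩ := exists_orth_avoid ![w, v] om (F ∙ w) (F ∙ v)
      (by have := finrank_span_le_card (R := F) ({w} : Set (β → F)); simp at this; omega)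
      (by have := finrank_span_le_card (R := F) ({v} : Set (β → F)); simp at this; omega)
    have hz0 : z ≠ 0 := fun e => hz1 (by rw [e]; exact Submodule.zero_mem _)
    obtain ⟨z', hz', hzg⟩ := neighbour hT ha hb hex hM hnM hg hw hw' hAw (hz 0) hz1
    obtain ⟨v', -, hvg⟩ := neighbour hT ha hb hex hM hnM hg hz0 hz' hzg
      (alt_zero_swap hT.oalt (hz 1)) (not_mem_span_symm hv hz2)
    exact ⟨v', hvg⟩
  obtain ⟨f, hf⟩ := exists_dot_one (w := A (Pi.single i 1)) (by simp)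
  let c : (β → F) →ₗ[F] (β → F) :=
    cR f ∘ₗ (g.1 : (α × β → F) →ₗ[F] (α × β → F)) ∘ₗ tenL (Pi.single i 1)
  have hc : ∀ u v, g.1 (ten u v) = ten (A u) (c v) := fun u v => by
    obtain ⟨v', hv'⟩ := hall v
    have : c v = v' := by simp [c, hv', hf]
    rw [this, hv']
  have hcinj : Function.Injective c := LinearMap.ker_eq_bot.1 (LinearMap.ker_eq_bot'.2 fun v hv => by
    have h1 : g.1 (ten (Pi.single i 1) v) = 0 := by rw [hc, hv, ten_zero_right]
    have h2 : ten (Pi.single i (1 : F)) v = 0 := g.1.injective (by rw [h1, map_zero])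
    funext j
    simpa [ten] using congrFun h2 (i, j))
  exact ⟨A, LinearEquiv.ofInjectiveEndo c hcinj, hc⟩

/-- Conjugates of `1 ⊗ t` by outside elements are outside. -/
theorem root_notMem (hcard : Fintype.card α < Fintype.card β) {g : oGroup Q} (hg : g ∈ M)
    (hgK : g ∉ tenStab Q) {w₀ : β → F} (hw₀ : w₀ ≠ 0) {t : oGroup Q}
    (htx : ∀ x, t.1 x = x + (1 : F) • ten (cW om w₀ x) w₀) : g * t * g⁻¹ ∉ tenStab Q := by
  haveI : Nonempty α := Fintype.card_pos_iff.1 (by omega)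
  rintro ⟨a, c, hac⟩
  have hdiff : ∀ u v, ten (a u) (c v)
      = ten u v + g.1 (ten (cW om w₀ ((g⁻¹).1 (ten u v))) w₀) := fun u v => by
    rw [← hac]
    show g.1 (t.1 ((g⁻¹).1 (ten u v))) = _
    rw [htx, one_smul, map_add, apply_inv]
  by_cases hsc : ∀ u, ∃ k : F, a u = k • u
  · obtain ⟨k, hk⟩ := exists_scalar_of_eigen (a : (α → F) →ₗ[F] (α → F)) hsc
    simp only [LinearEquiv.coe_coe] at hk
    by_cases hn : ∀ v, k • c v - v = 0
    · have hzero : ∀ x, cW om w₀ ((g⁻¹).1 x) = 0 := by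
        have key := map_ext (S := (g.1 : (α × β → F) →ₗ[F] (α × β → F)) ∘ₗ tenR w₀ ∘ₗ cW om w₀ ∘ₗ
            ((g⁻¹).1 : (α × β → F) →ₗ[F] (α × β → F))) (T := 0) fun u v => by
          have h2 := hdiff u v
          rw [hk, ten_smul_left, ← ten_smul_right, sub_eq_zero.1 (hn v), left_eq_add] at h2
          exact h2
        intro x
        have h3 : g.1 (ten (cW om w₀ ((g⁻¹).1 x)) w₀) = 0 := LinearMap.congr_fun key x
        exact ten_eq_zero (g.1.injective (h3.trans (map_zero _).symm)) hw₀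
      obtain ⟨y, hy⟩ := exists_left_one hT.ond hw₀
      obtain ⟨i⟩ := ‹Nonempty α›
      have h4 := hzero (g.1 (ten (Pi.single i 1) y))
      rw [inv_apply, cW_ten, alt_swap hT.oalt, hy] at h4
      simp at h4
    push Not at hn
    obtain ⟨v, hv⟩ := hn
    refine hgK ((tenStab Q).inv_mem_iff.1 (fix_mem hT ha hb hex hM hnM (M.inv_mem hg) hv hw₀
      fun u => ⟨cW om w₀ ((g⁻¹).1 (ten u v)), ?_⟩))
    have h2 := hdiff u v
    rw [hk, ten_smul_left, ← ten_smul_right] at h2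
    rw [ten_sub_right, h2, add_sub_cancel_left, inv_apply]
  · push Not at hsc
    obtain ⟨u, hu⟩ := hsc
    obtain ⟨v, hv0, hv⟩ := exists_ne_zero_ker
      (cW om w₀ ∘ₗ ((g⁻¹).1 : (α × β → F) →ₗ[F] (α × β → F)) ∘ₗ tenL u)
      (by rw [Module.finrank_fintype_fun_eq_card]; exact hcard)
    simp only [LinearMap.comp_apply, tenL_apply, LinearEquiv.coe_coe] at hv
    have h2 := hdiff u v
    rw [hv, ten_zero_left, map_zero, add_zero] at h2
    obtain ⟨f, hf, hfu⟩ := CfsgLib.Geo.exists_covector (F ∙ u) (u := a u) fun hm => by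
      obtain ⟨k, hk⟩ := Submodule.mem_span_singleton.1 hm
      exact hu k hk.symm
    have h3 := congrArg (cR f) h2
    rw [cR_ten, cR_ten, hfu, hf u (Submodule.mem_span_singleton_self _), one_smul, zero_smul] at h3
    exact hv0 (c.injective (h3.trans (map_zero _).symm))

/-- There is no proper overgroup. -/
theorem no_overgroup (hcard : Fintype.card α + 1 < Fintype.card β) (hout : ¬ M ≤ tenStab Q) : False := by
  obtain ⟨j⟩ : Nonempty β := Fintype.card_pos_iff.1 (by omega)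
  have key : ∀ k, k ≤ Fintype.card α → ∃ g ∈ M, g ∉ tenStab Q ∧ ∃ w₀ w : β → F, w₀ ≠ 0 ∧ w ≠ 0 ∧
      ∃ P : Submodule F (α → F), k ≤ Module.finrank F P ∧
        ∀ p ∈ P, ∃ u, g.1 (ten p w₀) = ten u w := by
    intro k
    induction k with
    | zero =>
      intro _
      obtain ⟨g, hg, hgK⟩ := SetLike.not_le_iff_exists.1 hout
      exact ⟨g, hg, hgK, Pi.single j 1, Pi.single j 1, by simp, by simp, ⊥, Nat.zero_le _, fun p hp =>
        ⟨0, by rw [(Submodule.mem_bot F).1 hp, ten_zero_left, map_zero]⟩⟩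
    | succ k ih =>
      intro hk
      obtain ⟨g, hg, hgK, w₀, w, hw₀, hw, P, hP, hmap⟩ := ih (by omega)
      obtain ⟨f₀, hf₀⟩ : ∃ f, f ∉ P := by
        by_contra hc
        push Not at hc
        exact hgK (fix_mem hT ha hb hex hM hnM hg hw₀ hw fun u => hmap u (hc u))
      set c := g.1 (ten f₀ w₀) with hc
      let T₀ : (β → F) →ₗ[F] ((α → F) × F) :=
        { toFun := fun z => (cW om z c, om w z)
          map_add' := fun x y => by simp [cW_add]
          map_smul' := fun r x => by simp [cW_smul] }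
      obtain ⟨z, hz0, hz⟩ := exists_ne_zero_ker T₀ (by simp; omega)
      have hzc : cW om z c = 0 := congrArg Prod.fst hz
      have hwz : om w z = 0 := congrArg Prod.snd hz
      obtain ⟨t, ht, htx⟩ := hT.exists_T1 ha hb w₀ 1
      let T : (α → F) →ₗ[F] (α → F) :=
        cW om w₀ ∘ₗ ((g⁻¹).1 : (α × β → F) →ₗ[F] (α × β → F)) ∘ₗ tenR z
      refine ⟨g * t * g⁻¹, M.mul_mem (M.mul_mem hg (hM ht)) (M.inv_mem hg),
        root_notMem hT ha hb hex hM hnM (by omega) hg hgK hw₀ htx, z, z, hz0, hz0, LinearMap.ker T, ?_,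
        fun p hp => ⟨p, ?_⟩⟩
      · set P' := P ⊔ (F ∙ f₀) with hP'
        have hlt : P < P' := lt_of_le_of_ne le_sup_left fun h => hf₀ (by
          rw [h]; exact Submodule.mem_sup_right (Submodule.mem_span_singleton_self f₀))
        have h1 := Submodule.finrank_lt_finrank_of_lt hlt
        have hann : ∀ f ∈ P'.map (vec b), ∀ x ∈ LinearMap.range T, f ⬝ᵥ x = 0 := by
          rintro _ ⟨f, hf, rfl⟩ _ ⟨u, rfl⟩
          rw [vec_dot]
          show b f (cW om w₀ ((g⁻¹).1 (ten u z))) = 0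
          rw [← hT.polar_ten, ← polar_oGroup g, apply_inv]
          obtain ⟨p, hp, y, hy, rfl⟩ := Submodule.mem_sup.1 hf
          obtain ⟨r, rfl⟩ := Submodule.mem_span_singleton.1 hy
          obtain ⟨u', hu'⟩ := hmap p hp
          rw [ten_add_left, ten_smul_left, map_add, map_smul, hu', ← hc, polar_add_left, polar_smul_left,
            hT.pol, hwz, mul_zero, zero_add, polar_comm, hT.polar_ten, hzc, map_zero, smul_zero]
        have h2 := finrank_le_annihilator (P'.map (vec b)) (LinearMap.range T) hann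
        have h3 := T.finrank_range_add_finrank_ker
        have h4 := (Submodule.equivMapOfInjective (vec b) (vec_injective hT.bnd) P').finrank_eq
        rw [Module.finrank_fintype_fun_eq_card] at h3
        omega
      · show g.1 (t.1 ((g⁻¹).1 (ten p z))) = _
        rw [htx, show cW om w₀ ((g⁻¹).1 (ten p z)) = 0 from hp, ten_zero_left, smul_zero, add_zero, apply_inv]
  obtain ⟨g, hg, hgK, w₀, w, hw₀, hw, P, hP, hmap⟩ := key _ le_rfl
  have hPtop : P = ⊤ := Submodule.eq_top_of_finrank_eq (by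
    have := Submodule.finrank_le P
    rw [Module.finrank_fintype_fun_eq_card] at this ⊢
    omega)
  exact hgK (fix_mem hT ha hb hex hM hnM hg hw₀ hw fun u => hmap u (by rw [hPtop]; trivial))

omit hex hM hnM in
/-- `Ω` does not stabilise the decomposition. -/
theorem omega_not_le : ¬ commutator (oGroup Q) ≤ tenStab Q := by
  obtain ⟨i⟩ : Nonempty α := Fintype.card_pos_iff.1 (by omega)
  obtain ⟨j⟩ : Nonempty β := Fintype.card_pos_iff.1 (by omega)
  set p : α → F := Pi.single i 1 with hp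
  set w : β → F := Pi.single j 1 with hw
  have hp0 : p ≠ 0 := by simp [hp]
  have hw0 : w ≠ 0 := by simp [hw]
  obtain ⟨p', hp'⟩ := exists_left_one hT.bnd hp0
  obtain ⟨v, hv, hvw, -⟩ := exists_orth_avoid ![w] om (F ∙ w) ⊥
    (by have := finrank_span_le_card (R := F) ({w} : Set (β → F)); simp at this; omega) (by simp; omega)
  obtain ⟨wb, hwb, hwb1⟩ := exists_left_sep hT.ond (F ∙ v) (not_mem_span_symm hw0 hvw)
  intro hle
  have hwv : om w v = 0 := hv 0
  have he : Q (ten p w) = 0 := hT.sing _ _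
  have hea : polar Q (ten p w) (ten p v) = 0 := by rw [hT.pol, hT.balt p, zero_mul]
  obtain ⟨a, c, hac⟩ := hle (siegel_mem_commutator hT.nondeg (hT.five ha hb) he hea)
  have h1 := hac p' wb
  rw [siegel_apply he hea, hT.pol, hT.pol, hp', hwb1, hwb v (Submodule.mem_span_singleton_self _),
    hT.sing] at h1
  simp only [mul_one, one_smul, mul_zero, zero_mul, add_zero, zero_smul, sub_zero] at h1
  obtain ⟨f, hf, hfp⟩ := CfsgLib.Geo.exists_covector (F ∙ p) (u := p') fun hm => by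
    obtain ⟨k, hk⟩ := Submodule.mem_span_singleton.1 hm
    rw [← hk, map_smul, LinearMap.smul_apply, hT.balt p, smul_zero] at hp'
    exact zero_ne_one hp'
  obtain ⟨f', hf', hfp'⟩ := CfsgLib.Geo.exists_covector (F ∙ p') (u := p) fun hm => by
    obtain ⟨k, hk⟩ := Submodule.mem_span_singleton.1 hm
    rw [← hk, map_smul, hT.balt p', smul_zero] at hp'
    exact zero_ne_one hp'
  have e1 := congrArg (cR f) h1
  have e2 := congrArg (cR f') h1
  rw [map_add, cR_ten, cR_ten, cR_ten, hfp, hf p (Submodule.mem_span_singleton_self _), one_smul,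
    zero_smul, add_zero] at e1
  rw [map_add, cR_ten, cR_ten, cR_ten, hfp', hf' p' (Submodule.mem_span_singleton_self _), zero_smul,
    zero_add, one_smul] at e2
  have hv0 : v ≠ 0 := fun h => hvw (by rw [h]; exact Submodule.zero_mem _)
  have hk : f ⬝ᵥ a p' ≠ 0 := fun h0 => by
    rw [h0, zero_smul] at e1
    rw [e1, map_zero, LinearMap.zero_apply] at hwb1
    exact zero_ne_one hwb1
  rcases eq_or_ne (f' ⬝ᵥ a p') 0 with h0 | h0
  · rw [h0, zero_smul] at e2
    exact hv0 e2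
  · have hvv : v = ((f' ⬝ᵥ a p') / (f ⬝ᵥ a p')) • wb := by
      rw [e2]
      conv_rhs => rw [e1]
      rw [smul_smul, div_mul_cancel₀ _ hk]
    have hwbw : om wb w = 1 := hwb1
    have hvw' : om v w = 0 := alt_zero_swap hT.oalt hwv
    rw [hvv, map_smul, LinearMap.smul_apply, hwbw, smul_eq_mul, mul_one] at hvw'
    exact hv0 (by rw [hvv, hvw', zero_smul])

omit hex hM hnM in
/-- The stabiliser is maximal in `Ω`. -/
theorem tensor_maximal (hex : ¬ (Fintype.card α = 2 ∧ Nat.card F = 2))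
    (hcard : Fintype.card α + 1 < Fintype.card β) :
    Cfsg.Geo.IsMaximalIn (commutator (oGroup Q)) (tenStab Q ⊓ commutator (oGroup Q)) := by
  refine ⟨lt_of_le_of_ne inf_le_right fun e => omega_not_le hT ha hb (e.ge.trans inf_le_left),
    fun M hM hMK => ?_⟩
  by_cases h : M ≤ tenStab Q
  · exact Or.inl (le_antisymm (le_inf h hMK) hM)
  · by_cases hn : commutator (oGroup Q) ≤ M
    · exact Or.inr (le_antisymm hMK hn)
    · exact (no_overgroup hT ha hb hex ((inf_le_inf (tenSp_le Q b om) le_rfl).trans hM) hn hcard h).elim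

end CfsgLib.Geo.TensorO
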