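import Cfsg.Agent.Geo.USemisimple
import Cfsg.Agent.GLClass.PrimeOrder
import Mathlib

/-!
Self-dual polynomials with roots among the `r`-th roots of unity, and classes of order `r` in subgroups of
`GL` where semisimple classes are determined by self-dual polynomials.
-/

set_option autoImplicit false
set_option linter.style.haveILetI false
set_option linter.unusedSectionVars false

namespace CfsgLib.Geo.PrimeSD

open Polynomial UniqueFactorizationMonoid CfsgLib.Geo.USemi
open CfsgLib.GLClass (rootFactors mem_rootFactors rootFactors_spec)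

theorem card_sum_le {O : Type*} [Fintype O] (M : ℕ) :
    Nat.card {c : O → ℕ // ∑ o, c o ≤ M} = Nat.choose (M + Fintype.card O) (Fintype.card O) := by
  classical
  let e : {c : O → ℕ // ∑ o, c o ≤ M} ≃ {P : Option O → ℕ // ∑ o, P o = M} :=
    { toFun := fun c => ⟨fun o => o.elim (M - ∑ x, c.1 x) c.1, by
        rw [Fintype.sum_option]; exact Nat.sub_add_cancel c.2⟩
      invFun := fun P => ⟨fun o => P.1 (some o), by
        show ∑ o, P.1 (some o) ≤ M
        have := P.2; rw [Fintype.sum_option] at this; omega⟩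
      left_inv := fun c => rfl
      right_inv := fun P => Subtype.ext (funext fun o => by
        rcases o with _ | o
        · have := P.2; rw [Fintype.sum_option] at this
          show M - ∑ x, P.1 (some x) = P.1 none
          omega
        · rfl) }
  rw [Nat.card_congr (e.trans (Sym.equivNatSumOfFintype (Option O) M).symm), Nat.card_eq_fintype_card,
    Sym.card_sym_eq_choose, Fintype.card_option, show Fintype.card O + 1 + M - 1 = M + Fintype.card O by omega,
    Nat.choose_symm_add]

section count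

variable {R : Type*} [Fintype R] (D : R → R)

/-- Invariant weights of bounded size. -/
abbrev Wt (i N : ℕ) : Type _ := {m : R → ℕ // (∀ P, m (D P) = m P) ∧ i * ∑ P, m P ≤ N}

theorem card_wt_fixed {i N : ℕ} (hi : 0 < i) (hD : ∀ P, D P = P) :
    Nat.card (Wt D i N) = Nat.choose (N / i + Fintype.card R) (Fintype.card R) := by
  rw [← card_sum_le]
  refine Nat.card_congr (Equiv.subtypeEquivRight fun m => ?_)
  rw [Nat.le_div_iff_mul_le hi, mul_comm]
  exact ⟨fun h => h.2, fun h => ⟨fun P => by rw [hD], h⟩⟩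

theorem card_wt_free {i N : ℕ} (hi : 0 < i) (hDD : ∀ P, D (D P) = P) (hD : ∀ P, D P ≠ P) :
    Nat.card (Wt D i N) = Nat.choose (N / (2 * i) + Fintype.card R / 2) (Fintype.card R / 2) := by
  classical
  let e := Fintype.equivFin R
  let T := {P : R // e P < e (D P)}
  have hnot : ∀ P : R, ¬ e P < e (D P) → e (D P) < e (D (D P)) := fun P h => by
    rw [hDD]; exact lt_of_le_of_ne (not_lt.1 h) fun he => hD P (e.injective he)
  let g : T ⊕ T → R := Sum.elim (fun x => x.1) fun x => D x.1
  have hg : Function.Bijective g := by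
    constructor
    · rintro (⟨x, hx⟩ | ⟨x, hx⟩) (⟨y, hy⟩ | ⟨y, hy⟩) h
      · exact congrArg Sum.inl (Subtype.ext h)
      · exfalso; have h' : x = D y := h; subst h'; rw [hDD] at hx; exact absurd hx (lt_asymm hy)
      · exfalso; have h' : D x = y := h; subst h'; rw [hDD] at hy; exact absurd hy (lt_asymm hx)
      · refine congrArg Sum.inr (Subtype.ext ?_)
        exact (hDD x).symm.trans ((congrArg D h).trans (hDD y))
    · intro P
      by_cases h : e P < e (D P)
      · exact ⟨Sum.inl ⟨P, h⟩, rfl⟩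
      · exact ⟨Sum.inr ⟨D P, hnot P h⟩, hDD P⟩
  let ge := Equiv.ofBijective g hg
  have hcard : Fintype.card R / 2 = Fintype.card T := by
    have := Fintype.card_congr ge; rw [Fintype.card_sum] at this; omega
  have hsum : ∀ m : R → ℕ, (∀ P, m (D P) = m P) → ∑ P, m P = 2 * ∑ x : T, m x.1 := fun m hm => by
    rw [← Equiv.sum_comp ge m, Fintype.sum_sum_type, two_mul]
    exact congrArg (_ + ·) (Finset.sum_congr rfl fun x _ => hm x.1)
  rw [hcard, ← card_sum_le]
  let f : Wt D i N → {c : T → ℕ // ∑ x, c x ≤ N / (2 * i)} := fun m => ⟨fun x => m.1 x.1, by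
    have h := m.2.2
    rw [hsum m.1 m.2.1] at h
    rw [Nat.le_div_iff_mul_le (by omega)]
    linarith⟩
  refine Nat.card_eq_of_bijective f ⟨fun a b h => ?_, fun c => ?_⟩
  · refine Subtype.ext (funext fun P => ?_)
    have h' := fun x => congrFun (congrArg Subtype.val h) x
    obtain ⟨x | x, rfl⟩ := hg.2 P
    · exact h' x
    · show a.1 (D x.1) = b.1 (D x.1); rw [a.2.1, b.2.1]; exact h' x
  · let m : R → ℕ := fun P => Sum.elim c.1 c.1 (ge.symm P)
    have hl : ∀ x : T, m x.1 = c.1 x := fun x => by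
      show Sum.elim c.1 c.1 (ge.symm (ge (Sum.inl x))) = c.1 x
      rw [Equiv.symm_apply_apply]; rfl
    have hr : ∀ x : T, m (D x.1) = c.1 x := fun x => by
      show Sum.elim c.1 c.1 (ge.symm (ge (Sum.inr x))) = c.1 x
      rw [Equiv.symm_apply_apply]; rfl
    have hm : ∀ P, m (D P) = m P := fun P => by
      obtain ⟨x | x, rfl⟩ := hg.2 P
      · show m (D x.1) = m x.1; rw [hl, hr]
      · show m (D (D x.1)) = m (D x.1); rw [hDD, hl, hr]
    refine ⟨⟨m, hm, ?_⟩, Subtype.ext (funext hl)⟩
    rw [hsum m hm, Finset.sum_congr rfl fun x _ => hl x]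
    have h := (Nat.le_div_iff_mul_le (by omega : 0 < 2 * i)).1 c.2
    linarith

end count

variable {K : Type*} [Field K] [Fintype K] (p : ℕ) [Fact p.Prime] [CharP K p] (r : ℕ) [Fact r.Prime]

theorem cast_ne_zero (hrp : r.Coprime p) : (r : K) ≠ 0 := fun h =>
  ((Fact.out : p.Prime).coprime_iff_not_dvd.1 hrp.symm) ((CharP.cast_eq_zero_iff K p _).1 h)

theorem mem_rootFactors_of {P : K[X]} (hm : P.Monic) (hi : Irreducible P) (hd : P ∣ cyclotomic r K) :
    P ∈ rootFactors K r := by
  classical
  obtain ⟨Q', h1, h2⟩ := exists_mem_normalizedFactors_of_dvd (cyclotomic_ne_zero r K) hi hd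
  rw [eq_of_monic_of_associated hm (CfsgLib.GLClass.monic_of_mem_nf h1) h2]
  exact Multiset.mem_toFinset.2 h1

theorem orderOf_pos' (hrp : r.Coprime p) : 0 < orderOf ((Fintype.card K : ℕ) : ZMod r) := by
  have hr : r.Prime := Fact.out
  refine orderOf_pos_iff.2 (isOfFinOrder_iff_pow_eq_one.2 ⟨r - 1, by have := hr.two_le; omega,
    ZMod.pow_card_sub_one_eq_one fun h => ?_⟩)
  obtain ⟨m, -, hm⟩ := FiniteField.card K p
  rw [ZMod.natCast_eq_zero_iff, hm] at h
  exact (hr.coprime_iff_not_dvd.1 hrp) (hr.dvd_of_dvd_pow h)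

/-- Duality on the factors of the cyclotomic polynomial. -/
theorem dual_rootFactor (hrp : r.Coprime p) (σ : K →+* K) {k : ℕ} (hσ : ∀ a, σ a = a ^ p ^ k)
    {P : K[X]} (hP : P ∈ rootFactors K r) :
    dual σ P ∈ rootFactors K r ∧
      (dual σ P = P ↔ ∃ j : ℕ, ((Fintype.card K : ℕ) : ZMod r) ^ j = -((p ^ k : ℕ) : ZMod r)) := by
  classical
  obtain ⟨hPm, hPi, hPd⟩ := mem_rootFactors hP
  set i := orderOf ((Fintype.card K : ℕ) : ZMod r) with hi
  have hdeg : ∀ P' ∈ rootFactors K r, P'.natDegree = i := (rootFactors_spec (F := K) p hrp).1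
  haveI := Fact.mk hPi
  let pb := AdjoinRoot.powerBasis hPm.ne_zero
  haveI : Module.Finite K (AdjoinRoot P) := pb.finite
  haveI : CharP (AdjoinRoot P) p := charP_of_injective_algebraMap (algebraMap K (AdjoinRoot P)).injective p
  set α := AdjoinRoot.root P with hα
  have hαP : aeval α P = 0 := by rw [AdjoinRoot.aeval_eq, AdjoinRoot.mk_self]
  haveI : NeZero (r : AdjoinRoot P) := ⟨by
    rw [← map_natCast (algebraMap K (AdjoinRoot P))]
    exact (_root_.map_ne_zero _).2 (cast_ne_zero p r hrp)⟩
  have hcyc : ∀ x : AdjoinRoot P, aeval x (cyclotomic r K) = 0 ↔ IsPrimitiveRoot x r := fun x => by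
    rw [← isRoot_cyclotomic_iff, IsRoot, aeval_def, eval₂_eq_eval_map, map_cyclotomic]
  have hprim : IsPrimitiveRoot α r := (hcyc α).1 (by
    obtain ⟨c, hc⟩ := hPd
    rw [hc, map_mul, hαP, zero_mul])
  have hP0 : P.coeff 0 ≠ 0 := by
    refine CfsgLib.GLClass.coeff_zero_ne_of_dvd hPd ?_
    rw [cyclotomic_coeff_zero K (Fact.out : r.Prime).one_lt]; exact one_ne_zero
  have hα0 : α ≠ 0 := hprim.ne_zero (Fact.out : r.Prime).ne_zero
  set β := (α ^ p ^ k)⁻¹ with hβ
  have hβprim : IsPrimitiveRoot β r := (hprim.pow_of_coprime _ (hrp.symm.pow_left k)).inv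
  have hβdual : aeval β (dual σ P) = 0 := by
    rw [dual, map_mul]
    refine mul_eq_zero_of_right _ ?_
    letI := invertibleOfNonzero (pow_ne_zero (p ^ k) hα0)
    rw [hβ, ← invOf_eq_inv, aeval_def, eval₂_reverse_eq_zero_iff, eval₂_map]
    have e : (algebraMap K (AdjoinRoot P)).comp σ =
        (iterateFrobenius (AdjoinRoot P) p k).comp (algebraMap K (AdjoinRoot P)) := RingHom.ext fun a => by
      rw [RingHom.comp_apply, RingHom.comp_apply, hσ, map_pow, iterateFrobenius_def]
    rw [e, ← iterateFrobenius_def p k α, ← Polynomial.hom_eval₂, ← aeval_def, hαP, map_zero]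
  have hint : IsIntegral K β := IsIntegral.of_finite K β
  have hMR : minpoly K β ∈ rootFactors K r :=
    mem_rootFactors_of r (minpoly.monic hint) (minpoly.irreducible hint) (minpoly.dvd K β ((hcyc β).2 hβprim))
  have hMdual : dual σ P = minpoly K β :=
    eq_of_monic_of_dvd_of_natDegree_le (minpoly.monic hint) (monic_dual σ hP0) (minpoly.dvd K β hβdual)
      (by rw [natDegree_dual σ hP0, hdeg P hP, hdeg _ hMR])
  refine ⟨hMdual ▸ hMR, ?_⟩
  have hroots : ∀ j : ℕ, aeval (α ^ Fintype.card K ^ j) P = 0 := by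
    intro j
    induction j with
    | zero => rw [pow_zero, pow_one, hαP]
    | succ j ih => rw [pow_succ (Fintype.card K), pow_mul, ← expand_aeval, FiniteField.expand_card, map_pow, ih,
        zero_pow Fintype.card_ne_zero]
  have hkey : ∀ j : ℕ, α ^ Fintype.card K ^ j = β ↔
      ((Fintype.card K : ℕ) : ZMod r) ^ j = -((p ^ k : ℕ) : ZMod r) := fun j => by
    rw [hβ, ← mul_eq_one_iff_eq_inv₀ (pow_ne_zero _ hα0), ← pow_add, hprim.pow_eq_one_iff_dvd,
      ← ZMod.natCast_eq_zero_iff, Nat.cast_add, Nat.cast_pow, add_eq_zero_iff_eq_neg]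
  constructor
  · intro h
    rw [hMdual] at h
    have hβP : aeval β P = 0 := by have := minpoly.aeval K β; rwa [h] at this
    let S := (Finset.range i).image fun j => α ^ Fintype.card K ^ j
    have hS : S.card = i := by
      rw [Finset.card_image_of_injOn, Finset.card_range]
      intro a ha b hb hab
      have h1 : ((Fintype.card K ^ a : ℕ) : ZMod r) = ((Fintype.card K ^ b : ℕ) : ZMod r) := by
        rw [ZMod.natCast_eq_natCast_iff']
        have h2 : α ^ (Fintype.card K ^ a) = α ^ (Fintype.card K ^ b) := hab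
        rw [← pow_mod_orderOf α (Fintype.card K ^ a), ← pow_mod_orderOf α (Fintype.card K ^ b), ← hprim.eq_orderOf] at h2
        exact hprim.pow_inj (Nat.mod_lt _ (Fact.out : r.Prime).pos) (Nat.mod_lt _ (Fact.out : r.Prime).pos) h2
      rw [Nat.cast_pow, Nat.cast_pow] at h1
      exact pow_injOn_Iio_orderOf (by simpa using ha) (by simpa using hb) h1
    by_contra hne
    have hβS : β ∉ S := fun hb => by
      obtain ⟨j, -, hj⟩ := Finset.mem_image.1 hb
      exact hne ⟨j, (hkey j).1 hj⟩
    have hsub : insert β S ⊆ (P.aroots (AdjoinRoot P)).toFinset := by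
      intro x hx
      rw [Multiset.mem_toFinset, mem_aroots]
      refine ⟨hPm.ne_zero, ?_⟩
      rcases Finset.mem_insert.1 hx with rfl | hx
      · exact hβP
      · obtain ⟨j, -, rfl⟩ := Finset.mem_image.1 hx; exact hroots j
    have h1 := (Finset.card_le_card hsub).trans (Multiset.toFinset_card_le _)
    have h2 := card_roots' (P.map (algebraMap K (AdjoinRoot P)))
    rw [Finset.card_insert_of_notMem hβS, hS] at h1
    rw [natDegree_map, hdeg P hP] at h2
    rw [aroots_def] at h1
    omega
  · rintro ⟨j, hj⟩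
    have hβP : aeval β P = 0 := (hkey j).2 hj ▸ hroots j
    rw [hMdual]
    exact (eq_of_monic_of_dvd_of_natDegree_le (minpoly.monic hint) hPm (minpoly.dvd K β hβP)
      (by rw [hdeg P hP, hdeg _ hMR])).symm

theorem dual_one (σ : K →+* K) : dual σ (1 : K[X]) = 1 := by
  rw [dual, coeff_one_zero, map_one, inv_one, map_one, one_mul, Polynomial.map_one, ← C_1, reverse_C]

/-- `dual` as a monoid map. -/
noncomputable def dualHom (σ : K →+* K) : K[X] →* K[X] where
  toFun := dual σ
  map_one' := dual_one σ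
  map_mul' := dual_mul σ

theorem dual_X_sub_one (σ : K →+* K) : dual σ (X - C 1) = X - C 1 := by
  have h0 : (X - C (1 : K)).coeff 0 = -1 := by simp
  have h0' : (X - C (1 : K)).coeff 0 ≠ 0 := by rw [h0]; exact neg_ne_zero.2 one_ne_zero
  have h := (monic_dual σ h0').eq_X_add_C (by rw [natDegree_dual σ h0', natDegree_X_sub_C])
  rw [coeff_zero_dual σ (monic_X_sub_C 1), h0] at h
  rw [h]; simp [sub_eq_add_neg]

/-- The polynomial of a weight. -/
noncomputable def wpoly (i N : ℕ) (m : rootFactors K r → ℕ) : K[X] :=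
  (X - C 1) ^ (N - i * ∑ P, m P) * ∏ P : rootFactors K r, P.1 ^ m P

theorem wpoly_props (hrp : r.Coprime p) {i N : ℕ} (hi : i = orderOf ((Fintype.card K : ℕ) : ZMod r))
    (m : rootFactors K r → ℕ) (hm : i * ∑ P, m P ≤ N) :
    (wpoly r i N m).Monic ∧ (wpoly r i N m).natDegree = N ∧ (wpoly r i N m).coeff 0 ≠ 0 := by
  classical
  have hdeg : ∀ P : rootFactors K r, (P : K[X]).natDegree = i := fun P =>
    hi ▸ (rootFactors_spec (F := K) p hrp).1 P.1 P.2
  have hmon : ∀ P : rootFactors K r, (P : K[X]).Monic := fun P => (mem_rootFactors P.2).1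
  have h1 : ((X : K[X]) - C 1) ^ (N - i * ∑ P, m P) |>.Monic := (monic_X_sub_C 1).pow _
  have h2 : (∏ P : rootFactors K r, P.1 ^ m P).Monic := monic_prod_of_monic _ _ fun P _ => (hmon P).pow _
  refine ⟨h1.mul h2, ?_, ?_⟩
  · rw [wpoly, h1.natDegree_mul h2, (monic_X_sub_C 1).natDegree_pow, natDegree_X_sub_C, mul_one,
      natDegree_prod_of_monic _ _ fun P _ => (hmon P).pow _,
      Finset.sum_congr rfl fun P _ => (hmon P).natDegree_pow (m P)]
    simp only [hdeg, ← Finset.sum_mul]
    rw [mul_comm (∑ P, m P) i]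
    omega
  · rw [wpoly, coeff_zero_eq_eval_zero, eval_mul, eval_pow, eval_prod]
    refine mul_ne_zero (pow_ne_zero _ (by simp)) (Finset.prod_ne_zero_iff.2 fun P _ => ?_)
    rw [eval_pow, ← coeff_zero_eq_eval_zero]
    refine pow_ne_zero _ (CfsgLib.GLClass.coeff_zero_ne_of_dvd (mem_rootFactors P.2).2.2 ?_)
    rw [cyclotomic_coeff_zero K (Fact.out : r.Prime).one_lt]; exact one_ne_zero

theorem one_not_mem (hrp : r.Coprime p) : (X - C (1 : K)) ∉ rootFactors K r := fun h => by
  have h1 : (cyclotomic r K).IsRoot 1 := dvd_iff_isRoot.1 (mem_rootFactors h).2.2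
  rw [IsRoot, eval_one_cyclotomic_prime] at h1
  exact cast_ne_zero p r hrp h1

theorem nf_wpoly [DecidableEq K] (i N : ℕ) (m : rootFactors K r → ℕ) :
    normalizedFactors (wpoly r i N m) =
      Multiset.replicate (N - i * ∑ P, m P) (X - C 1) + ∑ P, Multiset.replicate (m P) (P : K[X]) := by
  set s := Multiset.replicate (N - i * ∑ P, m P) (X - C (1 : K)) + ∑ P, Multiset.replicate (m P) (P : K[X])
  have hs : ∀ Q ∈ s, Q.Monic ∧ Irreducible Q := by
    intro Q hQ
    rcases Multiset.mem_add.1 hQ with h | h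
    · rw [Multiset.eq_of_mem_replicate h]; exact ⟨monic_X_sub_C 1, irreducible_X_sub_C 1⟩
    · obtain ⟨P, -, hP⟩ := Multiset.mem_sum.1 h
      rw [Multiset.eq_of_mem_replicate hP]; exact ⟨(mem_rootFactors P.2).1, (mem_rootFactors P.2).2.1⟩
  have hp : wpoly r i N m = s.prod := by
    rw [Multiset.prod_add, Multiset.prod_replicate, Multiset.prod_sum]
    simp only [Multiset.prod_replicate]
    unfold wpoly; rfl
  rw [hp, normalizedFactors_prod_eq _ fun Q hQ => (hs Q hQ).2]
  exact (Multiset.map_congr rfl fun Q hQ => (hs Q hQ).1.normalize_eq_self).trans (Multiset.map_id _)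

theorem count_wpoly [DecidableEq K] (hrp : r.Coprime p) (i N : ℕ) (m : rootFactors K r → ℕ) (P : rootFactors K r) :
    (normalizedFactors (wpoly r i N m)).count (P : K[X]) = m P := by
  rw [nf_wpoly, Multiset.count_add, Multiset.count_replicate,
    if_neg fun h : X - C (1 : K) = P.1 => one_not_mem p r hrp (by rw [h]; exact P.2), zero_add, Multiset.count_sum',
    Finset.sum_eq_single P]
  · rw [Multiset.count_replicate_self]
  · intro b _ hb
    rw [Multiset.count_replicate, if_neg fun h => hb (Subtype.ext h)]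
  · intro h; exact absurd (Finset.mem_univ P) h

open scoped Classical in
/-- Classes of elements with `x ^ r = 1` other than the identity. -/
theorem card_classes (hrp : r.Coprime p) (σ : K →+* K) (hσσ : ∀ a, σ (σ a) = a) {k : ℕ}
    (hσ : ∀ a, σ a = a ^ p ^ k) {N : ℕ} {H : Type*} [Group H] (ι : H →* GL (Fin N) K)
    (hι : Function.Injective ι) (hdual : ∀ h, dual σ (ι h).val.charpoly = (ι h).val.charpoly)
    (hconj : ∀ x y : H, (orderOf (ι x)).Coprime p → IsConj (ι x) (ι y) → IsConj x y)
    {i : ℕ} (hi : i = orderOf ((Fintype.card K : ℕ) : ZMod r))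
    (hex : ∀ m : rootFactors K r → ℕ, i * ∑ P, m P ≤ N → dual σ (wpoly r i N m) = wpoly r i N m →
      ∃ h : H, (orderOf (ι h)).Coprime p ∧ (ι h).val.charpoly = wpoly r i N m) :
    Nat.card {C : ConjClasses H // ∃ g, ConjClasses.mk g = C ∧ orderOf g = r} =
      (if ∃ j : ℕ, ((Fintype.card K : ℕ) : ZMod r) ^ j = -((p ^ k : ℕ) : ZMod r) then
        Nat.choose (N / i + (r - 1) / i) ((r - 1) / i)
      else Nat.choose (N / (2 * i) + (r - 1) / i / 2) ((r - 1) / i / 2)) - 1 := by
  classical
  have hr : r.Prime := Fact.out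
  have hi0 : 0 < i := hi ▸ orderOf_pos' p r hrp
  have hcard : Fintype.card (rootFactors K r) = (r - 1) / i := by
    rw [Fintype.card_coe, hi]; exact (rootFactors_spec (F := K) p hrp).2
  have hco : ∀ P : rootFactors K r, (P : K[X]).coeff 0 ≠ 0 := fun P => by
    refine CfsgLib.GLClass.coeff_zero_ne_of_dvd (mem_rootFactors P.2).2.2 ?_
    rw [cyclotomic_coeff_zero K hr.one_lt]; exact one_ne_zero
  let D : rootFactors K r → rootFactors K r := fun P => ⟨dual σ P.1, (dual_rootFactor p r hrp σ hσ P.2).1⟩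
  have hDD : ∀ P, D (D P) = P := fun P => Subtype.ext (dual_dual σ hσσ (mem_rootFactors P.2).1 (hco P))
  let De : Equiv.Perm (rootFactors K r) := ⟨D, D, hDD, hDD⟩
  let Z : Wt D i N := ⟨fun _ => 0, fun _ => rfl, by simp⟩
  -- dual of a weight polynomial
  have hwd : ∀ m : Wt D i N, dual σ (wpoly r i N m.1) = wpoly r i N m.1 := fun m => by
    show dualHom σ _ = _
    rw [wpoly, map_mul, map_pow, map_prod, show dualHom σ (X - C 1) = X - C 1 from dual_X_sub_one σ]
    congr 1
    rw [← Equiv.prod_comp De (fun P => (P : K[X]) ^ m.1 P)]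
    refine Finset.prod_congr rfl fun P _ => ?_
    show dualHom σ _ = (D P : K[X]) ^ m.1 (D P)
    rw [map_pow, m.2.1]; rfl
  have hmem : ∀ P : K[X], P.Monic → Irreducible P →
      (P ∣ X ^ r - 1 ↔ P = X - C 1 ∨ P ∈ rootFactors K r) := fun P hPm hP => by
    rw [← cyclotomic_prime_mul_X_sub_one K r, ← C_1]
    constructor
    · intro h
      rcases hP.prime.dvd_or_dvd h with h | h
      · exact Or.inr (mem_rootFactors_of r hPm hP h)
      · exact Or.inl (eq_of_monic_of_associated hPm (monic_X_sub_C 1) (hP.associated_of_dvd (irreducible_X_sub_C 1) h))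
    · rintro (rfl | h)
      · exact dvd_mul_left _ _
      · exact (mem_rootFactors h).2.2.trans (dvd_mul_right _ _)
  choose g hgo hgc using fun m : Wt D i N => hex m.1 m.2.2 (hwd m)
  have hpr := fun m : Wt D i N => wpoly_props p r hrp hi m.1 m.2.2
  have hgr : ∀ m, g m ^ r = 1 := fun m => by
    refine hι ?_
    rw [map_pow, map_one, CfsgLib.GLClass.pow_eq_one_iff_charpoly p hrp]
    refine ⟨hgo m, fun P hPm hP hdvd => (hmem P hPm hP).2 ?_⟩
    rw [hgc] at hdvd
    obtain ⟨Q', h1, h2⟩ := exists_mem_normalizedFactors_of_dvd (hpr m).1.ne_zero hP hdvd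
    rw [eq_of_monic_of_associated hPm (CfsgLib.GLClass.monic_of_mem_nf h1) h2]
    rw [nf_wpoly] at h1
    rcases Multiset.mem_add.1 h1 with h | h
    · exact Or.inl (Multiset.eq_of_mem_replicate h)
    · obtain ⟨P', -, hP'⟩ := Multiset.mem_sum.1 h
      exact Or.inr (Multiset.eq_of_mem_replicate hP' ▸ P'.2)
  let f : Wt D i N → {C : ConjClasses H // ∃ g, ConjClasses.mk g = C ∧ g ^ r = 1} := fun m =>
    ⟨ConjClasses.mk (g m), g m, rfl, hgr m⟩
  have hf : Function.Bijective f := by
    constructor
    · intro a b h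
      have h1 := CfsgLib.GLClass.charpoly_eq_of_isConj (MonoidHom.map_isConj ι
        (ConjClasses.mk_eq_mk_iff_isConj.1 (congrArg Subtype.val h)))
      rw [hgc, hgc] at h1
      refine Subtype.ext (funext fun P => ?_)
      rw [← count_wpoly p r hrp i N a.1 P, h1, count_wpoly p r hrp]
    · rintro ⟨_, x, rfl, hx⟩
      obtain ⟨hxo, hxf⟩ := (CfsgLib.GLClass.pow_eq_one_iff_charpoly p hrp (ι x)).1 (by rw [← map_pow, hx, map_one])
      set c := (ι x).val.charpoly with hc
      have hcm : c.Monic := Matrix.charpoly_monic _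
      have hprod : (normalizedFactors c).prod = c := by
        rw [prod_normalizedFactors_eq hcm.ne_zero, hcm.normalize_eq_self]
      have hnm : ∀ Q ∈ normalizedFactors c, Q = X - C 1 ∨ Q ∈ rootFactors K r := fun Q hQ =>
        (hmem Q (CfsgLib.GLClass.monic_of_mem_nf hQ) (irreducible_of_normalized_factor Q hQ)).1
          (hxf Q (CfsgLib.GLClass.monic_of_mem_nf hQ) (irreducible_of_normalized_factor Q hQ)
            (dvd_of_mem_normalizedFactors hQ))
      let m : rootFactors K r → ℕ := fun P => (normalizedFactors c).count (P : K[X])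
      have hdd : ∀ Q, Q = X - C 1 ∨ Q ∈ rootFactors K r → dual σ (dual σ Q) = Q ∧
          (dual σ Q).Monic ∧ Irreducible (dual σ Q) := by
        rintro Q (rfl | hQ)
        · rw [dual_X_sub_one, dual_X_sub_one]; exact ⟨rfl, monic_X_sub_C 1, irreducible_X_sub_C 1⟩
        · have h' := (D ⟨Q, hQ⟩).2
          exact ⟨congrArg Subtype.val (hDD ⟨Q, hQ⟩), (mem_rootFactors h').1, (mem_rootFactors h').2.1⟩
      have hmap : (normalizedFactors c).map (dual σ) = normalizedFactors c := by
        have h1 : ((normalizedFactors c).map (dualHom σ)).prod = c := by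
          rw [← map_multiset_prod, hprod]; exact hdual x
        conv_rhs => rw [← h1]
        rw [normalizedFactors_prod_eq _ fun Q hQ => by
          obtain ⟨Q', hQ', rfl⟩ := Multiset.mem_map.1 hQ; exact (hdd Q' (hnm Q' hQ')).2.2]
        rw [Multiset.map_map]
        exact Multiset.map_congr rfl fun Q hQ => ((hdd Q (hnm Q hQ)).2.1.normalize_eq_self).symm
      have hinv : ∀ P, m (D P) = m P := fun P => by
        show Multiset.count (dual σ P.1) (normalizedFactors c) = Multiset.count P.1 (normalizedFactors c)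
        conv_lhs => rw [← hmap, Multiset.count_map]
        rw [Multiset.count_eq_card_filter_eq]
        congr 1
        refine Multiset.filter_congr fun Q hQ => ⟨fun h => ?_, fun h => h ▸ rfl⟩
        rw [← (hdd Q (hnm Q hQ)).1, ← h, (hdd P.1 (Or.inr P.2)).1]
      have hnf : normalizedFactors c =
          Multiset.replicate ((normalizedFactors c).count (X - C 1)) (X - C 1) +
            ∑ P, Multiset.replicate (m P) (P : K[X]) := by
        refine Multiset.ext.2 fun Q => ?_
        rw [Multiset.count_add, Multiset.count_replicate, Multiset.count_sum']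
        by_cases hQu : X - C 1 = Q
        · rw [if_pos hQu, Finset.sum_eq_zero fun P _ => by
            rw [Multiset.count_replicate, if_neg fun h => one_not_mem p r hrp (by rw [hQu, ← h]; exact P.2)],
            add_zero, hQu]
        rw [if_neg hQu, zero_add]
        by_cases hQR : Q ∈ rootFactors K r
        · rw [Finset.sum_eq_single ⟨Q, hQR⟩ (fun b _ hb => by
            rw [Multiset.count_replicate, if_neg fun h => hb (Subtype.ext h)])
            (fun h => absurd (Finset.mem_univ _) h), Multiset.count_replicate_self]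
        · rw [Finset.sum_eq_zero fun P _ => by rw [Multiset.count_replicate, if_neg fun h : P.1 = Q => hQR (h ▸ P.2)],
            Multiset.count_eq_zero]
          exact fun h => (hnm Q h).elim (fun e => hQu e.symm) hQR
      set u := (normalizedFactors c).count (X - C 1)
      have hcd : c = (X - C 1) ^ u * ∏ P : rootFactors K r, P.1 ^ m P := by
        conv_lhs => rw [← hprod, hnf]
        rw [Multiset.prod_add, Multiset.prod_replicate, Multiset.prod_sum]
        simp only [Multiset.prod_replicate]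
      have hN : u + i * ∑ P, m P = N := by
        have h := congrArg natDegree hcd
        rw [hc, Matrix.charpoly_natDegree_eq_dim, Fintype.card_fin, ((monic_X_sub_C (1 : K)).pow u).natDegree_mul
          (monic_prod_of_monic _ _ fun P _ => (mem_rootFactors P.2).1.pow _), (monic_X_sub_C 1).natDegree_pow,
          natDegree_X_sub_C, mul_one, natDegree_prod_of_monic _ _ fun P _ => (mem_rootFactors P.2).1.pow _,
          Finset.sum_congr rfl fun P _ => (mem_rootFactors P.2).1.natDegree_pow (m P)] at h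
        rw [h, Finset.mul_sum]
        congr 1
        refine Finset.sum_congr rfl fun P _ => ?_
        rw [(rootFactors_spec (F := K) p hrp).1 P.1 P.2, ← hi, mul_comm]
      let w : Wt D i N := ⟨m, hinv, by omega⟩
      refine ⟨w, Subtype.ext (ConjClasses.mk_eq_mk_iff_isConj.2 (hconj _ _ (hgo w)
        (CfsgLib.GLClass.isConj_of_charpoly_eq p (hgo w) hxo ?_)))⟩
      rw [hgc w, ← hc, hcd, wpoly, show N - i * ∑ P, w.1 P = u by show N - i * ∑ P, m P = u; omega]
  -- remove the identity
  have hsplit : Nat.card {C : ConjClasses H // ∃ g, ConjClasses.mk g = C ∧ orderOf g = r} + 1 =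
      Nat.card {C : ConjClasses H // ∃ g, ConjClasses.mk g = C ∧ g ^ r = 1} := by
    haveI : Finite H := Finite.of_injective ι hι
    haveI : Finite (ConjClasses H) := inferInstance
    let e : {C : ConjClasses H // ∃ g, ConjClasses.mk g = C ∧ orderOf g = r} ⊕ Unit →
        {C : ConjClasses H // ∃ g, ConjClasses.mk g = C ∧ g ^ r = 1} :=
      Sum.elim (fun C => ⟨C.1, by obtain ⟨g, h1, h2⟩ := C.2; exact ⟨g, h1, h2 ▸ pow_orderOf_eq_one g⟩⟩)
        fun _ => ⟨ConjClasses.mk 1, 1, rfl, one_pow r⟩
    rw [← Nat.card_eq_of_bijective e ⟨?_, ?_⟩, Nat.card_sum, Nat.card_unique (α := Unit)]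
    · rintro (⟨C, g, hg, hgo⟩ | ⟨⟩) (⟨C', g', hg', hgo'⟩ | ⟨⟩) h
      · have h' : C = C' := congrArg Subtype.val h
        exact congrArg Sum.inl (Subtype.ext h')
      · exfalso
        have h' : ConjClasses.mk g = ConjClasses.mk 1 := hg.trans (congrArg Subtype.val h)
        rw [isConj_one_right.1 (ConjClasses.mk_eq_mk_iff_isConj.1 h'.symm), orderOf_one] at hgo
        exact hr.one_lt.ne hgo
      · exfalso
        have h' : ConjClasses.mk g' = ConjClasses.mk 1 := hg'.trans (congrArg Subtype.val h).symm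
        rw [isConj_one_right.1 (ConjClasses.mk_eq_mk_iff_isConj.1 h'.symm), orderOf_one] at hgo'
        exact hr.one_lt.ne hgo'
      · rfl
    · rintro ⟨C, g, hg, hgr⟩
      by_cases h1 : g = 1
      · exact ⟨Sum.inr (), Subtype.ext (show ConjClasses.mk 1 = C by rw [← hg, h1])⟩
      · exact ⟨Sum.inl ⟨C, g, hg, orderOf_eq_prime hgr h1⟩, rfl⟩
  rw [← Nat.card_eq_of_bijective f hf] at hsplit
  split_ifs with hcase
  · rw [card_wt_fixed D hi0 fun P => Subtype.ext ((dual_rootFactor p r hrp σ hσ P.2).2.2 hcase), hcard] at hsplit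
    omega
  · rw [card_wt_free D hi0 hDD fun P h =>
      hcase ((dual_rootFactor p r hrp σ hσ P.2).2.1 (congrArg Subtype.val h)), hcard] at hsplit
    omega

end CfsgLib.Geo.PrimeSD
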