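import Cfsg.Agent.Geo.NCMultiset
import Cfsg.Agent.Geo.PGLInvol
import Cfsg.Agent.GLClass.PrimeOrder
import Mathlib.FieldTheory.KummerPolynomial
import Mathlib.RingTheory.RootsOfUnity.PrimitiveRoots
import Mathlib.Data.Matrix.Block

/-!
Classes of elements of prime order `r` in projective groups when the `r`-th roots of unity are scalars.
-/

set_option autoImplicit false
set_option linter.style.haveILetI false

namespace CfsgLib.Geo.ProjPrimeClasses

open Matrix Polynomial CfsgLib.Geo.FieldTwist UniqueFactorizationMonoid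

variable {F : Type*} [Field F] {n r : ℕ}

/-- Diagonal elements. -/
def dg (v : Fin n → Fˣ) : GL (Fin n) F where
  val := Matrix.diagonal fun i => (v i : F)
  inv := Matrix.diagonal fun i => (((v i)⁻¹ : Fˣ) : F)
  val_inv := by rw [Matrix.diagonal_mul_diagonal, ← Matrix.diagonal_one]; simp
  inv_val := by rw [Matrix.diagonal_mul_diagonal, ← Matrix.diagonal_one]; simp

theorem scal_mul_dg (a : Fˣ) (v : Fin n → Fˣ) : scal n a * dg v = dg fun i => a * v i := by
  refine Units.ext ?_
  rw [scal_mul_val]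
  show (a : F) • Matrix.diagonal (fun i => (v i : F)) = Matrix.diagonal (fun i => ((a * v i : Fˣ) : F))
  rw [← Matrix.diagonal_smul]
  congr 1

theorem dg_pow (v : Fin n → Fˣ) (k : ℕ) : dg v ^ k = dg fun i => v i ^ k := by
  refine Units.ext ?_
  rw [Units.val_pow_eq_pow_val]
  show (Matrix.diagonal fun i => (v i : F)) ^ k = Matrix.diagonal fun i => ((v i ^ k : Fˣ) : F)
  rw [Matrix.diagonal_pow]
  congr 1

theorem dg_one : dg (fun _ : Fin n => (1 : Fˣ)) = 1 :=
  Units.ext (by show Matrix.diagonal (fun _ : Fin n => ((1 : Fˣ) : F)) = 1; simp)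

theorem scal_comm (a : Fˣ) (g : GL (Fin n) F) : Commute (scal n a) g :=
  Units.ext (by
    rw [Units.val_mul, Units.val_mul, scal_val, smul_mul_assoc, one_mul, mul_smul_comm, mul_one])

theorem scal_inj (hn : 1 ≤ n) {a b : Fˣ} (h : scal n a = scal (K := F) n b) : a = b := by
  have h' := congrFun (congrFun (congrArg (fun g : GL (Fin n) F => (g : Matrix (Fin n) (Fin n) F)) h)
    ⟨0, hn⟩) ⟨0, hn⟩
  exact Units.ext (by simpa [scal_val] using h')

theorem charpoly_dg (v : Fin n → Fˣ) :
    (dg v : Matrix (Fin n) (Fin n) F).charpoly =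
      ((Finset.univ.val.map fun i => (v i : F)).map fun a => X - C a).prod := by
  show (Matrix.diagonal fun i => (v i : F)).charpoly = _
  rw [Matrix.charpoly_diagonal, Multiset.map_map]
  rfl

theorem map_eq_of_isConj {v w : Fin n → Fˣ} (h : IsConj (dg v) (dg w)) :
    Finset.univ.val.map v = Finset.univ.val.map w := by
  have h1 := CfsgLib.GLClass.charpoly_eq_of_isConj h
  rw [charpoly_dg, charpoly_dg] at h1
  have h2 := congrArg Polynomial.roots h1
  rw [roots_multiset_prod_X_sub_C, roots_multiset_prod_X_sub_C] at h2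
  refine Multiset.map_injective (f := fun u : Fˣ => (u : F)) Units.val_injective ?_
  rw [Multiset.map_map, Multiset.map_map]
  exact h2

variable [Fintype F] (p : ℕ) [Fact p.Prime] [CharP F p]

theorem isConj_dg (hrp : r.Coprime p) {v w : Fin n → Fˣ} (hv : ∀ i, v i ^ r = 1) (hw : ∀ i, w i ^ r = 1)
    (h : Finset.univ.val.map v = Finset.univ.val.map w) : IsConj (dg v) (dg w) := by
  have key : ∀ u : Fin n → Fˣ, (∀ i, u i ^ r = 1) → (orderOf (dg u)).Coprime p := fun u hu =>
    hrp.coprime_dvd_left (orderOf_dvd_of_pow_eq_one (by rw [dg_pow]; simp only [hu]; exact dg_one))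
  refine CfsgLib.GLClass.isConj_of_charpoly_eq p (key v hv) (key w hw) ?_
  rw [charpoly_dg, charpoly_dg]
  congr 2
  have := congrArg (Multiset.map fun u : Fˣ => (u : F)) h
  rwa [Multiset.map_map, Multiset.map_map] at this

/-- Elements of order dividing `r` diagonalise. -/
theorem exists_dg_conj (hr : r.Prime) (hrp : r.Coprime p) (hdvd : r ∣ Nat.card Fˣ)
    {t : GL (Fin n) F} (ht : t ^ r = 1) : ∃ v : Fin n → Fˣ, (∀ i, v i ^ r = 1) ∧ IsConj t (dg v) := by
  classical
  haveI : Fact r.Prime := ⟨hr⟩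
  haveI : NeZero r := ⟨hr.ne_zero⟩
  obtain ⟨ζ, hζ⟩ := exists_prime_orderOf_dvd_card' r hdvd
  have hprim : IsPrimitiveRoot (ζ : F) r := hζ ▸ IsPrimitiveRoot.coe_units_iff.2 (IsPrimitiveRoot.orderOf ζ)
  set f := (t : Matrix (Fin n) (Fin n) F).charpoly with hf
  have hf0 : f ≠ 0 := (Matrix.charpoly_monic _).ne_zero
  have hlin : ∀ P ∈ normalizedFactors f, ∃ a : Fˣ, a ^ r = 1 ∧ P = X - C (a : F) := by
    intro P hP
    have hPi := irreducible_of_normalized_factor P hP
    have hd := ((CfsgLib.GLClass.pow_eq_one_iff_charpoly p hrp t).1 ht).2 P (CfsgLib.GLClass.monic_of_mem_nf hP) hPi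
      (dvd_of_mem_normalizedFactors hP)
    rw [Polynomial.X_pow_sub_one_eq_prod hr.pos hprim] at hd
    obtain ⟨a, ha, hPa⟩ := (hPi.prime.dvd_finsetProd_iff _).1 hd
    have ha' := (Polynomial.mem_nthRootsFinset hr.pos (1 : F)).1 ha
    have ha0 : a ≠ 0 := fun h => by rw [h, zero_pow hr.ne_zero] at ha'; exact zero_ne_one ha'
    exact ⟨Units.mk0 a ha0, Units.ext (by simpa using ha'),
      eq_of_monic_of_associated (CfsgLib.GLClass.monic_of_mem_nf hP) (monic_X_sub_C a)
        (hPi.associated_of_dvd (irreducible_X_sub_C a) hPa)⟩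
  choose g hg1 hg2 using hlin
  let m : Multiset Fˣ := (normalizedFactors f).attach.map fun P => g P.1 P.2
  have hprod : ((Multiset.map (fun u : Fˣ => (u : F)) m).map fun a => X - C a).prod = f := by
    rw [Multiset.map_map, Multiset.map_map]
    have e : (normalizedFactors f).attach.map (((fun a => X - C a) ∘ (fun u : Fˣ => (u : F))) ∘ fun P => g P.1 P.2) =
        normalizedFactors f := by
      conv_rhs => rw [← Multiset.attach_map_val (normalizedFactors f)]
      exact Multiset.map_congr rfl fun P _ => (hg2 P.1 P.2).symm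
    rw [e, prod_normalizedFactors_eq hf0, (Matrix.charpoly_monic _).normalize_eq_self]
  have hcard : Multiset.card m = n := by
    have h1 := congrArg natDegree hprod
    rw [natDegree_multiset_prod_X_sub_C_eq_card, Multiset.card_map, hf, Matrix.charpoly_natDegree_eq_dim,
      Fintype.card_fin] at h1
    exact h1
  have hmem : ∀ u ∈ m, u ^ r = 1 := fun u hu => by
    obtain ⟨P, -, rfl⟩ := Multiset.mem_map.1 hu
    exact hg1 _ _
  obtain ⟨L, hL⟩ : ∃ L : List Fˣ, (L : Multiset Fˣ) = m := Quot.exists_rep m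
  have hLn : L.length = n := by rw [← hcard, ← hL, Multiset.coe_card]
  clear_value m
  subst hLn
  refine ⟨L.get, fun i => ?_, ?_⟩
  · exact hmem _ (hL ▸ Multiset.mem_coe.2 (List.get_mem L i))
  · refine CfsgLib.GLClass.isConj_of_charpoly_eq p
      (hrp.coprime_dvd_left (orderOf_dvd_of_pow_eq_one ht))
      (hrp.coprime_dvd_left (orderOf_dvd_of_pow_eq_one ?_)) ?_
    · rw [dg_pow]
      have : ∀ i, L.get i ^ r = 1 := fun i => hmem _ (hL ▸ Multiset.mem_coe.2 (List.get_mem L i))
      simp only [this]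
      exact dg_one
    · rw [charpoly_dg, ← hf, ← hprod]
      congr 2
      rw [← hL, Fin.univ_val_map, Multiset.map_coe]
      congr 1
      conv_lhs => rw [← List.ofFn_get L, List.map_ofFn]
      rfl

omit [Fintype F] [CharP F p] [Fact p.Prime]

theorem elemDiv_nonsplit (hr : r.Prime) {c : F} (hc : ∀ b : F, b ^ r ≠ c) {A : Matrix (Fin n) (Fin n) F}
    (hA : A ^ r = c • 1) :
    r ∣ n ∧ CfsgLib.GLClass.elemDiv A = Multiset.replicate (n / r) (X ^ r - C c, 1) := by
  have hm : (X ^ r - C c : F[X]).Monic := monic_X_pow_sub_C c hr.ne_zero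
  have hdeg : (X ^ r - C c : F[X]).natDegree = r := natDegree_X_pow_sub_C
  have h0 : aeval A (X ^ r - C c : F[X]) = 0 := by
    rw [map_sub, map_pow, aeval_X, aeval_C, hA, Algebra.algebraMap_eq_smul_one, sub_self]
  have hall : ∀ x ∈ CfsgLib.GLClass.elemDiv A, x = (X ^ r - C c, 1) := by
    rintro ⟨P, e⟩ hx
    obtain ⟨hP, hPi, he⟩ := CfsgLib.GLClass.elemDiv_spec A hx
    have hd := CfsgLib.GLClass.pow_dvd_of_aeval h0 hx
    have hPeq : P = X ^ r - C c := eq_of_monic_of_associated hP hm
      (hPi.associated_of_dvd (X_pow_sub_C_irreducible_of_prime hr hc)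
        ((dvd_pow_self P (Nat.pos_iff_ne_zero.mp he)).trans hd))
    subst hPeq
    have hle := natDegree_le_of_dvd hd hm.ne_zero
    rw [natDegree_pow, hdeg] at hle
    refine Prod.ext rfl ?_
    show e = 1
    simp only at he
    have := hr.pos
    nlinarith
  have hrep := Multiset.eq_replicate_card.2 hall
  have hsum := CfsgLib.GLClass.sum_elemDiv A
  rw [hrep, Multiset.map_replicate, Multiset.sum_replicate, hdeg, smul_eq_mul, one_mul] at hsum
  refine ⟨⟨_, by rw [← hsum, mul_comm]⟩, ?_⟩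
  rw [hrep]
  congr 1
  conv_rhs => rw [← hsum]
  rw [Nat.mul_div_cancel _ hr.pos]

theorem isConj_nonsplit (hr : r.Prime) {c : F} (hc : ∀ b : F, b ^ r ≠ c) {g h : GL (Fin n) F}
    (hg : (g : Matrix (Fin n) (Fin n) F) ^ r = c • 1) (hh : (h : Matrix (Fin n) (Fin n) F) ^ r = c • 1) :
    IsConj g h :=
  CfsgLib.GLClass.isConj_of_elemDiv_eq ((elemDiv_nonsplit hr hc hg).2.trans (elemDiv_nonsplit hr hc hh).2.symm)

theorem exists_nonsplit (hr : r.Prime) (hdiv : r ∣ n) {c : Fˣ} :
    ∃ t : GL (Fin n) F, t ^ r = scal n c := by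
  classical
  obtain ⟨k, rfl⟩ := hdiv
  set f : F[X] := X ^ r - C (c : F)
  have hf : f.Monic := monic_X_pow_sub_C (c : F) hr.ne_zero
  let pb := AdjoinRoot.powerBasis hf.ne_zero
  have hdim : pb.dim = r := (AdjoinRoot.powerBasis_dim hf.ne_zero).trans natDegree_X_pow_sub_C
  let M := Algebra.leftMulMatrix pb.basis pb.gen
  have hgen : pb.gen ^ r = algebraMap F (AdjoinRoot f) (c : F) := by
    have h := AdjoinRoot.eval₂_root f
    simp only [f, eval₂_sub, eval₂_pow, eval₂_X, eval₂_C, sub_eq_zero] at h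
    rw [AdjoinRoot.powerBasis_gen]
    exact h
  have hM : M ^ r = (c : F) • 1 := by
    simp only [M, ← map_pow, hgen, AlgHom.commutes, Algebra.algebraMap_eq_smul_one, map_smul, map_one]
  let e : Fin pb.dim × Fin k ≃ Fin (r * k) := finProdFinEquiv.trans (finCongr (by rw [hdim]))
  let A := Matrix.reindexAlgEquiv F F e (Matrix.blockDiagonal fun _ : Fin k => M)
  have hA : A ^ r = (c : F) • 1 := by
    have h1 : (Matrix.blockDiagonal fun _ : Fin k => M) ^ r = (c : F) • 1 := by
      rw [← Matrix.blockDiagonal_pow, ← Matrix.blockDiagonal_one, ← Matrix.blockDiagonal_smul]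
      congr 1
      funext i
      exact hM
    simp only [A, ← map_pow, h1, map_smul, map_one]
  have hu : IsUnit A := (isUnit_pow_iff hr.ne_zero).1 (hA ▸
    IsUnit.of_mul_eq_one (((c⁻¹ : Fˣ) : F) • (1 : Matrix (Fin (r * k)) (Fin (r * k)) F))
      (by rw [smul_mul_smul_comm, one_mul, Units.mul_inv, one_smul]))
  exact ⟨hu.unit, Units.ext (by rw [Units.val_pow_eq_pow_val, IsUnit.unit_spec, hA, scal_val])⟩

/-- The count, for a group `H` inside `GL n` whose centre is the scalars in `U`. -/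
theorem card_classes [Fintype F] [Fact p.Prime] [CharP F p] (hn : 2 ≤ n) (hr : r.Prime) (hrp : r.Coprime p)
    {H : Type*} [Group H] (ι : H →* GL (Fin n) F) (hι : Function.Injective ι) (U : Subgroup Fˣ)
    (hcen : ∀ h : H, h ∈ Subgroup.center H ↔ ∃ a ∈ U, ι h = scal n a)
    (hscal : ∀ a ∈ U, ∃ h, ι h = scal n a)
    (hdiag : ∀ v : Fin n → Fˣ, (∀ i, v i ∈ U) → ∃ h, ι h = dg v)
    (hconj : ∀ x y : H, IsConj (ι x) (ι y) → IsConj x y)
    (hroot : ∀ a : Fˣ, a ^ r = 1 → a ∈ U) (hU : r ∣ Nat.card U)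
    (hsat : ∀ c ∈ U, ∀ b : Fˣ, b ^ r = c → b ∈ U)
    (hex : ∀ c ∈ U, (∀ b : F, b ^ r ≠ c) → ∀ t : GL (Fin n) F, t ^ r = scal n c → ∃ h, IsConj t (ι h)) :
    Nat.card {C : ConjClasses (H ⧸ Subgroup.center H) // ∃ g, ConjClasses.mk g = C ∧ orderOf g = r} =
      (Nat.choose (n + r - 1) (r - 1) - r - (if r ∣ n then 1 else 0)) / r + r * (if r ∣ n then 1 else 0) := by
  classical
  haveI : Fact r.Prime := ⟨hr⟩
  haveI : NeZero r := ⟨hr.ne_zero⟩
  set π := QuotientGroup.mk' (Subgroup.center H)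
  -- conjugacy in the quotient
  have hmk : ∀ {x y : H}, IsConj (π x) (π y) ↔ ∃ a ∈ U, IsConj (ι x) (scal n a * ι y) := by
    intro x y
    constructor
    · intro h
      obtain ⟨k, hk⟩ := isConj_iff.1 h
      obtain ⟨k, rfl⟩ := QuotientGroup.mk'_surjective _ k
      rw [← map_inv, ← map_mul, ← map_mul] at hk
      obtain ⟨a, ha, hae⟩ := (hcen _).1 (QuotientGroup.eq.mp hk)
      refine ⟨a⁻¹, inv_mem ha, isConj_iff.2 ⟨ι k, ?_⟩⟩
      have hy : ι y = ι (k * x * k⁻¹) * scal n a := by
        rw [← hae, ← map_mul, mul_inv_cancel_left]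
      rw [hy, ← (scal_comm a _).eq, map_inv, inv_mul_cancel_left, map_mul, map_mul, map_inv]
    · rintro ⟨a, ha, h⟩
      obtain ⟨s, hs⟩ := hscal a ha
      rw [← hs, ← map_mul] at h
      have hsc : s ∈ Subgroup.center H := (hcen s).2 ⟨a, ha, hs⟩
      have h1 := MonoidHom.map_isConj π (hconj _ _ h)
      rw [map_mul, show π s = 1 from (QuotientGroup.eq_one_iff s).2 hsc, one_mul] at h1
      exact h1
  have hord : ∀ {x : H}, orderOf (π x) = r ↔
      (∃ c ∈ U, (ι x) ^ r = scal n c) ∧ ¬ ∃ c ∈ U, ι x = scal n c := by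
    intro x
    rw [orderOf_eq_prime_iff, ← map_pow]
    refine and_congr ?_ (not_congr ?_)
    · rw [← map_pow ι]; exact (QuotientGroup.eq_one_iff (x ^ r)).trans (hcen _)
    · exact (QuotientGroup.eq_one_iff x).trans (hcen _)
  -- split part
  let R := rootsOfUnity r F
  obtain ⟨ζ, hζ⟩ := exists_prime_orderOf_dvd_card' r (hU.trans (Subgroup.card_subgroup_dvd_card U))
  have hprim : IsPrimitiveRoot (ζ : F) r := hζ ▸ IsPrimitiveRoot.coe_units_iff.2 (IsPrimitiveRoot.orderOf ζ)
  have hRcard : Nat.card R = r := hprim.card_rootsOfUnity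
  have hRU : ∀ a : R, (a : Fˣ) ∈ U := fun a => hroot _ a.2
  have hvec : ∀ m : NCMultiset.NC R n, ∃ v : Fin n → R, Finset.univ.val.map v = (m.1 : Multiset R) := by
    intro m
    obtain ⟨L, hL⟩ : ∃ L : List R, (L : Multiset R) = (m.1 : Multiset R) := Quot.exists_rep _
    have hLn : L.length = n := by rw [← Multiset.coe_card, hL, Sym.card_coe]
    refine ⟨fun i => L.get (i.cast hLn.symm), ?_⟩
    rw [Fin.univ_val_map, ← hL]
    congr 1
    conv_rhs => rw [← List.ofFn_get L]
    exact (List.ofFn_congr hLn _).symm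
  choose vec hvec using hvec
  have hlift : ∀ m : NCMultiset.NC R n, ∃ h : H, ι h = dg fun i => (vec m i : Fˣ) := fun m =>
    hdiag _ fun i => hRU _
  choose el hel using hlift
  have hdpow : ∀ v : Fin n → R, (dg fun i => (v i : Fˣ)) ^ r = 1 := fun v => by
    rw [dg_pow]
    have : (fun i => (v i : Fˣ) ^ r) = fun _ => 1 := funext fun i => (v i).2
    rw [this, dg_one]
  have helord : ∀ m, orderOf (π (el m)) = r := fun m => by
    rw [hord, hel]
    refine ⟨⟨1, one_mem U, by rw [hdpow, map_one]⟩, fun ⟨c, _, hc⟩ => ?_⟩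
    have hall : ∀ i, (vec m i : Fˣ) = c := fun i => by
      have h' := congrFun (congrFun (congrArg (fun g : GL (Fin n) F => (g : Matrix (Fin n) (Fin n) F)) hc) i) i
      exact Units.ext (by simpa [dg, scal_val] using h')
    refine m.2 (vec m ⟨0, by omega⟩) ?_
    rw [← hvec, Multiset.eq_replicate]
    refine ⟨by simp, fun b hb => ?_⟩
    obtain ⟨i, -, rfl⟩ := Multiset.mem_map.1 hb
    exact Subtype.ext ((hall i).trans (hall _).symm)
  have hsame : ∀ (m m' : NCMultiset.NC R n), IsConj (π (el m)) (π (el m')) ↔ ∃ a : R, a • m' = m := by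
    intro m m'
    rw [hmk]
    constructor
    · rintro ⟨a, -, h⟩
      rw [hel, hel, scal_mul_dg] at h
      have hm := map_eq_of_isConj h
      have har : a ^ r = 1 := by
        let i : Fin n := ⟨0, by omega⟩
        have : a * (vec m' i : Fˣ) ∈ Finset.univ.val.map fun j => (vec m j : Fˣ) := by
          rw [hm]; exact Multiset.mem_map_of_mem (fun j => a * (vec m' j : Fˣ)) (Finset.mem_univ i)
        obtain ⟨j, -, hj⟩ := Multiset.mem_map.1 this
        have h2 : (a * (vec m' i : Fˣ)) ^ r = 1 := by rw [← hj]; exact (vec m j).2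
        rwa [mul_pow, show (vec m' i : Fˣ) ^ r = 1 from (vec m' i).2, mul_one] at h2
      refine ⟨⟨a, har⟩, Subtype.ext (Sym.coe_injective ?_)⟩
      show ((_ : NCMultiset.NC R n).1 : Multiset R) = (m.1 : Multiset R)
      rw [NCMultiset.coe_smul, ← hvec, ← hvec, Multiset.map_map]
      refine Multiset.map_injective Subtype.val_injective ?_
      rw [Multiset.map_map, Multiset.map_map]
      exact hm.symm
    · rintro ⟨a, rfl⟩
      refine ⟨a, hRU a, ?_⟩
      rw [hel, hel, scal_mul_dg]
      refine isConj_dg p hrp (fun i => (vec _ i).2) (fun i => ?_) ?_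
      · rw [mul_pow, show (vec m' i : Fˣ) ^ r = 1 from (vec m' i).2, mul_one]; exact a.2
      · have h := hvec (a • m')
        rw [NCMultiset.coe_smul, ← hvec, Multiset.map_map] at h
        have h' := congrArg (Multiset.map fun x : R => (x : Fˣ)) h
        rw [Multiset.map_map, Multiset.map_map] at h'
        exact h'
  -- nonsplit part
  let P : Subgroup U := (powMonoidHom r : U →* U).range
  let NS := {x : U ⧸ P // x ≠ 1 ∧ r ∣ n}
  have hns : ∀ x : NS, ∀ b : F, b ^ r ≠ ((x.1.out : Fˣ) : F) := by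
    intro x b hb
    have hb0 : b ≠ 0 := fun h => by
      rw [h, zero_pow hr.ne_zero] at hb
      exact (x.1.out : Fˣ).ne_zero hb.symm
    have hb' : Units.mk0 b hb0 ^ r = (x.1.out : Fˣ) := Units.ext (by simpa using hb)
    refine x.2.1 ?_
    rw [← QuotientGroup.out_eq' x.1, QuotientGroup.eq_one_iff]
    exact ⟨⟨_, hsat _ x.1.out.2 _ hb'⟩, Subtype.ext hb'⟩
  have hnse : ∀ x : NS, ∃ h : H, (ι h) ^ r = scal n (x.1.out : Fˣ) := by
    intro x
    obtain ⟨t, ht⟩ := exists_nonsplit hr x.2.2 (c := (x.1.out : Fˣ))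
    obtain ⟨h, hh⟩ := hex _ x.1.out.2 (hns x) t ht
    obtain ⟨k, hk⟩ := isConj_iff.1 hh
    refine ⟨h, ?_⟩
    rw [← hk, conj_pow, ht, ← (scal_comm _ k).eq, mul_inv_cancel_right]
  choose ns hns' using hnse
  have hnsord : ∀ x, orderOf (π (ns x)) = r := fun x => by
    rw [hord]
    refine ⟨⟨_, x.1.out.2, hns' x⟩, fun ⟨c, _, hc⟩ => hns x c ?_⟩
    have h' := hns' x
    rw [hc, ← map_pow] at h'
    rw [← Units.val_pow_eq_pow_val, scal_inj (by omega) h']
  -- powers in twisted conjugacy
  have hpow : ∀ {x y : GL (Fin n) F} {a c d : Fˣ}, IsConj x (scal n a * y) → x ^ r = scal n c → y ^ r = scal n d →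
      c = a ^ r * d := by
    intro x y a c d h hx hy
    obtain ⟨k, hk⟩ := isConj_iff.1 h
    refine scal_inj (by omega : 1 ≤ n) ?_
    rw [map_mul, map_pow, ← hy, ← (scal_comm a y).mul_pow, ← hk, conj_pow, hx, ← (scal_comm c k).eq,
      mul_inv_cancel_right]
  let toC : H → _ := fun h => ConjClasses.mk (π h)
  let f : MulAction.orbitRel.Quotient R (NCMultiset.NC R n) ⊕ NS →
      {C : ConjClasses (H ⧸ Subgroup.center H) // ∃ g, ConjClasses.mk g = C ∧ orderOf g = r} :=
    Sum.elim (Quotient.lift (fun m => ⟨toC (el m), _, rfl, helord m⟩) fun m m' h =>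
        Subtype.ext (ConjClasses.mk_eq_mk_iff_isConj.2 ((hsame m m').2 h)))
      fun x => ⟨toC (ns x), _, rfl, hnsord x⟩
  have hf : Function.Bijective f := by
    constructor
    · intro x y hxy
      have hc := congrArg Subtype.val hxy
      rcases x with x | x <;> rcases y with y | y
      · induction x using Quotient.inductionOn with | h m =>
        induction y using Quotient.inductionOn with | h m' =>
        exact congrArg Sum.inl (Quotient.sound ((hsame m m').1 (ConjClasses.mk_eq_mk_iff_isConj.1 hc)))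
      · induction x using Quotient.inductionOn with | h m =>
        obtain ⟨a, -, ha⟩ := hmk.1 (ConjClasses.mk_eq_mk_iff_isConj.1 hc)
        have h1 := hpow ha (c := 1) (by rw [hel, hdpow, map_one]) (hns' y)
        refine (hns y ((a⁻¹ : Fˣ) : F) ?_).elim
        rw [← Units.val_pow_eq_pow_val, inv_pow, ← eq_inv_of_mul_eq_one_right h1.symm]
      · induction y using Quotient.inductionOn with | h m =>
        obtain ⟨a, -, ha⟩ := hmk.1 (ConjClasses.mk_eq_mk_iff_isConj.1 hc)
        have h1 := hpow ha (hns' x) (d := 1) (by rw [hel, hdpow, map_one])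
        exact (hns x (a : F) (by rw [← Units.val_pow_eq_pow_val, h1, mul_one])).elim
      · obtain ⟨a, haU, ha⟩ := hmk.1 (ConjClasses.mk_eq_mk_iff_isConj.1 hc)
        have h1 := hpow ha (hns' x) (hns' y)
        refine congrArg Sum.inr (Subtype.ext ?_)
        rw [← QuotientGroup.out_eq' x.1, ← QuotientGroup.out_eq' y.1, QuotientGroup.eq]
        refine ⟨(⟨a, haU⟩ : U)⁻¹, Subtype.ext ?_⟩
        show a⁻¹ ^ r = (x.1.out : Fˣ)⁻¹ * y.1.out
        rw [h1, mul_inv, inv_mul_cancel_right, inv_pow]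
    · rintro ⟨_, g, rfl, hg⟩
      obtain ⟨g, rfl⟩ := QuotientGroup.mk'_surjective _ g
      obtain ⟨⟨c, hcU, hc⟩, hne⟩ := hord.1 hg
      by_cases hsp : ∃ b : Fˣ, b ^ r = c
      · obtain ⟨b, hb⟩ := hsp
        have hbU := hsat c hcU b hb
        have ht : (scal n b⁻¹ * ι g) ^ r = 1 := by
          rw [(scal_comm b⁻¹ (ι g)).mul_pow, hc, ← map_pow, ← map_mul, inv_pow, hb, inv_mul_cancel, map_one]
        obtain ⟨v, hv, hconjv⟩ := exists_dg_conj p hr hrp (hU.trans (Subgroup.card_subgroup_dvd_card U)) ht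
        let w : Fin n → R := fun i => ⟨v i, hv i⟩
        let s : Sym R n := ⟨Finset.univ.val.map w, by simp⟩
        have hnc : ∀ a, (s : Multiset R) ≠ Multiset.replicate n a := by
          intro a ha
          refine hne ⟨b * a, mul_mem hbU (hRU a), ?_⟩
          have hva : ∀ i, v i = a := fun i => by
            have : w i ∈ (s : Multiset R) := show w i ∈ Finset.univ.val.map w from Multiset.mem_map_of_mem w (Finset.mem_univ_val i)
            rw [ha] at this
            exact congrArg Subtype.val (Multiset.eq_of_mem_replicate this)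
          have hd : dg v = scal n (a : Fˣ) := Units.ext (by
            rw [scal_val, Matrix.smul_one_eq_diagonal]
            show Matrix.diagonal _ = _
            congr 1; funext i; rw [hva])
          obtain ⟨k, hk⟩ := isConj_iff.1 hconjv
          have e : scal n b⁻¹ * ι g = scal n (a : Fˣ) := by
            rw [hd] at hk
            calc scal n b⁻¹ * ι g = k⁻¹ * scal n (a : Fˣ) * k := by rw [← hk]; group
              _ = scal n (a : Fˣ) := by rw [← (scal_comm _ k⁻¹).eq, inv_mul_cancel_right]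
          rw [map_mul, ← e, ← mul_assoc, ← map_mul, mul_inv_cancel, map_one, one_mul]
        let m : NCMultiset.NC R n := ⟨s, hnc⟩
        refine ⟨Sum.inl (Quotient.mk _ m), Subtype.ext ?_⟩
        show toC (el m) = ConjClasses.mk (π g)
        refine ConjClasses.mk_eq_mk_iff_isConj.2 (hmk.2 ⟨b⁻¹, inv_mem hbU, ?_⟩)
        rw [hel]
        refine (isConj_dg p hrp (fun i => (vec m i).2) hv ?_).trans hconjv.symm
        have h' := congrArg (Multiset.map fun x : R => (x : Fˣ)) (hvec m)
        rw [Multiset.map_map] at h'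
        refine h'.trans ?_
        show Multiset.map (fun x : R => (x : Fˣ)) (Finset.univ.val.map w) = _
        rw [Multiset.map_map]; rfl
      · have hnF : ∀ b : F, b ^ r ≠ (c : F) := fun b hb => by
          have hb0 : b ≠ 0 := fun h => by rw [h, zero_pow hr.ne_zero] at hb; exact c.ne_zero hb.symm
          exact hsp ⟨Units.mk0 b hb0, Units.ext (by simpa using hb)⟩
        have hcm : ((ι g : GL (Fin n) F) : Matrix (Fin n) (Fin n) F) ^ r = (c : F) • 1 := by
          rw [← Units.val_pow_eq_pow_val, hc, scal_val]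
        have hx : (QuotientGroup.mk ⟨c, hcU⟩ : U ⧸ P) ≠ 1 := fun h => by
          obtain ⟨b, hb⟩ := (QuotientGroup.eq_one_iff _).1 h
          exact hsp ⟨b, congrArg Subtype.val hb⟩
        let x : NS := ⟨_, hx, (elemDiv_nonsplit hr hnF hcm).1⟩
        obtain ⟨a, ha⟩ : (x.1.out)⁻¹ * ⟨c, hcU⟩ ∈ P := QuotientGroup.eq.1 (QuotientGroup.out_eq' x.1)
        refine ⟨Sum.inr x, Subtype.ext ?_⟩
        show toC (ns x) = ConjClasses.mk (π g)
        refine (ConjClasses.mk_eq_mk_iff_isConj.2 (hmk.2 ⟨(a : Fˣ), a.2, ?_⟩)).symm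
        refine isConj_nonsplit hr hnF hcm ?_
        rw [← Units.val_pow_eq_pow_val, (scal_comm _ _).mul_pow, hns', ← map_pow, ← map_mul, scal_val]
        congr 2
        have : (a : Fˣ) ^ r = (x.1.out : Fˣ)⁻¹ * c := congrArg Subtype.val ha
        rw [this, mul_comm _ c, inv_mul_cancel_right]
  rw [← Nat.card_eq_of_bijective f hf, Nat.card_sum]
  have hNS : Nat.card NS = (r - 1) * (if r ∣ n then 1 else 0) := by
    by_cases hdiv : r ∣ n
    · rw [if_pos hdiv, mul_one]
      have hidx : Nat.card (U ⧸ P) = r := by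
        rw [← Subgroup.index_eq_card, IsCyclic.index_powMonoidHom_range]
        exact Nat.gcd_eq_right hU
      have hNS : Nat.card NS = Nat.card {x : U ⧸ P // ¬ x = 1} :=
        Nat.card_congr (Equiv.subtypeEquivRight fun x => and_iff_left hdiv)
      have h1 : Nat.card {x : U ⧸ P // x = 1} + Nat.card {x : U ⧸ P // ¬ x = 1} = r := by
        rw [← Nat.card_sum, Nat.card_congr (Equiv.sumCompl _), hidx]
      rw [show Nat.card {x : U ⧸ P // x = 1} = 1 from Nat.card_unique] at h1
      omega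
    · rw [if_neg hdiv, mul_zero]
      haveI : IsEmpty NS := ⟨fun x => hdiv x.2.2⟩
      exact Nat.card_of_isEmpty
  rw [hNS]
  exact NCMultiset.card_orbits R n hr hRcard hn

end CfsgLib.Geo.ProjPrimeClasses
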