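import Cfsg.Agent.S5634
import Cfsg.Agent.Aschbacher.FieldMax.Bridge
import Cfsg.Agent.Geo.LinearSubspace
import Cfsg.Agent.Geo.TensorLinearMaximal
import Cfsg.Agent.Geo.SubfieldOvergroup
import Cfsg.Agent.Geo.SymplecticOvergroup
import Cfsg.Agent.Geo.UnitaryOvergroup
import Cfsg.Agent.Geo.OrthogonalOvergroup

/-!
Geometric maximal subgroups of `SL_n(q)` with small explicit lower bounds on `n`.
-/

set_option autoImplicit false
open Cfsg

namespace CfsgLib.Geo.SLSmall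

open Matrix CfsgLib.Geo

variable {F : Type*} [Field F] [Fintype F] {n : ℕ}

lemma decomposition_maximal {t m : ℕ} {D : Fin t → Submodule F (Fin n → F)} (hn : 6 ≤ n)
    (hD : Cfsg.Geo.IsMDecomposition m D) (h1 : m = 1 → 5 ≤ Fintype.card F) (h2 : m = 2 → 3 ≤ Fintype.card F) :
    Cfsg.Geo.IsMaximalIn (Cfsg.Geo.specialLinear (Fin n) F)
      (Cfsg.Geo.decompositionStabilizer D ⊓ Cfsg.Geo.specialLinear (Fin n) F) := by
  obtain ⟨Θ, hΘ⟩ := Decomp.exists_coords hD
  have htm : t * m = n := by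
    have := LinearEquiv.finrank_eq Θ
    simpa [Module.finrank_pi_fintype, Module.finrank_fintype_fun_eq_card] using this
  refine isMaximalIn_of_key (CfsgLib.Aschbacher.specialLinear_not_le_decomposition hD) fun M hM hMI hMX => ?_
  rcases (by have := hD.pos; omega : m = 1 ∨ 2 ≤ m) with rfl | hm
  · exact Cfsg.Agent.S5634.lines hn (h1 rfl) Θ hΘ (by omega) hM hMI hMX
  · refine Decomp.key Θ hΘ hM hm hD (fun h2e => ?_) (fun h2e hc => ?_) hMI hMX
    · subst h2e; omega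
    · have := h2 h2e; omega

lemma fieldExtension_maximal {r : ℕ} (hr : r.Prime) (hrn : r ∣ n) (hlt : r < n)
    (K : Subalgebra F (Matrix (Fin n) (Fin n) F)) (hK : Cfsg.Geo.IsFieldSubalgebra r K) :
    Cfsg.Geo.IsMaximalIn (Cfsg.Geo.specialLinear (Fin n) F)
      (Cfsg.Geo.subalgebraNormalizer K ⊓ Cfsg.Geo.specialLinear (Fin n) F) := by
  classical
  obtain ⟨⟨g₀, hg₀, hg₀N⟩, hmax, hdet⟩ := CfsgLib.FieldMax.normalizer_data hr hrn hlt K hK
  refine isMaximalIn_of_key (fun h => hg₀N (h hg₀)) fun M hM hMS hMX => ?_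
  exact hmax M hM hMS (SetLike.not_le_iff_exists.1 hMX)

lemma subfield_maximal (hn : 4 ≤ n) (F₀ : Subfield F) {r : ℕ} (P : GL (Fin n) F) (hr : r.Prime)
    (hcard : Fintype.card F = Nat.card F₀ ^ r) :
    Cfsg.Geo.IsMaximalIn (Cfsg.Geo.specialLinear (Fin n) F)
      (Cfsg.Geo.subfieldSubgroup F₀ P ⊓ Cfsg.Geo.specialLinear (Fin n) F) := by
  refine CfsgLib.Geo.isMaximalIn_conj P (CfsgLib.Geo.specialLinear_map_conj P)
    (CfsgLib.Geo.isMaximalIn_of_key (X := CfsgLib.Geo.ratScalar (Fin n) F₀) ?_ ?_)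
  · refine CfsgLib.Geo.subfield_proper ?_ (by rw [Fintype.card_fin]; omega)
    intro h
    have h1 : Nat.card F₀ = Fintype.card F := by
      rw [h, Nat.card_congr Subfield.topEquiv.toEquiv, Nat.card_eq_fintype_card]
    rw [h1] at hcard
    have : 1 = r := Nat.pow_right_injective (Fintype.one_lt_card (α := F)) ((pow_one _).trans hcard)
    exact hr.one_lt.ne this
  · exact fun M hM hMS hne =>
      CfsgLib.Geo.subfield_key hM hMS (by rw [Fintype.card_fin]; omega) hr hcard hne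

lemma quadratic_maximal (hn : 6 ≤ n) (hodd : Odd (Fintype.card F)) {Q : (Fin n → F) → F}
    (hQ : Cfsg.Geo.IsNondegenerateQuadraticForm Q) :
    Cfsg.Geo.IsMaximalIn (Cfsg.Geo.specialLinear (Fin n) F)
      (Cfsg.Geo.quadSimilarityGroup Q ⊓ Cfsg.Geo.specialLinear (Fin n) F) := by
  have h2 : (2 : F) ≠ 0 := by
    intro h0
    haveI : CharP F 2 := CharTwo.of_one_ne_zero_of_two_eq_zero one_ne_zero h0
    have h3 := FiniteField.even_card_of_char_two (F := F) (ringChar.eq F 2)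
    rw [Nat.odd_iff] at hodd
    omega
  have hf := CfsgLib.Geo.Orth.isSymmForm_polar h2 hQ
  have h10 : 6 ≤ Fintype.card (Fin n) := by rwa [Fintype.card_fin]
  rw [← CfsgLib.Geo.Orth.similarity_polar h2 hQ]
  exact CfsgLib.Geo.isMaximalIn_of_key (CfsgLib.Geo.Orth.proper hf h10)
    fun M hM _ hne => CfsgLib.Geo.Orth.key hf hM h10 hne

lemma symplectic_maximal (hn : 3 ≤ n) {f : (Fin n → F) → (Fin n → F) → F} (hf : Cfsg.Geo.IsSymplecticForm f) :
    Cfsg.Geo.IsMaximalIn (Cfsg.Geo.specialLinear (Fin n) F)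
      (Cfsg.Geo.similarityGroup f ⊓ Cfsg.Geo.specialLinear (Fin n) F) := by
  have h3 : 3 ≤ Fintype.card (Fin n) := by rwa [Fintype.card_fin]
  exact CfsgLib.Geo.isMaximalIn_of_key (CfsgLib.Geo.SympOver.proper hf h3)
    fun M hM _ hne => CfsgLib.Geo.SympOver.key hf h3 hM hne

lemma unitary_maximal (hn : 5 ≤ n) {σ : F ≃+* F} {f : (Fin n → F) → (Fin n → F) → F}
    (hf : Cfsg.Geo.IsUnitaryForm σ f) :
    Cfsg.Geo.IsMaximalIn (Cfsg.Geo.specialLinear (Fin n) F)
      (Cfsg.Geo.similarityGroup f ⊓ Cfsg.Geo.specialLinear (Fin n) F) := by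
  have h7 : 5 ≤ Fintype.card (Fin n) := by rwa [Fintype.card_fin]
  exact CfsgLib.Geo.isMaximalIn_of_key (CfsgLib.Geo.Unit.proper hf h7)
    fun M hM _ hne => CfsgLib.Geo.Unit.key hf hM h7 hne

end CfsgLib.Geo.SLSmall
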