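/-
The stabiliser of a pair of complementary totally singular halves is maximal in the special unitary group.
-/
import Cfsg.Agent.Geo.UnitSubspace
import Cfsg.Agent.Geo.SympLagrangianPair

set_option autoImplicit false

namespace CfsgLib.Geo.UTv

open Matrix Cfsg Cfsg.Geo CfsgLib.Geo

variable {n q k : ℕ} {F : Type*} [Field F] [Finite F] (hF : Nat.card F = q ^ 2)
  {M : Subgroup (GL (Fin n) F)} {W U : Submodule F (Fin n → F)}
include hF

omit hF [Finite F] in
/-- `R` is the map `x ↦ x + h(x,b) a - h(x,a) b`. -/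
def IsRoot2 (q : ℕ) (R : GL (Fin n) F) (a b : Fin n → F) : Prop :=
  ∀ x : Fin n → F, (R : Matrix (Fin n) (Fin n) F) *ᵥ x =
    x + Cfsg.hermForm n F q x b • a - Cfsg.hermForm n F q x a • b

lemma exists_root2 {a b : Fin n → F} (ha : Cfsg.hermForm n F q a a = 0) (hb : Cfsg.hermForm n F q b b = 0)
    (hab : Cfsg.hermForm n F q a b = 0) : ∃ R ∈ suGL n F q, IsRoot2 q R a b := by
  have hf := isUnitaryForm hF (n := n)
  have hba : Cfsg.hermForm n F q b a = 0 := by rw [hf.herm, hab, map_zero]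
  have h1 : axisOf (Cfsg.hermForm n F q) b ⬝ᵥ a = 0 := by rw [axisOf_dot, hab]
  have h2 : (-axisOf (Cfsg.hermForm n F q) a) ⬝ᵥ b = 0 := by rw [neg_dotProduct, axisOf_dot, hba, neg_zero]
  have hR : IsRoot2 q (tvec a _ h1 * tvec b _ h2) a b := fun x => by
    simp only [mul_mulVec, tvec_mulVec, neg_dotProduct, axisOf_dot, dotProduct_add, dotProduct_smul, hb,
      smul_eq_mul, mul_zero, add_zero]
    module
  refine ⟨_, ⟨fun u v => ?_, Subgroup.mul_mem _ (tvec_mem_specialLinear _ _ _) (tvec_mem_specialLinear _ _ _)⟩, hR⟩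
  change Cfsg.hermForm n F q ((Units.val (tvec a _ h1 * tvec b _ h2)) *ᵥ u) _ = _
  rw [hR u, Units.coeHom_apply, hR v]
  simp only [sub_eq_add_neg, ← neg_smul, hf.add_left, Unit.add_right hf, hf.smul_left, Unit.smul_right hf, ha, hb,
    hab, hba, ← hf.herm b v, ← hf.herm a v, map_neg]
  ring

omit hF [Finite F] in
lemma IsRoot2.inv {R : GL (Fin n) F} {a b : Fin n → F} (hR : IsRoot2 q R a b) (x : Fin n → F) :
    ((R⁻¹ : GL (Fin n) F) : Matrix (Fin n) (Fin n) F) *ᵥ ((R : Matrix (Fin n) (Fin n) F) *ᵥ x) = x := by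
  have := hR x
  exact inv_mulVec_mulVec R x

omit hF [Finite F] in
lemma IsRoot2.conj {R g : GL (Fin n) F} (hg : g ∈ suGL n F q) {a b : Fin n → F} (hR : IsRoot2 q R a b) :
    IsRoot2 q (g * R * g⁻¹) ((g : Matrix (Fin n) (Fin n) F) *ᵥ a) ((g : Matrix (Fin n) (Fin n) F) *ᵥ b) := by
  intro x
  simp only [mul_mulVec, hR _, Matrix.mulVec_sub, Matrix.mulVec_add, Matrix.mulVec_smul, mulVec_inv_mulVec]
  rw [← herm_mulVec hg _ b, ← herm_mulVec hg _ a, mulVec_inv_mulVec]

omit hF [Finite F] in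
lemma IsRoot2.eq {R R' : GL (Fin n) F} {a b : Fin n → F} (hR : IsRoot2 q R a b) (hR' : IsRoot2 q R' a b) :
    R = R' := gl_ext_mulVec fun x => by rw [hR, hR']

/-- Data of two complementary totally singular halves of a unitary space. -/
structure UPair (q : ℕ) (W U : Submodule F (Fin n → F)) : Prop where
  singW : ∀ x ∈ W, ∀ y ∈ W, Cfsg.hermForm n F q x y = 0
  singU : ∀ x ∈ U, ∀ y ∈ U, Cfsg.hermForm n F q x y = 0
  split : ∀ x, ∃ w ∈ W, ∃ u ∈ U, x = w + u
  disj : ∀ x ∈ W, x ∈ U → x = 0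

omit hF [Finite F] in
lemma UPair.symm (h : UPair q W U) : UPair q U W where
  singW := h.singU
  singU := h.singW
  split x := by obtain ⟨w, hw, u, hu, e⟩ := h.split x; exact ⟨u, hu, w, hw, by rw [e, add_comm]⟩
  disj x hx hx' := h.disj x hx' hx

lemma UPair.mem_of_perp (h : UPair q W U) {x : Fin n → F} (hx : x ∈ perp q W) : x ∈ W := by
  have hf := isUnitaryForm hF (n := n)
  obtain ⟨w, hw, u, hu, rfl⟩ := h.split x
  suffices u = 0 by rw [this, add_zero]; exact hw
  by_contra hu0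
  obtain ⟨-, y, hy⟩ := hf.nondegenerate u hu0
  obtain ⟨w', hw', u', hu', rfl⟩ := h.split y
  have h1 := hx w' hw'
  rw [hf.add_left, h.singW w hw w' hw', zero_add] at h1
  exact hy (by rw [Unit.add_right hf, h1, h.singU u hu u' hu', add_zero])

/-- Duality between the halves. -/
lemma UPair.exists_dual (h : UPair q W U) (S : Submodule F (Fin n → F)) (hS : S ≤ U) {y : Fin n → F}
    (hy : y ∈ U) (hyS : y ∉ S) (c : F) :
    ∃ p ∈ W, (∀ s ∈ S, Cfsg.hermForm n F q p s = 0) ∧ Cfsg.hermForm n F q y p = c := by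
  have hf := isUnitaryForm hF (n := n)
  obtain ⟨p, hp, hyp⟩ := exists_form_of_notMem hF (S ⊔ W) (u := y) (fun hc => by
    obtain ⟨s, hs, w, hw, e⟩ := Submodule.mem_sup.1 hc
    have hwU : w ∈ U := by
      have := U.sub_mem hy (hS hs)
      rwa [← e, add_sub_cancel_left] at this
    exact hyS (by rw [← e, h.disj w hw hwU, add_zero]; exact hs))
  obtain ⟨r, hr⟩ : ∃ r : F, frobEquiv hF r = c := (frobEquiv hF).surjective c
  exact ⟨r • p, W.smul_mem _ (h.mem_of_perp hF fun w hw => hp w (Submodule.mem_sup_right hw)),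
    fun s hs => by rw [hf.smul_left, hp s (Submodule.mem_sup_left hs), mul_zero],
    by rw [Unit.smul_right hf, hyp, hr, mul_one]⟩

/-- `M` contains every root element between `W` and `U`. -/
def HasRoots (q : ℕ) (M : Subgroup (GL (Fin n) F)) (W U : Submodule F (Fin n → F)) : Prop :=
  ∀ a ∈ W, ∀ b ∈ U, Cfsg.hermForm n F q a b = 0 → ∀ R, IsRoot2 q R a b → R ∈ M

/-- A root element at a mixed isotropic pair, moved by a root element of `M`. -/
lemma UPair.exists_shift (h : UPair q W U) (hX : HasRoots q M W U) {a' b' : Fin n → F}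
    (ha : Cfsg.hermForm n F q a' a' = 0) (hb : Cfsg.hermForm n F q b' b' = 0)
    (hab : Cfsg.hermForm n F q a' b' = 0) {R : GL (Fin n) F} (hR : IsRoot2 q R a' b') (hRM : R ∈ M)
    {x y : Fin n → F} (hx : x ∈ W) (hy : y ∈ U) (hxy : Cfsg.hermForm n F q x y = 0)
    (hy1 : Cfsg.hermForm n F q y a' = 0) (hy2 : Cfsg.hermForm n F q y b' = 0) {α β : F}
    (hα : Cfsg.hermForm n F q a' x = α) (hβ : Cfsg.hermForm n F q b' x = β) :
    ∃ A ∈ M, ∀ z, (A : Matrix (Fin n) (Fin n) F) *ᵥ z =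
      z + Cfsg.hermForm n F q z y • ((-β ^ q) • a' + α ^ q • b') -
        Cfsg.hermForm n F q z ((-β ^ q) • a' + α ^ q • b') • y +
        ((α * β ^ q - α ^ q * β) * Cfsg.hermForm n F q z y) • y := by
  have hf := isUnitaryForm hF (n := n)
  have hay : Cfsg.hermForm n F q a' y = 0 := by rw [hf.herm, hy1, map_zero]
  have hby : Cfsg.hermForm n F q b' y = 0 := by rw [hf.herm, hy2, map_zero]
  obtain ⟨E, hEI, hE⟩ := exists_root2 hF (h.singW x hx x hx) (h.singU y hy y hy) hxy
  have hEM := hX x hx y hy hxy E hE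
  refine ⟨E * R * E⁻¹ * R⁻¹, M.mul_mem (M.mul_mem (M.mul_mem hEM hRM) (M.inv_mem hEM)) (M.inv_mem hRM), fun z => ?_⟩
  obtain ⟨w, rfl⟩ : ∃ w, (R : Matrix (Fin n) (Fin n) F) *ᵥ w = z := ⟨_, mulVec_inv_mulVec R z⟩
  have hc := hR.conj hEI (g := E)
  rw [hE a', hE b', hay, hα, hby, hβ] at hc
  rw [mul_mulVec (E * R * E⁻¹), inv_mulVec_mulVec, hc w, hR w]
  simp only [sub_eq_add_neg, ← neg_smul, hf.add_left, Unit.add_right hf, hf.smul_left, Unit.smul_right hf, map_neg,
    map_zero, zero_smul, add_zero, hay, hby, ha, hb, hab, hf.herm b' a', mul_zero, neg_zero, zero_add,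
    frobEquiv_apply, CfsgLib.Forms.pow_q_q hF]
  match_scalars <;> ring

/-- A pure centre paired with a mixed one is full. -/
lemma UPair.full_of_shift (h : UPair q W U) (hX : HasRoots q M W U) {y v wv uv : Fin n → F} (hy : y ∈ U)
    (hwv : wv ∈ W) (huv : uv ∈ U) (ev : v = wv + uv) (hind : uv ∉ F ∙ y)
    (hvy : Cfsg.hermForm n F q v y = 0) {A : GL (Fin n) F} (hAM : A ∈ M) {δ : F}
    (hA : ∀ z, (A : Matrix (Fin n) (Fin n) F) *ᵥ z = z + Cfsg.hermForm n F q z y • v -
      Cfsg.hermForm n F q z v • y + (δ * Cfsg.hermForm n F q z y) • y) : Full q M y := by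
  have hf := isUnitaryForm hF (n := n)
  have hyy := h.singU y hy y hy
  have hyv : Cfsg.hermForm n F q y v = 0 := by rw [hf.herm, hvy, map_zero]
  refine ⟨hyy, fun c hc => ?_⟩
  obtain ⟨t, ht⟩ := Unit.exists_trace_one hf.ne_refl hf.involutive
  set lam := c * t with hlam
  have hlamc : lam - frobEquiv hF lam = c := by
    have hsc : frobEquiv hF c = -c := by rw [frobEquiv_apply]; linear_combination hc
    rw [hlam, map_mul, hsc]
    linear_combination c * ht
  obtain ⟨p, hpW, hpS, hpu⟩ := h.exists_dual hF (F ∙ y) ((Submodule.span_singleton_le_iff_mem _ _).2 hy)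
    huv hind (-lam)
  have hpy : Cfsg.hermForm n F q p y = 0 := hpS y (Submodule.mem_span_singleton_self y)
  have hyp : Cfsg.hermForm n F q y p = 0 := by rw [hf.herm, hpy, map_zero]
  have hvp : Cfsg.hermForm n F q v p = -lam := by rw [ev, hf.add_left, h.singW wv hwv p hpW, hpu, zero_add]
  obtain ⟨E, hEI, hE⟩ := exists_root2 hF (h.singW p hpW p hpW) hyy hpy
  have hEM := hX p hpW y hy hpy E hE
  have hEy : (E : Matrix (Fin n) (Fin n) F) *ᵥ y = y := by rw [hE, hyy, hyp]; simp
  have hEv : (E : Matrix (Fin n) (Fin n) F) *ᵥ v = v + lam • y := by rw [hE, hvy, hvp]; module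
  refine ⟨uax_dot_self hyy c, ?_⟩
  have h1 := M.mul_mem (M.mul_mem (M.mul_mem hEM hAM) (M.inv_mem hEM)) (M.inv_mem hAM)
  suffices E * A * E⁻¹ * A⁻¹ = tvec y (uax q y c) (uax_dot_self hyy c) by rwa [this] at h1
  rw [mul_inv_eq_iff_eq_mul]
  refine gl_ext_mulVec fun z => ?_
  obtain ⟨w, rfl⟩ : ∃ w, (E : Matrix (Fin n) (Fin n) F) *ᵥ w = z := ⟨_, mulVec_inv_mulVec E z⟩
  rw [mul_mulVec, mul_mulVec, inv_mulVec_mulVec, mul_mulVec, utv_mulVec hF hyy, hA w, hA, ← hlamc]
  simp only [Matrix.mulVec_add, Matrix.mulVec_sub, Matrix.mulVec_smul, hEy, hEv]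
  have e1 : Cfsg.hermForm n F q ((E : Matrix (Fin n) (Fin n) F) *ᵥ w) y = Cfsg.hermForm n F q w y := by
    conv_lhs => rw [← hEy]
    exact herm_mulVec hEI w y
  have e2 : Cfsg.hermForm n F q ((E : Matrix (Fin n) (Fin n) F) *ᵥ w) v =
      Cfsg.hermForm n F q w v - frobEquiv hF lam * Cfsg.hermForm n F q w y := by
    have h2 := herm_mulVec hEI w v
    rw [hEv, Unit.add_right hf, Unit.smul_right hf, e1] at h2
    linear_combination h2
  simp only [sub_eq_add_neg, ← neg_smul, hf.add_left, hf.smul_left, hyy, hvy, e1, e2, mul_zero, add_zero]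
  match_scalars <;> ring

/-- A mixed root element produces a full centre. -/
lemma UPair.exists_full (h : UPair q W U) (hdim : 3 ≤ Module.finrank F U) (hX : HasRoots q M W U)
    {a' b' w0 u0 wb ub : Fin n → F} (hw0 : w0 ∈ W) (hu0 : u0 ∈ U) (hwb : wb ∈ W) (hub : ub ∈ U)
    (ea : a' = w0 + u0) (eb : b' = wb + ub) (hu00 : u0 ≠ 0)
    (ha : Cfsg.hermForm n F q a' a' = 0) (hb : Cfsg.hermForm n F q b' b' = 0)
    (hab : Cfsg.hermForm n F q a' b' = 0) {R : GL (Fin n) F} (hR : IsRoot2 q R a' b') (hRM : R ∈ M)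
    (hindep : ub ∉ F ∙ u0) : ∃ y ∈ U, y ≠ 0 ∧ Full q M y := by
  have hf := isUnitaryForm hF (n := n)
  obtain ⟨y, hyU, hy0, hy1, hy2⟩ : ∃ y ∈ U, y ≠ 0 ∧ Cfsg.hermForm n F q y a' = 0 ∧
      Cfsg.hermForm n F q y b' = 0 := by
    by_contra hcon
    push Not at hcon
    let L : U →ₗ[F] F × F :=
      { toFun := fun y => (Cfsg.hermForm n F q (y : Fin n → F) a', Cfsg.hermForm n F q (y : Fin n → F) b')
        map_add' := fun y z => Prod.ext (hf.add_left (y : Fin n → F) (z : Fin n → F) a')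
          (hf.add_left (y : Fin n → F) (z : Fin n → F) b')
        map_smul' := fun c y => Prod.ext (hf.smul_left c (y : Fin n → F) a') (hf.smul_left c (y : Fin n → F) b') }
    have hker : LinearMap.ker L = ⊥ := (Submodule.eq_bot_iff _).2 fun y hy => by
      by_contra hne
      exact hcon y y.2 (fun e => hne (Subtype.ext e)) (congrArg Prod.fst (LinearMap.mem_ker.1 hy))
        (congrArg Prod.snd (LinearMap.mem_ker.1 hy))
    have h1 := L.finrank_range_add_finrank_ker
    have h2 := Submodule.finrank_le (LinearMap.range L)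
    rw [hker, finrank_bot] at h1
    rw [Module.finrank_prod, Module.finrank_self] at h2
    omega
  have hxdual : ∀ α β : F, ∃ x ∈ W, Cfsg.hermForm n F q u0 x = α ∧ Cfsg.hermForm n F q ub x = β := by
    intro α β
    have hu0b : u0 ∉ F ∙ ub := fun hc => by
      obtain ⟨r, hr⟩ := Submodule.mem_span_singleton.1 hc
      have hr0 : r ≠ 0 := by rintro rfl; exact hu00 (by rw [← hr, zero_smul])
      exact hindep (Submodule.mem_span_singleton.2 ⟨r⁻¹, by rw [← hr, smul_smul, inv_mul_cancel₀ hr0, one_smul]⟩)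
    obtain ⟨x1, hx1, hx1S, hx1u⟩ := h.exists_dual hF (F ∙ ub) ((Submodule.span_singleton_le_iff_mem _ _).2 hub)
      hu0 hu0b α
    obtain ⟨x2, hx2, hx2S, hx2u⟩ := h.exists_dual hF (F ∙ u0) ((Submodule.span_singleton_le_iff_mem _ _).2 hu0)
      hub hindep β
    refine ⟨x1 + x2, W.add_mem hx1 hx2, ?_, ?_⟩
    · rw [Unit.add_right hf, hx1u, hf.herm u0 x2, hx2S u0 (Submodule.mem_span_singleton_self _), map_zero, add_zero]
    · rw [Unit.add_right hf, hx2u, hf.herm ub x1, hx1S ub (Submodule.mem_span_singleton_self _), map_zero, zero_add]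
  have hay : Cfsg.hermForm n F q a' y = 0 := by rw [hf.herm, hy1, map_zero]
  have hby : Cfsg.hermForm n F q b' y = 0 := by rw [hf.herm, hy2, map_zero]
  -- shifting by a centre with coefficients `α`, `β`
  have hshift : ∀ α β : F, ∀ x ∈ W, Cfsg.hermForm n F q x y = 0 → Cfsg.hermForm n F q u0 x = α →
      Cfsg.hermForm n F q ub x = β → ((-β ^ q) • u0 + α ^ q • ub ∉ F ∙ y) → Full q M y := by
    intro α β x hx hxy hα hβ hind
    obtain ⟨A, hAM, hA⟩ := h.exists_shift hF hX ha hb hab hR hRM hx hyU hxy hy1 hy2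
      (α := α) (β := β) (by rw [ea, hf.add_left, h.singW w0 hw0 x hx, hα, zero_add])
      (by rw [eb, hf.add_left, h.singW wb hwb x hx, hβ, zero_add])
    refine h.full_of_shift hF hX hyU (wv := (-β ^ q) • w0 + α ^ q • wb)
      (W.add_mem (W.smul_mem _ hw0) (W.smul_mem _ hwb)) (U.add_mem (U.smul_mem _ hu0) (U.smul_mem _ hub))
      ?_ hind ?_ hAM hA
    · rw [ea, eb]; module
    · rw [hf.add_left, hf.smul_left, hf.smul_left, hay, hby, mul_zero, mul_zero, add_zero]
  by_cases hyS : y ∈ (F ∙ u0) ⊔ (F ∙ ub)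
  swap
  · have hubS : ub ∉ (F ∙ u0) ⊔ (F ∙ y) := by
      intro hc
      obtain ⟨s, hs, r, hr, e⟩ := Submodule.mem_sup.1 hc
      obtain ⟨c, rfl⟩ := Submodule.mem_span_singleton.1 hr
      rcases eq_or_ne c 0 with rfl | hc0
      · exact hindep (by rw [← e, zero_smul, add_zero]; exact hs)
      · refine hyS ((Submodule.smul_mem_iff _ hc0).1 ?_)
        rw [eq_sub_of_add_eq' e]
        exact Submodule.sub_mem _ (Submodule.mem_sup_right (Submodule.mem_span_singleton_self ub))
          (Submodule.mem_sup_left hs)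
    obtain ⟨x, hxW, hxS, hxb⟩ := h.exists_dual hF ((F ∙ u0) ⊔ (F ∙ y))
      (sup_le ((Submodule.span_singleton_le_iff_mem _ _).2 hu0) ((Submodule.span_singleton_le_iff_mem _ _).2 hyU))
      hub hubS (-1)
    refine ⟨y, hyU, hy0, hshift 0 (-1) x hxW (hxS y (Submodule.mem_sup_right (Submodule.mem_span_singleton_self y)))
      (by rw [hf.herm, hxS u0 (Submodule.mem_sup_left (Submodule.mem_span_singleton_self u0)), map_zero]) hxb ?_⟩
    rw [zero_pow (by have := CfsgLib.Forms.two_le_q hF; omega), zero_smul, add_zero]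
    intro hc
    rw [← frobEquiv_apply hF, map_neg, map_one, neg_neg, one_smul] at hc
    obtain ⟨r, hr⟩ := Submodule.mem_span_singleton.1 hc
    have hr0 : r ≠ 0 := by rintro rfl; exact hu00 (by rw [← hr, zero_smul])
    exact hyS ((Submodule.smul_mem_iff _ hr0).1 (by
      rw [hr]; exact Submodule.mem_sup_left (Submodule.mem_span_singleton_self u0)))
  -- the centre lies in the plane of the two images
  obtain ⟨y1, hy1', y2, hy2', eyy⟩ := Submodule.mem_sup.1 hyS
  obtain ⟨p, rfl⟩ := Submodule.mem_span_singleton.1 hy1'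
  obtain ⟨s, rfl⟩ := Submodule.mem_span_singleton.1 hy2'
  have hli : ∀ c d : F, c • u0 + d • ub = 0 → c = 0 ∧ d = 0 := by
    intro c d he
    rcases eq_or_ne d 0 with rfl | hd
    · rw [zero_smul, add_zero] at he; exact ⟨(smul_eq_zero.1 he).resolve_right hu00, rfl⟩
    · exact absurd (Submodule.mem_span_singleton.2 ⟨-(c / d), by
        refine smul_right_injective _ hd ?_
        show d • (-(c / d)) • u0 = d • ub
        rw [smul_smul, show d * -(c / d) = -c by field_simp]
        linear_combination (norm := module) -he⟩) hindep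
  have hxyz : ∀ μ : F, ∀ x : Fin n → F, x ∈ W → Cfsg.hermForm n F q u0 x = -(μ * s) →
      Cfsg.hermForm n F q ub x = μ * p → Cfsg.hermForm n F q x y = 0 := fun μ x _ h1 h2 => by
    rw [hf.herm, ← eyy, hf.add_left, hf.smul_left, hf.smul_left, h1, h2, show p * -(μ * s) + s * (μ * p) = 0 by ring,
      map_zero]
  have hneg : ∀ z : F, (-z) ^ q = -z ^ q := fun z => by
    rw [← frobEquiv_apply hF, map_neg, frobEquiv_apply]
  refine ⟨y, hyU, hy0, ?_⟩
  by_cases hreal : p * s ^ q = p ^ q * s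
  swap
  · obtain ⟨x, hx, h1, h2⟩ := hxdual (-(1 * s)) (1 * p)
    refine hshift _ _ x hx (hxyz 1 x hx h1 h2) h1 h2 fun hc => hreal ?_
    obtain ⟨r, hr⟩ := Submodule.mem_span_singleton.1 hc
    obtain ⟨e1, e2⟩ := hli (r * p + p ^ q) (r * s + s ^ q) (by
      rw [← eyy, one_mul, one_mul, hneg] at hr
      linear_combination (norm := module) hr)
    linear_combination p * e2 - s * e1
  -- a real ratio: the shift is a root element times a transvection at `y`
  obtain ⟨θ, hθ0, hθp, hθs⟩ : ∃ θ : F, θ ≠ 0 ∧ p ^ q = θ * p ∧ s ^ q = θ * s := by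
    rcases eq_or_ne p 0 with rfl | hp
    · have hs : s ≠ 0 := fun e => hy0 (by rw [← eyy, e, zero_smul, zero_smul, add_zero])
      refine ⟨s ^ q / s, div_ne_zero (pow_ne_zero _ hs) hs, ?_, (div_mul_cancel₀ _ hs).symm⟩
      rw [zero_pow (by have := CfsgLib.Forms.two_le_q hF; omega), mul_zero]
    · refine ⟨p ^ q / p, div_ne_zero (pow_ne_zero _ hp) hp, (div_mul_cancel₀ _ hp).symm, ?_⟩
      field_simp
      linear_combination hreal
  have hyy := h.singU y hyU y hyU
  refine ⟨hyy, fun c hc => ?_⟩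
  obtain ⟨t, ht⟩ := Unit.exists_trace_one hf.ne_refl hf.involutive
  set lam := c * t with hlam
  have hlamc : lam - frobEquiv hF lam = c := by
    have hsc : frobEquiv hF c = -c := by rw [frobEquiv_apply]; linear_combination hc
    rw [hlam, map_mul, hsc]
    linear_combination c * ht
  obtain ⟨μ, hμ⟩ : ∃ μ : F, μ ^ q = -lam / θ :=
    ⟨(-lam / θ) ^ q, CfsgLib.Forms.pow_q_q hF _⟩
  obtain ⟨x, hx, h1, h2⟩ := hxdual (-(μ * s)) (μ * p)
  obtain ⟨A, hAM, hA⟩ := h.exists_shift hF hX ha hb hab hR hRM hx hyU (hxyz μ x hx h1 h2) hy1 hy2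
    (α := -(μ * s)) (β := μ * p) (by rw [ea, hf.add_left, h.singW w0 hw0 x hx, h1, zero_add])
    (by rw [eb, hf.add_left, h.singW wb hwb x hx, h2, zero_add])
  set wv := (-(μ * p) ^ q) • w0 + (-(μ * s)) ^ q • wb with hwv
  have hwW : wv ∈ W := W.add_mem (W.smul_mem _ hw0) (W.smul_mem _ hwb)
  have hv : (-(μ * p) ^ q) • a' + (-(μ * s)) ^ q • b' = wv + lam • y := by
    rw [hwv, ea, eb, ← eyy, hneg, mul_pow, mul_pow, hθp, hθs, hμ]
    match_scalars <;> field_simp
  have hwy : Cfsg.hermForm n F q wv y = 0 := by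
    have e0 : Cfsg.hermForm n F q w0 y = 0 := by
      rw [ea, hf.add_left, h.singU u0 hu0 y hyU, add_zero] at hay; exact hay
    have e1 : Cfsg.hermForm n F q wb y = 0 := by
      rw [eb, hf.add_left, h.singU ub hub y hyU, add_zero] at hby; exact hby
    rw [hwv, hf.add_left, hf.smul_left, hf.smul_left, e0, e1, mul_zero, mul_zero, add_zero]
  obtain ⟨E, hEI, hE⟩ := exists_root2 hF (h.singW wv hwW wv hwW) hyy hwy
  refine ⟨uax_dot_self hyy c, ?_⟩
  have hEM := hX wv hwW y hyU hwy E hE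
  suffices A = E * tvec y (uax q y c) (uax_dot_self hyy c) by
    have h3 := M.mul_mem (M.inv_mem hEM) hAM
    rwa [this, inv_mul_cancel_left] at h3
  refine gl_ext_mulVec fun z => ?_
  rw [mul_mulVec, utv_mulVec hF hyy, hA, hv, hE, ← hlamc]
  have hδ : -(μ * s) * (μ * p) ^ q - (-(μ * s)) ^ q * (μ * p) = 0 := by
    rw [hneg, mul_pow, mul_pow]
    linear_combination (μ * μ ^ q) * hreal
  rw [hδ]
  simp only [sub_eq_add_neg, ← neg_smul, hf.add_left, Unit.add_right hf, hf.smul_left, Unit.smul_right hf, hyy,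
    show Cfsg.hermForm n F q y wv = 0 by rw [hf.herm, hwy, map_zero], mul_zero, zero_mul, zero_smul, add_zero]
  match_scalars <;> ring

/-- A half containing one full centre consists of full centres. -/
lemma UPair.full_half (h : UPair q W U) (hX : HasRoots q M W U) (hMI : M ≤ suGL n F q) {y : Fin n → F}
    (hy : y ∈ U) (hy0 : y ≠ 0) (hyF : Full q M y) : ∀ u ∈ U, Full q M u := by
  have hf := isUnitaryForm hF (n := n)
  intro u hu
  by_cases hmem : u ∈ F ∙ y
  · obtain ⟨c, rfl⟩ := Submodule.mem_span_singleton.1 hmem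
    exact full_smul hF hyF c
  have hr : y ∉ F ∙ (u - y) := by
    intro hc
    obtain ⟨c, hc⟩ := Submodule.mem_span_singleton.1 hc
    rcases eq_or_ne c 0 with rfl | hc0
    · exact hy0 (by rw [← hc, zero_smul])
    · refine hmem ((Submodule.smul_mem_iff _ hc0).1 (Submodule.mem_span_singleton.2 ⟨1 + c, ?_⟩))
      rw [smul_sub, sub_eq_iff_eq_add] at hc
      rw [add_smul, one_smul, hc]
  obtain ⟨p, hp, hpS, hpy⟩ := h.exists_dual hF (F ∙ (u - y))
    ((Submodule.span_singleton_le_iff_mem _ _).2 (U.sub_mem hu hy)) hy hr (-1)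
  have hpr := hpS (u - y) (Submodule.mem_span_singleton_self _)
  obtain ⟨E, hEI, hE⟩ := exists_root2 hF (h.singW p hp p hp) (h.singU _ (U.sub_mem hu hy) _ (U.sub_mem hu hy)) hpr
  have h1 := full_conj hF hMI hyF (hX p hp (u - y) (U.sub_mem hu hy) hpr E hE)
  rw [hE y, hpy, h.singU y hy _ (U.sub_mem hu hy), zero_smul, add_zero, neg_smul, one_smul, sub_neg_eq_add,
    add_sub_cancel] at h1
  exact h1

/-- Rotate one hyperbolic pair. -/
lemma exists_rot {e f : Fin n → F} (he : Cfsg.hermForm n F q e e = 0) (hf' : Cfsg.hermForm n F q f f = 0)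
    (hef : Cfsg.hermForm n F q e f = 1) {c : F} (hc0 : c ≠ 0) (hc : c + c ^ q = 0) :
    ∃ g ∈ suGL n F q, (g : Matrix (Fin n) (Fin n) F) *ᵥ e = -c⁻¹ • f ∧
      (g : Matrix (Fin n) (Fin n) F) *ᵥ f = c • e ∧
      ∀ x, Cfsg.hermForm n F q x e = 0 → Cfsg.hermForm n F q x f = 0 →
        (g : Matrix (Fin n) (Fin n) F) *ᵥ x = x := by
  have hf := isUnitaryForm hF (n := n)
  have hfe : Cfsg.hermForm n F q f e = 1 := by rw [hf.herm, hef, map_one]
  have hc' : -c⁻¹ + (-c⁻¹) ^ q = 0 := by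
    have h1 : frobEquiv hF c = -c := by rw [frobEquiv_apply]; linear_combination hc
    rw [← frobEquiv_apply hF, map_neg, map_inv₀, h1, inv_neg]; ring
  refine ⟨_, Subgroup.mul_mem _ (Subgroup.mul_mem _ (utv_mem hF he hc) (utv_mem hF hf' hc')) (utv_mem hF he hc),
    ?_, ?_, fun x h1 h2 => ?_⟩
  · simp only [mul_mulVec, utv_mulVec hF he, utv_mulVec hF hf', hf.add_left, hf.smul_left, he, hef, hf', hfe,
      mul_zero, zero_smul, add_zero, mul_one, zero_add]
    match_scalars <;> field_simp <;> ring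
  · simp only [mul_mulVec, utv_mulVec hF he, utv_mulVec hF hf', hf.add_left, hf.smul_left, he, hef, hf', hfe,
      mul_zero, zero_smul, add_zero, mul_one, zero_add]
    match_scalars <;> field_simp <;> ring
  · simp only [mul_mulVec, utv_mulVec hF he, utv_mulVec hF hf', h1, h2, mul_zero, zero_smul, add_zero]

/-- An element of SU exchanging the two halves. -/
lemma UPair.exists_swap (h : UPair q W U) :
    ∃ g ∈ suGL n F q, (∀ w ∈ W, (g : Matrix (Fin n) (Fin n) F) *ᵥ w ∈ U) ∧
      ∀ u ∈ U, (g : Matrix (Fin n) (Fin n) F) *ᵥ u ∈ W := by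
  classical
  have hf := isUnitaryForm hF (n := n)
  obtain ⟨c, hc0, hc⟩ := Unit.exists_skew hf.ne_refl hf.involutive
  have hc' : c + c ^ q = 0 := by rw [← frobEquiv_apply hF, hc, add_neg_cancel]
  let b := Module.finBasis F W
  have hli : LinearIndependent F fun j => (b j : Fin n → F) := b.linearIndependent.map' W.subtype W.ker_subtype
  have hdual : ∀ i, ∃ u ∈ U, ∀ j, Cfsg.hermForm n F q (b j : Fin n → F) u = if j = i then 1 else 0 := by
    intro i
    obtain ⟨u, hu, hus, hub⟩ := h.symm.exists_dual hF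
      (Submodule.span F ((fun j => (b j : Fin n → F)) '' {j | j ≠ i}))
      (Submodule.span_le.2 (by rintro _ ⟨j, -, rfl⟩; exact (b j).2)) (b i).2
      (hli.notMem_span_image (by simp)) 1
    refine ⟨u, hu, fun j => ?_⟩
    rcases eq_or_ne j i with rfl | hji
    · rw [if_pos rfl, hub]
    · rw [if_neg hji, hf.herm, hus _ (Submodule.subset_span ⟨j, hji, rfl⟩), map_zero]
  choose d hdU hd using hdual
  have key : ∀ S : Finset (Fin (Module.finrank F W)), ∃ g ∈ suGL n F q, ∀ i,
      (g : Matrix (Fin n) (Fin n) F) *ᵥ (b i : Fin n → F) = (if i ∈ S then -c⁻¹ • d i else (b i : Fin n → F)) ∧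
      (g : Matrix (Fin n) (Fin n) F) *ᵥ d i = (if i ∈ S then c • (b i : Fin n → F) else d i) := by
    intro S
    induction S using Finset.induction_on with
    | empty => exact ⟨1, Subgroup.one_mem _, fun i => by simp⟩
    | insert a S ha ih =>
      obtain ⟨g, hg, hgi⟩ := ih
      obtain ⟨r, hr, r1, r2, r3⟩ := exists_rot hF (h.singW _ (b a).2 _ (b a).2) (h.singU _ (hdU a) _ (hdU a))
        (by rw [hd, if_pos rfl]) hc0 hc'
      refine ⟨r * g, Subgroup.mul_mem _ hr hg, fun i => ?_⟩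
      rcases eq_or_ne i a with rfl | hia
      · rw [if_pos (Finset.mem_insert_self _ _), if_pos (Finset.mem_insert_self _ _), mul_mulVec, mul_mulVec,
          (hgi i).1, (hgi i).2, if_neg ha, if_neg ha]
        exact ⟨r1, r2⟩
      · have hb : (r : Matrix (Fin n) (Fin n) F) *ᵥ (b i : Fin n → F) = b i :=
          r3 _ (h.singW _ (b i).2 _ (b a).2) (by rw [hd, if_neg hia])
        have hdd : (r : Matrix (Fin n) (Fin n) F) *ᵥ d i = d i :=
          r3 _ (by rw [hf.herm, hd, if_neg (Ne.symm hia), map_zero]) (h.singU _ (hdU i) _ (hdU a))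
        rw [mul_mulVec, mul_mulVec, (hgi i).1, (hgi i).2]
        by_cases hiS : i ∈ S <;> simp [hiS, hia, Matrix.mulVec_smul, Matrix.mulVec_neg, hb, hdd]
  obtain ⟨g, hg, hgi⟩ := key Finset.univ
  refine ⟨g, hg, ?_, ?_⟩
  · intro w hw
    have h1 : (⟨w, hw⟩ : W) = ∑ i, b.repr ⟨w, hw⟩ i • b i := (b.sum_repr _).symm
    have h2 : w = ∑ i, b.repr ⟨w, hw⟩ i • (b i : Fin n → F) := by
      exact (congrArg Subtype.val h1).trans (AddSubmonoidClass.coe_finsetSum _ _)
    rw [h2, Matrix.mulVec_sum]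
    refine U.sum_mem fun i _ => ?_
    rw [Matrix.mulVec_smul, (hgi i).1, if_pos (Finset.mem_univ i)]
    exact U.smul_mem _ (U.smul_mem _ (hdU i))
  · intro u hu
    have h2 : u = ∑ i, Cfsg.hermForm n F q u (b i : Fin n → F) • d i := by
      refine sub_eq_zero.1 (h.disj _ (h.mem_of_perp hF fun w hw => ?_) (U.sub_mem hu
        (U.sum_mem fun i _ => U.smul_mem _ (hdU i))))
      have hsum : ∀ (x : Fin n → F) (s : Fin (Module.finrank F W) → (Fin n → F)),
          Cfsg.hermForm n F q (∑ i, s i) x = ∑ i, Cfsg.hermForm n F q (s i) x := fun x s => by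
        let φ : (Fin n → F) →+ F := AddMonoidHom.mk' (Cfsg.hermForm n F q · x) (fun a b => hf.add_left a b x)
        exact map_sum φ s _
      have hb0 : ∀ j, Cfsg.hermForm n F q (u - ∑ i, Cfsg.hermForm n F q u (b i : Fin n → F) • d i)
          (b j : Fin n → F) = 0 := fun j => by
        rw [(Unit.linLeft hf).sub_left, hsum, Finset.sum_eq_single j]
        · rw [hf.smul_left, hf.herm (d j), hd, if_pos rfl, map_one, mul_one, sub_self]
        · intro i _ hij
          rw [hf.smul_left, hf.herm (d i), hd, if_neg (Ne.symm hij), map_zero, mul_zero]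
        · simp
      have h1 : (⟨w, hw⟩ : W) = ∑ i, b.repr ⟨w, hw⟩ i • b i := (b.sum_repr _).symm
      have h3 : w = ∑ i, b.repr ⟨w, hw⟩ i • (b i : Fin n → F) := by
        exact (congrArg Subtype.val h1).trans (AddSubmonoidClass.coe_finsetSum _ _)
      rw [h3]
      let ψ : (Fin n → F) →+ F :=
        AddMonoidHom.mk' (Cfsg.hermForm n F q (u - ∑ i, Cfsg.hermForm n F q u (b i : Fin n → F) • d i))
          (Unit.add_right hf (u - ∑ i, Cfsg.hermForm n F q u (b i : Fin n → F) • d i))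
      refine (map_sum ψ _ _).trans (Finset.sum_eq_zero fun i _ => ?_)
      change Cfsg.hermForm n F q _ (_ • (b i : Fin n → F)) = 0
      rw [Unit.smul_right hf, hb0, mul_zero]
    rw [h2, Matrix.mulVec_sum]
    refine W.sum_mem fun i _ => ?_
    rw [Matrix.mulVec_smul, (hgi i).2, if_pos (Finset.mem_univ i)]
    exact W.smul_mem _ (W.smul_mem _ (b i).2)

theorem uPair_key (D : Fin 2 → Submodule F (Fin n → F)) (hD : IsMDecomposition k D)
    (h : UPair q (D 0) (D 1)) (hk : 3 ≤ k) (hM : decompositionStabilizer D ⊓ suGL n F q ≤ M)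
    (hMI : M ≤ suGL n F q) (hMX : ¬ M ≤ decompositionStabilizer D) : suGL n F q ≤ M := by
  have hf := isUnitaryForm hF (n := n)
  obtain ⟨g, hgM, hgX⟩ := SetLike.not_le_iff_exists.1 hMX
  have hX : HasRoots q M (D 0) (D 1) := by
    intro x hx y hy hxy R hR
    obtain ⟨R', hR'I, hR'⟩ := exists_root2 hF (h.singW x hx x hx) (h.singU y hy y hy) hxy
    rw [hR.eq hR']
    refine hM ⟨mem_decompositionStabilizer_of hD 1 fun i v hv => ?_, hR'I⟩
    rw [hR' v, Equiv.Perm.one_apply]
    match i with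
    | 0 => rw [h.singW v hv x hx, zero_smul, sub_zero]; exact (D 0).add_mem hv ((D 0).smul_mem _ hx)
    | 1 => rw [h.singU v hv y hy, zero_smul, add_zero]; exact (D 1).sub_mem hv ((D 1).smul_mem _ hy)
  have hX' : HasRoots q M (D 1) (D 0) := by
    intro x hx y hy hxy R hR
    obtain ⟨R', hR'I, hR'⟩ := exists_root2 hF (h.singW y hy y hy) (h.singU x hx x hx)
      (by rw [hf.herm, hxy, map_zero])
    have hinv : R = R'⁻¹ := eq_inv_of_mul_eq_one_left (gl_ext_mulVec fun z => by
      rw [mul_mulVec, hR, hR']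
      simp only [sub_eq_add_neg, ← neg_smul, hf.add_left, hf.smul_left, h.singU x hx x hx, h.singW y hy y hy,
        hxy, show Cfsg.hermForm n F q y x = 0 by rw [hf.herm, hxy, map_zero], mul_zero, add_zero,
        Units.val_one, Matrix.one_mulVec]
      module)
    rw [hinv]
    exact M.inv_mem (hX y hy x hx (by rw [hf.herm, hxy, map_zero]) R' hR')
  have hdim : ∀ i, Module.finrank F (D i) = k := hD.finrank_eq
  -- a mixed image
  obtain ⟨A, B, hAB, hXA, hdB, a, ha, hga0, hga1⟩ : ∃ A B : Submodule F (Fin n → F), UPair q A B ∧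
      HasRoots q M A B ∧ Module.finrank F B = k ∧ ∃ a ∈ A, (g : Matrix (Fin n) (Fin n) F) *ᵥ a ∉ D 0 ∧
        (g : Matrix (Fin n) (Fin n) F) *ᵥ a ∉ D 1 := by
    by_contra hcon
    push Not at hcon
    have himg : ∀ i, ∃ j, ∀ v ∈ D i, (g : Matrix (Fin n) (Fin n) F) *ᵥ v ∈ D j := by
      intro i
      have h1 : ∀ v ∈ D i, (g : Matrix (Fin n) (Fin n) F) *ᵥ v ∈ D 0 ∨
          (g : Matrix (Fin n) (Fin n) F) *ᵥ v ∈ D 1 := by
        intro v hv
        by_cases hv0 : (g : Matrix (Fin n) (Fin n) F) *ᵥ v ∈ D 0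
        · exact Or.inl hv0
        · match i with
          | 0 => exact Or.inr (hcon _ _ h hX (hdim 1) v hv hv0)
          | 1 => exact Or.inr (hcon _ _ h.symm hX' (hdim 0) v hv hv0)
      by_contra hc
      push Not at hc
      obtain ⟨a, ha, haW⟩ := hc 0
      obtain ⟨b, hb, hbU⟩ := hc 1
      have haU := (h1 a ha).resolve_left haW
      have hbW := (h1 b hb).resolve_right hbU
      rcases h1 (a + b) ((D i).add_mem ha hb) with h2 | h2 <;> rw [Matrix.mulVec_add] at h2
      · exact haW (by simpa using (D 0).sub_mem h2 hbW)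
      · exact hbU (by simpa using (D 1).sub_mem h2 haU)
    choose σ hσ using himg
    have hinj : σ 0 ≠ σ 1 := by
      intro e
      have htop : D (σ 0) = ⊤ := Submodule.eq_top_iff'.2 fun x => by
        obtain ⟨w, hw, u, hu, hx⟩ := h.split (((g⁻¹ : GL (Fin n) F) : Matrix (Fin n) (Fin n) F) *ᵥ x)
        rw [← mulVec_inv_mulVec g x, hx, Matrix.mulVec_add]
        exact (D _).add_mem (hσ 0 w hw) (e ▸ hσ 1 u hu)
      have h2 := hdim (σ 0)
      rw [htop, finrank_top, Module.finrank_fin_fun] at h2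
      obtain ⟨w, hw, hw0⟩ := (Submodule.ne_bot_iff (D 0)).1 fun e => by
        have := hdim 0; rw [e, finrank_bot] at this; omega
      obtain ⟨-, y, hy⟩ := hf.nondegenerate w hw0
      exact hy (by
        have hall : ∀ i, D i = ⊤ := fun i => Submodule.eq_top_of_finrank_eq (by rw [hdim i, Module.finrank_fin_fun]; omega)
        exact h.singW w hw y (hall 0 ▸ Submodule.mem_top))
    have hsurj : Function.Injective σ := by
      intro i j hij
      fin_cases i <;> fin_cases j <;> first | rfl | exact absurd hij hinj | exact absurd hij.symm hinj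
    exact hgX (mem_decompositionStabilizer_of hD (Equiv.ofBijective σ (Finite.injective_iff_bijective.1 hsurj)) hσ)
  obtain ⟨w0, hw0, u0, hu0, ea⟩ := h.split ((g : Matrix (Fin n) (Fin n) F) *ᵥ a)
  have hu00 : u0 ≠ 0 := fun e => hga0 (by rw [ea, e, add_zero]; exact hw0)
  have hw00 : w0 ≠ 0 := fun e => hga1 (by rw [ea, e, zero_add]; exact hu0)
  obtain ⟨b, hb, hab, wb, hwb, ub, hub, eb, hne⟩ : ∃ b ∈ B, Cfsg.hermForm n F q a b = 0 ∧ ∃ wb ∈ D 0, ∃ ub ∈ D 1,
      (g : Matrix (Fin n) (Fin n) F) *ᵥ b = wb + ub ∧ (ub ∉ F ∙ u0 ∨ wb ∉ F ∙ w0) := by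
    by_contra hcon
    push Not at hcon
    let L : B →ₗ[F] F :=
      { toFun := fun y => Cfsg.hermForm n F q (y : Fin n → F) a
        map_add' := fun y z => hf.add_left (y : Fin n → F) (z : Fin n → F) a
        map_smul' := fun c y => hf.smul_left c (y : Fin n → F) a }
    have hle0 : ((LinearMap.ker L).map B.subtype).map (glEquiv g).toLinearMap ≤ (F ∙ w0) ⊔ (F ∙ u0) := by
      rintro _ ⟨_, ⟨y, hy, rfl⟩, rfl⟩
      rw [LinearEquiv.coe_coe, glEquiv_apply]
      obtain ⟨wb, hwb, ub, hub, eb⟩ := h.split ((g : Matrix (Fin n) (Fin n) F) *ᵥ (y : Fin n → F))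
      have := hcon y y.2 (by rw [hf.herm, show Cfsg.hermForm n F q (y : Fin n → F) a = 0 from LinearMap.mem_ker.1 hy, map_zero])
        wb hwb ub hub eb
      rw [Submodule.subtype_apply, eb]
      exact Submodule.add_mem_sup this.2 this.1
    have hle : ((LinearMap.ker L).map B.subtype ⊔ (F ∙ a)).map (glEquiv g).toLinearMap ≤
        (F ∙ w0) ⊔ (F ∙ u0) := by
      rw [Submodule.map_sup]
      refine sup_le hle0 ?_
      rw [Submodule.map_span, Set.image_singleton, Submodule.span_singleton_le_iff_mem, LinearEquiv.coe_coe,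
        glEquiv_apply, ea]
      exact Submodule.add_mem_sup (Submodule.mem_span_singleton_self _) (Submodule.mem_span_singleton_self _)
    have hdis : (LinearMap.ker L).map B.subtype ⊓ (F ∙ a) = ⊥ := (Submodule.eq_bot_iff _).2 fun z hz => by
      obtain ⟨⟨z', -, rfl⟩, hza⟩ := hz
      exact hAB.disj _ ((Submodule.span_singleton_le_iff_mem _ _).2 ha hza) z'.2
    have ha0 : a ≠ 0 := fun e => hga0 (by rw [e, Matrix.mulVec_zero]; exact Submodule.zero_mem _)
    have h1 := Submodule.finrank_mono hle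
    have h1' := Submodule.finrank_sup_add_finrank_inf_eq ((LinearMap.ker L).map B.subtype) (F ∙ a)
    rw [hdis, finrank_bot, add_zero, Submodule.finrank_map_subtype_eq, finrank_span_singleton ha0] at h1'
    rw [LinearEquiv.finrank_map_eq] at h1
    have h4 := Submodule.finrank_add_le_finrank_add_finrank (F ∙ w0) (F ∙ u0)
    have h5 : Module.finrank F (F ∙ u0) ≤ 1 := (finrank_span_le_card {u0}).trans (by simp)
    have h6 : Module.finrank F (F ∙ w0) ≤ 1 := (finrank_span_le_card {w0}).trans (by simp)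
    have h7 := L.finrank_range_add_finrank_ker
    have h8 := Submodule.finrank_le (LinearMap.range L)
    rw [Module.finrank_self] at h8
    rw [hdB] at h7
    omega
  obtain ⟨R, hRI, hR⟩ := exists_root2 hF (hAB.singW a ha a ha) (hAB.singU b hb b hb) hab
  have hRM := hXA a ha b hb hab R hR
  have hconj := hR.conj (hMI hgM) (g := g)
  have hcM := M.mul_mem (M.mul_mem hgM hRM) (M.inv_mem hgM)
  have e1 : Cfsg.hermForm n F q ((g : Matrix (Fin n) (Fin n) F) *ᵥ a) ((g : Matrix (Fin n) (Fin n) F) *ᵥ a) = 0 := by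
    rw [herm_mulVec (hMI hgM)]; exact hAB.singW a ha a ha
  have e2 : Cfsg.hermForm n F q ((g : Matrix (Fin n) (Fin n) F) *ᵥ b) ((g : Matrix (Fin n) (Fin n) F) *ᵥ b) = 0 := by
    rw [herm_mulVec (hMI hgM)]; exact hAB.singU b hb b hb
  have e3 : Cfsg.hermForm n F q ((g : Matrix (Fin n) (Fin n) F) *ᵥ a) ((g : Matrix (Fin n) (Fin n) F) *ᵥ b) = 0 := by
    rw [herm_mulVec (hMI hgM), hab]
  obtain ⟨s, hs, hs0, hs1⟩ := h.exists_swap hF
  have hsM : s ∈ M := hM ⟨mem_decompositionStabilizer_of hD (Equiv.swap 0 1) fun i v hv => by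
    match i with
    | 0 => rw [Equiv.swap_apply_left]; exact hs0 v hv
    | 1 => rw [Equiv.swap_apply_right]; exact hs1 v hv, hs⟩
  have hsne : ∀ y : Fin n → F, y ≠ 0 → (s : Matrix (Fin n) (Fin n) F) *ᵥ y ≠ 0 := fun y hy e => hy (by
    rw [← inv_mulVec_mulVec s y, e, Matrix.mulVec_zero])
  have hfullU : ∀ u ∈ D 1, Full q M u := by
    rcases hne with hne | hne
    · obtain ⟨y, hy, hy0, hyF⟩ := h.exists_full hF (by rw [hdim 1]; omega) hX hw0 hu0 hwb hub ea eb hu00
        e1 e2 e3 hconj hcM hne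
      exact h.full_half hF hX hMI hy hy0 hyF
    · obtain ⟨y, hy, hy0, hyF⟩ := h.symm.exists_full hF (by rw [hdim 0]; omega) hX' hu0 hw0 hub hwb
        (by rw [ea, add_comm]) (by rw [eb, add_comm]) hw00 e1 e2 e3 hconj hcM hne
      exact h.full_half hF hX hMI (hs0 y hy) (hsne y hy0) (full_conj hF hMI hyF hsM)
  have hfullW : ∀ w ∈ D 0, Full q M w :=
    h.symm.full_half hF hX' hMI (hs1 u0 hu0) (hsne u0 hu00) (full_conj hF hMI (hfullU u0 hu0) hsM)
  obtain ⟨c, hc0, hc⟩ := Unit.exists_skew hf.ne_refl hf.involutive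
  refine suGL_le_of_full hF (by
    have h2 := Submodule.finrank_sup_add_finrank_inf_eq (D 0) (D 1)
    rw [hdim 0, hdim 1, show D 0 ⊓ D 1 = ⊥ from (Submodule.eq_bot_iff _).2 fun x hx => h.disj x hx.1 hx.2,
      show D 0 ⊔ D 1 = ⊤ from Submodule.eq_top_iff'.2 fun x => by
        obtain ⟨w, hw, u, hu, rfl⟩ := h.split x
        exact Submodule.add_mem_sup hw hu, finrank_bot, finrank_top, Module.finrank_fin_fun] at h2
    omega) fun z hz => ?_
  obtain ⟨w, hw, u, hu, rfl⟩ := h.split z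
  rcases eq_or_ne w 0 with rfl | hw'
  · rw [zero_add]; exact hfullU u hu
  by_cases hwu : Cfsg.hermForm n F q w u = 0
  · obtain ⟨u1, hu1, -, hwu1⟩ := h.symm.exists_dual hF ⊥ bot_le hw (by simpa using hw') c
    have hiso : Cfsg.hermForm n F q (w + u1) (w + u1) = 0 := by
      simp only [hf.add_left, Unit.add_right hf, h.singW w hw w hw, h.singU u1 hu1 u1 hu1, hwu1, hf.herm u1 w, hc]
      ring
    have h1 := full_add_smul hF hMI (hfullU u1 hu1) (hfullW w hw) (by rw [hwu1]; exact hc0) 1 (by rwa [one_smul])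
    rw [one_smul] at h1
    have e : w + u1 + (u - u1) = w + u := by abel
    have h2 := full_add_smul hF hMI (hfullU _ ((D 1).sub_mem hu hu1)) h1 (by
      rw [hf.add_left, h.singU u1 hu1 _ ((D 1).sub_mem hu hu1), show u - u1 = u + (-1 : F) • u1 by module,
        Unit.add_right hf, Unit.smul_right hf, hwu, hwu1, map_neg, map_one]
      simpa using hc0) 1 (by rw [one_smul, e]; exact hz)
    rwa [one_smul, e] at h2
  · have h1 := full_add_smul hF hMI (hfullU u hu) (hfullW w hw) hwu 1 (by rwa [one_smul])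
    rwa [one_smul] at h1

theorem uPair_proper (D : Fin 2 → Submodule F (Fin n → F)) (hD : IsMDecomposition k D)
    (h : UPair q (D 0) (D 1)) (hk : 1 ≤ k) : ¬ suGL n F q ≤ decompositionStabilizer D := by
  have hf := isUnitaryForm hF (n := n)
  intro hle
  obtain ⟨u, hu, hu0⟩ : ∃ u ∈ D 1, u ≠ 0 := (Submodule.ne_bot_iff _).1 fun e => by
    have := hD.finrank_eq 1; rw [e, finrank_bot] at this; omega
  obtain ⟨c, hc0, hc⟩ := Unit.exists_skew hf.ne_refl hf.involutive
  have hc' : c + c ^ q = 0 := by rw [← frobEquiv_apply hF, hc, add_neg_cancel]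
  obtain ⟨x, hx, -, hux⟩ := h.exists_dual hF ⊥ bot_le hu (by simpa using hu0) 1
  have hxu : Cfsg.hermForm n F q x u = 1 := by rw [hf.herm, hux, map_one]
  obtain ⟨σ, hσ⟩ := exists_perm_of_mem (hle (utv_mem hF (h.singU u hu u hu) hc'))
  have h1 := hσ 0 x hx
  rw [utv_mulVec hF (h.singU u hu u hu), hxu, mul_one] at h1
  match hσ0 : σ 0 with
  | 0 =>
    rw [hσ0] at h1
    have := (D 0).sub_mem h1 hx
    rw [add_sub_cancel_left, Submodule.smul_mem_iff _ hc0] at this
    exact hu0 (h.disj u this hu)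
  | 1 =>
    rw [hσ0] at h1
    have := (D 1).sub_mem h1 ((D 1).smul_mem c hu)
    rw [add_sub_cancel_right] at this
    rw [h.disj x hx this, (Unit.linLeft hf).zero_left] at hxu
    exact zero_ne_one hxu

end CfsgLib.Geo.UTv
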