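/-
The orthogonal subfield group is maximal in the special unitary group, odd characteristic.
-/
import Cfsg.Agent.Geo.UnitEichler
import Cfsg.Agent.Geo.UnitSingularPair
import Cfsg.Agent.Geo.SubfieldOvergroup
import Cfsg.Agent.Forms.Classify

set_option autoImplicit false

namespace CfsgLib.Geo.UTv

open Matrix Cfsg Cfsg.Geo CfsgLib.Geo

variable {n q : ℕ} {F : Type*} [Field F]

local notation "hh" => Cfsg.hermForm n F q

/-- The data of an orthogonal structure over the fixed field inside a unitary space. -/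
structure OrthSub (n q : ℕ) (F : Type*) [Field F] (F₀ : Subfield F) (P : GL (Fin n) F) : Prop where
  fixed : ∀ x ∈ F₀, x ^ q = x
  mem_of_fixed : ∀ x : F, x ^ q = x → x ∈ F₀
  two : (2 : F) ≠ 0
  rational : IsFormRationalStructure (Cfsg.hermForm n F q) F₀ 1 P

/-- The semilinear involution fixing the span over the small field of the columns of `P`. -/
def kap (q : ℕ) (P : GL (Fin n) F) (x : Fin n → F) : Fin n → F :=
  (P : Matrix (Fin n) (Fin n) F) *ᵥ fun i => (((P⁻¹ : GL (Fin n) F) : Matrix (Fin n) (Fin n) F) *ᵥ x) i ^ q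

/-- A vector of the rational span. -/
def IsRV (q : ℕ) (P : GL (Fin n) F) (x : Fin n → F) : Prop := kap q P x = x

variable {F₀ : Subfield F} {P : GL (Fin n) F}

lemma isRV_mulVec (hO : OrthSub n q F F₀ P) {u : Fin n → F} (hu : RatVec F₀ u) :
    IsRV q P ((P : Matrix (Fin n) (Fin n) F) *ᵥ u) := by
  rw [IsRV, kap, inv_mulVec_mulVec]
  congr 1
  exact funext fun i => hO.fixed _ (hu i)

lemma exists_coord (hO : OrthSub n q F F₀ P) {x : Fin n → F} (hx : IsRV q P x) :
    ∃ u, RatVec F₀ u ∧ x = (P : Matrix (Fin n) (Fin n) F) *ᵥ u := by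
  refine ⟨_, fun i => hO.mem_of_fixed _ ?_, (mulVec_inv_mulVec P x).symm⟩
  have := congrArg (fun w => (((P⁻¹ : GL (Fin n) F) : Matrix (Fin n) (Fin n) F) *ᵥ w) i) hx
  simpa [kap, inv_mulVec_mulVec] using this

lemma herm_fixed (hO : OrthSub n q F F₀ P) {a b : Fin n → F} (ha : IsRV q P a) (hb : IsRV q P b) :
    hh a b ^ q = hh a b := by
  obtain ⟨u, hu, rfl⟩ := exists_coord hO ha
  obtain ⟨w, hw, rfl⟩ := exists_coord hO hb
  have := hO.fixed _ (hO.rational u w hu hw)
  rwa [one_mul] at this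

lemma mem_subfield_of_scaled (hO : OrthSub n q F F₀ P) {g : GL (Fin n) F} {d : F} (hd : d ≠ 0)
    (h : ∀ x, IsRV q P x → IsRV q P (d • ((g : Matrix (Fin n) (Fin n) F) *ᵥ x))) :
    g ∈ subfieldSubgroup F₀ P := by
  classical
  refine ⟨P⁻¹ * g * P, mem_ratScalar_of_scaled hd fun k l => ?_,
    by simp [MulAut.conj_apply, mul_assoc]⟩
  obtain ⟨u, hu, he⟩ := exists_coord hO (h _ (isRV_mulVec hO (ratVec_single l F₀.one_mem)))
  have h1 : d • (((P⁻¹ * g * P : GL (Fin n) F) : Matrix (Fin n) (Fin n) F) *ᵥ Pi.single l 1) = u := by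
    rw [mul_mulVec, mul_mulVec, ← Matrix.mulVec_smul, he, inv_mulVec_mulVec]
  have h2 := congrFun h1 k
  rw [Matrix.mulVec_single_one, Pi.smul_apply, Matrix.col_apply, smul_eq_mul] at h2
  rw [h2]
  exact hu k

lemma exists_scaled_of_mem_subfield (hO : OrthSub n q F F₀ P) {g : GL (Fin n) F}
    (hg : g ∈ subfieldSubgroup F₀ P) :
    ∃ d : F, d ≠ 0 ∧ ∀ x, IsRV q P x → IsRV q P (d • ((g : Matrix (Fin n) (Fin n) F) *ᵥ x)) := by
  obtain ⟨A, hA, rfl⟩ := hg
  obtain ⟨d, hd, hdA⟩ := exists_scaled_of_mem hA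
  refine ⟨d, hd, fun x hx => ?_⟩
  obtain ⟨u, hu, rfl⟩ := exists_coord hO hx
  change IsRV q P (d • (((P * A * P⁻¹ : GL (Fin n) F) : Matrix (Fin n) (Fin n) F) *ᵥ _))
  rw [mul_mulVec, mul_mulVec, inv_mulVec_mulVec, ← Matrix.mulVec_smul]
  refine isRV_mulVec hO fun k => ?_
  simp only [Pi.smul_apply, smul_eq_mul, Matrix.mulVec, dotProduct, Finset.mul_sum, ← mul_assoc]
  exact F₀.sum_mem fun l _ => F₀.mul_mem (hdA k l) (hu l)

variable [Finite F] (hF : Nat.card F = q ^ 2)
include hF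

lemma kap_add (x y : Fin n → F) : kap q P (x + y) = kap q P x + kap q P y := by
  rw [kap, kap, kap, ← Matrix.mulVec_add, Matrix.mulVec_add]
  congr 1
  exact funext fun i => by simp [← frobEquiv_apply hF]

lemma kap_smul (c : F) (x : Fin n → F) : kap q P (c • x) = frobEquiv hF c • kap q P x := by
  rw [kap, kap, ← Matrix.mulVec_smul, Matrix.mulVec_smul]
  congr 1
  exact funext fun i => by simp [← frobEquiv_apply hF]

lemma kap_kap (x : Fin n → F) : kap q P (kap q P x) = x := by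
  rw [kap, kap, inv_mulVec_mulVec]
  conv_rhs => rw [← mulVec_inv_mulVec P x]
  congr 1
  exact funext fun i => by rw [← frobEquiv_apply hF, ← frobEquiv_apply hF, (isUnitaryForm hF (n := n)).involutive]

lemma kap_sub (x y : Fin n → F) : kap q P (x - y) = kap q P x - kap q P y := by
  rw [sub_eq_add_neg, ← neg_one_smul F y, kap_add hF, kap_smul hF, map_neg, map_one, neg_one_smul,
    ← sub_eq_add_neg]

lemma IsRV.add {x y : Fin n → F} (hx : IsRV q P x) (hy : IsRV q P y) : IsRV q P (x + y) := by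
  rw [IsRV, kap_add hF, hx, hy]

lemma IsRV.smul {x : Fin n → F} {c : F} (hc : frobEquiv hF c = c) (hx : IsRV q P x) : IsRV q P (c • x) := by
  rw [IsRV, kap_smul hF, hc, hx]

lemma IsRV.sub {x y : Fin n → F} (hx : IsRV q P x) (hy : IsRV q P y) : IsRV q P (x - y) := by
  rw [IsRV, kap_sub hF, hx, hy]

lemma isRV_zero : IsRV q P (0 : Fin n → F) := by
  rw [IsRV, ← zero_smul F (0 : Fin n → F), kap_smul hF, map_zero, zero_smul, zero_smul]

omit hF [Finite F] in
/-- Preserving the rational span means commuting with the involution. -/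
def Commutes (q : ℕ) (P : GL (Fin n) F) (A : GL (Fin n) F) : Prop :=
  ∀ x, IsRV q P x → IsRV q P ((A : Matrix (Fin n) (Fin n) F) *ᵥ x)

variable (hO : OrthSub n q F F₀ P)
include hO

lemma herm_swap_rv {a b : Fin n → F} (ha : IsRV q P a) (hb : IsRV q P b) : hh b a = hh a b := by
  rw [(isUnitaryForm hF).herm, frobEquiv_apply hF, herm_fixed hO ha hb]

lemma fixed_herm {a b : Fin n → F} (ha : IsRV q P a) (hb : IsRV q P b) :
    frobEquiv hF (hh a b) = hh a b := by rw [frobEquiv_apply hF, herm_fixed hO ha hb]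

omit hO in
lemma exists_delta : ∃ δ : F, δ ≠ 0 ∧ frobEquiv hF δ = -δ :=
  Unit.exists_skew (isUnitaryForm hF (n := 1)).ne_refl (isUnitaryForm hF (n := 1)).involutive

omit hO in
/-- The fixed field of the Frobenius involution is the subfield with `q` elements. -/
theorem mem_of_fixed (hfix : ∀ x ∈ F₀, x ^ q = x) (hq : Nat.card F₀ = q) (h2 : (2 : F) ≠ 0) :
    ∀ x : F, x ^ q = x → x ∈ F₀ := by
  obtain ⟨δ, hδ0, hδ⟩ := exists_delta hF
  intro x hx
  let φ : F₀ × F₀ → F := fun p => (p.1 : F) + (p.2 : F) * δ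
  have hinj : Function.Injective φ := by
    rintro ⟨a, b⟩ ⟨a', b'⟩ h
    simp only [φ] at h
    have h1 := congrArg (frobEquiv hF) h
    simp only [map_add, map_mul, hδ] at h1
    simp only [frobEquiv_apply hF, hfix _ a.2, hfix _ b.2, hfix _ a'.2, hfix _ b'.2] at h1
    have hb : (b : F) = b' := mul_left_cancel₀ (mul_ne_zero h2 hδ0) (by linear_combination h - h1)
    exact Prod.ext (Subtype.ext (by simp only [hb] at h; exact add_right_cancel h)) (Subtype.ext hb)
  have hbij : Function.Bijective φ :=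
    hinj.bijective_of_nat_card_le (le_of_eq (by rw [Nat.card_prod, hq, hF, pow_two]))
  obtain ⟨⟨a, b⟩, hab⟩ := hbij.2 x
  simp only [φ] at hab
  rw [← hab] at hx ⊢
  rw [← frobEquiv_apply hF, map_add, map_mul, hδ, frobEquiv_apply hF, frobEquiv_apply hF, hfix _ a.2,
    hfix _ b.2] at hx
  have hb : (b : F) = 0 := (mul_eq_zero.1 (show 2 * δ * (b : F) = 0 by linear_combination -hx)).resolve_left
    (mul_ne_zero h2 hδ0)
  rw [hb, zero_mul, add_zero]
  exact a.2

/-- Real and imaginary part. -/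
lemma exists_parts {δ : F} (hδ0 : δ ≠ 0) (hδ : frobEquiv hF δ = -δ) (x : Fin n → F) :
    ∃ a b, IsRV q P a ∧ IsRV q P b ∧ x = a + δ • b ∧ kap q P x = a - δ • b ∧
      a = (2 : F)⁻¹ • (x + kap q P x) ∧ b = (2 * δ)⁻¹ • (x - kap q P x) := by
  have h2 := hO.two
  refine ⟨_, _, ?_, ?_, ?_, ?_, rfl, rfl⟩
  · rw [IsRV, kap_smul hF, kap_add hF, kap_kap hF, map_inv₀, map_ofNat, add_comm (kap q P x)]
  · rw [IsRV, kap_smul hF, kap_sub hF, kap_kap hF, map_inv₀, map_mul, map_ofNat, hδ]
    match_scalars <;> field_simp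
  · match_scalars <;> field_simp <;> ring
  · match_scalars <;> field_simp <;> ring

lemma herm_kap (x y : Fin n → F) : hh (kap q P x) (kap q P y) = frobEquiv hF (hh x y) := by
  obtain ⟨δ, hδ0, hδ⟩ := exists_delta hF
  obtain ⟨a, b, ha, hb, ex, ex', -, -⟩ := exists_parts hF hO hδ0 hδ x
  obtain ⟨c, d, hc, hd, ey, ey', -, -⟩ := exists_parts hF hO hδ0 hδ y
  have hf := isUnitaryForm hF (n := n)
  rw [ex', ey', ex, ey]
  simp only [sub_eq_add_neg, ← neg_smul, hf.add_left, Unit.add_right hf, hf.smul_left, Unit.smul_right hf,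
    map_add, map_mul, map_neg, hδ, fixed_herm hF hO ha hc, fixed_herm hF hO ha hd, fixed_herm hF hO hb hc,
    fixed_herm hF hO hb hd]

lemma herm_kap_rv {u : Fin n → F} (hu : IsRV q P u) (x : Fin n → F) :
    hh (kap q P x) u = frobEquiv hF (hh x u) := by
  conv_lhs => rw [show u = kap q P u from hu.symm]
  exact herm_kap hF hO x u

omit hO in
lemma commutes_kap {A : GL (Fin n) F} (hO : OrthSub n q F F₀ P) (hA : Commutes q P A) (x : Fin n → F) :
    (A : Matrix (Fin n) (Fin n) F) *ᵥ kap q P x = kap q P ((A : Matrix (Fin n) (Fin n) F) *ᵥ x) := by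
  obtain ⟨δ, hδ0, hδ⟩ := exists_delta hF
  obtain ⟨a, b, ha, hb, ex, ex', -, -⟩ := exists_parts hF hO hδ0 hδ x
  rw [ex', ex, Matrix.mulVec_sub, Matrix.mulVec_add, Matrix.mulVec_smul, kap_add hF, kap_smul hF, hδ,
    hA a ha, hA b hb]
  module

/-- A rational vector outside a span of rational vectors has a rational dual vector. -/
lemma exists_rv_dual {k : ℕ} (us : Fin k → (Fin n → F)) (hus : ∀ j, IsRV q P (us j)) {w : Fin n → F}
    (hw : IsRV q P w) (hnot : w ∉ Submodule.span F (Set.range us)) :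
    ∃ y, IsRV q P y ∧ hh w y = 1 ∧ ∀ j, hh y (us j) = 0 := by
  have h2 := hO.two
  obtain ⟨δ, hδ0, hδ⟩ := exists_delta hF
  obtain ⟨y, hy, hwy⟩ := exists_form_of_notMem hF (Submodule.span F (Set.range us)) hnot
  obtain ⟨a, b, ha, -, -, -, ea, -⟩ := exists_parts hF hO hδ0 hδ y
  have hf := isUnitaryForm hF (n := n)
  refine ⟨a, ha, ?_, fun j => ?_⟩
  · rw [ea, Unit.smul_right hf, Unit.add_right hf, hwy, hf.herm w (kap q P y), herm_kap_rv hF hO hw,
      hf.involutive, hf.herm y w, hwy]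
    simp only [map_inv₀, map_ofNat, map_one]
    field_simp
    ring
  · have h1 := hy (us j) (Submodule.subset_span ⟨j, rfl⟩)
    rw [ea, hf.smul_left, hf.add_left, herm_kap_rv hF hO (hus j), h1, map_zero, add_zero, mul_zero]

/-- An anisotropic vector orthogonal to rational vectors gives a rational one. -/
lemma exists_rv_aniso_of {k : ℕ} (us : Fin k → (Fin n → F)) (hus : ∀ j, IsRV q P (us j)) {z : Fin n → F}
    (hz : hh z z ≠ 0) (hzu : ∀ j, hh z (us j) = 0) :
    ∃ x, IsRV q P x ∧ hh x x ≠ 0 ∧ ∀ j, hh x (us j) = 0 := by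
  obtain ⟨δ, hδ0, hδ⟩ := exists_delta hF
  have hf := isUnitaryForm hF (n := n)
  obtain ⟨a, b, ha, hb, ez, -, ea, eb⟩ := exists_parts hF hO hδ0 hδ z
  have hau : ∀ j, hh a (us j) = 0 := fun j => by
    rw [ea, hf.smul_left, hf.add_left, herm_kap_rv hF hO (hus j), hzu, map_zero, add_zero, mul_zero]
  have hbu : ∀ j, hh b (us j) = 0 := fun j => by
    rw [eb, hf.smul_left, sub_eq_add_neg, ← neg_one_smul F (kap q P z), hf.add_left, hf.smul_left,
      herm_kap_rv hF hO (hus j), hzu, map_zero, mul_zero, add_zero, mul_zero]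
  by_cases haa : hh a a = 0
  · refine ⟨b, hb, fun hbb => hz ?_, hbu⟩
    simp only [ez, hf.add_left, Unit.add_right hf, hf.smul_left, Unit.smul_right hf, haa, hbb, hδ,
      herm_swap_rv hF hO ha hb]
    ring
  · exact ⟨a, ha, haa, hau⟩

/-- An anisotropic rational vector orthogonal to a few rational vectors. -/
lemma exists_rv_aniso {k : ℕ} (us : Fin k → (Fin n → F)) (hus : ∀ j, IsRV q P (us j)) (hk : 2 * k < n) :
    ∃ x, IsRV q P x ∧ hh x x ≠ 0 ∧ ∀ j, hh x (us j) = 0 := by
  obtain ⟨z, hz, hzu⟩ := Unit.exists_anisotropic_perp (isUnitaryForm hF (n := n)) us (by simpa using hk)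
  exact exists_rv_aniso_of hF hO us hus hz hzu

omit hO in
/-- An anisotropic vector orthogonal to a few vectors and to two orthogonal anisotropic ones. -/
lemma exists_aniso_perp_two {k : ℕ} (us : Fin k → (Fin n → F)) {x1 x2 : Fin n → F} (h1 : hh x1 x1 ≠ 0)
    (h2 : hh x2 x2 ≠ 0) (h21 : hh x2 x1 = 0) (hk : 2 * k + 3 ≤ n) :
    ∃ z, hh z z ≠ 0 ∧ hh z x1 = 0 ∧ hh z x2 = 0 ∧ ∀ j, hh z (us j) = 0 := by
  have hf := isUnitaryForm hF (n := n)
  by_contra hcon
  push Not at hcon
  let R : (Fin n → F) →ₗ[F] (Fin (k + 2) → F) :=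
    LinearMap.pi fun j => (Unit.linLeft hf).toLin ((Fin.cons x2 (Fin.cons x1 us) : Fin (k + 2) → (Fin n → F)) j)
  have e1 := R.finrank_range_add_finrank_ker
  have e2 : Module.finrank F (LinearMap.range R) ≤ k + 2 := by
    simpa using Submodule.finrank_le (LinearMap.range R)
  rw [Module.finrank_fintype_fun_eq_card, Fintype.card_fin] at e1
  have hmem : ∀ t ∈ LinearMap.ker R, ∀ j, hh t ((Fin.cons x2 (Fin.cons x1 us) : Fin (k + 2) → (Fin n → F)) j) = 0 :=
    fun t ht j => congrFun (LinearMap.mem_ker.1 ht) j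
  have htx1 : ∀ t ∈ LinearMap.ker R, hh t x1 = 0 := fun t ht => by simpa using hmem t ht 1
  have htx2 : ∀ t ∈ LinearMap.ker R, hh t x2 = 0 := fun t ht => by simpa using hmem t ht 0
  have hiso : ∀ t ∈ LinearMap.ker R, hh t t = 0 := fun t ht => by
    by_contra h0
    obtain ⟨j, hj⟩ := hcon t h0 (htx1 t ht) (htx2 t ht)
    exact hj (by simpa using hmem t ht j.succ.succ)
  have hlt : LinearMap.ker R < LinearMap.ker R ⊔ (F ∙ x1) := lt_of_le_of_ne le_sup_left fun e => h1 (hiso x1 (by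
    rw [e]; exact Submodule.mem_sup_right (Submodule.mem_span_singleton_self x1)))
  have hlt2 : LinearMap.ker R ⊔ (F ∙ x1) < LinearMap.ker R ⊔ (F ∙ x1) ⊔ (F ∙ x2) :=
    lt_of_le_of_ne le_sup_left fun e => h2 (by
      have hx2 : x2 ∈ LinearMap.ker R ⊔ (F ∙ x1) := by
        rw [e]; exact Submodule.mem_sup_right (Submodule.mem_span_singleton_self x2)
      obtain ⟨t, ht, s, hs, e'⟩ := Submodule.mem_sup.1 hx2
      obtain ⟨c, rfl⟩ := Submodule.mem_span_singleton.1 hs
      conv_lhs => arg 4; rw [← e']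
      rw [hf.add_left, hf.smul_left, htx2 t ht, hf.herm x1 x2, h21, map_zero, mul_zero, add_zero])
  have e3 := Submodule.finrank_lt_finrank_of_lt hlt
  have e4 := Submodule.finrank_lt_finrank_of_lt hlt2
  have e5 := Unit.finrank_add_le_of_perp hf (T := LinearMap.ker R)
    (S := LinearMap.ker R ⊔ (F ∙ x1) ⊔ (F ∙ x2)) (fun t ht s hs => by
      obtain ⟨s', hs', s₂, hs₂, rfl⟩ := Submodule.mem_sup.1 hs
      obtain ⟨s₀, hs₀, s₁, hs₁, rfl⟩ := Submodule.mem_sup.1 hs'
      obtain ⟨c, rfl⟩ := Submodule.mem_span_singleton.1 hs₁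
      obtain ⟨d, rfl⟩ := Submodule.mem_span_singleton.1 hs₂
      rw [Unit.add_right hf, Unit.add_right hf, Unit.smul_right hf, Unit.smul_right hf,
        Unit.eq_zero_of_totally_isotropic hf hiso t ht s₀ hs₀, htx1 t ht, htx2 t ht, mul_zero, mul_zero, add_zero,
        add_zero])
  rw [Fintype.card_fin] at e5
  omega

/-- A rational hyperbolic pair orthogonal to a few rational vectors. -/
lemma exists_rv_pair {k : ℕ} (us : Fin k → (Fin n → F)) (hus : ∀ j, IsRV q P (us j)) (hk : 2 * k + 3 ≤ n) :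
    ∃ z w, IsRV q P z ∧ IsRV q P w ∧ hh z z = 0 ∧ hh w w = 0 ∧ hh z w = 1 ∧ hh w z = 1 ∧
      (∀ j, hh z (us j) = 0) ∧ ∀ j, hh w (us j) = 0 := by
  have h2 := hO.two
  have hf := isUnitaryForm hF (n := n)
  obtain ⟨x1, hx1, hx10, hx1u⟩ := exists_rv_aniso hF hO us hus (by omega)
  obtain ⟨x2, hx2, hx20, hx2u⟩ := exists_rv_aniso hF hO (Fin.cons x1 us : Fin (k + 1) → (Fin n → F))
    (Fin.cases hx1 hus) (by omega)
  obtain ⟨x3, hx3, hx30, hx3u⟩ : ∃ x3, IsRV q P x3 ∧ hh x3 x3 ≠ 0 ∧
      ∀ j, hh x3 ((Fin.cons x2 (Fin.cons x1 us : Fin (k + 1) → (Fin n → F)) : Fin (k + 2) → (Fin n → F)) j) = 0 := by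
    obtain ⟨z, hz0, hz1, hz2, hzu⟩ := exists_aniso_perp_two hF us hx10 hx20 (by simpa using hx2u 0) hk
    exact exists_rv_aniso_of hF hO _ (Fin.cases hx2 (Fin.cases hx1 hus)) hz0 (Fin.cases hz2 (Fin.cases hz1 hzu))
  have h21 : hh x2 x1 = 0 := by simpa using hx2u 0
  have h32 : hh x3 x2 = 0 := by simpa using hx3u 0
  have h31 : hh x3 x1 = 0 := by simpa using hx3u 1
  have h2u : ∀ j, hh x2 (us j) = 0 := fun j => by simpa using hx2u j.succ
  have h3u : ∀ j, hh x3 (us j) = 0 := fun j => by simpa using hx3u j.succ.succ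
  obtain ⟨X, Y, hXY⟩ := CfsgLib.Forms.exists_binary (F := F₀)
    (fun e => h2 (by have := congrArg F₀.subtype e; rwa [map_ofNat, map_zero] at this))
    (a := ⟨_, hO.mem_of_fixed _ (herm_fixed hO hx1 hx1)⟩) (b := ⟨_, hO.mem_of_fixed _ (herm_fixed hO hx2 hx2)⟩)
    (fun e => hx10 (congrArg Subtype.val e)) (fun e => hx20 (congrArg Subtype.val e))
    (-⟨_, hO.mem_of_fixed _ (herm_fixed hO hx3 hx3)⟩)
  have hXY' := congrArg Subtype.val hXY
  push_cast at hXY'
  have hX : frobEquiv hF (X : F) = X := by rw [frobEquiv_apply hF, hO.fixed _ X.2]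
  have hY : frobEquiv hF (Y : F) = Y := by rw [frobEquiv_apply hF, hO.fixed _ Y.2]
  set z := (X : F) • x1 + (Y : F) • x2 + x3 with hz_def
  have hz : IsRV q P z := ((hx1.smul hF hX).add hF (hx2.smul hF hY)).add hF hx3
  have hzu : ∀ j, hh z (us j) = 0 := fun j => by
    rw [hz_def, hf.add_left, hf.add_left, hf.smul_left, hf.smul_left, hx1u, h2u, h3u]; ring
  have hzz : hh z z = 0 := by
    rw [hz_def]
    simp only [hf.add_left, Unit.add_right hf, hf.smul_left, Unit.smul_right hf, hX, hY, h21, h32, h31,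
      hf.herm x1 x3, hf.herm x2 x3, hf.herm x1 x2, map_zero]
    linear_combination hXY'
  have hzx : hh z x3 = hh x3 x3 := by
    rw [hz_def, hf.add_left, hf.add_left, hf.smul_left, hf.smul_left, herm_swap_rv hF hO hx3 hx1,
      herm_swap_rv hF hO hx3 hx2, h31, h32]
    ring
  have hc : frobEquiv hF (hh x3 x3)⁻¹ = (hh x3 x3)⁻¹ := by rw [map_inv₀, fixed_herm hF hO hx3 hx3]
  set p := (hh x3 x3)⁻¹ • x3 with hp_def
  have hp : IsRV q P p := hx3.smul hF hc
  have hzp : hh z p = 1 := by rw [hp_def, Unit.smul_right hf, hc, hzx, inv_mul_cancel₀ hx30]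
  set t := -hh p p / 2 with ht
  have htf : frobEquiv hF t = t := by rw [ht, map_div₀, map_neg, map_ofNat, fixed_herm hF hO hp hp]
  have hw : IsRV q P (p + t • z) := hp.add hF (hz.smul hF htf)
  have hzw : hh z (p + t • z) = 1 := by rw [Unit.add_right hf, hzp, Unit.smul_right hf, hzz, mul_zero, add_zero]
  refine ⟨z, p + t • z, hz, hw, hzz, ?_, hzw, by rw [herm_swap_rv hF hO hz hw, hzw], hzu, fun j => ?_⟩
  · simp only [hf.add_left, Unit.add_right hf, hf.smul_left, Unit.smul_right hf, htf, hzz, hzp,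
      herm_swap_rv hF hO hz hp]
    rw [ht]
    field_simp
    ring
  · rw [hf.add_left, hp_def, hf.smul_left, hf.smul_left, h3u, hzu]; ring

/-- Rational vectors orthogonal to `us` come from isotropic ones. -/
lemma rv_induction {k : ℕ} (us : Fin k → (Fin n → F)) (hus : ∀ j, IsRV q P (us j)) (hk : 2 * k + 3 ≤ n)
    {p : (Fin n → F) → Prop} (hadd : ∀ x y, IsRV q P x → IsRV q P y → p x → p y → p (x + y))
    (hsing : ∀ a, IsRV q P a → hh a a = 0 → (∀ j, hh a (us j) = 0) → p a)
    {x : Fin n → F} (hx : IsRV q P x) (hxu : ∀ j, hh x (us j) = 0) : p x := by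
  have h2 := hO.two
  have hf := isUnitaryForm hF (n := n)
  obtain ⟨z, w, hz, hw, hzz, hww, hzw, hwz, hzu, hwu⟩ := exists_rv_pair hF hO us hus hk
  have hc1 := fixed_herm hF hO hx hw
  have hc2 := fixed_herm hF hO hx hz
  set c1 := hh x w
  set c2 := hh x z
  set x' := x + (-c1) • z + (-c2) • w with hx'_def
  have hn1 : frobEquiv hF (-c1) = -c1 := by rw [map_neg, hc1]
  have hn2 : frobEquiv hF (-c2) = -c2 := by rw [map_neg, hc2]
  have hx' : IsRV q P x' := (hx.add hF (hz.smul hF hn1)).add hF (hw.smul hF hn2)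
  have hzx : hh z x' = 0 := by
    rw [herm_swap_rv hF hO hx' hz, hx'_def]
    simp only [hf.add_left, hf.smul_left, hzz, hwz, c2]; ring
  have hwx : hh w x' = 0 := by
    rw [herm_swap_rv hF hO hx' hw, hx'_def]
    simp only [hf.add_left, hf.smul_left, hzw, hww, c1]; ring
  have hxu' : ∀ j, hh x' (us j) = 0 := fun j => by
    rw [hx'_def, hf.add_left, hf.add_left, hf.smul_left, hf.smul_left, hxu, hzu, hwu]; ring
  set t := -hh x' x' / 2 with ht
  have htf : frobEquiv hF t = t := by rw [ht, map_div₀, map_neg, map_ofNat, fixed_herm hF hO hx' hx']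
  have hm : ∀ (a : Fin n → F) (c : F), IsRV q P a → hh a a = 0 → (∀ j, hh a (us j) = 0) →
      frobEquiv hF c = c → IsRV q P (c • a) ∧ p (c • a) := fun a c ha haa hau hc =>
    ⟨ha.smul hF hc, hsing _ (ha.smul hF hc) (by rw [hf.smul_left, Unit.smul_right hf, haa, mul_zero, mul_zero])
      fun j => by rw [hf.smul_left, hau, mul_zero]⟩
  obtain ⟨rz, pz⟩ := hm z (c1 - 1) hz hzz hzu (by rw [map_sub, hc1, map_one])
  obtain ⟨rw', pw⟩ := hm w (c2 - t) hw hww hwu (by rw [map_sub, hc2, htf])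
  have r1 := (hx'.add hF hz).add hF (hw.smul hF htf)
  have p1 : p (x' + z + t • w) := hsing _ r1 (by
    simp only [hf.add_left, Unit.add_right hf, hf.smul_left, Unit.smul_right hf, htf, hzz, hww, hzw, hwz, hzx,
      hwx, hf.herm x' z, hf.herm x' w, map_zero]
    rw [ht]
    field_simp
    ring) fun j => by rw [hf.add_left, hf.add_left, hf.smul_left, hxu', hzu, hwu]; ring
  have e : x = x' + z + t • w + (c1 - 1) • z + (c2 - t) • w := by rw [hx'_def]; module
  rw [e]
  exact hadd _ _ (r1.add hF rz) rw' (hadd _ _ r1 rz p1 pz) pw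

/-- A non-zero rational vector orthogonal to fewer than `n` rational vectors. -/
lemma exists_rv_ne_zero {k : ℕ} (us : Fin k → (Fin n → F)) (hus : ∀ j, IsRV q P (us j)) (hk : k < n) :
    ∃ x, IsRV q P x ∧ x ≠ 0 ∧ ∀ j, hh x (us j) = 0 := by
  obtain ⟨δ, hδ0, hδ⟩ := exists_delta hF
  have hf := isUnitaryForm hF (n := n)
  let R : (Fin n → F) →ₗ[F] (Fin k → F) := LinearMap.pi fun j => (Unit.linLeft hf).toLin (us j)
  obtain ⟨z, hz, hz0⟩ := Submodule.exists_mem_ne_zero_of_ne_bot (LinearMap.ker_ne_bot_of_finrank_lt (f := R) (by simpa using hk))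
  have hzu : ∀ j, hh z (us j) = 0 := fun j => congrFun (LinearMap.mem_ker.1 hz) j
  obtain ⟨a, b, ha, hb, ez, -, ea, eb⟩ := exists_parts hF hO hδ0 hδ z
  have hau : ∀ j, hh a (us j) = 0 := fun j => by
    rw [ea, hf.smul_left, hf.add_left, herm_kap_rv hF hO (hus j), hzu, map_zero, add_zero, mul_zero]
  have hbu : ∀ j, hh b (us j) = 0 := fun j => by
    rw [eb, hf.smul_left, sub_eq_add_neg, ← neg_one_smul F (kap q P z), hf.add_left, hf.smul_left,
      herm_kap_rv hF hO (hus j), hzu, map_zero, mul_zero, add_zero, mul_zero]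
  by_cases ha0 : a = 0
  · exact ⟨b, hb, fun e => hz0 (by rw [ez, ha0, e, smul_zero, add_zero]), hbu⟩
  · exact ⟨a, ha, ha0, hau⟩

/-- A non-zero isotropic rational vector orthogonal to at most `n - 3` rational vectors. -/
lemma exists_rv_iso {k : ℕ} (us : Fin k → (Fin n → F)) (hus : ∀ j, IsRV q P (us j)) (hk : k + 2 < n) :
    ∃ z, IsRV q P z ∧ z ≠ 0 ∧ hh z z = 0 ∧ ∀ j, hh z (us j) = 0 := by
  have h2 := hO.two
  have hf := isUnitaryForm hF (n := n)
  by_contra hcon
  push Not at hcon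
  have aniso : ∀ x, IsRV q P x → x ≠ 0 → (∀ j, hh x (us j) = 0) → hh x x ≠ 0 := fun x hx hx0 hxu e => by
    obtain ⟨j, hj⟩ := hcon x hx hx0 e
    exact hj (hxu j)
  obtain ⟨x1, hx1, h10, hx1u⟩ := exists_rv_ne_zero hF hO us hus (by omega)
  have hx10 := aniso x1 hx1 h10 hx1u
  obtain ⟨x2, hx2, h20, hx2u⟩ := exists_rv_ne_zero hF hO (Fin.cons x1 us : Fin (k + 1) → (Fin n → F))
    (Fin.cases hx1 hus) (by omega)
  have h21 : hh x2 x1 = 0 := by simpa using hx2u 0
  have h2u : ∀ j, hh x2 (us j) = 0 := fun j => by simpa using hx2u j.succ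
  have hx20 := aniso x2 hx2 h20 h2u
  obtain ⟨x3, hx3, h30, hx3u⟩ := exists_rv_ne_zero hF hO
    (Fin.cons x2 (Fin.cons x1 us : Fin (k + 1) → (Fin n → F)) : Fin (k + 2) → (Fin n → F))
    (Fin.cases hx2 (Fin.cases hx1 hus)) (by omega)
  have h32 : hh x3 x2 = 0 := by simpa using hx3u 0
  have h31 : hh x3 x1 = 0 := by simpa using hx3u 1
  have h3u : ∀ j, hh x3 (us j) = 0 := fun j => by simpa using hx3u j.succ.succ
  have hx30 := aniso x3 hx3 h30 h3u
  obtain ⟨X, Y, hXY⟩ := CfsgLib.Forms.exists_binary (F := F₀)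
    (fun e => h2 (by have := congrArg F₀.subtype e; rwa [map_ofNat, map_zero] at this))
    (a := ⟨_, hO.mem_of_fixed _ (herm_fixed hO hx1 hx1)⟩) (b := ⟨_, hO.mem_of_fixed _ (herm_fixed hO hx2 hx2)⟩)
    (fun e => hx10 (congrArg Subtype.val e)) (fun e => hx20 (congrArg Subtype.val e))
    (-⟨_, hO.mem_of_fixed _ (herm_fixed hO hx3 hx3)⟩)
  have hXY' := congrArg Subtype.val hXY
  push_cast at hXY'
  have hX : frobEquiv hF (X : F) = X := by rw [frobEquiv_apply hF, hO.fixed _ X.2]
  have hY : frobEquiv hF (Y : F) = Y := by rw [frobEquiv_apply hF, hO.fixed _ Y.2]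
  set z := (X : F) • x1 + (Y : F) • x2 + x3 with hz_def
  have hz : IsRV q P z := ((hx1.smul hF hX).add hF (hx2.smul hF hY)).add hF hx3
  have hzu : ∀ j, hh z (us j) = 0 := fun j => by
    rw [hz_def, hf.add_left, hf.add_left, hf.smul_left, hf.smul_left, hx1u, h2u, h3u]; ring
  have hzx : hh z x3 = hh x3 x3 := by
    rw [hz_def, hf.add_left, hf.add_left, hf.smul_left, hf.smul_left, herm_swap_rv hF hO hx3 hx1,
      herm_swap_rv hF hO hx3 hx2, h31, h32]
    ring
  have hz0 : z ≠ 0 := fun e => hx30 (by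
    rw [← hzx, e, LinLeft.zero_left ⟨CfsgLib.Unitary.herm_add_left n, CfsgLib.Unitary.herm_smul_left n⟩])
  refine aniso z hz hz0 hzu ?_
  rw [hz_def]
  simp only [hf.add_left, Unit.add_right hf, hf.smul_left, Unit.smul_right hf, hX, hY, h21, h32, h31,
    hf.herm x1 x3, hf.herm x2 x3, hf.herm x1 x2, map_zero]
  linear_combination hXY'

/-- A rational Eichler transformation lies in the subfield group. -/
lemma exists_rat_eich {v x : Fin n → F} (hv : IsRV q P v) (hx : IsRV q P x) (hvv : hh v v = 0)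
    (hxv : hh x v = 0) :
    ∃ A ∈ subfieldSubgroup F₀ P ⊓ suGL n F q, IsEich q A v x (-hh x x / 2) := by
  have h2 := hO.two
  have hs : frobEquiv hF (-hh x x / 2) = -hh x x / 2 := by
    rw [map_div₀, map_neg, map_ofNat, fixed_herm hF hO hx hx]
  obtain ⟨A, hA, hE⟩ := exists_eich hF hvv hxv (s := -hh x x / 2)
    (by rw [← frobEquiv_apply hF, hs]; field_simp; ring)
  refine ⟨A, ⟨mem_subfield_of_scaled hO one_ne_zero fun y hy => ?_, hA⟩, hE⟩
  rw [one_smul, hE y]
  refine (hy.add hF (hx.smul hF (fixed_herm hF hO hy hv))).add hF (hv.smul hF ?_)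
  rw [map_sub, map_mul, hs, fixed_herm hF hO hy hv, fixed_herm hF hO hy hx]

variable {M : Subgroup (GL (Fin n) F)}

/-- The parabolic step: imaginary vector parts spread to all of the orthogonal of the centre. -/
lemma vp_all (hn : 6 ≤ n) (hM : subfieldSubgroup F₀ P ⊓ suGL n F q ≤ M) (hMI : M ≤ suGL n F q)
    {δ : F} (hδ0 : δ ≠ 0) (hδ : frobEquiv hF δ = -δ) {v f : Fin n → F} (hv : IsRV q P v) (hvv : hh v v = 0)
    (hf0 : IsRV q P f) (hfn : f ∉ F ∙ v) (hVP : VP q M v (δ • f)) :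
    ∀ x, hh x v = 0 → VP q M v x := by
  have hu := isUnitaryForm hF (n := n)
  have hstep : ∀ w a, IsRV q P w → IsRV q P a → VP q M v (δ • w) → hh a a = 0 → hh a v = 0 → hh a w = 0 →
      w ∉ Submodule.span F (Set.range ![a, v]) → VP q M v (δ • a) := by
    intro w a hw ha hVw haa hav haw hnot
    obtain ⟨y, hy, hwy, hyu⟩ := exists_rv_dual hF hO ![a, v] (Fin.forall_fin_two.2 ⟨ha, hv⟩) hw hnot
    have hya : hh y a = 0 := by simpa using hyu 0
    have hyv : hh y v = 0 := by simpa using hyu 1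
    have hy' : IsRV q P ((-1 : F) • y) := hy.smul hF (by rw [map_neg, map_one])
    obtain ⟨E, hE, hEe⟩ := exists_rat_eich hF hO ha hy' haa (by rw [hu.smul_left, hya, mul_zero])
    have hEv : (E : Matrix (Fin n) (Fin n) F) *ᵥ v = v := by
      rw [hEe v, hu.herm v a, hav, map_zero]
      simp only [Unit.smul_right hu, hu.herm v y, hyv, map_zero, mul_zero]
      module
    have hEw : (E : Matrix (Fin n) (Fin n) F) *ᵥ w = w + a := by
      rw [hEe w, hu.herm w a, haw, map_zero]
      simp only [Unit.smul_right hu, hwy, map_neg, map_one]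
      module
    have h1 := hVw.conj hMI (hM hE)
    rw [hEv, Matrix.mulVec_smul, hEw] at h1
    have h2 := h1.sub hF hvv hVw
    rwa [smul_add, add_sub_cancel_left] at h2
  have h2 := hO.two
  -- an isotropic vector part outside the centre
  obtain ⟨b, hb, hbb, hbv, hbn, hVb⟩ : ∃ b, IsRV q P b ∧ hh b b = 0 ∧ hh b v = 0 ∧ b ∉ F ∙ v ∧ VP q M v (δ • b) := by
    have hfv : hh f v = 0 := by
      have h1 := hVP.1
      rw [hu.smul_left] at h1
      exact (mul_eq_zero.1 h1).resolve_left hδ0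
    by_cases hff : hh f f = 0
    · exact ⟨f, hf0, hff, hfv, hfn, hVP⟩
    rcases eq_or_ne v 0 with rfl | hv0
    · obtain ⟨a, ha, ha0, haa, hau⟩ := exists_rv_iso hF hO ![f] (fun j => by simpa using hf0) (by omega)
      refine ⟨a, ha, haa, by rw [Unit.zero_right hu], by simpa using ha0,
        hstep f a hf0 ha hVP haa (by rw [Unit.zero_right hu]) (hau 0) fun hc => ?_⟩
      obtain ⟨c, hc⟩ := (Submodule.mem_span_range_iff_exists_fun F).1 hc
      simp only [Fin.sum_univ_two, Matrix.cons_val_zero, Matrix.cons_val_one, smul_zero, add_zero] at hc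
      exact hff (by rw [← hc, hu.smul_left, Unit.smul_right hu, haa, mul_zero, mul_zero])
    obtain ⟨t, ht, hvt, -⟩ := exists_rv_dual hF hO ![] (fun j => j.elim0) hv (by simpa using hv0)
    obtain ⟨a, ha, ha0, haa, hau⟩ := exists_rv_iso hF hO ![v, f, t]
      (Fin.forall_fin_succ.2 ⟨hv, Fin.forall_fin_two.2 ⟨hf0, ht⟩⟩) (by omega)
    have hav : hh a v = 0 := hau 0
    refine ⟨a, ha, haa, hav, fun hc => ?_, hstep f a hf0 ha hVP haa hav (hau 1) fun hc => ?_⟩
    · obtain ⟨c, hc⟩ := Submodule.mem_span_singleton.1 hc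
      have h1 : hh a t = 0 := hau 2
      rw [← hc, hu.smul_left, hvt, mul_one] at h1
      exact ha0 (by rw [← hc, h1, zero_smul])
    · obtain ⟨c, hc⟩ := (Submodule.mem_span_range_iff_exists_fun F).1 hc
      simp only [Fin.sum_univ_two, Matrix.cons_val_zero, Matrix.cons_val_one] at hc
      exact hff (by
        rw [← hc]
        simp only [hu.add_left, Unit.add_right hu, hu.smul_left, Unit.smul_right hu, haa, hav, hvv, hu.herm v a,
          map_zero, mul_zero, add_zero])
  -- a hyperbolic partner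
  obtain ⟨b', hb', hb'b', hbb', hb'v⟩ : ∃ b', IsRV q P b' ∧ hh b' b' = 0 ∧ hh b b' = 1 ∧ hh b' v = 0 := by
    obtain ⟨y, hy, hby, hyv⟩ := exists_rv_dual hF hO ![v] (fun j => by simpa using hv) hb (by simpa using hbn)
    have hyv' : hh y v = 0 := by simpa using hyv 0
    have hs : frobEquiv hF (-hh y y / 2) = -hh y y / 2 := by
      rw [map_div₀, map_neg, map_ofNat, fixed_herm hF hO hy hy]
    refine ⟨y + (-hh y y / 2) • b, hy.add hF (hb.smul hF hs), ?_, ?_, ?_⟩
    · simp only [hu.add_left, Unit.add_right hu, hu.smul_left, Unit.smul_right hu, hs, hbb, hby, hu.herm y b,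
        map_one]
      field_simp
      ring
    · rw [Unit.add_right hu, hby, Unit.smul_right hu, hbb, mul_zero, add_zero]
    · rw [hu.add_left, hu.smul_left, hyv', hbv, mul_zero, add_zero]
  have hb'b : hh b' b = 1 := by rw [hu.herm, hbb', map_one]
  -- moving one partner by a root element centred at the other
  have hmove : ∀ b b', IsRV q P b → IsRV q P b' → hh b' b' = 0 → hh b b' = 1 → hh b v = 0 → hh b' v = 0 →
      VP q M v (δ • b) → ∀ y, IsRV q P y → hh y v = 0 → hh y b = 0 → hh y b' = 0 →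
      VP q M v (δ • ((-1 : F) • y + (-hh y y / 2) • b')) := by
    intro b b' hb hb' hb'b' hbb' hbv hb'v hVb y hy hyv hyb hyb'
    have hy' : IsRV q P ((-1 : F) • y) := hy.smul hF (by rw [map_neg, map_one])
    obtain ⟨E, hE, hEe⟩ := exists_rat_eich hF hO hb' hy' hb'b' (by rw [hu.smul_left, hyb', mul_zero])
    have hEv : (E : Matrix (Fin n) (Fin n) F) *ᵥ v = v := by
      rw [hEe v, hu.herm v b', hb'v, map_zero]
      simp only [Unit.smul_right hu, hu.herm v y, hyv, map_zero, mul_zero]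
      module
    have hEb : (E : Matrix (Fin n) (Fin n) F) *ᵥ b = b + ((-1 : F) • y + (-hh y y / 2) • b') := by
      rw [hEe b, hbb']
      simp only [hu.smul_left, Unit.smul_right hu, hu.herm b y, hyb, map_zero, map_neg, map_one]
      match_scalars <;> ring
    have h1 := hVb.conj hMI (hM hE)
    rw [hEv, Matrix.mulVec_smul, hEb] at h1
    have h3 := h1.sub hF hvv hVb
    rwa [smul_add, add_sub_cancel_left] at h3
  obtain ⟨y0, hy0, hy00, hy0u⟩ : ∃ y, IsRV q P y ∧ hh y y ≠ 0 ∧ ∀ j, hh y (![v, b, b'] j) = 0 := by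
    suffices ∃ z, hh z z ≠ 0 ∧ ∀ j, hh z (![v, b, b'] j) = 0 by
      obtain ⟨z, hz, hzu⟩ := this
      exact exists_rv_aniso_of hF hO _ (Fin.forall_fin_succ.2 ⟨hv, Fin.forall_fin_two.2 ⟨hb, hb'⟩⟩) hz hzu
    by_contra hcon
    push Not at hcon
    let R : (Fin n → F) →ₗ[F] (Fin 3 → F) := LinearMap.pi fun j => (Unit.linLeft hu).toLin (![v, b, b'] j)
    have e1 := R.finrank_range_add_finrank_ker
    have e2 : Module.finrank F (LinearMap.range R) ≤ 3 := by simpa using Submodule.finrank_le (LinearMap.range R)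
    rw [Module.finrank_fintype_fun_eq_card, Fintype.card_fin] at e1
    have hlt : LinearMap.ker R < LinearMap.ker R ⊔ (F ∙ b) := lt_of_le_of_ne le_sup_left fun e => by
      have hm : hh b b' = 0 := congrFun (LinearMap.mem_ker.1 (show b ∈ LinearMap.ker R by
        rw [e]; exact Submodule.mem_sup_right (Submodule.mem_span_singleton_self b))) 2
      rw [hbb'] at hm
      exact one_ne_zero hm
    have e3 := Submodule.finrank_lt_finrank_of_lt hlt
    obtain ⟨x, hx, hx0⟩ := Unit.exists_anisotropic hu (T := LinearMap.ker R ⊔ (F ∙ b)) (by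
      rw [Fintype.card_fin]; omega)
    obtain ⟨t, ht, s, hs, rfl⟩ := Submodule.mem_sup.1 hx
    obtain ⟨c, rfl⟩ := Submodule.mem_span_singleton.1 hs
    have htu : ∀ j, hh t (![v, b, b'] j) = 0 := fun j => congrFun (LinearMap.mem_ker.1 ht) j
    have htb : hh t b = 0 := htu 1
    have htt : hh t t = 0 := by
      by_contra h0
      obtain ⟨j, hj⟩ := hcon t h0
      exact hj (htu j)
    refine hx0 ?_
    simp only [hu.add_left, Unit.add_right hu, hu.smul_left, Unit.smul_right hu, htt, htb, hbb, hu.herm b t,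
      map_zero, mul_zero, add_zero]
  have hline : ∀ b b', IsRV q P b → IsRV q P b' → hh b' b' = 0 → hh b b' = 1 → hh b v = 0 → hh b' v = 0 →
      hh y0 b = 0 → hh y0 b' = 0 → VP q M v (δ • b) →
      ∀ c, frobEquiv hF c = c → VP q M v (δ • (c • b')) := by
    intro b b' hb hb' hb'b' hbb' hbv hb'v hy0b hy0b' hVb c hc
    have hy0v : hh y0 v = 0 := hy0u 0
    set l := -c / hh y0 y0
    have hl : frobEquiv hF l = l := by rw [map_div₀, map_neg, hc, fixed_herm hF hO hy0 hy0]
    have hly : IsRV q P (l • y0) := hy0.smul hF hl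
    have hw := hmove b b' hb hb' hb'b' hbb' hbv hb'v hVb
    have h1 := hw (l • y0 + y0) (hly.add hF hy0) (by simp [hu.add_left, hu.smul_left, hy0v])
      (by simp [hu.add_left, hu.smul_left, hy0b]) (by simp [hu.add_left, hu.smul_left, hy0b'])
    have h3 := (h1.sub hF hvv (hw (l • y0) hly (by simp [hu.smul_left, hy0v]) (by simp [hu.smul_left, hy0b])
      (by simp [hu.smul_left, hy0b']))).sub hF hvv (hw y0 hy0 hy0v hy0b hy0b')
    convert h3 using 1
    simp only [hu.add_left, Unit.add_right hu, hu.smul_left, Unit.smul_right hu, hl, l]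
    match_scalars <;> field_simp <;> ring
  have hVb' := hline b b' hb hb' hb'b' hbb' hbv hb'v (hy0u 1) (hy0u 2) hVb
  have hVb'' := hline b' b hb' hb hbb hb'b hb'v hbv (hy0u 2) (hy0u 1) (by simpa using hVb' 1 (map_one _))
  have himag : ∀ w, IsRV q P w → hh w v = 0 → VP q M v (δ • w) := by
    intro w hw hwv
    have hc1 := fixed_herm hF hO hw hb'
    have hc2 := fixed_herm hF hO hw hb
    set c1 := hh w b'
    set c2 := hh w b
    set y := (-1 : F) • w + c1 • b + c2 • b' with hy_def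
    have hy : IsRV q P y :=
      ((hw.smul hF (by rw [map_neg, map_one])).add hF (hb.smul hF hc1)).add hF (hb'.smul hF hc2)
    have hyb : hh y b = 0 := by simp only [hy_def, hu.add_left, hu.smul_left, hbb, hb'b, c2]; ring
    have hyb' : hh y b' = 0 := by simp only [hy_def, hu.add_left, hu.smul_left, hbb', hb'b', c1]; ring
    have hyv : hh y v = 0 := by simp only [hy_def, hu.add_left, hu.smul_left, hwv, hbv, hb'v]; ring
    have hcy : frobEquiv hF (c2 + hh y y / 2) = c2 + hh y y / 2 := by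
      rw [map_add, map_div₀, map_ofNat, hc2, fixed_herm hF hO hy hy]
    have h1 := ((hmove b b' hb hb' hb'b' hbb' hbv hb'v hVb y hy hyv hyb hyb').add hF hvv (hVb'' c1 hc1)).add hF hvv
      (hVb' _ hcy)
    convert h1 using 1
    rw [hy_def]
    match_scalars <;> ring
  intro x hxv
  obtain ⟨a, b, ha, hb, ex, -, ea, eb⟩ := exists_parts hF hO hδ0 hδ x
  have hav : hh a v = 0 := by
    rw [ea, hu.smul_left, hu.add_left, herm_kap_rv hF hO hv, hxv, map_zero, add_zero, mul_zero]
  have hbv : hh b v = 0 := by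
    rw [eb, hu.smul_left, sub_eq_add_neg, ← neg_one_smul F (kap q P x), hu.add_left, hu.smul_left,
      herm_kap_rv hF hO hv, hxv, map_zero, mul_zero, add_zero, mul_zero]
  rw [ex]
  obtain ⟨A, hA, hE⟩ := exists_rat_eich hF hO hv ha hvv hav
  exact VP.add hF hvv ⟨hav, A, hM hA, _, hE⟩ (himag b hb hbv)

/-- An element outside the subfield group moves a rational isotropic vector off the isotropic part. -/
lemma exists_bad_iso (hn : 6 ≤ n) {g : GL (Fin n) F} (hg : g ∈ suGL n F q) (hgX : g ∉ subfieldSubgroup F₀ P) :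
    ∃ a, IsRV q P a ∧ hh a a = 0 ∧
      hh ((g : Matrix (Fin n) (Fin n) F) *ᵥ a) (kap q P ((g : Matrix (Fin n) (Fin n) F) *ᵥ a)) ≠ 0 := by
  have hu := isUnitaryForm hF (n := n)
  have h2 := hO.two
  by_contra hcon
  push Not at hcon
  set B : (Fin n → F) → (Fin n → F) → F := fun x y =>
    hh ((g : Matrix (Fin n) (Fin n) F) *ᵥ x) (kap q P ((g : Matrix (Fin n) (Fin n) F) *ᵥ y)) with hBdef
  have hBs : ∀ x y, B x y = B y x := fun x y => by
    simp only [hBdef]
    conv_lhs => rw [← kap_kap (P := P) hF ((g : Matrix (Fin n) (Fin n) F) *ᵥ x), herm_kap hF hO, ← hu.herm]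
  have hBl : ∀ x x' y, B (x + x') y = B x y + B x' y := fun x x' y => by
    simp only [hBdef, Matrix.mulVec_add, hu.add_left]
  have hBr : ∀ x y y', B x (y + y') = B x y + B x y' := fun x y y' => by rw [hBs, hBl, hBs y, hBs y']
  have hBcl : ∀ c x y, B (c • x) y = c * B x y := fun c x y => by
    simp only [hBdef, Matrix.mulVec_smul, hu.smul_left]
  have hBcr : ∀ c x y, B x (c • y) = c * B x y := fun c x y => by rw [hBs, hBcl, hBs y]
  have hB0 : ∀ a, IsRV q P a → hh a a = 0 → B a a = 0 := fun a ha haa => hcon a ha haa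
  have horth : ∀ z y, IsRV q P z → IsRV q P y → hh z z = 0 → hh y z = 0 → B z y = 0 := by
    intro z y hz hy hzz hyz
    refine rv_induction hF hO ![z] (fun j => by simpa using hz) (by omega) (p := fun y => B z y = 0)
      (fun a b _ _ ha hb => by rw [hBr, ha, hb, add_zero]) (fun a ha haa hau => ?_) hy
      (fun j => by simpa using hyz)
    have haz : hh a z = 0 := by simpa using hau 0
    have h1 := hB0 (z + a) (hz.add hF ha) (by
      simp only [hu.add_left, Unit.add_right hu, hzz, haa, haz, hu.herm z a, map_zero, add_zero])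
    rw [hBl, hBr, hBr, hB0 z hz hzz, hB0 a ha haa, hBs a z] at h1
    exact (mul_eq_zero.1 (show 2 * B z a = 0 by linear_combination h1)).resolve_left h2
  obtain ⟨z, w, hz, hw, hzz, hww, hzw, hwz, -, -⟩ := exists_rv_pair hF hO ![] (fun j => j.elim0) (by omega)
  set c := B z w
  have hdiag : ∀ x, IsRV q P x → B x x = c * hh x x := by
    intro x hx
    have hc1 := fixed_herm hF hO hx hw
    have hc2 := fixed_herm hF hO hx hz
    have hxz := herm_swap_rv hF hO hx hz
    have hxw := herm_swap_rv hF hO hx hw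
    set c1 := hh x w
    set c2 := hh x z
    set y := x + (-c1) • z + (-c2) • w with hy_def
    have hy : IsRV q P y :=
      (hx.add hF (hz.smul hF (by rw [map_neg, hc1]))).add hF (hw.smul hF (by rw [map_neg, hc2]))
    have hyz : hh y z = 0 := by simp only [hy_def, hu.add_left, hu.smul_left, hzz, hwz, c2]; ring
    have hyw : hh y w = 0 := by simp only [hy_def, hu.add_left, hu.smul_left, hzw, hww, c1]; ring
    set t := -hh y y / 2 with ht
    have htf : frobEquiv hF t = t := by rw [ht, map_div₀, map_neg, map_ofNat, fixed_herm hF hO hy hy]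
    have h1 := hB0 (y + z + t • w) ((hy.add hF hz).add hF (hw.smul hF htf)) (by
      simp only [hu.add_left, Unit.add_right hu, hu.smul_left, Unit.smul_right hu, htf, hzz, hww, hzw, hwz, hyz,
        hyw, hu.herm z y, hu.herm w y, map_zero]
      rw [ht]
      field_simp
      ring)
    have e1 := horth z y hz hy hzz hyz
    have e2 := horth w y hw hy hww hyw
    simp only [hBl, hBr, hBcl, hBcr, hB0 z hz hzz, hB0 w hw hww, hBs y z, hBs y w, hBs w z, e1, e2] at h1
    have hyy : B y y = c * hh y y := by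
      rw [show c * hh y y = -(2 * t * c) by rw [ht]; field_simp]
      linear_combination h1
    have hy2 : hh y y = hh x x - 2 * c1 * c2 := by
      simp only [hy_def, hu.add_left, Unit.add_right hu, hu.smul_left, Unit.smul_right hu, map_neg, hc1, hc2,
        hzz, hww, hzw, hwz, hxz, hxw]
      ring
    have e : x = y + c1 • z + c2 • w := by rw [hy_def]; module
    conv_lhs => rw [e]
    simp only [hBl, hBr, hBcl, hBcr, hB0 z hz hzz, hB0 w hw hww, hBs y z, hBs y w, hBs w z, e1, e2, hyy, hy2]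
    ring
  have hall : ∀ u, IsRV q P u → kap q P ((g : Matrix (Fin n) (Fin n) F) *ᵥ u) =
      frobEquiv hF c • ((g : Matrix (Fin n) (Fin n) F) *ᵥ u) := by
    intro u hu'
    obtain ⟨δ, hδ0, hδ⟩ := exists_delta hF
    have hpol : ∀ x, IsRV q P x → B x u = c * hh x u := by
      intro x hx
      have h1 := hdiag _ (hx.add hF hu')
      rw [hBl, hBr, hBr, hBs u x, hdiag x hx, hdiag u hu', hu.add_left, Unit.add_right hu, Unit.add_right hu,
        herm_swap_rv hF hO hx hu'] at h1
      exact (mul_right_inj' h2).1 (by linear_combination h1)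
    set D := kap q P ((g : Matrix (Fin n) (Fin n) F) *ᵥ u) +
      (-frobEquiv hF c) • ((g : Matrix (Fin n) (Fin n) F) *ᵥ u) with hD
    have hx0 : ∀ x, IsRV q P x → hh ((g : Matrix (Fin n) (Fin n) F) *ᵥ x) D = 0 := fun x hx => by
      have e := hpol x hx
      simp only [hBdef] at e
      rw [hD, Unit.add_right hu, Unit.smul_right hu, map_neg, hu.involutive, e, herm_mulVec hg]
      ring
    have hall0 : ∀ z, hh z D = 0 := fun z => by
      obtain ⟨a, b, ha, hb, ez, -, -, -⟩ :=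
        exists_parts hF hO hδ0 hδ (((g⁻¹ : GL (Fin n) F) : Matrix (Fin n) (Fin n) F) *ᵥ z)
      rw [← mulVec_inv_mulVec g z, ez, Matrix.mulVec_add, Matrix.mulVec_smul, hu.add_left, hu.smul_left,
        hx0 a ha, hx0 b hb, mul_zero, add_zero]
    have hD0 : D = 0 := by
      by_contra h0
      obtain ⟨⟨z, hz'⟩, -⟩ := hu.nondegenerate D h0
      exact hz' (hall0 z)
    rw [← sub_eq_zero, sub_eq_add_neg, ← neg_smul]
    exact hD0
  set m := frobEquiv hF c
  have hgz : (g : Matrix (Fin n) (Fin n) F) *ᵥ z ≠ 0 := fun e => by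
    have h1 := inv_mulVec_mulVec g z
    rw [e, Matrix.mulVec_zero] at h1
    rw [← h1, LinLeft.zero_left ⟨CfsgLib.Unitary.herm_add_left n, CfsgLib.Unitary.herm_smul_left n⟩] at hzw
    exact zero_ne_one hzw
  have hmm : m * frobEquiv hF m = 1 := by
    have h1 := congrArg (kap q P) (hall z hz)
    rw [kap_kap hF, kap_smul hF, hall z hz, smul_smul] at h1
    have h2 : (1 : F) • ((g : Matrix (Fin n) (Fin n) F) *ᵥ z) = _ := (one_smul F _).trans h1
    rw [mul_comm]
    exact (smul_left_injective F hgz h2).symm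
  -- Hilbert's theorem 90
  obtain ⟨y, hy⟩ : ∃ y, y + m * frobEquiv hF y ≠ 0 := by
    by_contra hc
    push Not at hc
    refine hu.ne_refl (RingEquiv.ext fun a => ?_)
    have h1 := hc 1
    have h2 := hc a
    rw [map_one, mul_one] at h1
    simp only [RingEquiv.refl_apply]
    linear_combination -h2 + frobEquiv hF a * h1
  refine hgX (mem_subfield_of_scaled hO hy fun x hx => ?_)
  rw [IsRV, kap_smul hF, hall x hx, smul_smul, map_add, map_mul, hu.involutive y]
  congr 1
  linear_combination y * hmm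

theorem orthSub_key (hn : 6 ≤ n) (hM : subfieldSubgroup F₀ P ⊓ suGL n F q ≤ M) (hMI : M ≤ suGL n F q)
    (hMX : ¬ M ≤ subfieldSubgroup F₀ P) : suGL n F q ≤ M := by
  have h2 := hO.two
  have hu := isUnitaryForm hF (n := n)
  obtain ⟨δ, hδ0, hδ⟩ := exists_delta hF
  obtain ⟨g, hgM, hgX⟩ := SetLike.not_le_iff_exists.1 hMX
  obtain ⟨a, ha, haa, hβ⟩ := exists_bad_iso hF hO hn (hMI hgM) hgX
  set a' := (g : Matrix (Fin n) (Fin n) F) *ᵥ a with ha'
  have ha'a' : hh a' a' = 0 := by rw [ha', herm_mulVec (hMI hgM)]; exact haa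
  obtain ⟨a1, a2, ha1, ha2, ea', ekap', -, -⟩ := exists_parts hF hO hδ0 hδ a'
  -- a rational isotropic vector orthogonal to the moved one
  obtain ⟨v, hv, hv0, hvv, hvu⟩ := exists_rv_iso hF hO ![a1, a2] (Fin.forall_fin_two.2 ⟨ha1, ha2⟩) (by omega)
  have hva' : hh v a' = 0 := by
    rw [ea', Unit.add_right hu, Unit.smul_right hu, show hh v a1 = 0 from hvu 0, show hh v a2 = 0 from hvu 1,
      mul_zero, add_zero]
  have ha'v : hh a' v = 0 := by rw [hu.herm, hva', map_zero]
  have hvka : hh v (kap q P a') = 0 := by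
    rw [hu.herm, herm_kap_rv hF hO hv, ha'v, map_zero, map_zero]
  set w₀ := ((g⁻¹ : GL (Fin n) F) : Matrix (Fin n) (Fin n) F) *ᵥ v with hw₀
  have hgw₀ : (g : Matrix (Fin n) (Fin n) F) *ᵥ w₀ = v := by rw [hw₀, mulVec_inv_mulVec]
  obtain ⟨w1, w2, hw1, hw2, ew₀, -, -, -⟩ := exists_parts hF hO hδ0 hδ w₀
  set Sp := Submodule.span F (Set.range ![a', kap q P a', v]) with hSp
  have hmS : ∀ j, ![a', kap q P a', v] j ∈ Sp := fun j => Submodule.subset_span ⟨j, rfl⟩
  -- a root element fixing `v`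
  obtain ⟨y, hy, hya, hyw1, hyw2, hyS⟩ : ∃ y, IsRV q P y ∧ hh y a = 0 ∧ hh y w1 = 0 ∧ hh y w2 = 0 ∧
      (g : Matrix (Fin n) (Fin n) F) *ᵥ y ∉ Sp := by
    by_contra hcon
    push Not at hcon
    let R₃ : (Fin n → F) →ₗ[F] (Fin 3 → F) := LinearMap.pi fun j => (Unit.linLeft hu).toLin (![a, w1, w2] j)
    have hrv : ∀ j, IsRV q P (![a, w1, w2] j) := Fin.forall_fin_succ.2 ⟨ha, Fin.forall_fin_two.2 ⟨hw1, hw2⟩⟩
    have e1 := R₃.finrank_range_add_finrank_ker
    have e2 : Module.finrank F (LinearMap.range R₃) ≤ 3 := by simpa using Submodule.finrank_le (LinearMap.range R₃)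
    rw [Module.finrank_fintype_fun_eq_card, Fintype.card_fin] at e1
    have hle : (LinearMap.ker R₃).map (glEquiv g).toLinearMap ≤ Sp := by
      rintro _ ⟨z, hz, rfl⟩
      have hzu : ∀ j, hh z (![a, w1, w2] j) = 0 := fun j => congrFun (LinearMap.mem_ker.1 hz) j
      obtain ⟨za, zb, hza, hzb, ez, -, eza, ezb⟩ := exists_parts hF hO hδ0 hδ z
      have hau : ∀ j, hh za (![a, w1, w2] j) = 0 := fun j => by
        rw [eza, hu.smul_left, hu.add_left, herm_kap_rv hF hO (hrv j), hzu, map_zero, add_zero, mul_zero]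
      have hbu : ∀ j, hh zb (![a, w1, w2] j) = 0 := fun j => by
        rw [ezb, hu.smul_left, sub_eq_add_neg, ← neg_one_smul F (kap q P z), hu.add_left, hu.smul_left,
          herm_kap_rv hF hO (hrv j), hzu, map_zero, mul_zero, add_zero, mul_zero]
      rw [LinearEquiv.coe_coe, glEquiv_apply, ez, Matrix.mulVec_add, Matrix.mulVec_smul]
      exact Sp.add_mem (hcon za hza (hau 0) (hau 1) (hau 2)) (Sp.smul_mem _ (hcon zb hzb (hbu 0) (hbu 1) (hbu 2)))
    have e3 : Module.finrank F Sp ≤ 3 := (finrank_range_le_card _).trans (by simp)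
    have heq := Submodule.eq_of_le_of_finrank_le hle (by rw [LinearEquiv.finrank_map_eq]; omega)
    obtain ⟨z, hz, hzk⟩ := heq.ge (hmS 1)
    have hza : hh z a = 0 := congrFun (LinearMap.mem_ker.1 hz) 0
    rw [LinearEquiv.coe_coe, glEquiv_apply] at hzk
    refine hβ ?_
    rw [show kap q P a' = (g : Matrix (Fin n) (Fin n) F) *ᵥ z from hzk.symm, ha', herm_mulVec (hMI hgM),
      hu.herm, hza, map_zero]
  obtain ⟨R, hR, hRe⟩ := exists_rat_eich hF hO ha hy haa hya
  set T := g * R * g⁻¹ with hT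
  have hTM : T ∈ M := M.mul_mem (M.mul_mem hgM (hM hR)) (M.inv_mem hgM)
  have hTe := hRe.conj (g := g) (hMI hgM)
  rw [← hT] at hTe
  set y' := (g : Matrix (Fin n) (Fin n) F) *ᵥ y with hy'
  have hy'v : hh y' v = 0 := by
    rw [hy', ← hgw₀, herm_mulVec (hMI hgM), ew₀, Unit.add_right hu, Unit.smul_right hu, hyw1, hyw2, mul_zero,
      add_zero]
  have hTv : (T : Matrix (Fin n) (Fin n) F) *ᵥ v = v := by
    rw [hTe v, hva', hu.herm v y', hy'v, map_zero]
    module
  obtain ⟨x, hx, hxv, p, f, hp, hf, epf, ekap, hfn⟩ : ∃ x, IsRV q P x ∧ hh x v = 0 ∧ ∃ p f, IsRV q P p ∧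
      IsRV q P f ∧ (T : Matrix (Fin n) (Fin n) F) *ᵥ x = p + δ • f ∧
      kap q P ((T : Matrix (Fin n) (Fin n) F) *ᵥ x) = p - δ • f ∧ f ∉ F ∙ v := by
    by_contra hcon
    push Not at hcon
    have hD : ∀ x, IsRV q P x → hh x v = 0 →
        (T : Matrix (Fin n) (Fin n) F) *ᵥ x - kap q P ((T : Matrix (Fin n) (Fin n) F) *ᵥ x) ∈ F ∙ v := by
      intro x hx hxv
      obtain ⟨p, f, hp, hf, epf, ekap, -, -⟩ := exists_parts hF hO hδ0 hδ ((T : Matrix (Fin n) (Fin n) F) *ᵥ x)
      rw [ekap, epf, show p + δ • f - (p - δ • f) = (2 * δ) • f by module]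
      exact Submodule.smul_mem _ _ (hcon x hx hxv p f hp hf epf ekap)
    obtain ⟨z, hzS, hyz⟩ := exists_form_of_notMem hF (Submodule.span F (Set.range ![a', v])) (u := y') (fun hc => by
      refine hyS (Submodule.span_le.2 ?_ hc)
      rintro _ ⟨j, rfl⟩
      fin_cases j
      · exact hmS 0
      · exact hmS 2)
    have hza : hh z a' = 0 := hzS _ (Submodule.subset_span ⟨0, rfl⟩)
    have hzv : hh z v = 0 := hzS _ (Submodule.subset_span ⟨1, rfl⟩)
    have hzy : hh z y' = 1 := by rw [hu.herm, hyz, map_one]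
    obtain ⟨za, zb, hza', hzb', ez, ekz, eza, ezb⟩ := exists_parts hF hO hδ0 hδ z
    have hzav : hh za v = 0 := by
      rw [eza, hu.smul_left, hu.add_left, herm_kap_rv hF hO hv, hzv, map_zero, add_zero, mul_zero]
    have hzbv : hh zb v = 0 := by
      rw [ezb, hu.smul_left, sub_eq_add_neg, ← neg_one_smul F (kap q P z), hu.add_left, hu.smul_left,
        herm_kap_rv hF hO hv, hzv, map_zero, mul_zero, add_zero, mul_zero]
    have h1 : (T : Matrix (Fin n) (Fin n) F) *ᵥ z -
        kap q P ((T : Matrix (Fin n) (Fin n) F) *ᵥ kap q P z) ∈ F ∙ v := by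
      rw [ekz, ez, Matrix.mulVec_add, Matrix.mulVec_sub, Matrix.mulVec_smul, kap_sub hF, kap_smul hF, hδ]
      convert Submodule.add_mem _ (hD za hza' hzav) (Submodule.smul_mem _ δ (hD zb hzb' hzbv)) using 1
      module
    rw [hTe z, hTe (kap q P z), hza, hzy] at h1
    simp only [zero_smul, add_zero, mul_zero, zero_sub, kap_add hF, kap_smul hF, kap_kap hF] at h1
    set μ := frobEquiv hF (hh (kap q P z) a') with hμ_def
    set ν := frobEquiv hF (-hh y y / 2 * hh (kap q P z) a' - hh (kap q P z) y')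
    obtain ⟨r, hr⟩ := Submodule.mem_span_singleton.1 h1
    rcases eq_or_ne μ 0 with hμ | hμ
    · rw [hμ, zero_smul, add_zero] at hr
      have e : a' = (-ν) • kap q P a' + (-r) • v := by linear_combination (norm := module) hr
      refine hβ ?_
      conv_lhs => arg 4; rw [e]
      rw [hu.add_left, hu.smul_left, hu.smul_left, herm_kap hF hO, ha'a', hvka, map_zero, mul_zero, mul_zero,
        add_zero]
    · refine hyS ?_
      have e : μ • kap q P y' = (-1 : F) • a' + (-ν) • kap q P a' + (-r) • v := by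
        linear_combination (norm := module) hr
      have e' := congrArg (kap q P) e
      simp only [kap_add hF, kap_smul hF, kap_kap hF, show kap q P v = v from hv] at e'
      refine (Submodule.smul_mem_iff _ ((map_ne_zero (frobEquiv hF)).2 hμ)).1 ?_
      rw [e']
      exact Sp.add_mem (Sp.add_mem (Sp.smul_mem _ (hmS 1)) (Sp.smul_mem _ (hmS 0))) (Sp.smul_mem _ (hmS 2))
  obtain ⟨w', hw', hvw', -⟩ := exists_rv_dual hF hO ![] (fun j => j.elim0) hv (by simpa using hv0)
  obtain ⟨w, hw, hvw, hwv, hww⟩ : ∃ w, IsRV q P w ∧ hh v w = 1 ∧ hh w v = 1 ∧ hh w w = 0 := by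
    have hwv' : hh w' v = 1 := by rw [herm_swap_rv hF hO hv hw', hvw']
    have hs : frobEquiv hF (-hh w' w' / 2) = -hh w' w' / 2 := by
      rw [map_div₀, map_neg, map_ofNat, fixed_herm hF hO hw' hw']
    refine ⟨w' + (-hh w' w' / 2) • v, hw'.add hF (hv.smul hF hs), ?_, ?_, ?_⟩ <;>
      simp only [hu.add_left, Unit.add_right hu, hu.smul_left, Unit.smul_right hu, hs, hvv, hvw', hwv']
    · ring
    · ring
    · field_simp
      ring
  have hTxv : hh ((T : Matrix (Fin n) (Fin n) F) *ᵥ x) v = 0 := by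
    rw [← hTv, herm_mulVec (hMI hTM)]; exact hxv
  have hpv : hh p v = 0 ∧ hh f v = 0 := by
    have h1 := hTxv
    have h3 : hh (kap q P ((T : Matrix (Fin n) (Fin n) F) *ᵥ x)) v = 0 := by
      rw [herm_kap_rv hF hO hv, hTxv, map_zero]
    rw [epf, hu.add_left, hu.smul_left] at h1
    rw [ekap, sub_eq_add_neg, ← neg_smul, hu.add_left, hu.smul_left] at h3
    refine ⟨(mul_eq_zero.1 (show 2 * hh p v = 0 by linear_combination h1 + h3)).resolve_left h2,
      (mul_eq_zero.1 (show 2 * δ * hh f v = 0 by linear_combination h1 - h3)).resolve_left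
        (mul_ne_zero h2 hδ0)⟩
  obtain ⟨A, hA, hAe⟩ := exists_rat_eich hF hO hv hx hvv hxv
  obtain ⟨B, hB, hBe⟩ := exists_rat_eich hF hO hv hp hvv hpv.1
  have hVx : VP q M v x := ⟨hxv, A, hM hA, _, hAe⟩
  have h1 := hVx.conj hMI hTM
  rw [hTv, epf] at h1
  have hVp : VP q M v p := ⟨hpv.1, B, hM hB, _, hBe⟩
  have h3 := h1.sub hF hvv hVp
  rw [add_sub_cancel_left] at h3
  have hall := vp_all hF hO hn hM hMI hδ0 hδ hv hvv hf hfn h3
  obtain ⟨z, z', hz, -, -, -, hzz', -, hzu, hz'u⟩ := exists_rv_pair hF hO ![v] (fun j => by simpa using hv)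
    (by omega)
  have hfull := full_of_vp hF hvv hall (z := z) (w := z') (by simpa using hzu 0) (by simpa using hz'u 0) hzz'
  -- a full centre not orthogonal to `v`
  obtain ⟨y, hy, hyy, hyu⟩ := exists_rv_aniso hF hO ![v, w] (Fin.forall_fin_two.2 ⟨hv, hw⟩) (by omega)
  have hyv : hh y v = 0 := by simpa using hyu 0
  have hyw : hh y w = 0 := by simpa using hyu 1
  obtain ⟨E, hE, hEe⟩ := exists_rat_eich hF hO hw hy hww hyw
  refine suGL_le_of_vp hF (by omega) hMI hfull (full_conj hF hMI hfull (hM hE)) ?_ hall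
  rw [hEe v, hvw, hu.herm v y, hyv, map_zero, hu.add_left, hu.add_left, hu.smul_left, hu.smul_left, hvv, hyv, hwv]
  simp [hyy, h2]

theorem orthSub_proper (hn : 6 ≤ n) : ¬ suGL n F q ≤ subfieldSubgroup F₀ P := by
  have h2 := hO.two
  have hu := isUnitaryForm hF (n := n)
  intro hle
  obtain ⟨δ, hδ0, hδ⟩ := exists_delta hF
  obtain ⟨v, w, hv, hw, hvv, hww, hvw, hwv, -, -⟩ := exists_rv_pair hF hO ![] (fun j => j.elim0) (by omega)
  obtain ⟨x, hx, hxx, hxu⟩ := exists_rv_aniso hF hO ![v, w] (Fin.forall_fin_two.2 ⟨hv, hw⟩) (by omega)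
  have hxv : hh x v = 0 := by simpa using hxu 0
  have hxw : hh x w = 0 := by simpa using hxu 1
  set s := δ * δ * hh x x / 2 with hs
  have hsf : frobEquiv hF s = s := by
    rw [hs, map_div₀, map_mul, map_mul, map_ofNat, hδ, fixed_herm hF hO hx hx]; ring
  obtain ⟨A, hA, hAe⟩ := exists_eich hF hvv (x := δ • x) (by rw [hu.smul_left, hxv, mul_zero]) (s := s) (by
    rw [← frobEquiv_apply hF, hsf, hu.smul_left, Unit.smul_right hu, hδ, hs]; field_simp; ring)
  obtain ⟨d, hd0, hd⟩ := exists_scaled_of_mem_subfield hO (hle hA)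
  have hAv : (A : Matrix (Fin n) (Fin n) F) *ᵥ v = v := by
    rw [hAe v, hvv, Unit.smul_right hu, hu.herm v x, hxv, map_zero]
    module
  have hd' : frobEquiv hF d = d := by
    have h1 := hd v hv
    rw [hAv, IsRV, kap_smul hF, hv] at h1
    exact smul_left_injective F (fun e => by
      rw [e, LinLeft.zero_left ⟨CfsgLib.Unitary.herm_add_left n, CfsgLib.Unitary.herm_smul_left n⟩] at hvw
      exact zero_ne_one hvw) h1
  have hAw : (A : Matrix (Fin n) (Fin n) F) *ᵥ w = w + δ • x + s • v := by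
    rw [hAe w, hwv, Unit.smul_right hu, hu.herm w x, hxw, map_zero]
    module
  have h1 := hd w hw
  rw [hAw, IsRV, kap_smul hF, hd', kap_add hF, kap_add hF, kap_smul hF, kap_smul hF, hδ, hsf, hv, hw, hx] at h1
  have h3 := congrArg (fun y => hh y x) (smul_right_injective _ hd0 h1)
  simp only [hu.add_left, hu.smul_left, hu.herm w x, hxw, hu.herm v x, hxv, map_zero, mul_zero, add_zero,
    zero_add] at h3
  exact mul_ne_zero (mul_ne_zero h2 hδ0) hxx (by linear_combination -h3)

end CfsgLib.Geo.UTv
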