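/-
Short root elements of the symplectic group inside a subgroup.
-/
import Cfsg.Agent.Geo.SympLagrangianPair

set_option autoImplicit false

namespace CfsgLib.Geo.SpTv

open Matrix Cfsg Cfsg.Geo CfsgLib.Symp

variable {m : ℕ} {F : Type*} [Field F]

local notation "E" => Fin m ⊕ Fin m → F

/-- The alternating form rescaled by `ζ`. -/
abbrev be (ζ : F) (x y : Fin m ⊕ Fin m → F) : F := ζ * form x y

/-- `A` is the map `y ↦ y + B(y,x) v + B(y,v) x + s B(y,v) v` for `B = ζ • form`. -/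
def IsSE (ζ : F) (A : GL (Fin m ⊕ Fin m) F) (v x : Fin m ⊕ Fin m → F) (s : F) : Prop :=
  ∀ y : Fin m ⊕ Fin m → F, (A : Matrix _ _ F) *ᵥ y =
    y + be ζ y x • v + be ζ y v • x + (s * be ζ y v) • v

variable {ζ : F}

lemma exists_se {v x : E} (hxv : form x v = 0) (s : F) : ∃ A ∈ spGL m F, IsSE ζ A v x s := by
  refine ⟨stv2 v (ζ • x) * stv v (ζ * s), (spGL m F).mul_mem (stv2_mem _ _) (stv_mem _ _), fun y => ?_⟩
  rw [mul_mulVec, stv_mulVec, stv2_mulVec (by rw [form_smul_right, form_swap, hxv, neg_zero, mul_zero])]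
  simp only [form_add_left, form_smul_left, form_smul_right, form_self, be,
    show form v x = 0 by rw [form_swap, hxv, neg_zero], mul_zero, add_zero]
  module

lemma stv_isSE (v : E) (s : F) : IsSE ζ (stv v (ζ * s)) v 0 s := fun y => by
  rw [stv_mulVec]
  simp only [be, form_zero_right, mul_zero, zero_smul, smul_zero, add_zero]
  module

lemma IsSE.eq {A B : GL (Fin m ⊕ Fin m) F} {v x : E} {s : F} (hA : IsSE ζ A v x s) (hB : IsSE ζ B v x s) :
    A = B := gl_ext_mulVec fun y => by rw [hA, hB]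

lemma IsSE.eq_stv {A : GL (Fin m ⊕ Fin m) F} {v : E} {s : F} (hA : IsSE ζ A v 0 s) : A = stv v (ζ * s) :=
  hA.eq (stv_isSE v s)

lemma IsSE.mul {A A' : GL (Fin m ⊕ Fin m) F} {v x x' : E} {s s' : F} (hxv : form x v = 0)
    (hx' : form x' v = 0) (hA : IsSE ζ A v x s) (hA' : IsSE ζ A' v x' s') :
    IsSE ζ (A * A') v (x + x') (s + s' + be ζ x' x) := by
  have hvx : form v x = 0 := by rw [form_swap, hxv, neg_zero]
  intro y
  rw [mul_mulVec, hA' y, hA]
  simp only [be, form_add_left, form_add_right, form_smul_left, form_self, hvx, hx', mul_zero, add_zero]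
  module

lemma IsSE.inv {A : GL (Fin m ⊕ Fin m) F} {v x : E} {s : F} (hxv : form x v = 0) (hA : IsSE ζ A v x s) :
    IsSE ζ A⁻¹ v (-x) (-s) := by
  have hvx : form v x = 0 := by rw [form_swap, hxv, neg_zero]
  intro y
  set z := ((A⁻¹ : GL (Fin m ⊕ Fin m) F) : Matrix (Fin m ⊕ Fin m) (Fin m ⊕ Fin m) F) *ᵥ y with hz
  have hy : y = (A : Matrix _ _ F) *ᵥ z := by rw [hz, mulVec_inv_mulVec]
  rw [hy, hA z]
  simp only [← neg_one_smul F x, be, form_add_left, form_smul_left, form_smul_right, form_self, hxv, hvx,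
    mul_zero, add_zero]
  module

lemma IsSE.shift {A : GL (Fin m ⊕ Fin m) F} {v x : E} {s : F} (hA : IsSE ζ A v x s) (c : F) :
    IsSE ζ A v (x + c • v) (s - 2 * c) := by
  intro y
  rw [hA y]
  simp only [be, form_add_right, form_smul_right]
  module

lemma IsSE.conj {A g : GL (Fin m ⊕ Fin m) F} (hg : g ∈ spGL m F) {v x : E} {s : F} (hA : IsSE ζ A v x s) :
    IsSE ζ (g * A * g⁻¹) ((g : Matrix _ _ F) *ᵥ v) ((g : Matrix _ _ F) *ᵥ x) s := by
  intro y
  simp only [mul_mulVec, hA _, Matrix.mulVec_add, Matrix.mulVec_smul, mulVec_inv_mulVec, be]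
  rw [← form_mulVec hg _ x, ← form_mulVec hg _ v, mulVec_inv_mulVec]

/-- The vector parts of short root elements with centre `v` inside `M`. -/
def VP (ζ : F) (M : Subgroup (GL (Fin m ⊕ Fin m) F)) (v x : Fin m ⊕ Fin m → F) : Prop :=
  form x v = 0 ∧ ∃ A ∈ M, ∃ s, IsSE ζ A v x s

variable {M : Subgroup (GL (Fin m ⊕ Fin m) F)}

lemma VP.zero (v : E) : VP ζ M v 0 :=
  ⟨form_zero_left v, 1, M.one_mem, 0, fun y => by
    rw [Units.val_one, Matrix.one_mulVec]
    simp only [be, form_zero_right, mul_zero, zero_mul, zero_smul, smul_zero, add_zero]⟩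

lemma VP.add {v x x' : E} (h : VP ζ M v x) (h' : VP ζ M v x') : VP ζ M v (x + x') := by
  obtain ⟨hx, A, hA, s, hs⟩ := h
  obtain ⟨hx', A', hA', s', hs'⟩ := h'
  exact ⟨by rw [form_add_left, hx, hx', add_zero], _, M.mul_mem hA hA', _, hs.mul hx hx' hs'⟩

lemma VP.neg {v x : E} (h : VP ζ M v x) : VP ζ M v (-x) := by
  obtain ⟨hx, A, hA, s, hs⟩ := h
  exact ⟨by rw [← neg_one_smul F x, form_smul_left, hx, mul_zero], _, M.inv_mem hA, _, hs.inv hx⟩

lemma VP.sub {v x x' : E} (h : VP ζ M v x) (h' : VP ζ M v x') : VP ζ M v (x - x') := by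
  rw [sub_eq_add_neg]; exact h.add h'.neg

lemma VP.shift {v x : E} (h : VP ζ M v x) (c : F) : VP ζ M v (x + c • v) := by
  obtain ⟨hx, A, hA, s, hs⟩ := h
  exact ⟨by rw [form_add_left, form_smul_left, hx, form_self, mul_zero, add_zero], A, hA, _, hs.shift c⟩

lemma VP.centre (v : E) (c : F) : VP ζ M v (c • v) := by simpa using (VP.zero (M := M) (ζ := ζ) v).shift c

lemma VP.conj (hMI : M ≤ spGL m F) {g : GL (Fin m ⊕ Fin m) F} (hg : g ∈ M) {v x : E} (h : VP ζ M v x) :
    VP ζ M ((g : Matrix _ _ F) *ᵥ v) ((g : Matrix _ _ F) *ᵥ x) := by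
  obtain ⟨hx, A, hA, s, hs⟩ := h
  exact ⟨by rw [form_mulVec (hMI hg)]; exact hx, _, M.mul_mem (M.mul_mem hg hA) (M.inv_mem hg), s,
    hs.conj (hMI hg)⟩

/-- All vectors are full once enough centres with all short root elements are. -/
theorem spGL_le_of_vp (hζ : ζ ≠ 0) (hMI : M ≤ spGL m F)
    (h : ∀ y : E, y ≠ 0 → ∃ v u : E, form y v ≠ 0 ∧ form u v ≠ 0 ∧ Full M v ∧ Full M u ∧
      ∀ x, form x v = 0 → VP ζ M v x) : spGL m F ≤ M := by
  refine spGL_le_of_full fun y => ?_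
  rcases eq_or_ne y 0 with rfl | hy
  · exact full_zero
  obtain ⟨v, u, hyv, huv, hv, hu, hall⟩ := h y hy
  set c := form u v / form y v with hc
  set β := be ζ u v
  have hβ : β ≠ 0 := mul_ne_zero hζ huv
  set x := β⁻¹ • (c • y - u) with hx
  have hxv : form x v = 0 := by
    rw [hx, form_smul_left, form_sub_left, form_smul_left, hc, div_mul_cancel₀ _ hyv, sub_self, mul_zero]
  obtain ⟨-, A, hA, s, hs⟩ := hall x hxv
  have h1 := full_conj hMI hu hA
  have e : (A : Matrix _ _ F) *ᵥ u = c • y + (be ζ u x + s * β) • v := by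
    rw [hs u, show be ζ u v = β from rfl, hx, smul_smul, mul_inv_cancel₀ hβ, one_smul]
    module
  rw [e] at h1
  have hc0 : c ≠ 0 := div_ne_zero huv hyv
  have h2 := full_add_smul hMI hv h1
    (by rw [form_add_left, form_smul_left, form_smul_left, form_self, mul_zero, add_zero]
        exact mul_ne_zero hc0 hyv) (-(be ζ u x + s * β))
  rw [show c • y + (be ζ u x + s * β) • v + (-(be ζ u x + s * β)) • v = c • y by module] at h2
  have h3 := full_smul h2 c⁻¹
  rwa [smul_smul, inv_mul_cancel₀ hc0, one_smul] at h3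

end CfsgLib.Geo.SpTv
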