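/-
A subfield group is maximal in the symplectic group.
-/
import Cfsg.Agent.Geo.SympEichler
import Cfsg.Agent.Geo.RatPoints

set_option autoImplicit false

namespace CfsgLib.Geo.SpTv

open Matrix Cfsg Cfsg.Geo CfsgLib.Symp

variable {m : ℕ} {F : Type*} [Field F]

local notation "E" => Fin m ⊕ Fin m → F
local notation "GLE" => GL (Fin m ⊕ Fin m) F

/-- A subfield of prime degree has nothing strictly between. -/
lemma eq_univ_of_subring [Finite F] {F₀ : Subfield F} {r : ℕ} (hr : r.Prime)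
    (hcard : Nat.card F = Nat.card F₀ ^ r) {S : Set F} (hF₀ : ∀ x ∈ F₀, x ∈ S)
    (hadd : ∀ x ∈ S, ∀ y ∈ S, x + y ∈ S) (hmul : ∀ x ∈ S, ∀ y ∈ S, x * y ∈ S) {c : F} (hc : c ∈ S)
    (hc' : c ∉ F₀) : ∀ x, x ∈ S := by
  haveI := Fintype.ofFinite F
  haveI := Fintype.ofFinite F₀
  let A : Subalgebra F₀ F :=
    { carrier := S
      zero_mem' := hF₀ 0 F₀.zero_mem
      one_mem' := hF₀ 1 F₀.one_mem
      add_mem' := fun {x y} hx hy => hadd x hx y hy
      mul_mem' := fun {x y} hx hy => hmul x hx y hy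
      algebraMap_mem' := fun a => hF₀ a a.2 }
  have hrank : Module.finrank F₀ F = r := by
    have h1 := Module.card_eq_pow_finrank (K := F₀) (V := F)
    rw [← Nat.card_eq_fintype_card, hcard, Fintype.card_eq_nat_card] at h1
    exact (Nat.pow_right_injective (Finite.one_lt_card (α := F₀)) h1).symm
  haveI := Subalgebra.isSimpleOrder_of_finrank_prime F₀ F (hrank ▸ hr)
  have hA : A = ⊤ := (eq_bot_or_eq_top A).resolve_left fun hbot => hc' (by
    have h1 : c ∈ A := hc
    rw [hbot, Algebra.mem_bot] at h1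
    obtain ⟨a, rfl⟩ := h1
    exact a.2)
  intro x
  exact (hA ▸ Algebra.mem_top : x ∈ A)

/-- The data of a subfield structure on a symplectic space. -/
structure SpSub (m : ℕ) (F : Type*) [Field F] (F₀ : Subfield F) (P : GL (Fin m ⊕ Fin m) F) (ζ : F) :
    Prop where
  ne_zero : ζ ≠ 0
  rational : IsFormRationalStructure (Cfsg.sympForm m F) F₀ ζ P

variable {F₀ : Subfield F} {P : GL (Fin m ⊕ Fin m) F} {ζ : F} (hS : SpSub m F F₀ P ζ)
include hS

lemma be_mem {x y : E} (hx : InRS F₀ P x) (hy : InRS F₀ P y) : be ζ x y ∈ F₀ := by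
  obtain ⟨u, hu, rfl⟩ := hx.eq
  obtain ⟨w, hw, rfl⟩ := hy.eq
  exact hS.rational u w hu hw

omit hS in
/-- The functional `y ↦ B(u,y)`. -/
def beLin (ζ : F) (u : Fin m ⊕ Fin m → F) : (Fin m ⊕ Fin m → F) →ₗ[F] F where
  toFun y := be ζ u y
  map_add' a b := by simp only [be, form_add_right, mul_add]
  map_smul' c a := by simp only [be, form_smul_right, RingHom.id_apply, smul_eq_mul]; ring

lemma form_eq_zero_iff {x y : E} : be ζ x y = 0 ↔ form x y = 0 := by
  simp [be, hS.ne_zero]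

/-- Rational transvections. -/
lemma rat_stv_mem {v : E} (hv : InRS F₀ P v) {k : F} (hk : k ∈ F₀) :
    stv v (ζ * k) ∈ subfieldSubgroup F₀ P ⊓ spGL m F := by
  refine ⟨mem_subfield_of_scaled_rs one_ne_zero fun y hy => ?_, stv_mem _ _⟩
  rw [one_smul, stv_mulVec, mul_right_comm]
  exact hy.add (hv.smul (F₀.mul_mem (be_mem hS hy hv) hk))

/-- Rational short root elements. -/
lemma rat_se_mem {v x : E} (hv : InRS F₀ P v) (hx : InRS F₀ P x) (hxv : form x v = 0) :
    ∃ A ∈ subfieldSubgroup F₀ P ⊓ spGL m F, IsSE ζ A v x 0 := by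
  obtain ⟨A, hA, hE⟩ := exists_se (ζ := ζ) hxv 0
  refine ⟨A, ⟨mem_subfield_of_scaled_rs one_ne_zero fun y hy => ?_, hA⟩, hE⟩
  rw [one_smul, hE y, zero_mul, zero_smul, add_zero]
  exact (hy.add (hv.smul (be_mem hS hy hx))).add (hx.smul (be_mem hS hy hv))

variable [Finite F]

/-- A rational dual vector. -/
lemma exists_rs_dual {k : ℕ} (us : Fin k → (Fin m ⊕ Fin m → F)) (hus : ∀ j, InRS F₀ P (us j)) {w : E}
    (hw : InRS F₀ P w) (hnot : w ∉ Submodule.span F (Set.range us)) :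
    ∃ y, InRS F₀ P y ∧ be ζ w y = 1 ∧ ∀ j, form (us j) y = 0 := by
  obtain ⟨y, hy, hwy⟩ := exists_form_of_notMem (Submodule.span F (Set.range us)) hnot
  by_contra hcon
  push Not at hcon
  have hle : Submodule.span F {r | InRS F₀ P r ∧ ∀ φ : E →ₗ[F] F,
      (∀ x, InRS F₀ P x → φ x ∈ F₀) → φ y = 0 → φ r = 0} ≤ LinearMap.ker (beLin ζ w) := by
    refine Submodule.span_le.2 ?_
    rintro r ⟨hr, hr'⟩
    by_contra hne
    change ¬ be ζ w r = 0 at hne
    obtain ⟨j, hj⟩ := hcon ((be ζ w r)⁻¹ • r) (hr.smul (F₀.inv_mem (be_mem hS hw hr)))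
      (by simp only [be, form_smul_right]; rw [mul_left_comm]; exact inv_mul_cancel₀ hne)
    refine hj ?_
    have h1 := hr' (beLin ζ (us j)) (fun x hx => be_mem hS (hus j) hx)
      (show be ζ (us j) y = 0 by simp [be, hy _ (Submodule.subset_span ⟨j, rfl⟩)])
    change be ζ (us j) r = 0 at h1
    rw [form_smul_right, (form_eq_zero_iff hS).1 h1, mul_zero]
  have h1 := hle (mem_span_rs y)
  change ζ * form w y = 0 at h1
  rw [hwy, mul_one] at h1
  exact hS.ne_zero h1

/-- A rational vector orthogonal to some vectors outside the span of others. -/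
lemma exists_rs_perp {k l : ℕ} (us : Fin k → (Fin m ⊕ Fin m → F)) (hus : ∀ j, InRS F₀ P (us j))
    (vs : Fin l → (Fin m ⊕ Fin m → F)) (hkl : k + l < 2 * m) :
    ∃ w, InRS F₀ P w ∧ (∀ j, form (us j) w = 0) ∧ w ∉ Submodule.span F (Set.range vs) := by
  by_contra hcon
  push Not at hcon
  let L : E →ₗ[F] (Fin k → F) := LinearMap.pi fun j => beLin ζ (us j)
  have hker : LinearMap.ker L ≤ Submodule.span F (Set.range vs) := by
    intro y hy
    refine Submodule.span_le.2 ?_ (mem_span_rs (F₀ := F₀) (P := P) y)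
    rintro r ⟨hr, hr'⟩
    exact hcon r hr fun j => (form_eq_zero_iff hS).1
      (hr' (beLin ζ (us j)) (fun x hx => be_mem hS (hus j) hx) (congrFun (LinearMap.mem_ker.1 hy) j))
  have h1 := L.finrank_range_add_finrank_ker
  have h2 : Module.finrank F (LinearMap.range L) ≤ k := by simpa using Submodule.finrank_le (LinearMap.range L)
  have h3 := Submodule.finrank_mono hker
  have h4 : Module.finrank F (Submodule.span F (Set.range vs)) ≤ l := by
    simpa [Set.finrank] using finrank_range_le_card (R := F) vs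
  rw [Module.finrank_fintype_fun_eq_card, Fintype.card_sum, Fintype.card_fin] at h1
  omega

omit hS in
lemma eq_of_pairing (hS : SpSub m F F₀ P ζ) {s t : E}
    (h : ∀ i, be ζ s ((P : Matrix (Fin m ⊕ Fin m) (Fin m ⊕ Fin m) F) *ᵥ Pi.single i 1) =
      be ζ t ((P : Matrix (Fin m ⊕ Fin m) (Fin m ⊕ Fin m) F) *ᵥ Pi.single i 1)) : s = t := by
  refine sub_eq_zero.1 (by_contra fun hne => ?_)
  obtain ⟨z, hz⟩ := exists_form_ne_zero hne
  refine hz ((form_eq_zero_iff hS).1 ?_)
  change beLin ζ (s - t) z = 0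
  rw [eq_sum_cols (P := P) z, map_sum]
  refine Finset.sum_eq_zero fun i _ => ?_
  rw [map_smul, smul_eq_mul]
  refine mul_eq_zero_of_right _ ?_
  change be ζ (s - t) _ = 0
  rw [be, form_sub_left, mul_sub, sub_eq_zero]
  exact h i

/-- A vector with rational pairings is rational. -/
lemma inRS_of_pairing {z : E} (h : ∀ e, InRS F₀ P e → be ζ z e ∈ F₀) : InRS F₀ P z := by
  let Φ : {s : E // InRS F₀ P s} → (Fin m ⊕ Fin m → F₀) := fun s i =>
    ⟨be ζ s.1 ((P : Matrix (Fin m ⊕ Fin m) (Fin m ⊕ Fin m) F) *ᵥ Pi.single i (1 : F)),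
      be_mem hS s.2 (inRS_col (P := P) i)⟩
  have hinj : Function.Injective Φ := fun s t e =>
    Subtype.ext (eq_of_pairing hS fun i => congrArg Subtype.val (congrFun e i))
  have hcardle : Nat.card (Fin m ⊕ Fin m → F₀) ≤ Nat.card {s : E // InRS F₀ P s} :=
    Nat.card_le_card_of_injective
      (fun u => ⟨(P : Matrix (Fin m ⊕ Fin m) (Fin m ⊕ Fin m) F) *ᵥ fun i => (u i : F), inRS_mulVec fun i => (u i).2⟩)
      fun u u' e => funext fun i => Subtype.ext (by
        have e1 := congrArg (fun w => ((P⁻¹ : GLE) : Matrix (Fin m ⊕ Fin m) (Fin m ⊕ Fin m) F) *ᵥ w)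
          (congrArg Subtype.val e)
        simp only [inv_mulVec_mulVec] at e1
        exact congrFun e1 i)
  obtain ⟨⟨s, hs⟩, hse⟩ := (hinj.bijective_of_nat_card_le hcardle).2 fun i => ⟨_, h _ (inRS_col i)⟩
  rwa [← eq_of_pairing hS fun i => congrArg Subtype.val (congrFun hse i)]

/-- The orthogonal of a rational vector is spanned by rational vectors. -/
lemma perp_induction {v : E} (hv : InRS F₀ P v) {p : E → Prop} (h0 : p 0)
    (hadd : ∀ x y, p x → p y → p (x + y))
    (hrs : ∀ (r : E) (c : F), InRS F₀ P r → form r v = 0 → p (c • r)) {x : E} (hx : form x v = 0) : p x := by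
  suffices ∀ c : F, p (c • x) by simpa using this 1
  refine Submodule.span_induction (p := fun z _ => ∀ c : F, p (c • z)) ?_ ?_ ?_ ?_
    (mem_span_rs (F₀ := F₀) (P := P) x)
  · rintro r ⟨hr, hr'⟩ c
    have h1 := hr' (beLin ζ v) (fun y hy => be_mem hS hv hy)
      (show be ζ v x = 0 by simp [be, form_swap v x, hx])
    change be ζ v r = 0 at h1
    exact hrs r c hr (by rw [form_swap, (form_eq_zero_iff hS).1 h1, neg_zero])
  · intro c; rw [smul_zero]; exact h0
  · intro a b _ _ ha hb c; rw [smul_add]; exact hadd _ _ (ha c) (hb c)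
  · intro d a _ ha c; rw [smul_smul]; exact ha _

/-- Two rational vectors are moved to one another by a rational element. -/
lemma exists_rat_move {v w : E} (hv : InRS F₀ P v) (hv0 : v ≠ 0) (hw : InRS F₀ P w) (hw0 : w ≠ 0) :
    ∃ A ∈ subfieldSubgroup F₀ P ⊓ spGL m F, (A : Matrix _ _ F) *ᵥ v = w := by
  have hstep : ∀ {a b : E}, InRS F₀ P a → InRS F₀ P b → be ζ a b ≠ 0 →
      ∃ A ∈ subfieldSubgroup F₀ P ⊓ spGL m F, (A : Matrix _ _ F) *ᵥ a = b := by
    intro a b ha hb hab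
    refine ⟨_, rat_stv_mem hS (hb.sub ha) (F₀.inv_mem (be_mem hS ha hb)), ?_⟩
    rw [stv_mulVec, form_sub_right, form_self, sub_zero, mul_right_comm, mul_inv_cancel₀ hab, one_smul,
      add_sub_cancel]
  by_cases hvw : be ζ v w = 0
  · have hn : ∀ a : E, a ≠ 0 → InRS F₀ P a → ∃ y, InRS F₀ P y ∧ be ζ a y = 1 := fun a ha0 ha => by
      obtain ⟨y, hy, hay, -⟩ := exists_rs_dual hS (Fin.elim0 : Fin 0 → E) (fun j => j.elim0) ha
        (by simpa using ha0)
      exact ⟨y, hy, hay⟩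
    obtain ⟨y, hy, hvy⟩ := hn v hv0 hv
    obtain ⟨z, hz, hwz⟩ := hn w hw0 hw
    obtain ⟨u, hu, h1, h2⟩ : ∃ u, InRS F₀ P u ∧ be ζ v u ≠ 0 ∧ be ζ w u ≠ 0 := by
      by_cases h1 : be ζ w y = 0
      · by_cases h2 : be ζ v z = 0
        · refine ⟨y + z, hy.add hz, ?_, ?_⟩
          · simp only [be, form_add_right, mul_add] at hvy h2 ⊢; rw [hvy, h2, add_zero]; exact one_ne_zero
          · simp only [be, form_add_right, mul_add] at hwz h1 ⊢; rw [hwz, h1, zero_add]; exact one_ne_zero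
        · exact ⟨z, hz, h2, by rw [hwz]; exact one_ne_zero⟩
      · exact ⟨y, hy, by rw [hvy]; exact one_ne_zero, h1⟩
    obtain ⟨A, hA, eA⟩ := hstep hv hu h1
    obtain ⟨B, hB, eB⟩ := hstep hu hw (by rw [be, form_swap, mul_neg, neg_ne_zero]; exact h2)
    exact ⟨B * A, Subgroup.mul_mem _ hB hA, by rw [mul_mulVec, eA, eB]⟩
  · exact hstep hv hw hvw

variable {M : Subgroup (GL (Fin m ⊕ Fin m) F)}

/-- The parabolic step. -/
theorem spGL_le_of_scalar {r : ℕ} (hm : 3 ≤ m) (hr : r.Prime) (hcard : Nat.card F = Nat.card F₀ ^ r)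
    (hM : subfieldSubgroup F₀ P ⊓ spGL m F ≤ M) (hMI : M ≤ spGL m F) {v w0 : E} (hv : InRS F₀ P v)
    (hv0 : v ≠ 0) (hw0 : InRS F₀ P w0) (hwv : w0 ∉ F ∙ v) (hwperp : form w0 v = 0) {μ : F} (hμ : μ ∉ F₀)
    (hVP : VP ζ M v (μ • w0)) : spGL m F ≤ M := by
  let S : Set F := {c | ∀ x, InRS F₀ P x → form x v = 0 → VP ζ M v (c • x)}
  let T : Set F := {c | stv v (ζ * c) ∈ M}
  have hS0 : ∀ c ∈ F₀, c ∈ S := fun c hc x hx hxv => by
    obtain ⟨A, hA, hE⟩ := rat_se_mem hS hv (hx.smul hc) (by rw [form_smul_left, hxv, mul_zero])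
    exact ⟨by rw [form_smul_left, hxv, mul_zero], A, hM hA, 0, hE⟩
  have hSadd : ∀ a ∈ S, ∀ b ∈ S, a + b ∈ S := fun a ha b hb x hx hxv => by
    rw [add_smul]; exact (ha x hx hxv).add (hb x hx hxv)
  have hSneg : ∀ a ∈ S, -a ∈ S := fun a ha x hx hxv => by rw [neg_smul]; exact (ha x hx hxv).neg
  have hSk : ∀ a ∈ S, ∀ k ∈ F₀, a * k ∈ S := fun a ha k hk x hx hxv => by
    rw [← smul_smul]; exact ha _ (hx.smul hk) (by rw [form_smul_left, hxv, mul_zero])
  have hspan : ∀ x : E, x ∉ F ∙ v → x ∉ Submodule.span F (Set.range ![v]) := fun x h => by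
    simpa [Matrix.range_cons, Matrix.range_empty] using h
  have hv1 : ∀ j : Fin 1, InRS F₀ P (![v] j) := fun j => by simpa using hv
  -- moving vector parts
  have hstvv : ∀ z : E, form z v = 0 → ∀ c : F, (stv z c : Matrix _ _ F) *ᵥ v = v := fun z hz c => by
    rw [stv_mulVec, form_swap, hz, neg_zero, mul_zero, zero_smul, add_zero]
  have hmove : ∀ a : F, ∀ x z : E, InRS F₀ P z → form z v = 0 → VP ζ M v (a • x) → ∀ k ∈ F₀,
      VP ζ M v ((a * (k * be ζ x z)) • z) := by
    intro a x z hz hzv hx k hk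
    have h1 := hx.conj hMI (hM (rat_stv_mem hS hz hk))
    rw [hstvv z hzv, Matrix.mulVec_smul, stv_mulVec, smul_add] at h1
    have h2 := h1.sub hx
    rw [add_sub_cancel_left, smul_smul] at h2
    rwa [show a * (k * be ζ x z) = a * (ζ * k * form x z) by simp only [be]; ring]
  have hμS : μ ∈ S := by
    intro x hx hxv
    by_cases hxm : x ∈ F ∙ v
    · obtain ⟨c, rfl⟩ := Submodule.mem_span_singleton.1 hxm
      rw [smul_smul]; exact VP.centre v _
    obtain ⟨y1, hy1, e1, f1⟩ := exists_rs_dual hS ![v] hv1 hw0 (hspan _ hwv)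
    obtain ⟨y2, hy2, e2, f2⟩ := exists_rs_dual hS ![v] hv1 hx (hspan _ hxm)
    have g1 : form y1 v = 0 := by rw [form_swap, show form v y1 = 0 by simpa using f1 0, neg_zero]
    have g2 : form y2 v = 0 := by rw [form_swap, show form v y2 = 0 by simpa using f2 0, neg_zero]
    obtain ⟨y, hy, hyv, a1, a2⟩ : ∃ y, InRS F₀ P y ∧ form y v = 0 ∧ be ζ w0 y ≠ 0 ∧ be ζ x y ≠ 0 := by
      by_cases h1 : be ζ x y1 = 0
      · by_cases h2 : be ζ w0 y2 = 0
        · refine ⟨y1 + y2, hy1.add hy2, by rw [form_add_left, g1, g2, add_zero], ?_, ?_⟩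
          · simp only [be, form_add_right, mul_add] at e1 h2 ⊢; rw [e1, h2, add_zero]; exact one_ne_zero
          · simp only [be, form_add_right, mul_add] at e2 h1 ⊢; rw [e2, h1, zero_add]; exact one_ne_zero
        · exact ⟨y2, hy2, g2, h2, by rw [e2]; exact one_ne_zero⟩
      · exact ⟨y1, hy1, g1, by rw [e1]; exact one_ne_zero, h1⟩
    have h1 := hmove μ w0 y hy hyv hVP _ (F₀.inv_mem (be_mem hS hw0 hy))
    rw [inv_mul_cancel₀ a1, mul_one] at h1
    have a3 : be ζ y x ≠ 0 := by rw [be, form_swap, mul_neg, neg_ne_zero]; exact a2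
    have h2 := hmove μ y x hx hxv h1 _ (F₀.inv_mem (be_mem hS hy hx))
    rwa [inv_mul_cancel₀ a3, mul_one] at h2
  -- long root elements from short ones
  have hkey : ∀ a ∈ S, ∀ w, InRS F₀ P w → form w v = 0 → w ∉ F ∙ v →
      ∃ A ∈ M, IsSE ζ A v (a • w) (-a ^ 2) := by
    intro a ha w hw hwv' hwm
    obtain ⟨y, hy, hwy, hyu⟩ := exists_rs_dual hS ![v] hv1 hw (hspan _ hwm)
    have hyv : form (-y) v = 0 := by
      rw [← neg_one_smul F y, form_smul_left, form_swap, show form v y = 0 by simpa using hyu 0, neg_zero, mul_zero]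
    obtain ⟨hay, A, hA, s, hs⟩ := ha (-y) hy.neg hyv
    have hgM := hM (rat_stv_mem hS hw F₀.one_mem)
    have hs' := hs.conj (hMI hgM)
    have hg : (stv w (ζ * 1) : Matrix _ _ F) *ᵥ (a • -y) = a • (-y + w) := by
      rw [Matrix.mulVec_smul, stv_mulVec, mul_one, ← neg_one_smul F y, form_smul_left, form_swap y w]
      simp only [be] at hwy
      rw [show ζ * (-1 * -form w y) = 1 by linear_combination hwy, one_smul]
    rw [hstvv w hwv', hg] at hs'
    have hwy' : form (a • (-y + w)) v = 0 := by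
      rw [form_smul_left, form_add_left, hyv, hwv', add_zero, mul_zero]
    have h2 := hs'.mul hwy' (by rw [← neg_one_smul F (a • -y), form_smul_left, hay, mul_zero]) (hs.inv hay)
    refine ⟨_, M.mul_mem (M.mul_mem (M.mul_mem hgM hA) (M.inv_mem hgM)) (M.inv_mem hA), ?_⟩
    have ex : a • (-y + w) + -(a • -y) = a • w := by module
    have es : s + -s + be ζ (-(a • -y)) (a • (-y + w)) = -a ^ 2 := by
      rw [show -(a • -y) = a • y by module]
      simp only [be, form_smul_left, form_smul_right, form_add_right, ← neg_one_smul F y, form_self,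
        form_swap y w] at hwy ⊢
      linear_combination (-a ^ 2) * hwy
    rwa [ex, es] at h2
  have hTsq : ∀ a ∈ S, -a ^ 2 ∈ T := by
    intro a ha
    obtain ⟨w1, hw1, hw1u, hw1m⟩ := exists_rs_perp hS ![v] hv1 ![v] (by omega)
    obtain ⟨w2, hw2, hw2u, hw2m⟩ := exists_rs_perp hS ![v, w1] (Fin.forall_fin_two.2 ⟨hv, hw1⟩) ![v, w1]
      (by omega)
    have c1 : form w1 v = 0 := by rw [form_swap, show form v w1 = 0 by simpa using hw1u 0, neg_zero]
    have c2 : form w2 v = 0 := by rw [form_swap, show form v w2 = 0 by simpa using hw2u 0, neg_zero]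
    have c12 : form w1 w2 = 0 := by simpa using hw2u 1
    have c21 : form w2 w1 = 0 := by rw [form_swap, c12, neg_zero]
    have m1 : w1 ∉ F ∙ v := by simpa [Matrix.range_cons, Matrix.range_empty] using hw1m
    have m2 : w2 ∉ F ∙ v := fun h => hw2m (Submodule.span_mono (by simp) h)
    have m3 : w1 + w2 ∉ F ∙ v := fun h => hw2m (by
      have h1 : w1 + w2 ∈ Submodule.span F (Set.range ![v, w1]) := Submodule.span_mono (by simp) h
      have h2 : w1 ∈ Submodule.span F (Set.range ![v, w1]) := Submodule.subset_span ⟨1, rfl⟩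
      simpa using Submodule.sub_mem _ h1 h2)
    obtain ⟨A1, hA1, e1⟩ := hkey a ha w1 hw1 c1 m1
    obtain ⟨A2, hA2, e2⟩ := hkey a ha w2 hw2 c2 m2
    obtain ⟨A3, hA3, e3⟩ := hkey a ha (w1 + w2) (hw1.add hw2) (by rw [form_add_left, c1, c2, add_zero]) m3
    have p1 : form (a • w1) v = 0 := by rw [form_smul_left, c1, mul_zero]
    have p2 : form (a • w2) v = 0 := by rw [form_smul_left, c2, mul_zero]
    have p3 : form (a • (w1 + w2)) v = 0 := by rw [form_smul_left, form_add_left, c1, c2, add_zero, mul_zero]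
    have p4 : form (a • w1 + a • w2) v = 0 := by rw [form_add_left, p1, p2, add_zero]
    have h := (e1.mul p1 p2 e2).mul p4
      (by rw [← neg_one_smul F (a • (w1 + w2)), form_smul_left, p3, mul_zero]) (e3.inv p3)
    have ex : a • w1 + a • w2 + -(a • (w1 + w2)) = 0 := by module
    have es : -a ^ 2 + -a ^ 2 + be ζ (a • w2) (a • w1) + - -a ^ 2 +
        be ζ (-(a • (w1 + w2))) (a • w1 + a • w2) = -a ^ 2 := by
      simp only [be, ← neg_one_smul F (a • (w1 + w2)), form_smul_left, form_smul_right, form_add_left,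
        form_add_right, form_self, c12, c21]
      ring
    rw [ex, es] at h
    change stv v (ζ * -a ^ 2) ∈ M
    rw [← h.eq_stv]
    exact M.mul_mem (M.mul_mem hA1 hA2) (M.inv_mem hA3)
  have hTS : ∀ τ ∈ T, ∀ a ∈ S, a * τ ∈ S := by
    intro τ hτ a ha x hx hxv
    by_cases hxm : x ∈ F ∙ v
    · obtain ⟨c, rfl⟩ := Submodule.mem_span_singleton.1 hxm
      rw [smul_smul]; exact VP.centre v _
    obtain ⟨A, hA, hAv⟩ := exists_rat_move hS hv hv0 hx (fun e => hxm (e ▸ Submodule.zero_mem _))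
    have hxτ : stv x (ζ * τ) ∈ M := by
      rw [← hAv, ← stv_conj (hA.2)]
      exact M.mul_mem (M.mul_mem (hM hA) hτ) (M.inv_mem (hM hA))
    obtain ⟨y, hy, hxy, hyu⟩ := exists_rs_dual hS ![v] hv1 hx (hspan _ hxm)
    have hyv : form (-y) v = 0 := by
      rw [← neg_one_smul F y, form_smul_left, form_swap, show form v y = 0 by simpa using hyu 0, neg_zero, mul_zero]
    have h0 := ha (-y) hy.neg hyv
    have h1 := h0.conj hMI hxτ
    rw [hstvv x hxv, Matrix.mulVec_smul, stv_mulVec, smul_add] at h1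
    have h2 := h1.sub h0
    rw [add_sub_cancel_left, smul_smul] at h2
    rwa [show a * (ζ * τ * form (-y) x) = a * τ by
      rw [← neg_one_smul F y, form_smul_left, form_swap y x]
      simp only [be] at hxy
      linear_combination a * τ * hxy] at h2
  -- the scalars form a subring
  have h1S : (1 : F) ∈ S := hS0 1 F₀.one_mem
  let R0 : Set F := {a | ∀ b ∈ S, a * b ∈ S}
  have hR0 : ∀ a ∈ R0, a ∈ S := fun a ha => by simpa using ha 1 h1S
  have hsq : ∀ a ∈ S, a ^ 2 ∈ R0 := fun a ha b hb => by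
    have := hSneg _ (hTS _ (hTsq a ha) b hb)
    rwa [show -(b * -a ^ 2) = a ^ 2 * b by ring] at this
  have hSR : ∀ a ∈ S, a ∈ R0 := by
    intro a ha
    by_cases h2 : (2 : F) = 0
    · haveI : CharP F 2 := CharTwo.of_one_ne_zero_of_two_eq_zero one_ne_zero h2
      haveI := Fintype.ofFinite S
      let f : S → S := fun b => ⟨(b : F) ^ 2, hR0 _ (hsq b b.2)⟩
      have hf : Function.Injective f := fun b c e => by
        have e1 : (b : F) ^ 2 = (c : F) ^ 2 := congrArg Subtype.val e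
        exact Subtype.ext (frobenius_inj F 2 e1)
      obtain ⟨b, hb⟩ := Finite.surjective_of_injective hf ⟨a, ha⟩
      rw [show a = (b : F) ^ 2 from (congrArg Subtype.val hb).symm]
      exact hsq b b.2
    · intro b hb
      have h4 : a * 2 * b ∈ S := by
        have e : a * 2 * b = (a + 1) ^ 2 * b + -(a ^ 2 * b) + -(1 ^ 2 * b) := by ring
        rw [e]
        exact hSadd _ (hSadd _ (hsq _ (hSadd a ha 1 h1S) b hb) _ (hSneg _ (hsq a ha b hb))) _
          (hSneg _ (hsq 1 h1S b hb))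
      have h5 := hSk _ h4 (2 : F)⁻¹ (F₀.inv_mem (natCast_mem F₀ 2))
      rwa [show a * 2 * b * (2 : F)⁻¹ = a * b by field_simp] at h5
  have huniv : ∀ c, c ∈ S := eq_univ_of_subring hr hcard hS0 hSadd
    (fun a ha b hb => hSR a ha b hb) hμS hμ
  have hTall : ∀ c, c ∈ T := by
    intro c
    by_cases h2 : (2 : F) = 0
    · haveI : CharP F 2 := CharTwo.of_one_ne_zero_of_two_eq_zero one_ne_zero h2
      obtain ⟨b, hb⟩ : ∃ b, frobenius F 2 b = c :=
        Finite.surjective_of_injective (frobenius_inj F 2) c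
      have h1 := hTsq b (huniv b)
      rwa [CharTwo.neg_eq, show b ^ 2 = c from hb] at h1
    · have h1 : stv v (ζ * -(((c + 1) / 2) ^ 2)) ∈ M := hTsq _ (huniv _)
      have h3 : stv v (ζ * -(((c - 1) / 2) ^ 2)) ∈ M := hTsq _ (huniv _)
      have h1' := M.inv_mem h1
      have e : (stv v (ζ * -(((c + 1) / 2) ^ 2)))⁻¹ = stv v (ζ * (((c + 1) / 2) ^ 2)) :=
        inv_eq_of_mul_eq_one_right (by
          rw [stv_add, ← mul_add, neg_add_cancel, mul_zero]
          exact gl_ext_mulVec fun x => by simp [stv_mulVec])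
      rw [e] at h1'
      have h4 := M.mul_mem h1' h3
      rw [stv_add, ← mul_add, show ((c + 1) / 2) ^ 2 + -(((c - 1) / 2) ^ 2) = c by field_simp; ring] at h4
      exact h4
  have hfullv : Full M v := fun c => by
    have h1 : stv v (ζ * (c / ζ)) ∈ M := hTall _
    rwa [mul_div_cancel₀ _ hS.ne_zero] at h1
  have hallv : ∀ x, form x v = 0 → VP ζ M v x := fun x hx =>
    perp_induction hS hv (p := fun x => VP ζ M v x) (VP.zero v) (fun a b ha hb => ha.add hb)
      (fun r c hr hrv => huniv c r hr hrv) hx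
  refine spGL_le_of_vp hS.ne_zero hMI fun y hy => ?_
  obtain ⟨r, hr, hyr⟩ : ∃ r, InRS F₀ P r ∧ form y r ≠ 0 := by
    by_contra hcon
    push Not at hcon
    obtain ⟨z, hz⟩ := exists_form_ne_zero hy
    refine hz ?_
    have hle : Submodule.span F {r | InRS F₀ P r ∧ ∀ φ : E →ₗ[F] F,
        (∀ x, InRS F₀ P x → φ x ∈ F₀) → φ z = 0 → φ r = 0} ≤ LinearMap.ker (beLin ζ y) :=
      Submodule.span_le.2 fun r hr => show be ζ y r = 0 by simp [be, hcon r hr.1]
    exact (form_eq_zero_iff hS).1 (hle (mem_span_rs z))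
  have hr0 : r ≠ 0 := fun e => hyr (by rw [e, form_zero_right])
  obtain ⟨u, hu, hru, -⟩ := exists_rs_dual hS (Fin.elim0 : Fin 0 → E) (fun j => j.elim0) hr
    (by simpa using hr0)
  have hru' : form r u ≠ 0 := fun e => by simp [be, e] at hru
  have hu0 : u ≠ 0 := fun e => hru' (by rw [e, form_zero_right])
  obtain ⟨A, hA, hAv⟩ := exists_rat_move hS hv hv0 hr hr0
  obtain ⟨B, hB, hBv⟩ := exists_rat_move hS hv hv0 hu hu0
  refine ⟨r, u, hyr, by rw [form_swap, neg_ne_zero]; exact hru', hAv ▸ full_conj hMI hfullv (hM hA),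
    hBv ▸ full_conj hMI hfullv (hM hB), fun x hx => ?_⟩
  have h1 : VP ζ M v (((A⁻¹ : GLE) : Matrix (Fin m ⊕ Fin m) (Fin m ⊕ Fin m) F) *ᵥ x) :=
    hallv _ (by rw [← form_mulVec hA.2, mulVec_inv_mulVec, hAv]; exact hx)
  have h2 := h1.conj hMI (hM hA)
  rwa [hAv, mulVec_inv_mulVec] at h2

/-- An irrational centre orthogonal to a rational vector. -/
theorem spGL_le_of_centre {r : ℕ} (hm : 3 ≤ m) (hr : r.Prime) (hcard : Nat.card F = Nat.card F₀ ^ r)
    (hM : subfieldSubgroup F₀ P ⊓ spGL m F ≤ M) (hMI : M ≤ spGL m F) {a v : E} (ha : ¬ IsPt F₀ P a)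
    (hA : ∀ k ∈ F₀, stv a (ζ * k) ∈ M) (hv : InRS F₀ P v) (hv0 : v ≠ 0) (hav : form a v = 0) :
    spGL m F ≤ M := by
  -- some product of two coordinates is irrational
  obtain ⟨v, hv, hv0, hav, x, w, hx, hw, hxv, hwv, hμ⟩ : ∃ v, InRS F₀ P v ∧ v ≠ 0 ∧ form a v = 0 ∧
      ∃ x w, InRS F₀ P x ∧ InRS F₀ P w ∧ form x v = 0 ∧ form w v = 0 ∧ be ζ x a * be ζ a w ∉ F₀ := by
    by_contra hcon
    push Not at hcon
    by_cases hall : ∀ w, InRS F₀ P w → form w v = 0 → form a w = 0
    · refine ha ?_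
      have hmem : a ∈ F ∙ v := by
        by_contra hmem
        obtain ⟨z, hz, haz⟩ := exists_form_of_notMem (F ∙ v) hmem
        have h1 := perp_induction hS hv (p := fun x => form a x = 0) (form_zero_right a)
          (fun x y hx hy => by rw [form_add_right, hx, hy, add_zero])
          (fun r c hr hrv => by rw [form_smul_right, hall r hr hrv, mul_zero])
          (x := z) (by rw [form_swap, hz v (Submodule.mem_span_singleton_self v), neg_zero])
        rw [h1] at haz
        exact zero_ne_one haz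
      obtain ⟨c, hc⟩ := Submodule.mem_span_singleton.1 hmem
      exact ⟨c, v, hv, hc.symm⟩
    push Not at hall
    obtain ⟨w0, hw0, hw0v, haw0⟩ := hall
    set β := be ζ a w0 with hβdef
    have hβ : β ≠ 0 := mul_ne_zero hS.ne_zero haw0
    have hprod : ∀ x w, InRS F₀ P x → InRS F₀ P w → form x v = 0 → form w v = 0 →
        be ζ x a * be ζ a w ∈ F₀ := fun x w hx hw => hcon v hv hv0 hav x w hx hw
    have hβ2 : β * β ∈ F₀ := by
      have h1 := F₀.neg_mem (hprod w0 w0 hw0 hw0 hw0v hw0v)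
      rwa [be, form_swap w0 a, mul_neg, neg_mul, neg_neg] at h1
    have hratio : ∀ x, InRS F₀ P x → form x v = 0 → be ζ a x / β ∈ F₀ := fun x hx hxv => by
      have h1 := F₀.div_mem (F₀.neg_mem (hprod w0 x hw0 hx hw0v hxv)) hβ2
      rwa [be, form_swap w0 a, mul_neg, neg_mul, neg_neg, show ζ * form a w0 = β from rfl,
        mul_div_mul_left _ _ hβ] at h1
    -- `a` is a combination of `v` and one rational vector
    obtain ⟨p, hp, hvp, -⟩ := exists_rs_dual hS (Fin.elim0 : Fin 0 → E) (fun j => j.elim0) hv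
      (by simpa using hv0)
    let κ : E → E := fun e => e - be ζ v e • p
    have hκrs : ∀ e, InRS F₀ P e → InRS F₀ P (κ e) := fun e he => he.sub (hp.smul (be_mem hS hv he))
    have hκv : ∀ e, form (κ e) v = 0 := fun e => by
      simp only [κ, form_sub_left, form_smul_left, form_swap p v, form_swap e v]
      have hvp' : ζ * form v p = 1 := hvp
      linear_combination (form v e) * hvp'
    set c := be ζ a p
    set r0 := β⁻¹ • (a - c • v) with hr0def
    have hdec : a = β • r0 + c • v := by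
      rw [hr0def, smul_smul, mul_inv_cancel₀ hβ, one_smul, sub_add_cancel]
    have hr0rs : InRS F₀ P r0 := by
      refine inRS_of_pairing hS fun e he => ?_
      have h1 := hratio _ (hκrs e he) (hκv e)
      have h2 : be ζ r0 e = be ζ a (κ e) / β := by
        simp only [hr0def, κ, c, be, form_smul_left, form_sub_left, form_sub_right, form_smul_right, div_eq_mul_inv]
        ring
      rwa [h2]
    clear_value r0
    have hr0v : form r0 v = 0 := by
      have h1 := hav
      rw [hdec, form_add_left, form_smul_left, form_smul_left, form_self, mul_zero, add_zero] at h1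
      exact (mul_eq_zero.1 h1).resolve_left hβ
    have hindep : r0 ∉ F ∙ v := by
      intro h
      refine haw0 ?_
      obtain ⟨d, hd⟩ := Submodule.mem_span_singleton.1 h
      rw [hdec, ← hd]
      simp only [form_add_left, form_smul_left, form_swap v w0, hw0v, neg_zero, mul_zero, add_zero]
    have hvr : v ∉ F ∙ r0 := by
      intro h
      obtain ⟨d, hd⟩ := Submodule.mem_span_singleton.1 h
      rcases eq_or_ne d 0 with rfl | hd0
      · exact hv0 (by rw [← hd, zero_smul])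
      · exact hindep (Submodule.mem_span_singleton.2 ⟨d⁻¹, by rw [← hd, smul_smul, inv_mul_cancel₀ hd0, one_smul]⟩)
    obtain ⟨v', hv', hv'u, hv'm⟩ := exists_rs_perp hS ![r0, v] (Fin.forall_fin_two.2 ⟨hr0rs, hv⟩) ![r0, v]
      (by omega)
    have u1 : form r0 v' = 0 := by simpa using hv'u 0
    have u2 : form v v' = 0 := by simpa using hv'u 1
    have hnot1 : v ∉ Submodule.span F (Set.range ![r0, v']) := by
      intro h
      rw [Submodule.mem_span_range_iff_exists_fun] at h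
      obtain ⟨d, hd⟩ := h
      simp only [Fin.sum_univ_two, Matrix.cons_val_zero, Matrix.cons_val_one] at hd
      rcases eq_or_ne (d 1) 0 with h1 | h1
      · exact hvr (Submodule.mem_span_singleton.2 ⟨d 0, by rw [← hd, h1, zero_smul, add_zero]⟩)
      · refine hv'm ((Submodule.smul_mem_iff _ h1).1 ?_)
        rw [eq_sub_of_add_eq' hd]
        exact Submodule.sub_mem _ (Submodule.subset_span ⟨1, rfl⟩)
          (Submodule.smul_mem _ _ (Submodule.subset_span ⟨0, rfl⟩))
    have hnot0 : r0 ∉ Submodule.span F (Set.range ![v, v']) := by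
      intro h
      rw [Submodule.mem_span_range_iff_exists_fun] at h
      obtain ⟨d, hd⟩ := h
      simp only [Fin.sum_univ_two, Matrix.cons_val_zero, Matrix.cons_val_one] at hd
      rcases eq_or_ne (d 1) 0 with h1 | h1
      · exact hindep (Submodule.mem_span_singleton.2 ⟨d 0, by rw [← hd, h1, zero_smul, add_zero]⟩)
      · refine hv'm ((Submodule.smul_mem_iff _ h1).1 ?_)
        rw [eq_sub_of_add_eq' hd]
        exact Submodule.sub_mem _ (Submodule.subset_span ⟨0, rfl⟩)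
          (Submodule.smul_mem _ _ (Submodule.subset_span ⟨1, rfl⟩))
    obtain ⟨x0, hx0, e0, f0⟩ := exists_rs_dual hS ![v, v'] (Fin.forall_fin_two.2 ⟨hv, hv'⟩) hr0rs hnot0
    obtain ⟨x1, hx1, e1, f1⟩ := exists_rs_dual hS ![r0, v'] (Fin.forall_fin_two.2 ⟨hr0rs, hv'⟩) hv hnot1
    have hv'0 : v' ≠ 0 := fun e => hv'm (e ▸ Submodule.zero_mem _)
    have hav' : form a v' = 0 := by rw [hdec, form_add_left, form_smul_left, form_smul_left, u1, u2]; ring
    have k0 : form x0 v' = 0 := by rw [form_swap, show form v' x0 = 0 by simpa using f0 1, neg_zero]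
    have k1 : form x1 v' = 0 := by rw [form_swap, show form v' x1 = 0 by simpa using f1 1, neg_zero]
    have b0 : be ζ a x0 = β := by
      rw [hdec, be, form_add_left, form_smul_left, form_smul_left, show form v x0 = 0 by simpa using f0 0]
      have e' : ζ * form r0 x0 = 1 := e0
      linear_combination β * e'
    have b1 : be ζ a x1 = c := by
      rw [hdec, be, form_add_left, form_smul_left, form_smul_left, show form r0 x1 = 0 by simpa using f1 0]
      have e' : ζ * form v x1 = 1 := e1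
      linear_combination c * e'
    have hcb := F₀.neg_mem (hcon v' hv' hv'0 hav' x1 x0 hx1 hx0 k1 k0)
    rw [show be ζ x1 a = -c by rw [← b1, be, be, form_swap x1 a, mul_neg], b0, neg_mul, neg_neg] at hcb
    have hcdiv : c / β ∈ F₀ := by
      have h1 := F₀.div_mem hcb hβ2
      rwa [mul_div_mul_right _ _ hβ] at h1
    refine ha ⟨β, r0 + (c / β) • v, hr0rs.add (hv.smul hcdiv), ?_⟩
    rw [smul_add, smul_smul, mul_div_cancel₀ _ hβ]
    exact hdec
  have hT := hA 1 F₀.one_mem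
  have hTv : (stv a (ζ * 1) : Matrix _ _ F) *ᵥ v = v := by
    rw [stv_mulVec, form_swap, hav, neg_zero, mul_zero, zero_smul, add_zero]
  obtain ⟨X, hX, hXe⟩ := rat_se_mem hS hv hx hxv
  have hVx : VP ζ M v x := ⟨hxv, X, hM hX, 0, hXe⟩
  have h1 := hVx.conj hMI hT
  rw [hTv, stv_mulVec, mul_one] at h1
  have h2 := h1.sub hVx
  rw [add_sub_cancel_left] at h2
  have h3 := h2.conj hMI (hM (rat_stv_mem hS hw F₀.one_mem))
  rw [stv_mulVec (v := w) (x := v), form_swap v w, hwv, neg_zero, mul_zero, zero_smul, add_zero,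
    Matrix.mulVec_smul, stv_mulVec, mul_one, smul_add] at h3
  have h4 := h3.sub h2
  rw [add_sub_cancel_left, smul_smul] at h4
  have hne : be ζ x a * be ζ a w ≠ 0 := fun e => hμ (e ▸ F₀.zero_mem)
  refine spGL_le_of_scalar hS hm hr hcard hM hMI hv hv0 hw (fun h => ?_) hwv hμ h4
  obtain ⟨d, rfl⟩ := Submodule.mem_span_singleton.1 h
  exact hne (by simp only [be, form_smul_right, hav, mul_zero])

omit [Finite F] hS in
lemma form_eq_of_sq {z : GLE} (hz : z ∈ spGL m F) (hz2 : z * z = 1) (x y : E) :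
    form ((z : Matrix (Fin m ⊕ Fin m) (Fin m ⊕ Fin m) F) *ᵥ x) y = form x ((z : Matrix (Fin m ⊕ Fin m) (Fin m ⊕ Fin m) F) *ᵥ y) := by
  conv_rhs => rw [← form_mulVec hz, ← mul_mulVec, hz2, Units.val_one, Matrix.one_mulVec]

omit hS [Finite F] in
/-- No rational vector is orthogonal to an irrational point of the orbit of a rational vector. -/
def Generic (F₀ : Subfield F) (P : GL (Fin m ⊕ Fin m) F) (M : Subgroup (GL (Fin m ⊕ Fin m) F)) : Prop :=
  ∀ h ∈ M, ∀ u v, InRS F₀ P u → u ≠ 0 → InRS F₀ P v → v ≠ 0 →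
    form ((h : Matrix (Fin m ⊕ Fin m) (Fin m ⊕ Fin m) F) *ᵥ u) v = 0 →
    IsPt F₀ P ((h : Matrix (Fin m ⊕ Fin m) (Fin m ⊕ Fin m) F) *ᵥ u)

omit [Finite F] in
lemma inRS_ne_zero_of_pt {h : GLE} {u r : E} {c : F} (hu0 : u ≠ 0)
    (e : (h : Matrix (Fin m ⊕ Fin m) (Fin m ⊕ Fin m) F) *ᵥ u = c • r) : r ≠ 0 := by
  intro hr
  rw [hr, smul_zero] at e
  exact hu0 (by rw [← inv_mulVec_mulVec h u, e, Matrix.mulVec_zero])

/-- One orthogonal relation puts an element into the subfield group. -/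
lemma mem_of_generic (hm : 2 ≤ m) (hMI : M ≤ spGL m F) (hg : Generic F₀ P M) {h : GLE} (hh : h ∈ M) {u v : E}
    (hu : InRS F₀ P u) (hu0 : u ≠ 0) (hv : InRS F₀ P v) (hv0 : v ≠ 0)
    (huv : form ((h : Matrix (Fin m ⊕ Fin m) (Fin m ⊕ Fin m) F) *ᵥ u) v = 0) : h ∈ subfieldSubgroup F₀ P := by
  haveI : Nonempty (Fin m ⊕ Fin m) := ⟨Sum.inl ⟨0, by omega⟩⟩
  have hnext : ∀ a b, InRS F₀ P a → a ≠ 0 → InRS F₀ P b → b ≠ 0 → form a b = 0 →
      IsPt F₀ P ((h : Matrix (Fin m ⊕ Fin m) (Fin m ⊕ Fin m) F) *ᵥ a) → IsPt F₀ P ((h : Matrix (Fin m ⊕ Fin m) (Fin m ⊕ Fin m) F) *ᵥ b) := by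
    rintro a b ha ha0 hb hb0 hab ⟨c, r, hr, e⟩
    refine hg h hh b r hb hb0 hr (inRS_ne_zero_of_pt hS ha0 e) ?_
    have hc : c ≠ 0 := fun hc => ha0 (by
      rw [hc, zero_smul] at e
      rw [← inv_mulVec_mulVec h a, e, Matrix.mulVec_zero])
    have h1 := form_mulVec (hMI hh) b a
    rw [e, form_smul_right, form_swap b a, hab, neg_zero] at h1
    exact (mul_eq_zero.1 h1).resolve_left hc
  refine mem_subfield_of_points fun x hx => ?_
  rcases eq_or_ne x 0 with rfl | hx0
  · exact ⟨0, 0, inRS_zero, by rw [Matrix.mulVec_zero, zero_smul]⟩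
  obtain ⟨w, hw, hwu, hw0⟩ := exists_rs_perp hS ![u, x] (Fin.forall_fin_two.2 ⟨hu, hx⟩) (Fin.elim0 : Fin 0 → E)
    (by omega)
  have hw0' : w ≠ 0 := fun e => hw0 (e ▸ Submodule.zero_mem _)
  exact hnext w x hw hw0' hx hx0 (by rw [form_swap, show form x w = 0 by simpa using hwu 1, neg_zero])
    (hnext u w hu hu0 hw hw0' (by simpa using hwu 0) (hg h hh u v hu hu0 hv hv0 huv))

/-- In the generic situation the field extension is large. -/
lemma two_mul_le_of_generic {r : ℕ} (hm : 2 ≤ m) (hcard : Nat.card F = Nat.card F₀ ^ r) (hMI : M ≤ spGL m F)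
    (hg : Generic F₀ P M) {h : GLE} (hh : h ∈ M) (hh' : h ∉ subfieldSubgroup F₀ P) : 2 * m ≤ r := by
  obtain ⟨u, hu, -, hu0⟩ := exists_rs_perp hS (Fin.elim0 : Fin 0 → E) (fun j => j.elim0)
    (Fin.elim0 : Fin 0 → E) (by omega)
  have hu0' : u ≠ 0 := fun e => hu0 (e ▸ Submodule.zero_mem _)
  let ψ : (Fin m ⊕ Fin m → F₀) → F := fun c =>
    form ((h : Matrix (Fin m ⊕ Fin m) (Fin m ⊕ Fin m) F) *ᵥ u) ((P : Matrix (Fin m ⊕ Fin m) (Fin m ⊕ Fin m) F) *ᵥ fun i => (c i : F))
  have hinj : Function.Injective ψ := by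
    intro c c' e
    by_contra hne
    refine hh' (mem_of_generic hS hm hMI hg hh hu hu0' (inRS_mulVec (P := P) fun i => (c i - c' i).2) ?_ ?_)
    · intro h0
      refine hne (funext fun i => sub_eq_zero.1 (Subtype.ext ?_))
      have h1 := congrFun (congrArg (fun w => ((P⁻¹ : GLE) : Matrix (Fin m ⊕ Fin m) (Fin m ⊕ Fin m) F) *ᵥ w) h0) i
      simpa [inv_mulVec_mulVec] using h1
    · have e1 : (fun i => ((c i - c' i : F₀) : F)) = (fun i => (c i : F)) - (fun i => (c' i : F)) :=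
        funext fun i => by simp
      rw [e1, Matrix.mulVec_sub, form_sub_right, sub_eq_zero]
      exact e
  have h1 := Nat.card_le_card_of_injective ψ hinj
  rw [Nat.card_fun, hcard, Nat.card_sum, Nat.card_fin] at h1
  have := Nat.pow_le_pow_iff_right (Finite.one_lt_card (α := F₀)) |>.1 h1
  omega

omit [Finite F] in
/-- Elements of the subfield group map rational vectors to rational vectors when the extension is odd. -/
lemma rat_of_mem_subfield [Finite F] {r : ℕ} (hm : 1 ≤ m) (hr : r.Prime) (hr3 : 3 ≤ r)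
    (hcard : Nat.card F = Nat.card F₀ ^ r) {z : GLE} (hz : z ∈ subfieldSubgroup F₀ P) (hzI : z ∈ spGL m F)
    {x : E} (hx : InRS F₀ P x) : InRS F₀ P ((z : Matrix (Fin m ⊕ Fin m) (Fin m ⊕ Fin m) F) *ᵥ x) := by
  obtain ⟨d, hd0, hd⟩ := exists_scaled_rs_of_mem hz
  obtain ⟨u, hu, -, hu0⟩ := exists_rs_perp hS (Fin.elim0 : Fin 0 → E) (fun j => j.elim0)
    (Fin.elim0 : Fin 0 → E) (by omega)
  obtain ⟨y, hy, huy, -⟩ := exists_rs_dual hS (Fin.elim0 : Fin 0 → E) (fun j => j.elim0) hu hu0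
  have hd2 : d * d ∈ F₀ := by
    have h1 := be_mem hS (hd u hu) (hd y hy)
    simp only [be, form_smul_left, form_smul_right, form_mulVec hzI] at h1 huy
    rwa [show ζ * (d * (d * form u y)) = d * d * (ζ * form u y) by ring, huy, mul_one] at h1
  have hdF : d ∈ F₀ := by
    by_contra hd'
    have hall := eq_univ_of_subring hr hcard (S := {x | ∃ a ∈ F₀, ∃ b ∈ F₀, x = a + b * d})
      (fun x hx => ⟨x, hx, 0, F₀.zero_mem, by ring⟩)
      (by rintro _ ⟨a, ha, b, hb, rfl⟩ _ ⟨a', ha', b', hb', rfl⟩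
          exact ⟨a + a', F₀.add_mem ha ha', b + b', F₀.add_mem hb hb', by ring⟩)
      (by rintro _ ⟨a, ha, b, hb, rfl⟩ _ ⟨a', ha', b', hb', rfl⟩
          exact ⟨a * a' + b * b' * (d * d), F₀.add_mem (F₀.mul_mem ha ha') (F₀.mul_mem (F₀.mul_mem hb hb') hd2),
            a * b' + b * a', F₀.add_mem (F₀.mul_mem ha hb') (F₀.mul_mem hb ha'), by ring⟩)
      (c := d) ⟨0, F₀.zero_mem, 1, F₀.one_mem, by ring⟩ hd'
    let φ : F₀ × F₀ → F := fun p => (p.1 : F) + (p.2 : F) * d
    have hsurj : Function.Surjective φ := fun x => by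
      obtain ⟨a, ha, b, hb, e⟩ := hall x
      exact ⟨(⟨a, ha⟩, ⟨b, hb⟩), e.symm⟩
    have h1 := Nat.card_le_card_of_surjective φ hsurj
    rw [Nat.card_prod, hcard, ← pow_two] at h1
    have := Nat.pow_le_pow_iff_right (Finite.one_lt_card (α := F₀)) |>.1 h1
    omega
  have h1 := (hd x hx).smul (F₀.inv_mem hdF)
  rwa [smul_smul, inv_mul_cancel₀ hd0, one_smul] at h1

/-- An element intertwining two noncentral rational involutions lies in the subfield group. -/
lemma mem_of_intertwine {r : ℕ} (hm : 2 ≤ m) (hr : r.Prime) (hr3 : 3 ≤ r) (hcard : Nat.card F = Nat.card F₀ ^ r)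
    (hMI : M ≤ spGL m F) (hg : Generic F₀ P M) {h z z' : GLE} (hh : h ∈ M)
    (hz : z ∈ subfieldSubgroup F₀ P ⊓ spGL m F) (hz' : z' ∈ subfieldSubgroup F₀ P ⊓ spGL m F)
    (hz2 : z * z = 1) (h1 : z' ≠ 1) (hn1 : z ≠ -1) (e : h * z' = z * h) :
    h ∈ subfieldSubgroup F₀ P := by
  have hgen : ∀ (A B : GLE), (∀ i, (A : Matrix (Fin m ⊕ Fin m) (Fin m ⊕ Fin m) F) *ᵥ ((P : Matrix (Fin m ⊕ Fin m) (Fin m ⊕ Fin m) F) *ᵥ Pi.single i 1) =
      (B : Matrix (Fin m ⊕ Fin m) (Fin m ⊕ Fin m) F) *ᵥ ((P : Matrix (Fin m ⊕ Fin m) (Fin m ⊕ Fin m) F) *ᵥ Pi.single i 1)) → A = B := fun A B hAB =>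
    gl_ext_mulVec fun x => by
      rw [eq_sum_cols (P := P) x, Matrix.mulVec_sum, Matrix.mulVec_sum]
      exact Finset.sum_congr rfl fun i _ => by rw [Matrix.mulVec_smul, Matrix.mulVec_smul, hAB i]
  obtain ⟨i, hi⟩ : ∃ i, (z' : Matrix (Fin m ⊕ Fin m) (Fin m ⊕ Fin m) F) *ᵥ ((P : Matrix (Fin m ⊕ Fin m) (Fin m ⊕ Fin m) F) *ᵥ Pi.single i 1) ≠
      (P : Matrix (Fin m ⊕ Fin m) (Fin m ⊕ Fin m) F) *ᵥ Pi.single i 1 := by
    by_contra hc
    push Not at hc
    exact h1 (hgen _ _ fun i => by rw [hc i, Units.val_one, Matrix.one_mulVec])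
  obtain ⟨j, hj⟩ : ∃ j, (z : Matrix (Fin m ⊕ Fin m) (Fin m ⊕ Fin m) F) *ᵥ ((P : Matrix (Fin m ⊕ Fin m) (Fin m ⊕ Fin m) F) *ᵥ Pi.single j 1) ≠
      -((P : Matrix (Fin m ⊕ Fin m) (Fin m ⊕ Fin m) F) *ᵥ Pi.single j 1) := by
    by_contra hc
    push Not at hc
    exact hn1 (hgen _ _ fun i => by rw [hc i, Units.val_neg, Units.val_one, Matrix.neg_mulVec, Matrix.one_mulVec])
  set w := (P : Matrix (Fin m ⊕ Fin m) (Fin m ⊕ Fin m) F) *ᵥ Pi.single i 1
  set w' := (P : Matrix (Fin m ⊕ Fin m) (Fin m ⊕ Fin m) F) *ᵥ Pi.single j 1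
  have hw : InRS F₀ P w := inRS_col i
  have hw' : InRS F₀ P w' := inRS_col j
  refine mem_of_generic hS hm hMI hg hh (hw.sub (rat_of_mem_subfield hS (by omega) hr hr3 hcard hz'.1 hz'.2 hw))
    (fun e0 => hi (sub_eq_zero.1 e0).symm)
    (hw'.add (rat_of_mem_subfield hS (by omega) hr hr3 hcard hz.1 hz.2 hw'))
    (fun e0 => hj (eq_neg_of_add_eq_zero_right e0)) ?_
  rw [Matrix.mulVec_sub, ← mul_mulVec h z', e, mul_mulVec]
  have hzz : ∀ p : E, (z : Matrix (Fin m ⊕ Fin m) (Fin m ⊕ Fin m) F) *ᵥ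
      ((z : Matrix (Fin m ⊕ Fin m) (Fin m ⊕ Fin m) F) *ᵥ p) = p := fun p => by
    rw [← mul_mulVec, hz2, Units.val_one, Matrix.one_mulVec]
  simp only [form_sub_left, form_add_right, form_eq_of_sq hz.2 hz2, hzz]
  ring

/-- In odd characteristic an element of `M` inverted by a rational involution lies in the subfield group. -/
lemma mem_of_inverted {r : ℕ} (hm : 2 ≤ m) (hr : r.Prime) (hr3 : 3 ≤ r) (hcard : Nat.card F = Nat.card F₀ ^ r)
    (hMI : M ≤ spGL m F) (hg : Generic F₀ P M) {c x : GLE} (hc : c ∈ M)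
    (hx : x ∈ subfieldSubgroup F₀ P ⊓ spGL m F) (hx2 : x * x = 1) (hn1 : x ≠ -1) (h2 : (2 : F) ≠ 0)
    (e : x * c * x = c⁻¹) : c ∈ subfieldSubgroup F₀ P := by
  obtain ⟨j, hj⟩ : ∃ j, (x : Matrix (Fin m ⊕ Fin m) (Fin m ⊕ Fin m) F) *ᵥ ((P : Matrix (Fin m ⊕ Fin m) (Fin m ⊕ Fin m) F) *ᵥ Pi.single j 1) ≠
      -((P : Matrix (Fin m ⊕ Fin m) (Fin m ⊕ Fin m) F) *ᵥ Pi.single j 1) := by
    by_contra hc'
    push Not at hc'
    refine hn1 (gl_ext_mulVec fun z => ?_)
    rw [eq_sum_cols (P := P) z, Matrix.mulVec_sum, Matrix.mulVec_sum]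
    exact Finset.sum_congr rfl fun i _ => by
      rw [Matrix.mulVec_smul, Matrix.mulVec_smul, hc' i, Units.val_neg, Units.val_one, Matrix.neg_mulVec,
        Matrix.one_mulVec]
  set w := (P : Matrix (Fin m ⊕ Fin m) (Fin m ⊕ Fin m) F) *ᵥ Pi.single j 1
  have hw : InRS F₀ P w := inRS_col j
  set u := w + (x : Matrix (Fin m ⊕ Fin m) (Fin m ⊕ Fin m) F) *ᵥ w with hu_def
  have hu : InRS F₀ P u := hw.add (rat_of_mem_subfield hS (by omega) hr hr3 hcard hx.1 hx.2 hw)
  have hu0 : u ≠ 0 := fun e0 => hj (eq_neg_of_add_eq_zero_right e0)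
  have hxu : (x : Matrix (Fin m ⊕ Fin m) (Fin m ⊕ Fin m) F) *ᵥ u = u := by
    rw [hu_def, Matrix.mulVec_add, ← mul_mulVec x x, hx2, Units.val_one, Matrix.one_mulVec, add_comm]
  refine mem_of_generic hS hm hMI hg hc hu hu0 hu hu0 ?_
  have h1 : form ((c : Matrix (Fin m ⊕ Fin m) (Fin m ⊕ Fin m) F) *ᵥ u) u =
      form u ((c : Matrix (Fin m ⊕ Fin m) (Fin m ⊕ Fin m) F) *ᵥ u) := by
    conv_lhs => rw [← form_mulVec hx.2, hxu]
    rw [show (x : Matrix (Fin m ⊕ Fin m) (Fin m ⊕ Fin m) F) *ᵥ ((c : Matrix (Fin m ⊕ Fin m) (Fin m ⊕ Fin m) F) *ᵥ u) =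
        ((c⁻¹ : GLE) : Matrix (Fin m ⊕ Fin m) (Fin m ⊕ Fin m) F) *ᵥ u by
      conv_lhs => rw [← hxu]
      rw [← mul_mulVec, ← mul_mulVec, e]]
    rw [← form_mulVec (hMI hc) (((c⁻¹ : GLE) : Matrix (Fin m ⊕ Fin m) (Fin m ⊕ Fin m) F) *ᵥ u) u,
      mulVec_inv_mulVec]
  rw [form_swap u] at h1
  exact (mul_eq_zero.1 (show (2 : F) * form ((c : Matrix (Fin m ⊕ Fin m) (Fin m ⊕ Fin m) F) *ᵥ u) u = 0 by
    linear_combination h1)).resolve_left h2

omit hS [Finite F] in
/-- The image of `z - 1`. -/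
def moved (z : GL (Fin m ⊕ Fin m) F) : Submodule F (Fin m ⊕ Fin m → F) :=
  LinearMap.range (Matrix.toLin' ((z : Matrix (Fin m ⊕ Fin m) (Fin m ⊕ Fin m) F) - 1))

omit hS in
lemma mem_moved {z : GLE} {y : E} : y ∈ moved z ↔ ∃ x, (z : Matrix (Fin m ⊕ Fin m) (Fin m ⊕ Fin m) F) *ᵥ x - x = y := by
  simp [moved, Matrix.sub_mulVec]

omit hS in
lemma finrank_moved_conj {k z : GLE} : Module.finrank F (moved (k * z * k⁻¹)) = Module.finrank F (moved z) := by
  have : moved (k * z * k⁻¹) = (moved z).map (glEquiv k : E ≃ₗ[F] E).toLinearMap := by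
    ext y
    simp only [mem_moved, Submodule.mem_map]
    constructor
    · rintro ⟨x, rfl⟩
      exact ⟨_, ⟨((k⁻¹ : GLE) : Matrix (Fin m ⊕ Fin m) (Fin m ⊕ Fin m) F) *ᵥ x, rfl⟩, by
        rw [LinearEquiv.coe_coe, glEquiv_apply, Matrix.mulVec_sub, mulVec_inv_mulVec, mul_mulVec, mul_mulVec]⟩
    · rintro ⟨_, ⟨x, rfl⟩, rfl⟩
      exact ⟨(k : Matrix (Fin m ⊕ Fin m) (Fin m ⊕ Fin m) F) *ᵥ x, by
        rw [LinearEquiv.coe_coe, glEquiv_apply, Matrix.mulVec_sub, mul_mulVec, mul_mulVec, inv_mulVec_mulVec]⟩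
  rw [this, LinearEquiv.finrank_map_eq]

omit hS [Finite F] in
lemma flip_pow {x c : GLE} (hx : x * x = 1) (hc : x * c * x = c⁻¹) (k : ℕ) :
    c ^ k * x * (c ^ k)⁻¹ = c ^ (2 * k) * x := by
  have hxi : x⁻¹ = x := inv_eq_of_mul_eq_one_right hx
  have h1 : x * c ^ k * x = (c ^ k)⁻¹ := by
    have h2 := conj_pow (a := x) (b := c) (i := k)
    rw [hxi, hc, inv_pow] at h2
    exact h2.symm
  rw [← h1, two_mul, pow_add]
  simp only [mul_assoc]
  rw [← mul_assoc x x, hx, one_mul]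

/-- The generic situation is impossible. -/
theorem false_of_generic {r : ℕ} (hm : 2 ≤ m) (hr : r.Prime) (hcard : Nat.card F = Nat.card F₀ ^ r)
    (hM : subfieldSubgroup F₀ P ⊓ spGL m F ≤ M) (hMI : M ≤ spGL m F) (hg : Generic F₀ P M)
    (hMX : ¬ M ≤ subfieldSubgroup F₀ P) {x y0 : GLE} (hx : x ∈ subfieldSubgroup F₀ P ⊓ spGL m F)
    (hy0 : y0 ∈ subfieldSubgroup F₀ P ⊓ spGL m F) (hx2 : x * x = 1) (hy2 : y0 * y0 = 1)
    (hx1 : x ≠ 1 ∧ x ≠ -1) (hy1 : y0 ≠ 1 ∧ y0 ≠ -1)
    (d1 : Module.finrank F (moved x) ≠ Module.finrank F (moved y0))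
    (d2 : (2 : F) = 0 → Module.finrank F (moved (-x)) ≠ Module.finrank F (moved y0))
    (d3 : (-1 : GLE) ≠ 1 → Module.finrank F (moved (-x)) ≠ Module.finrank F (moved x)) : False := by
  obtain ⟨g, hgM, hgX⟩ := SetLike.not_le_iff_exists.1 hMX
  have hr3 : 3 ≤ r := by
    have := two_mul_le_of_generic hS hm hcard hMI hg hgM hgX
    omega
  set y := g * y0 * g⁻¹ with hy
  have hyM : y ∈ M := M.mul_mem (M.mul_mem hgM (hM hy0)) (M.inv_mem hgM)
  have hy2' : y * y = 1 := by
    rw [hy, show g * y0 * g⁻¹ * (g * y0 * g⁻¹) = g * (y0 * y0) * g⁻¹ by group, hy2, mul_one, mul_inv_cancel]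
  have hyn : y ≠ -1 := fun e => hy1.2 (by
    rw [show y0 = g⁻¹ * y * g by rw [hy]; group, e, mul_neg, mul_one, neg_mul, inv_mul_cancel])
  have hyX : y ∉ subfieldSubgroup F₀ P := fun hyX => hgX
    (mem_of_intertwine hS hm hr hr3 hcard hMI hg hgM ⟨hyX, hMI hyM⟩ hy0 hy2' hy1.1 hyn (by rw [hy]; group))
  have hxM : x ∈ M := hM hx
  have hyx : x ≠ y := fun e => hyX (e ▸ hx.1)
  set c := y * x with hc
  have hcM : c ∈ M := M.mul_mem hyM hxM
  have hxc : x * c * x = c⁻¹ := by
    have e1 : x⁻¹ = x := inv_eq_of_mul_eq_one_right hx2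
    have e2 : y⁻¹ = y := inv_eq_of_mul_eq_one_right hy2'
    rw [hc, _root_.mul_inv_rev, e1, e2, mul_assoc, mul_assoc, hx2, mul_one]
  have hmy : Module.finrank F (moved y) = Module.finrank F (moved y0) := by rw [hy, finrank_moved_conj]
  by_cases h2 : (2 : F) = 0
  swap
  · -- in odd characteristic an element inverted by a rational involution is rational
    refine hyX ?_
    rw [show y = c * x by rw [hc, mul_assoc, hx2, mul_one]]
    refine Subgroup.mul_mem _ (mem_of_inverted hS hm hr hr3 hcard hMI hg hcM hx hx2 hx1.2 h2 hxc) hx.1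
  rcases Nat.even_or_odd' (orderOf c) with ⟨j, hj | hj⟩
  swap
  · -- odd order: `x` is conjugate to `y`
    have e : c ^ (j + 1) * x * (c ^ (j + 1))⁻¹ = y := by
      rw [flip_pow hx2 hxc, show 2 * (j + 1) = orderOf c + 1 by omega, pow_succ, pow_orderOf_eq_one, one_mul, hc,
        mul_assoc, hx2, mul_one]
    exact d1 (by rw [← hmy, ← e, finrank_moved_conj])
  have hn0 : 0 < orderOf c := orderOf_pos c
  set z := c ^ j with hz
  have hz2 : z * z = 1 := by rw [hz, ← pow_add, ← two_mul, ← hj, pow_orderOf_eq_one]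
  have hz1 : z ≠ 1 := by
    intro e
    have := orderOf_dvd_of_pow_eq_one e
    have := Nat.le_of_dvd (by omega) this
    omega
  have hzi : z⁻¹ = z := inv_eq_of_mul_eq_one_right hz2
  have hxz : z * x = x * z := by
    have h1 := flip_pow hx2 hxc j
    rw [← hz, hzi, two_mul, pow_add, ← hz, hz2, one_mul] at h1
    calc z * x = z * x * z * z := by rw [mul_assoc (z * x), hz2, mul_one]
      _ = x * z := by rw [h1]
  have hzy : y * z = z * y := by
    have e : y = c * x := by rw [hc, mul_assoc, hx2, mul_one]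
    calc y * z = c * (x * z) := by rw [e, mul_assoc]
      _ = c * z * x := by rw [← hxz]; exact (mul_assoc c z x).symm
      _ = z * c * x := by rw [hz, ← pow_succ, ← pow_succ']
      _ = z * y := by rw [e, mul_assoc]
  have hzM : z ∈ M := M.pow_mem hcM _
  by_cases hzn : z = -1
  swap
  · have hzX : z ∈ subfieldSubgroup F₀ P :=
      mem_of_intertwine hS hm hr hr3 hcard hMI hg hzM hx hx hx2 hx1.1 hx1.2 hxz
    exact hyX (mem_of_intertwine hS hm hr hr3 hcard hMI hg hyM ⟨hzX, hMI hzM⟩ ⟨hzX, hMI hzM⟩ hz2 hz1 hzn hzy)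
  have hne : (-1 : GLE) ≠ 1 := hzn ▸ hz1
  rcases Nat.even_or_odd' j with ⟨i, hi | hi⟩
  · have e : c ^ i * x * (c ^ i)⁻¹ = -x := by
      rw [flip_pow hx2 hxc, ← hi, ← hz, hzn, neg_one_mul]
    exact d3 hne (by rw [← e, finrank_moved_conj])
  · have e : c ^ (i + 1) * (-x) * (c ^ (i + 1))⁻¹ = y := by
      rw [mul_neg, neg_mul, flip_pow hx2 hxc, show 2 * (i + 1) = j + 1 by omega, pow_succ, ← hz, hzn,
        neg_one_mul, hc, neg_mul, neg_neg, mul_assoc, hx2, mul_one]
    exact d2 h2 (by rw [← hmy, ← e, finrank_moved_conj])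

omit hS in
lemma moved_mul_le (A B : GLE) : moved (A * B) ≤ moved A ⊔ moved B := by
  intro y hy
  obtain ⟨x, rfl⟩ := mem_moved.1 hy
  rw [mul_mulVec, ← sub_add_sub_cancel _ ((B : Matrix (Fin m ⊕ Fin m) (Fin m ⊕ Fin m) F) *ᵥ x) x]
  exact Submodule.add_mem_sup (mem_moved.2 ⟨_, rfl⟩) (mem_moved.2 ⟨_, rfl⟩)

omit hS in
lemma finrank_moved_neg_ge (h2 : (2 : F) ≠ 0) (A : GLE) :
    2 * m ≤ Module.finrank F (moved A) + Module.finrank F (moved (-A)) := by
  have htop : moved A ⊔ moved (-A) = ⊤ := by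
    refine Submodule.eq_top_iff'.2 fun x => ?_
    have e : x = (-(2 : F)⁻¹) • ((A : Matrix (Fin m ⊕ Fin m) (Fin m ⊕ Fin m) F) *ᵥ x - x) +
        (-(2 : F)⁻¹) • (((-A : GLE) : Matrix (Fin m ⊕ Fin m) (Fin m ⊕ Fin m) F) *ᵥ x - x) := by
      rw [Units.val_neg, Matrix.neg_mulVec]
      match_scalars <;> field_simp <;> ring
    rw [e]
    exact Submodule.add_mem_sup (Submodule.smul_mem _ _ (mem_moved.2 ⟨_, rfl⟩))
      (Submodule.smul_mem _ _ (mem_moved.2 ⟨_, rfl⟩))
  have h1 := Submodule.finrank_add_le_finrank_add_finrank (moved A) (moved (-A))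
  rw [htop, finrank_top, Module.finrank_fintype_fun_eq_card, Fintype.card_sum, Fintype.card_fin] at h1
  omega

omit [Finite F] in
lemma be_swap_one {u u' : E} (h : be ζ u u' = 1) : be ζ u' u = -1 := by
  rw [be, form_swap, mul_neg]; exact congrArg Neg.neg h

omit [Finite F] in
/-- The rational reflection in a hyperbolic plane. -/
lemma exists_plane_involution {u u' : E} (hu : InRS F₀ P u) (hu' : InRS F₀ P u') (h : be ζ u u' = 1) :
    ∃ x ∈ subfieldSubgroup F₀ P ⊓ spGL m F, x * x = 1 ∧ ∀ y,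
      (x : Matrix (Fin m ⊕ Fin m) (Fin m ⊕ Fin m) F) *ᵥ y =
        y + (-2 * be ζ y u') • u + (2 * be ζ y u) • u' := by
  have h' := be_swap_one hS h
  have hζ := hS.ne_zero
  have e2 : form u u' = ζ⁻¹ := eq_inv_of_mul_eq_one_right h
  have e3 : form u' u = -ζ⁻¹ := by rw [form_swap, e2]
  set g : GLE := stv u (ζ * 1) * stv u' (ζ * 1) * stv u (ζ * 1) with hg
  have hgX : g ∈ subfieldSubgroup F₀ P ⊓ spGL m F :=
    Subgroup.mul_mem _ (Subgroup.mul_mem _ (rat_stv_mem hS hu F₀.one_mem) (rat_stv_mem hS hu' F₀.one_mem))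
      (rat_stv_mem hS hu F₀.one_mem)
  have hgy : ∀ y, (g : Matrix (Fin m ⊕ Fin m) (Fin m ⊕ Fin m) F) *ᵥ y =
      y + (be ζ y u - be ζ y u') • u + (be ζ y u + be ζ y u') • u' := fun y => by
    simp only [hg, mul_mulVec, stv_mulVec, mul_one, form_add_left, form_smul_left, form_self, mul_zero,
      add_zero]
    simp only [be, e2, e3]
    match_scalars <;> field_simp <;> ring
  have hxy : ∀ y, ((g * g : GLE) : Matrix (Fin m ⊕ Fin m) (Fin m ⊕ Fin m) F) *ᵥ y =
      y + (-2 * be ζ y u') • u + (2 * be ζ y u) • u' := fun y => by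
    rw [mul_mulVec, hgy, hgy]
    simp only [be, form_add_left, form_smul_left, form_self, e2, e3]
    match_scalars <;> field_simp <;> ring
  refine ⟨g * g, Subgroup.mul_mem _ hgX hgX, gl_ext_mulVec fun y => ?_, hxy⟩
  rw [mul_mulVec, hxy, hxy, Units.val_one, Matrix.one_mulVec]
  simp only [be, form_add_left, form_smul_left, form_self, e2, e3]
  match_scalars <;> field_simp <;> ring

/-- The two model involutions. -/
lemma exists_involutions (hm : 3 ≤ m) :
    ∃ x y0 : GLE, x ∈ subfieldSubgroup F₀ P ⊓ spGL m F ∧ y0 ∈ subfieldSubgroup F₀ P ⊓ spGL m F ∧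
      x * x = 1 ∧ y0 * y0 = 1 ∧ (x ≠ 1 ∧ x ≠ -1) ∧ (y0 ≠ 1 ∧ y0 ≠ -1) ∧
      Module.finrank F (moved x) ≠ Module.finrank F (moved y0) ∧
      ((2 : F) = 0 → Module.finrank F (moved (-x)) ≠ Module.finrank F (moved y0)) ∧
      ((-1 : GLE) ≠ 1 → Module.finrank F (moved (-x)) ≠ Module.finrank F (moved x)) := by
  obtain ⟨u, hu, -, hu0⟩ := exists_rs_perp hS (Fin.elim0 : Fin 0 → E) (fun j => j.elim0)
    (Fin.elim0 : Fin 0 → E) (by omega)
  obtain ⟨u', hu', huu', -⟩ := exists_rs_dual hS (Fin.elim0 : Fin 0 → E) (fun j => j.elim0) hu hu0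
  obtain ⟨w, hw, hwu, hw0⟩ := exists_rs_perp hS ![u, u'] (Fin.forall_fin_two.2 ⟨hu, hu'⟩) ![u, u'] (by omega)
  have c1 : form u w = 0 := by simpa using hwu 0
  have c2 : form u' w = 0 := by simpa using hwu 1
  obtain ⟨w', hw', hww', hw'u⟩ := exists_rs_dual hS ![u, u'] (Fin.forall_fin_two.2 ⟨hu, hu'⟩) hw hw0
  have d1 : form u w' = 0 := by simpa using hw'u 0
  have d2 : form u' w' = 0 := by simpa using hw'u 1
  have hne : ∀ (A : GLE) (b : E), b ≠ 0 → b ∈ moved A → A ≠ 1 := fun A b hb hbA e => by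
    obtain ⟨z, hz⟩ := mem_moved.1 hbA
    rw [e, Units.val_one, Matrix.one_mulVec, sub_self] at hz
    exact hb hz.symm
  have hu00 : u ≠ 0 := fun e => hu0 (e ▸ Submodule.zero_mem _)
  have hw00 : w ≠ 0 := fun e => hw0 (e ▸ Submodule.zero_mem _)
  have hw'neg : w' ≠ 0 := fun e => by rw [be, e, form_zero_right, mul_zero] at hww'; exact zero_ne_one hww'
  have hspan : ∀ z ∈ Submodule.span F ({u, u'} : Set E), form z w' = 0 := by
    intro z hz
    induction hz using Submodule.span_induction with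
    | mem y hy => rcases hy with rfl | rfl; exacts [d1, d2]
    | zero => exact form_zero_left _
    | add a b _ _ ha hb => rw [form_add_left, ha, hb, add_zero]
    | smul a b _ hb => rw [form_smul_left, hb, mul_zero]
  have hwns : w ∉ Submodule.span F ({u, u'} : Set E) := fun h => by
    rw [be, hspan w h, mul_zero] at hww'; exact zero_ne_one hww'
  by_cases h2 : (2 : F) = 0
  · haveI : CharP F 2 := CharTwo.of_one_ne_zero_of_two_eq_zero one_ne_zero h2
    have hneg : ∀ A : GLE, -A = A := fun A => gl_ext_mulVec fun y => by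
      rw [Units.val_neg, Matrix.neg_mulVec]; funext i; exact CharTwo.neg_eq _
    have hsq : ∀ z, InRS F₀ P z → stv z (ζ * 1) * stv z (ζ * 1) = 1 := fun z _ => by
      rw [stv_add, CharTwo.add_self_eq_zero]
      exact gl_ext_mulVec fun y => by simp [stv_mulVec]
    have hcomm : stv u (ζ * 1) * stv w (ζ * 1) = stv w (ζ * 1) * stv u (ζ * 1) :=
      gl_ext_mulVec fun y => by
        simp only [mul_mulVec, stv_mulVec, form_add_left, form_smul_left, c1,
          show form w u = 0 by rw [form_swap, c1, neg_zero], mul_zero, add_zero]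
        abel
    set x := stv u (ζ * 1)
    set y0 := x * stv w (ζ * 1) with hy0
    have hy0v : ∀ y, (y0 : Matrix (Fin m ⊕ Fin m) (Fin m ⊕ Fin m) F) *ᵥ y - y =
        be ζ y u • u + be ζ y w • w := fun y => by
      simp only [hy0, x, mul_mulVec, stv_mulVec, mul_one, be, form_add_left, form_smul_left,
        show form w u = 0 by rw [form_swap, c1, neg_zero], mul_zero, add_zero]
      abel
    have hmx : moved x ≤ Submodule.span F ({u, u'} : Set E) := fun y hy => by
      obtain ⟨z, rfl⟩ := mem_moved.1 hy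
      rw [show (x : Matrix (Fin m ⊕ Fin m) (Fin m ⊕ Fin m) F) *ᵥ z - z = (ζ * 1 * form z u) • u by
        rw [stv_mulVec, add_sub_cancel_left]]
      exact Submodule.smul_mem _ _ (Submodule.subset_span (by simp))
    have hu_mem : u ∈ moved y0 := mem_moved.2 ⟨-u', by
      rw [hy0v, be, be, ← neg_one_smul F u', form_smul_left, form_smul_left, form_swap u' u, c2]
      simp only [be] at huu'
      rw [show ζ * (-1 * -form u u') = 1 by linear_combination huu', one_smul, mul_zero, mul_zero, zero_smul,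
        add_zero]⟩
    have hw_mem : w ∈ moved y0 := mem_moved.2 ⟨-w', by
      rw [hy0v, be, be, ← neg_one_smul F w', form_smul_left, form_smul_left, form_swap w' u, d1, form_swap w' w]
      simp only [be] at hww'
      rw [show ζ * (-1 * -form w w') = 1 by linear_combination hww', one_smul, neg_zero, mul_zero, mul_zero,
        zero_smul, zero_add]⟩
    have hmxu : moved x ≤ F ∙ u := fun y hy => by
      obtain ⟨z, rfl⟩ := mem_moved.1 hy
      rw [stv_mulVec, add_sub_cancel_left]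
      exact Submodule.smul_mem _ _ (Submodule.mem_span_singleton_self u)
    have hlt : moved x < moved y0 :=
      lt_of_le_of_ne (hmxu.trans ((Submodule.span_singleton_le_iff_mem _ _).2 hu_mem))
        fun e => hwns (hmx (e ▸ hw_mem))
    have hd := Submodule.finrank_lt_finrank_of_lt hlt
    have hux : u ∈ moved x := mem_moved.2 ⟨-u', by
      rw [stv_mulVec, add_sub_cancel_left, ← neg_one_smul F u', form_smul_left, form_swap u' u]
      simp only [be] at huu'
      rw [show ζ * 1 * (-1 * -form u u') = 1 by linear_combination huu', one_smul]⟩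
    refine ⟨x, y0, rat_stv_mem hS hu F₀.one_mem,
      Subgroup.mul_mem _ (rat_stv_mem hS hu F₀.one_mem) (rat_stv_mem hS hw F₀.one_mem), hsq u hu, ?_,
      ⟨hne _ u hu00 hux, fun e => hne _ u hu00 hux (by rw [e, hneg])⟩,
      ⟨hne _ w hw00 hw_mem, fun e => hne _ w hw00 hw_mem (by rw [e, hneg])⟩, by omega,
      fun _ => by rw [hneg]; omega, fun h => absurd (hneg 1) h⟩
    rw [hy0, mul_assoc, ← mul_assoc (stv w (ζ * 1)), ← hcomm, mul_assoc, hsq w hw, mul_one, hsq u hu]
  obtain ⟨x1, hx1, hx1s, hx1v⟩ := exists_plane_involution hS hu hu' huu'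
  obtain ⟨x2, hx2, hx2s, hx2v⟩ := exists_plane_involution hS hw hw' hww'
  have hcomm : x1 * x2 = x2 * x1 := gl_ext_mulVec fun y => by
    simp only [mul_mulVec, hx1v, hx2v, be, form_add_left, form_smul_left, c1, c2, d1, d2,
      show form w u = 0 by rw [form_swap, c1, neg_zero], show form w u' = 0 by rw [form_swap, c2, neg_zero],
      show form w' u = 0 by rw [form_swap, d1, neg_zero], show form w' u' = 0 by rw [form_swap, d2, neg_zero],
      mul_zero, add_zero]
    abel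
  have hbd : ∀ {A : GLE} {a b : E}, (∀ y, (A : Matrix (Fin m ⊕ Fin m) (Fin m ⊕ Fin m) F) *ᵥ y =
      y + (-2 * be ζ y b) • a + (2 * be ζ y a) • b) → moved A ≤ Submodule.span F ({a, b} : Set E) := by
    intro A a b hA y hy
    obtain ⟨z, rfl⟩ := mem_moved.1 hy
    rw [hA, add_assoc, add_sub_cancel_left]
    exact Submodule.add_mem _ (Submodule.smul_mem _ _ (Submodule.subset_span (by simp)))
      (Submodule.smul_mem _ _ (Submodule.subset_span (by simp)))
  have h2r : ∀ {A : GLE} {a b : E}, (∀ y, (A : Matrix (Fin m ⊕ Fin m) (Fin m ⊕ Fin m) F) *ᵥ y =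
      y + (-2 * be ζ y b) • a + (2 * be ζ y a) • b) → Module.finrank F (moved A) ≤ 2 := fun hA => by
    refine (Submodule.finrank_mono (hbd hA)).trans ?_
    classical
    rw [show ({_, _} : Set E) = ((({_, _} : Finset E)) : Set E) from (Finset.coe_pair).symm]
    exact (finrank_span_finset_le_card _).trans Finset.card_le_two
  set y0 := x1 * x2 with hy0
  have hy0v : ∀ y, (y0 : Matrix (Fin m ⊕ Fin m) (Fin m ⊕ Fin m) F) *ᵥ y - y =
      (-2 * be ζ y u') • u + (2 * be ζ y u) • u' + ((-2 * be ζ y w') • w + (2 * be ζ y w) • w') := fun y => by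
    simp only [hy0, mul_mulVec, hx1v, hx2v, be, form_add_left, form_smul_left,
      show form w u = 0 by rw [form_swap, c1, neg_zero], show form w u' = 0 by rw [form_swap, c2, neg_zero],
      show form w' u = 0 by rw [form_swap, d1, neg_zero], show form w' u' = 0 by rw [form_swap, d2, neg_zero],
      mul_zero, add_zero]
    abel
  have hu'u : ζ * form u' u = -1 := be_swap_one hS huu'
  simp only [be] at huu' hww'
  have hu_mem : u ∈ moved y0 := by
    have h1 : ((-2 : F)) • u ∈ moved y0 := mem_moved.2 ⟨u, by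
      rw [hy0v]; simp only [be, huu', form_self, c1, d1, mul_zero, zero_smul, add_zero, mul_one]⟩
    exact (Submodule.smul_mem_iff _ (neg_ne_zero.2 h2)).1 h1
  have hu'_mem : u' ∈ moved y0 := by
    have h1 : ((-2 : F)) • u' ∈ moved y0 := mem_moved.2 ⟨u', by
      rw [hy0v]; simp only [be, form_self, c2, d2, hu'u, mul_zero, zero_smul, add_zero, zero_add, mul_neg,
        mul_one]⟩
    exact (Submodule.smul_mem_iff _ (neg_ne_zero.2 h2)).1 h1
  have hw_mem : w ∈ moved y0 := by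
    have h1 : ((-2 : F)) • w ∈ moved y0 := mem_moved.2 ⟨w, by
      rw [hy0v]; simp only [be, form_self, show form w u = 0 by rw [form_swap, c1, neg_zero],
        show form w u' = 0 by rw [form_swap, c2, neg_zero], hww', mul_zero, zero_smul, add_zero, zero_add, mul_one]⟩
    exact (Submodule.smul_mem_iff _ (neg_ne_zero.2 h2)).1 h1
  have hlt : moved x1 < moved y0 :=
    lt_of_le_of_ne ((hbd hx1v).trans (Submodule.span_le.2 (by
      intro z hz; rcases hz with rfl | rfl; exacts [hu_mem, hu'_mem])))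
      fun e => hwns (hbd hx1v (e ▸ hw_mem))
  have hd := Submodule.finrank_lt_finrank_of_lt hlt
  have h4 : Module.finrank F (moved y0) ≤ 4 :=
    ((Submodule.finrank_mono (moved_mul_le x1 x2)).trans
      (Submodule.finrank_add_le_finrank_add_finrank _ _)).trans (by
        have := h2r hx1v; have := h2r hx2v; omega)
  have hbig := finrank_moved_neg_ge h2 x1
  have h2x := h2r hx1v
  have hux : u ∈ moved x1 := by
    have h1 : ((-2 : F)) • u ∈ moved x1 := mem_moved.2 ⟨u, by
      rw [hx1v]; simp only [be, huu', form_self, mul_zero, zero_smul, add_zero, mul_one, add_sub_cancel_left]⟩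
    exact (Submodule.smul_mem_iff _ (neg_ne_zero.2 h2)).1 h1
  refine ⟨x1, y0, hx1, Subgroup.mul_mem _ hx1 hx2, hx1s, ?_, ⟨hne _ u hu00 hux, fun e => ?_⟩,
    ⟨hne _ w hw00 hw_mem, fun e => ?_⟩, by omega, fun h => absurd h h2, fun _ => by omega⟩
  · rw [hy0, mul_assoc, ← mul_assoc x2, ← hcomm, mul_assoc, hx2s, mul_one, hx1s]
  · have := hne (-x1)
    rw [e, neg_neg] at hbig
    have h0 : moved (1 : GLE) = ⊥ := by simp [moved]
    rw [h0, finrank_bot] at hbig
    rw [e] at h2x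
    omega
  · have hbig' := finrank_moved_neg_ge h2 y0
    rw [e, neg_neg] at hbig'
    have h0 : moved (1 : GLE) = ⊥ := by simp [moved]
    rw [h0, finrank_bot] at hbig'
    rw [e] at h4
    omega

theorem spSub_key {r : ℕ} (hm : 3 ≤ m) (hr : r.Prime) (hcard : Nat.card F = Nat.card F₀ ^ r)
    (hM : subfieldSubgroup F₀ P ⊓ spGL m F ≤ M) (hMI : M ≤ spGL m F)
    (hMX : ¬ M ≤ subfieldSubgroup F₀ P) : spGL m F ≤ M := by
  by_cases hg : Generic F₀ P M
  · obtain ⟨x, y0, hx, hy0, a1, a2, a3, a4, a5, a6, a7⟩ := exists_involutions hS hm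
    exact (false_of_generic hS (by omega) hr hcard hM hMI hg hMX hx hy0 a1 a2 a3 a4 a5 a6 a7).elim
  · simp only [Generic, not_forall] at hg
    obtain ⟨g, hgM, u, v, hu, -, hv, hv0, huv, hpt⟩ := hg
    refine spGL_le_of_centre hS (by omega) hr hcard hM hMI hpt (fun k hk => ?_) hv hv0 huv
    rw [← stv_conj (hMI hgM)]
    exact M.mul_mem (M.mul_mem hgM (hM (rat_stv_mem hS hu hk))) (M.inv_mem hgM)

theorem spSub_proper {r : ℕ} (hm : 1 ≤ m) (hr : r.Prime) (hcard : Nat.card F = Nat.card F₀ ^ r) :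
    ¬ spGL m F ≤ subfieldSubgroup F₀ P := by
  intro hle
  obtain ⟨u, hu, -, hu0⟩ := exists_rs_perp hS (Fin.elim0 : Fin 0 → E) (fun j => j.elim0)
    (Fin.elim0 : Fin 0 → E) (by omega)
  obtain ⟨u', hu', huu', -⟩ := exists_rs_dual hS (Fin.elim0 : Fin 0 → E) (fun j => j.elim0) hu hu0
  obtain ⟨s, hs⟩ : ∃ s : F, s ∉ F₀ := by
    by_contra hc
    push Not at hc
    have h1 := Nat.card_le_card_of_injective (fun x : F => (⟨x, hc x⟩ : F₀))
      fun a b e => congrArg Subtype.val e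
    rw [hcard] at h1
    have := lt_of_lt_of_le (lt_self_pow₀ (Finite.one_lt_card (α := F₀)) hr.one_lt) h1
    exact lt_irrefl _ this
  obtain ⟨d, hd0, hd⟩ := exists_scaled_rs_of_mem (hle (stv_mem u (ζ * s)))
  simp only [be] at huu'
  have hd' : d ∈ F₀ := by
    have h1 := be_mem hS (hd u hu) hu'
    rwa [stv_mulVec, form_self, mul_zero, zero_smul, add_zero, be, form_smul_left,
      show ζ * (d * form u u') = d * (ζ * form u u') by ring, huu', mul_one] at h1
  have h1 := be_mem hS (((hd u' hu').smul (F₀.inv_mem hd'))) hu'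
  rw [smul_smul, inv_mul_cancel₀ hd0, one_smul, stv_mulVec, be, form_add_left, form_smul_left, form_self,
    form_swap u' u] at h1
  exact hs (by
    have h2 := F₀.neg_mem h1
    rwa [show -(ζ * (0 + ζ * s * -form u u' * form u u')) = s by
      linear_combination (ζ * form u u' + 1) * s * huu'] at h2)

end CfsgLib.Geo.SpTv
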