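/-
A unitary space over a subfield inside a unitary space: rational vectors of an odd-degree subfield structure.
-/
import Cfsg.Agent.Geo.UnitEichler
import Cfsg.Agent.Geo.UnitSingularPair
import Cfsg.Agent.Geo.SympSubfieldOvergroup

set_option autoImplicit false

namespace CfsgLib.Geo.UTv

open Matrix Cfsg Cfsg.Geo CfsgLib.Geo

variable {n q : ℕ} {F : Type*} [Field F]

local notation "hh" => Cfsg.hermForm n F q

/-- The data of a unitary structure over a subfield. -/
structure UnitSub (n q : ℕ) (F : Type*) [Field F] (F₀ : Subfield F) (P : GL (Fin n) F) : Prop where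
  moves : ∃ x ∈ F₀, x ^ q ≠ x
  rational : IsFormRationalStructure (Cfsg.hermForm n F q) F₀ 1 P

variable [Finite F] (hF : Nat.card F = q ^ 2) {F₀ : Subfield F} {P : GL (Fin n) F}
  (hS : UnitSub n q F F₀ P)

include hS in
omit [Finite F] in
lemma herm_mem {x y : Fin n → F} (hx : InRS F₀ P x) (hy : InRS F₀ P y) : hh x y ∈ F₀ := by
  obtain ⟨u, hu, rfl⟩ := hx.eq
  obtain ⟨w, hw, rfl⟩ := hy.eq
  have := hS.rational u w hu hw
  rwa [one_mul] at this

omit [Finite F] in
/-- A rational vector from its coordinates. -/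
def liftRS (P : GL (Fin n) F) (u : Fin n → F₀) : Fin n → F :=
  (P : Matrix (Fin n) (Fin n) F) *ᵥ fun i => (u i : F)

omit [Finite F] in
lemma inRS_lift (u : Fin n → F₀) : InRS F₀ P (liftRS P u) := inRS_mulVec fun i => (u i).2

omit [Finite F] in
lemma exists_lift {x : Fin n → F} (hx : InRS F₀ P x) : ∃ u : Fin n → F₀, liftRS P u = x := by
  obtain ⟨u, hu, rfl⟩ := hx.eq
  exact ⟨fun i => ⟨u i, hu i⟩, rfl⟩

omit [Finite F] in
lemma lift_add (u v : Fin n → F₀) : liftRS P (u + v) = liftRS P u + liftRS P v := by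
  rw [liftRS, liftRS, liftRS, ← Matrix.mulVec_add]
  rfl

omit [Finite F] in
lemma lift_smul (c : F₀) (u : Fin n → F₀) : liftRS P (c • u) = (c : F) • liftRS P u := by
  rw [liftRS, liftRS, ← Matrix.mulVec_smul]
  rfl

omit [Finite F] in
lemma lift_injective : Function.Injective (liftRS (F₀ := F₀) P) := fun u v e => by
  have e1 := congrArg (fun w => ((P⁻¹ : GL (Fin n) F) : Matrix (Fin n) (Fin n) F) *ᵥ w) e
  simp only [liftRS, inv_mulVec_mulVec] at e1
  exact funext fun i => Subtype.ext (congrFun e1 i)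

include hF in
/-- The Frobenius involution on the subfield. -/
noncomputable def sig0 (F₀ : Subfield F) : F₀ ≃+* F₀ :=
  RingEquiv.ofBijective
    (((CfsgLib.Forms.frobQ hF).comp F₀.subtype).codRestrict F₀ fun x => by
      rw [RingHom.comp_apply, CfsgLib.Forms.frobQ_apply hF]; exact pow_mem x.2 q)
    ⟨RingHom.injective _, Finite.surjective_of_injective (RingHom.injective _)⟩

include hF in
lemma sig0_apply (x : F₀) : ((sig0 hF F₀ x : F₀) : F) = frobEquiv hF (x : F) := rfl

/-- The form over the subfield. -/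
noncomputable def form0 (q : ℕ) (hS : UnitSub n q F F₀ P) (u v : Fin n → F₀) : F₀ :=
  ⟨Cfsg.hermForm n F q (liftRS P u) (liftRS P v), herm_mem hS (inRS_lift u) (inRS_lift v)⟩

lemma form0_apply (u v : Fin n → F₀) : ((form0 q hS u v : F₀) : F) = hh (liftRS P u) (liftRS P v) := rfl

include hF hS

omit hF in
lemma exists_cols_ne {x : Fin n → F} (hx : ∀ i, hh x ((P : Matrix (Fin n) (Fin n) F) *ᵥ Pi.single i 1) = 0)
    (hF : Nat.card F = q ^ 2) : x = 0 := by
  have hu := isUnitaryForm hF (n := n)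
  by_contra h0
  obtain ⟨-, y, hy⟩ := hu.nondegenerate x h0
  refine hy ?_
  rw [hu.herm, eq_sum_cols (P := P) y]
  let φ : (Fin n → F) →ₗ[F] F :=
    { toFun := fun y => hh y x
      map_add' := fun a b => hu.add_left a b x
      map_smul' := fun c a => hu.smul_left c a x }
  rw [map_eq_zero]
  change φ _ = 0
  rw [map_sum]
  refine Finset.sum_eq_zero fun i _ => ?_
  rw [map_smul]
  change _ • hh _ x = 0
  rw [hu.herm, hx i, map_zero, smul_zero]

lemma isUnitaryForm0 : IsUnitaryForm (sig0 hF F₀) (form0 q hS) where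
  ne_refl h := by
    obtain ⟨x, hx, hne⟩ := hS.moves
    refine hne ?_
    have h1 := congrArg Subtype.val (DFunLike.congr_fun h ⟨x, hx⟩)
    rw [sig0_apply hF, frobEquiv_apply hF] at h1
    exact h1
  involutive a := Subtype.ext (by
    rw [sig0_apply hF, sig0_apply hF]; exact (isUnitaryForm hF (n := n)).involutive a)
  add_left x y v := Subtype.ext (by
    rw [Subfield.coe_add, form0_apply, form0_apply, form0_apply, lift_add]
    exact (isUnitaryForm hF).add_left _ _ _)
  smul_left c x v := Subtype.ext (by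
    rw [Subfield.coe_mul, form0_apply, form0_apply, lift_smul]
    exact (isUnitaryForm hF).smul_left _ _ _)
  herm v w := Subtype.ext (by
    rw [sig0_apply hF, form0_apply, form0_apply]; exact (isUnitaryForm hF).herm _ _)
  nondegenerate v hv := by
    have h0 : liftRS P v ≠ 0 := fun e => hv (lift_injective (by
      rw [e, liftRS, show (fun i => (((0 : Fin n → F₀) i : F₀) : F)) = 0 from rfl, Matrix.mulVec_zero]))
    have hex : ∃ i, hh (liftRS P v) ((P : Matrix (Fin n) (Fin n) F) *ᵥ Pi.single i 1) ≠ 0 := by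
      by_contra hc
      push Not at hc
      exact h0 (exists_cols_ne hS hc hF)
    obtain ⟨i, hi⟩ := hex
    have he : liftRS P (Pi.single i (1 : F₀)) = (P : Matrix (Fin n) (Fin n) F) *ᵥ Pi.single i (1 : F) := by
      rw [liftRS]
      congr 1
      funext j
      rcases eq_or_ne j i with rfl | hj
      · simp
      · simp [Pi.single_eq_of_ne hj]
    have hi0 : form0 q hS v (Pi.single i 1) ≠ 0 := fun e => hi (by
      rw [← he, ← form0_apply hS, e]; rfl)
    refine ⟨⟨Pi.single i 1, fun e => hi0 ?_⟩, ⟨Pi.single i 1, hi0⟩⟩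
    have h1 := congrArg Subtype.val e
    rw [form0_apply] at h1
    exact Subtype.ext (by rw [form0_apply, (isUnitaryForm hF).herm, h1]; exact map_zero _)

lemma eq_of_pairing {s t : Fin n → F} (h : ∀ i, hh s ((P : Matrix (Fin n) (Fin n) F) *ᵥ Pi.single i 1) =
    hh t ((P : Matrix (Fin n) (Fin n) F) *ᵥ Pi.single i 1)) : s = t := by
  refine sub_eq_zero.1 (exists_cols_ne hS (fun i => ?_) hF)
  rw [sub_eq_add_neg, ← neg_one_smul F t, (isUnitaryForm hF).add_left, (isUnitaryForm hF).smul_left, h i]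
  ring

/-- A vector with rational pairings is rational. -/
lemma inRS_of_pairing {z : Fin n → F} (h : ∀ e, InRS F₀ P e → hh z e ∈ F₀) : InRS F₀ P z := by
  have hf0 := isUnitaryForm0 hF hS
  let e : Fin n → (Fin n → F₀) := fun i => Pi.single i 1
  have he : ∀ i, liftRS P (e i) = (P : Matrix (Fin n) (Fin n) F) *ᵥ Pi.single i (1 : F) := fun i => by
    rw [liftRS]
    congr 1
    funext j
    rcases eq_or_ne j i with rfl | hj
    · simp [e]
    · simp [e, Pi.single_eq_of_ne hj]
  let φ : Fin n → F₀ := fun i => sig0 hF F₀ ⟨_, h _ (inRS_col i)⟩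
  obtain ⟨u, hu⟩ := Unit.exists_axis hf0 φ
  have hz : z = liftRS P u := by
    refine eq_of_pairing hF hS fun i => ?_
    have h1 : form0 q hS (e i) u = φ i := congrFun hu i
    have h2 := congrArg Subtype.val h1
    rw [form0_apply, he, sig0_apply hF] at h2
    rw [(isUnitaryForm hF).herm (liftRS P u), h2, (isUnitaryForm hF (n := n)).involutive]
  rw [hz]
  exact inRS_lift u

/-- A rational hyperbolic pair orthogonal to a few rational vectors. -/
lemma exists_rs_pair {k : ℕ} (us : Fin k → (Fin n → F)) (hus : ∀ j, InRS F₀ P (us j)) (hk : 2 * (k + 1) ≤ n) :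
    ∃ z w, InRS F₀ P z ∧ InRS F₀ P w ∧ hh z z = 0 ∧ hh w w = 0 ∧ hh z w = 1 ∧ hh w z = 1 ∧
      (∀ j, hh z (us j) = 0) ∧ ∀ j, hh w (us j) = 0 := by
  have hf0 := isUnitaryForm0 hF hS
  choose us' hus' using fun j => exists_lift (hus j)
  obtain ⟨z, x, hzz, hzx, hzu, hxu⟩ := Unit.exists_isotropic_perp hf0 us' (by simpa using hk)
  obtain ⟨t, ht⟩ := Unit.exists_isotropic_add hf0 (v := x) hzz hzx
  obtain ⟨l, hl⟩ : ∃ l, sig0 hF F₀ l = (form0 q hS z x)⁻¹ := (sig0 hF F₀).surjective _
  set w := l • (x + t • z) with hw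
  have hzw : form0 q hS z w = 1 := by
    rw [hw, Unit.smul_right hf0, hl, Unit.add_right hf0, Unit.smul_right hf0, hzz, mul_zero, add_zero,
      inv_mul_cancel₀ hzx]
  have hzw' : hh (liftRS P z) (liftRS P w) = 1 := by rw [← form0_apply hS, hzw]; rfl
  refine ⟨liftRS P z, liftRS P w, inRS_lift z, inRS_lift w, ?_, ?_, hzw',
    by rw [(isUnitaryForm hF).herm, hzw', map_one], fun j => ?_, fun j => ?_⟩
  · rw [← form0_apply hS, hzz]; rfl
  · rw [← form0_apply hS, hw, hf0.smul_left, Unit.smul_right hf0, ht, mul_zero, mul_zero]; rfl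
  · rw [← hus', ← form0_apply hS, hzu]; rfl
  · rw [← hus', ← form0_apply hS, hw, hf0.smul_left, hf0.add_left, hf0.smul_left, hxu, hzu, mul_zero,
      add_zero, mul_zero]; rfl

/-- A rational hyperbolic pair orthogonal to an isotropic `a`, to `b` with `h(a,b) ≠ 0` and to one more vector. -/
lemma exists_rs_pair_pair {a b v : Fin n → F} (ha : InRS F₀ P a) (hb : InRS F₀ P b) (hv : InRS F₀ P v)
    (haa : hh a a = 0) (hab : hh a b ≠ 0) (hn : 6 ≤ n) :
    ∃ z w, InRS F₀ P z ∧ InRS F₀ P w ∧ hh z z = 0 ∧ hh w w = 0 ∧ hh z w = 1 ∧ hh w z = 1 ∧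
      (hh z a = 0 ∧ hh z b = 0 ∧ hh z v = 0) ∧ hh w a = 0 ∧ hh w b = 0 ∧ hh w v = 0 := by
  have hf0 := isUnitaryForm0 hF hS
  obtain ⟨a', rfl⟩ := exists_lift ha
  obtain ⟨b', rfl⟩ := exists_lift hb
  obtain ⟨v', rfl⟩ := exists_lift hv
  obtain ⟨z, x, hzz, hzx, ⟨hza, hzb, hzv⟩, hxa, hxb, hxv⟩ := Unit.exists_isotropic_perp_pair hf0
    (a := a') (b := b') (Subtype.ext haa) (fun e => hab (by rw [← form0_apply hS, e]; rfl)) v' (by simpa using hn)
  obtain ⟨t, ht⟩ := Unit.exists_isotropic_add hf0 (v := x) hzz hzx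
  obtain ⟨l, hl⟩ : ∃ l, sig0 hF F₀ l = (form0 q hS z x)⁻¹ := (sig0 hF F₀).surjective _
  set w := l • (x + t • z) with hw
  have hzw : form0 q hS z w = 1 := by
    rw [hw, Unit.smul_right hf0, hl, Unit.add_right hf0, Unit.smul_right hf0, hzz, mul_zero, add_zero,
      inv_mul_cancel₀ hzx]
  have hzw' : hh (liftRS P z) (liftRS P w) = 1 := by rw [← form0_apply hS, hzw]; rfl
  have hwu : ∀ u, form0 q hS z u = 0 → form0 q hS x u = 0 → hh (liftRS P w) (liftRS P u) = 0 := fun u h1 h2 => by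
    rw [← form0_apply hS, hw, hf0.smul_left, hf0.add_left, hf0.smul_left, h1, h2, mul_zero, add_zero, mul_zero]
    rfl
  refine ⟨liftRS P z, liftRS P w, inRS_lift z, inRS_lift w, ?_, ?_, hzw',
    by rw [(isUnitaryForm hF).herm, hzw', map_one], ⟨?_, ?_, ?_⟩, hwu a' hza hxa, hwu b' hzb hxb, hwu v' hzv hxv⟩
  · rw [← form0_apply hS, hzz]; rfl
  · rw [← form0_apply hS, hw, hf0.smul_left, Unit.smul_right hf0, ht, mul_zero, mul_zero]; rfl
  · rw [← form0_apply hS, hza]; rfl
  · rw [← form0_apply hS, hzb]; rfl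
  · rw [← form0_apply hS, hzv]; rfl

/-- A rational anisotropic vector orthogonal to a few rational vectors. -/
lemma exists_rs_aniso {k : ℕ} (us : Fin k → (Fin n → F)) (hus : ∀ j, InRS F₀ P (us j)) (hk : 2 * k < n) :
    ∃ x, InRS F₀ P x ∧ hh x x ≠ 0 ∧ ∀ j, hh x (us j) = 0 := by
  have hf0 := isUnitaryForm0 hF hS
  choose us' hus' using fun j => exists_lift (hus j)
  obtain ⟨x, hx, hxu⟩ := Unit.exists_anisotropic_perp hf0 us' (by simpa using hk)
  exact ⟨liftRS P x, inRS_lift x, fun e => hx (Subtype.ext e),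
    fun j => by rw [← hus', ← form0_apply hS, hxu]; rfl⟩

/-- A rational vector outside a span of rational vectors has a rational dual vector. -/
lemma exists_rs_dual {k : ℕ} (us : Fin k → (Fin n → F)) (hus : ∀ j, InRS F₀ P (us j)) {w : Fin n → F}
    (hw : InRS F₀ P w) (hnot : w ∉ Submodule.span F (Set.range us)) :
    ∃ y, InRS F₀ P y ∧ hh w y = 1 ∧ ∀ j, hh y (us j) = 0 := by
  have hu := isUnitaryForm hF (n := n)
  obtain ⟨y, hy, hwy⟩ := exists_form_of_notMem hF (Submodule.span F (Set.range us)) hnot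
  by_contra hcon
  push Not at hcon
  let ψ : (Fin n → F) → (Fin n → F) →ₗ[F] F := fun b =>
    { toFun := fun a => hh a b
      map_add' := fun a a' => hu.add_left a a' b
      map_smul' := fun c a => hu.smul_left c a b }
  have hle : Submodule.span F {r | InRS F₀ P r ∧ ∀ φ : (Fin n → F) →ₗ[F] F,
      (∀ x, InRS F₀ P x → φ x ∈ F₀) → φ y = 0 → φ r = 0} ≤ LinearMap.ker (ψ w) := by
    refine Submodule.span_le.2 ?_
    rintro r ⟨hr, hr'⟩
    by_contra hne
    change ¬ hh r w = 0 at hne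
    obtain ⟨j, hj⟩ := hcon ((hh r w)⁻¹ • r) (hr.smul (F₀.inv_mem (herm_mem hS hr hw)))
      (by rw [hu.herm, hu.smul_left, inv_mul_cancel₀ hne, map_one])
    refine hj ?_
    rw [hu.smul_left, show hh r (us j) = 0 from hr' (ψ (us j)) (fun x hx => herm_mem hS hx (hus j))
      (hy _ (Submodule.subset_span ⟨j, rfl⟩)), mul_zero]
  have h1 := hle (mem_span_rs y)
  change hh y w = 0 at h1
  rw [hu.herm, h1, map_zero] at hwy
  exact zero_ne_one hwy

/-- The orthogonal of a rational vector is spanned by rational vectors. -/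
lemma perp_induction {v : Fin n → F} (hv : InRS F₀ P v) {p : (Fin n → F) → Prop} (h0 : p 0)
    (hadd : ∀ x y, p x → p y → p (x + y))
    (hrs : ∀ (r : Fin n → F) (c : F), InRS F₀ P r → hh r v = 0 → p (c • r)) {x : Fin n → F}
    (hx : hh x v = 0) : p x := by
  have hu := isUnitaryForm hF (n := n)
  let ψ : (Fin n → F) →ₗ[F] F :=
    { toFun := fun a => hh a v
      map_add' := fun a a' => hu.add_left a a' v
      map_smul' := fun c a => hu.smul_left c a v }
  suffices ∀ c : F, p (c • x) by simpa using this 1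
  refine Submodule.span_induction (p := fun z _ => ∀ c : F, p (c • z)) ?_ ?_ ?_ ?_
    (mem_span_rs (F₀ := F₀) (P := P) x)
  · rintro r ⟨hr, hr'⟩ c
    exact hrs r c hr (hr' ψ (fun y hy => herm_mem hS hy hv) hx)
  · intro c; rw [smul_zero]; exact h0
  · intro a b _ _ ha hb c; rw [smul_add]; exact hadd _ _ (ha c) (hb c)
  · intro d a _ ha c; rw [smul_smul]; exact ha _

/-- Rational vectors are sums of isotropic ones. -/
lemma rs_induction {k : ℕ} (us : Fin k → (Fin n → F)) (hus : ∀ j, InRS F₀ P (us j)) (hk : 2 * (k + 2) ≤ n)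
    {p : (Fin n → F) → Prop} (hadd : ∀ x y, InRS F₀ P x → InRS F₀ P y → p x → p y → p (x + y))
    (hsing : ∀ a, InRS F₀ P a → hh a a = 0 → (∀ j, hh a (us j) = 0) → p a)
    {x : Fin n → F} (hx : InRS F₀ P x) (hxu : ∀ j, hh x (us j) = 0) : p x := by
  have hf := isUnitaryForm hF (n := n)
  obtain ⟨z, w, hz, hw, hzz, hww, hzw, hwz, hzu, hwu⟩ :=
    exists_rs_pair hF hS (Fin.cons x us : Fin (k + 1) → (Fin n → F)) (Fin.cases hx hus) (by omega)
  have hf0 := isUnitaryForm0 hF hS
  have hxx : frobEquiv hF (-hh x x) = -hh x x := by rw [map_neg, ← hf.herm]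
  obtain ⟨t0, ht0⟩ := Unit.exists_trace_eq hf0.ne_refl hf0.involutive
    (t := (⟨-hh x x, F₀.neg_mem (herm_mem hS hx hx)⟩ : F₀)) (Subtype.ext (by rw [sig0_apply hF]; exact hxx))
  have ht : (t0 : F) + frobEquiv hF (t0 : F) = -hh x x := by
    have := congrArg Subtype.val ht0
    rwa [Subfield.coe_add, sig0_apply hF] at this
  have hzx : hh z x = 0 := by simpa using hzu 0
  have hwx : hh w x = 0 := by simpa using hwu 0
  have hzu' : ∀ j, hh z (us j) = 0 := fun j => by simpa using hzu j.succ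
  have hwu' : ∀ j, hh w (us j) = 0 := fun j => by simpa using hwu j.succ
  set t := (t0 : F)
  have hm1 : (-1 : F) ∈ F₀ := F₀.neg_mem F₀.one_mem
  have hmt : -t ∈ F₀ := F₀.neg_mem t0.2
  have r1 := (hx.add hz).add (hw.smul t0.2)
  have hr1 : hh (x + z + t • w) (x + z + t • w) = 0 := by
    simp only [hf.add_left, Unit.add_right hf, hf.smul_left, Unit.smul_right hf, hzz, hww, hzw, hwz, hzx,
      hwx, hf.herm x z, hf.herm x w, map_zero]
    linear_combination ht
  have e : x = x + z + t • w + (-1 : F) • z + (-t) • w := by module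
  rw [e]
  refine hadd _ _ (r1.add (hz.smul hm1)) (hw.smul hmt) (hadd _ _ r1 (hz.smul hm1) (hsing _ r1 hr1 fun j => ?_)
    (hsing _ (hz.smul hm1) ?_ fun j => ?_)) (hsing _ (hw.smul hmt) ?_ fun j => ?_)
  · rw [hf.add_left, hf.add_left, hf.smul_left, hxu, hzu', hwu']; ring
  · rw [hf.smul_left, Unit.smul_right hf, hzz, mul_zero, mul_zero]
  · rw [hf.smul_left, hzu', mul_zero]
  · rw [hf.smul_left, Unit.smul_right hf, hww, mul_zero, mul_zero]
  · rw [hf.smul_left, hwu', mul_zero]

/-- Two independent rational vectors span a rational isotropic vector. -/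
lemma exists_rs_isotropic {r1 r2 : Fin n → F} (h1 : InRS F₀ P r1) (h2 : InRS F₀ P r2) (h10 : r1 ≠ 0)
    (hind : r2 ∉ F ∙ r1) :
    ∃ a b : F, InRS F₀ P (a • r1 + b • r2) ∧ a • r1 + b • r2 ≠ 0 ∧
      hh (a • r1 + b • r2) (a • r1 + b • r2) = 0 := by
  have hf := isUnitaryForm hF (n := n)
  have hf0 := isUnitaryForm0 hF hS
  by_cases h11 : hh r1 r1 = 0
  · refine ⟨1, 0, ?_, ?_, ?_⟩ <;> simp only [one_smul, zero_smul, add_zero] <;> assumption
  set c := hh r2 r1 / hh r1 r1 with hc
  have hcF : c ∈ F₀ := F₀.div_mem (herm_mem hS h2 h1) (herm_mem hS h1 h1)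
  set r := r2 + (-c) • r1 with hr
  have hrRS : InRS F₀ P r := h2.add (h1.smul (F₀.neg_mem hcF))
  have hr1 : hh r r1 = 0 := by
    rw [hr, hf.add_left, hf.smul_left, hc, neg_mul, div_mul_cancel₀ _ h11, add_neg_cancel]
  have hr0 : r ≠ 0 := fun e => hind (Submodule.mem_span_singleton.2 ⟨c, by
    rw [hr] at e; linear_combination (norm := module) -e⟩)
  by_cases hrr : hh r r = 0
  · exact ⟨-c, 1, by rw [one_smul, add_comm]; exact hrRS, by rw [one_smul, add_comm]; exact hr0,
      by rw [one_smul, add_comm]; exact hrr⟩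
  have hfix : frobEquiv hF (-hh r r / hh r1 r1) = -hh r r / hh r1 r1 := by
    rw [map_div₀, map_neg, ← hf.herm, ← hf.herm]
  obtain ⟨d0, hd0⟩ := Unit.exists_norm_eq hf0.ne_refl hf0.involutive
    (t := (⟨-hh r r / hh r1 r1, F₀.div_mem (F₀.neg_mem (herm_mem hS hrRS hrRS)) (herm_mem hS h1 h1)⟩ : F₀))
    (Subtype.ext (by rw [sig0_apply hF]; exact hfix))
  have hd : (d0 : F) * frobEquiv hF (d0 : F) = -hh r r / hh r1 r1 := by
    have := congrArg Subtype.val hd0
    rwa [Subfield.coe_mul, sig0_apply hF] at this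
  have e : ((d0 : F) - c) • r1 + (1 : F) • r2 = (d0 : F) • r1 + r := by rw [hr]; module
  refine ⟨(d0 : F) - c, 1, e ▸ (h1.smul d0.2).add hrRS, fun h0 => ?_, ?_⟩
  · refine hind (Submodule.mem_span_singleton.2 ⟨c - d0, ?_⟩)
    linear_combination (norm := module) -h0
  · rw [e]
    simp only [hf.add_left, Unit.add_right hf, hf.smul_left, Unit.smul_right hf, hr1, hf.herm r1 r, map_zero]
    field_simp at hd
    linear_combination hd

end CfsgLib.Geo.UTv
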