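/-
Subfield overgroups in the special unitary group: the parabolic step.
-/
import Cfsg.Agent.Geo.UnitRational

set_option autoImplicit false

namespace CfsgLib.Geo.UTv

open Matrix Cfsg Cfsg.Geo CfsgLib.Geo

variable {n q : ℕ} {F : Type*} [Field F] [Finite F] (hF : Nat.card F = q ^ 2) {F₀ : Subfield F}
  {P : GL (Fin n) F} (hS : UnitSub n q F F₀ P)

local notation "hh" => Cfsg.hermForm n F q

include hF hS

/-- A non-zero skew element of the subfield. -/
lemma exists_skew0 : ∃ δ ∈ F₀, δ ≠ 0 ∧ δ + δ ^ q = 0 := by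
  have hf0 := isUnitaryForm0 hF hS
  obtain ⟨d, hd0, hd⟩ := Unit.exists_skew hf0.ne_refl hf0.involutive
  refine ⟨d, d.2, fun e => hd0 (Subtype.ext e), ?_⟩
  have h1 := congrArg Subtype.val hd
  rw [sig0_apply hF, frobEquiv_apply hF] at h1
  rw [h1]
  exact add_neg_cancel (d : F)

/-- Rational Eichler transformations lie in the subfield group. -/
lemma rat_eich_mem {v x : Fin n → F} (hv : InRS F₀ P v) (hx : InRS F₀ P x) (hvv : hh v v = 0)
    (hxv : hh x v = 0) {s : F} (hs0 : s ∈ F₀) (hs : s + s ^ q + hh x x = 0) :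
    ∃ A ∈ subfieldSubgroup F₀ P ⊓ suGL n F q, IsEich q A v x s := by
  obtain ⟨A, hA, hE⟩ := exists_eich hF hvv hxv hs
  refine ⟨A, ⟨mem_subfield_of_scaled_rs one_ne_zero fun y hy => ?_, hA⟩, hE⟩
  rw [one_smul, hE y]
  exact (hy.add (hx.smul (herm_mem hS hy hv))).add
    (hv.smul (F₀.sub_mem (F₀.mul_mem hs0 (herm_mem hS hy hv)) (herm_mem hS hy hx)))

/-- Rational transvections lie in the subfield group. -/
lemma rat_utv_mem0 {v : Fin n → F} (hv : InRS F₀ P v) (hvv : hh v v = 0) {c : F} (hc0 : c ∈ F₀)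
    (hc : c + c ^ q = 0) :
    tvec v (uax q v c) (uax_dot_self hvv c) ∈ subfieldSubgroup F₀ P ⊓ suGL n F q := by
  refine ⟨mem_subfield_of_scaled_rs one_ne_zero fun y hy => ?_, utv_mem hF hvv hc⟩
  rw [one_smul, utv_mulVec hF hvv]
  exact hy.add (hv.smul (F₀.mul_mem hc0 (herm_mem hS hy hv)))

/-- A trace solution in the subfield. -/
lemma exists_trace0 {x : Fin n → F} (hx : InRS F₀ P x) : ∃ s ∈ F₀, s + s ^ q + hh x x = 0 := by
  have hf := isUnitaryForm hF (n := n)
  have hf0 := isUnitaryForm0 hF hS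
  obtain ⟨s, hs⟩ := Unit.exists_trace_eq hf0.ne_refl hf0.involutive
    (t := (⟨-hh x x, F₀.neg_mem (herm_mem hS hx hx)⟩ : F₀))
    (Subtype.ext (by rw [sig0_apply hF]; simp only [map_neg, ← hf.herm]))
  have h1 := congrArg Subtype.val hs
  rw [Subfield.coe_add, sig0_apply hF, frobEquiv_apply hF] at h1
  exact ⟨s, s.2, by rw [h1]; exact neg_add_cancel _⟩

/-- An isotropic rational dual of an isotropic rational vector. -/
lemma exists_iso_dual {k : ℕ} (us : Fin k → (Fin n → F)) (hus : ∀ j, InRS F₀ P (us j)) {v : Fin n → F}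
    (hv : InRS F₀ P v) (hvv : hh v v = 0) (hvu : ∀ j, hh v (us j) = 0)
    (hnot : v ∉ Submodule.span F (Set.range us)) :
    ∃ x, InRS F₀ P x ∧ hh x x = 0 ∧ hh v x = 1 ∧ hh x v = 1 ∧ ∀ j, hh x (us j) = 0 := by
  have hf := isUnitaryForm hF (n := n)
  obtain ⟨y, hy, hvy, hyu⟩ := exists_rs_dual hF hS us hus hv hnot
  obtain ⟨t, ht0, ht⟩ := exists_trace0 hF hS hy
  have hyv : hh y v = 1 := by rw [hf.herm, hvy, map_one]
  refine ⟨y + t • v, hy.add (hv.smul ht0), ?_, ?_, ?_, fun j => ?_⟩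
  · simp only [hf.add_left, Unit.add_right hf, hf.smul_left, Unit.smul_right hf, hvv, hvy, hyv,
      frobEquiv_apply hF]
    linear_combination ht
  · rw [Unit.add_right hf, Unit.smul_right hf, hvv, hvy, mul_zero, add_zero]
  · rw [hf.add_left, hf.smul_left, hvv, hyv, mul_zero, add_zero]
  · rw [hf.add_left, hf.smul_left, hyu, hvu, mul_zero, add_zero]

variable {M : Subgroup (GL (Fin n) F)}

/-- One irrational vector part gives the whole group. -/
theorem suGL_le_of_scalar {r : ℕ} (hn : 6 ≤ n) (hr : r.Prime) (hcard : Nat.card F = Nat.card F₀ ^ r)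
    (hM : subfieldSubgroup F₀ P ⊓ suGL n F q ≤ M) (hMI : M ≤ suGL n F q) {v w0 : Fin n → F}
    (hv : InRS F₀ P v) (hvv : hh v v = 0) (hv0 : v ≠ 0) (hw0 : InRS F₀ P w0)
    (hw0v : hh w0 v = 0) (hw0n : w0 ∉ F ∙ v) {μ : F} (hμ : μ ∉ F₀) (hVP : VP q M v (μ • w0)) :
    suGL n F q ≤ M := by
  have hf := isUnitaryForm hF (n := n)
  have hv1 : ∀ j : Fin 1, InRS F₀ P (![v] j) := fun j => by simpa using hv
  let S : Set F := {c | ∀ w, InRS F₀ P w → hh w w = 0 → hh w v = 0 → VP q M v (c • w)}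
  -- moving vector parts onto isotropic vectors
  have hstep : ∀ (a : F) (x w : Fin n → F), InRS F₀ P x → InRS F₀ P w → hh w w = 0 → hh w v = 0 → hh w x = 0 →
      x ∉ Submodule.span F (Set.range ![w, v]) → VP q M v (a • x) → VP q M v (a • w) := by
    intro a x w hx hw hww hwv hwx hnot hVx
    obtain ⟨y, hy, hxy, hyu⟩ := exists_rs_dual hF hS ![w, v] (Fin.forall_fin_two.2 ⟨hw, hv⟩) hx hnot
    have hyw : hh y w = 0 := by simpa using hyu 0
    have hyv : hh y v = 0 := by simpa using hyu 1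
    obtain ⟨s, hs0, hs⟩ := exists_trace0 hF hS ((hy.smul (F₀.neg_mem F₀.one_mem)) : InRS F₀ P ((-1 : F) • y))
    obtain ⟨E, hE, hEe⟩ := rat_eich_mem hF hS hw (hy.smul (F₀.neg_mem F₀.one_mem)) hww
      (by rw [hf.smul_left, hyw, mul_zero]) hs0 hs
    have hEv : (E : Matrix (Fin n) (Fin n) F) *ᵥ v = v := by
      rw [hEe v, hf.herm v w, hwv, map_zero, Unit.smul_right hf, hf.herm v y, hyv, map_zero]
      module
    have hEx : (E : Matrix (Fin n) (Fin n) F) *ᵥ x = x + w := by
      rw [hEe x, hf.herm x w, hwx, map_zero, Unit.smul_right hf, hxy, map_neg, map_one]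
      module
    have h1 := hVx.conj hMI (hM hE)
    rw [hEv, Matrix.mulVec_smul, hEx, smul_add] at h1
    have h2 := h1.sub hF hvv hVx
    rwa [add_sub_cancel_left] at h2
  have htrans : ∀ (a : F) (x : Fin n → F), InRS F₀ P x → hh x v = 0 → x ∉ F ∙ v → VP q M v (a • x) → a ∈ S := by
    intro a x hx hxv hxn hVx w hw hww hwv
    by_cases hwm : w ∈ F ∙ v
    · obtain ⟨c, rfl⟩ := Submodule.mem_span_singleton.1 hwm
      rw [smul_smul]; exact VP.centre hF hvv _
    by_cases hdir : hh w x = 0 ∧ x ∉ Submodule.span F (Set.range ![w, v])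
    · exact hstep a x w hx hw hww hwv hdir.1 hdir.2 hVx
    obtain ⟨z, z', hz, hzz, hz'z, ⟨hzv, hzx, hzw⟩, hz'v, hz'x, hz'w⟩ : ∃ z z', InRS F₀ P z ∧ hh z z = 0 ∧
        hh z' z = 1 ∧ (hh z v = 0 ∧ hh z x = 0 ∧ hh z w = 0) ∧ hh z' v = 0 ∧ hh z' x = 0 ∧ hh z' w = 0 := by
      by_cases hwx : hh w x = 0
      · obtain ⟨z, z', hz, -, hzz, -, -, hz'z, hzu, hz'u⟩ := exists_rs_pair hF hS ![v, w]
          (Fin.forall_fin_two.2 ⟨hv, hw⟩) (by omega)
        obtain ⟨c, hc⟩ := (Submodule.mem_span_range_iff_exists_fun F).1 (not_not.1 fun hn' => hdir ⟨hwx, hn'⟩)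
        simp only [Fin.sum_univ_two, Matrix.cons_val_zero, Matrix.cons_val_one] at hc
        have h1 : hh z v = 0 := by simpa using hzu 0
        have h2 : hh z w = 0 := by simpa using hzu 1
        have h3 : hh z' v = 0 := by simpa using hz'u 0
        have h4 : hh z' w = 0 := by simpa using hz'u 1
        exact ⟨z, z', hz, hzz, hz'z, ⟨h1, by rw [← hc]; simp [Unit.add_right hf, Unit.smul_right hf, h1, h2], h2⟩,
          h3, by rw [← hc]; simp [Unit.add_right hf, Unit.smul_right hf, h3, h4], h4⟩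
      · obtain ⟨z, z', hz, -, hzz, -, -, hz'z, ⟨h1, h2, h3⟩, h4, h5, h6⟩ :=
          exists_rs_pair_pair hF hS hw hx hv hww hwx hn
        exact ⟨z, z', hz, hzz, hz'z, ⟨h3, h2, h1⟩, h6, h5, h4⟩
    have h1 := hstep a x z hx hz hzz hzv hzx (fun hc => by
      rw [Submodule.mem_span_range_iff_exists_fun] at hc
      obtain ⟨c, hc⟩ := hc
      simp only [Fin.sum_univ_two, Matrix.cons_val_zero, Matrix.cons_val_one] at hc
      have h1 := congrArg (fun y => hh z' y) hc
      simp only [Unit.add_right hf, Unit.smul_right hf, hz'z, hz'v, hz'x, mul_one, mul_zero, add_zero,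
        map_eq_zero] at h1
      exact hxn (Submodule.mem_span_singleton.2 ⟨c 1, by rw [← hc, h1, zero_smul, zero_add]⟩)) hVx
    refine hstep a z w hz hw hww hwv (by rw [hf.herm, hzw, map_zero]) (fun hc => ?_) h1
    rw [Submodule.mem_span_range_iff_exists_fun] at hc
    obtain ⟨c, hc⟩ := hc
    simp only [Fin.sum_univ_two, Matrix.cons_val_zero, Matrix.cons_val_one] at hc
    have h2 := congrArg (fun y => hh z' y) hc
    simp only [Unit.add_right hf, Unit.smul_right hf, hz'z, hz'v, hz'w, mul_zero, add_zero] at h2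
    exact zero_ne_one h2
  have hμS : μ ∈ S := htrans μ w0 hw0 hw0v hw0n hVP
  have hS0 : ∀ c ∈ F₀, c ∈ S := fun c hc w hw hww hwv => by
    obtain ⟨A, hA, hE⟩ := rat_eich_mem hF hS hv (hw.smul hc) hvv (by rw [hf.smul_left, hwv, mul_zero])
      F₀.zero_mem (by rw [hf.smul_left, Unit.smul_right hf, hww, ← frobEquiv_apply hF, map_zero]; ring)
    exact ⟨by rw [hf.smul_left, hwv, mul_zero], A, hM hA, 0, hE⟩
  have hSadd : ∀ a ∈ S, ∀ b ∈ S, a + b ∈ S := fun a ha b hb w hw hww hwv => by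
    rw [add_smul]; exact (ha w hw hww hwv).add hF hvv (hb w hw hww hwv)
  -- exact root elements
  have hkey : ∀ a ∈ S, ∀ w, InRS F₀ P w → hh w w = 0 → hh w v = 0 →
      ∃ A ∈ M, IsEich q A v (a • w) 0 := by
    intro a ha w hw hww hwv
    obtain ⟨z, z', hz, hz', hzz, hz'z', hzz', -, hzu, hz'u⟩ := exists_rs_pair hF hS ![v, w]
      (Fin.forall_fin_two.2 ⟨hv, hw⟩) (by omega)
    have hzv : hh z v = 0 := by simpa using hzu 0
    have hzw : hh z w = 0 := by simpa using hzu 1
    have hz'v : hh z' v = 0 := by simpa using hz'u 0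
    have hz'w : hh z' w = 0 := by simpa using hz'u 1
    obtain ⟨E, hE, hEe⟩ := rat_eich_mem hF hS hw (hz'.smul (F₀.neg_mem F₀.one_mem)) hww
      (by rw [hf.smul_left, hz'w, mul_zero]) F₀.zero_mem
      (by rw [hf.smul_left, Unit.smul_right hf, hz'z', ← frobEquiv_apply hF, map_zero]; ring)
    have hEv : (E : Matrix (Fin n) (Fin n) F) *ᵥ v = v := by
      rw [hEe v, hf.herm v w, hwv, map_zero, Unit.smul_right hf, hf.herm v z', hz'v, map_zero]
      module
    have hEz : (E : Matrix (Fin n) (Fin n) F) *ᵥ z = z + w := by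
      rw [hEe z, hzw, Unit.smul_right hf, hzz', map_neg, map_one]
      module
    obtain ⟨haz, A, hA, s, hs⟩ := ha z hz hzz hzv
    have hs' := hs.conj (hMI (hM hE))
    rw [hEv, Matrix.mulVec_smul, hEz] at hs'
    have h1 : hh (-(a • z)) v = 0 := by rw [← neg_one_smul F (a • z), hf.smul_left, haz, mul_zero]
    have h2 := hs'.mul hF hvv h1 (by rw [hf.smul_left, hf.add_left, hzv, hwv, add_zero, mul_zero]) (hs.inv hF hvv haz)
    refine ⟨_, M.mul_mem (M.mul_mem (M.mul_mem (hM hE) hA) (M.inv_mem (hM hE))) (M.inv_mem hA), ?_⟩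
    have ex : a • (z + w) + -(a • z) = a • w := by module
    have es : s + (-s - hh (a • z) (a • z)) - hh (-(a • z)) (a • (z + w)) = 0 := by
      rw [← neg_one_smul F (a • z)]
      simp only [hf.smul_left, Unit.smul_right hf, Unit.add_right hf, hzz, hzw, mul_zero, add_zero, sub_zero]
      ring
    rwa [ex, es] at h2
  -- products
  have hmul : ∀ a ∈ S, ∀ b ∈ S, a * b ∈ S := by
    intro a ha b hb
    obtain ⟨u, u', hu, hu', huu, hu'u', huu', hu'u, huv, hu'v⟩ := exists_rs_pair hF hS ![v] hv1 (by omega)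
    have huv : hh u v = 0 := by simpa using huv 0
    have hu'v : hh u' v = 0 := by simpa using hu'v 0
    obtain ⟨w, w', hw, hw', hww, hw'w', hww', hw'w, ⟨hwu, hwu', hwv⟩, hw'u, -, hw'v⟩ :=
      exists_rs_pair_pair hF hS hu hu' hv huu (by rw [huu']; exact one_ne_zero) hn
    have hvw : hh v w = 0 := by rw [hf.herm, hwv, map_zero]
    have hvu : hh v u = 0 := by rw [hf.herm, huv, map_zero]
    have hwn : w ∉ F ∙ v := fun hc => by
      obtain ⟨c, rfl⟩ := Submodule.mem_span_singleton.1 hc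
      rw [hf.smul_left, hf.herm v w', hw'v, map_zero, mul_zero] at hww'
      exact zero_ne_one hww'
    obtain ⟨x, hx, hxx, hvx, -, hxu⟩ := exists_iso_dual hF hS ![u, w] (Fin.forall_fin_two.2 ⟨hu, hw⟩) hv hvv
      (Fin.forall_fin_two.2 ⟨hvu, hvw⟩) (fun hc => by
        rw [Submodule.mem_span_range_iff_exists_fun] at hc
        obtain ⟨c, hc⟩ := hc
        simp only [Fin.sum_univ_two, Matrix.cons_val_zero, Matrix.cons_val_one] at hc
        have h1 := congrArg (fun y => hh y w') hc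
        simp only [hf.add_left, hf.smul_left, hf.herm u w', hw'u, map_zero, mul_zero, zero_add, hww', mul_one,
          hf.herm v w', hw'v] at h1
        have h2 := congrArg (fun y => hh y u') hc
        simp only [hf.add_left, hf.smul_left, huu', mul_one, hwu', mul_zero, add_zero, hf.herm v u', hu'v,
          map_zero] at h2
        exact hv0 (by rw [← hc, h1, h2, zero_smul, zero_smul, add_zero]))
    have hxu' : hh x u = 0 := by simpa using hxu 0
    have hxw : hh x w = 0 := by simpa using hxu 1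
    obtain ⟨G, hG, hGe⟩ := rat_eich_mem hF hS hu (hx.smul (F₀.neg_mem F₀.one_mem)) huu
      (by rw [hf.smul_left, hxu', mul_zero]) F₀.zero_mem
      (by rw [hf.smul_left, Unit.smul_right hf, hxx, ← frobEquiv_apply hF, map_zero]; ring)
    have hGv : (G : Matrix (Fin n) (Fin n) F) *ᵥ v = v + u := by
      rw [hGe v, hvu, Unit.smul_right hf, hvx, map_neg, map_one]
      module
    have hGw : (G : Matrix (Fin n) (Fin n) F) *ᵥ w = w := by
      rw [hGe w, hwu, Unit.smul_right hf, hf.herm w x, hxw, map_zero]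
      module
    obtain ⟨R1, hR1, hR1e⟩ := hkey b hb w hw hww hwv
    have hR2 := hR1e.conj (hMI (hM hG))
    rw [hGv, Matrix.mulVec_smul, hGw] at hR2
    obtain ⟨R3, -, hR3⟩ := exists_eich hF huu (x := b • w) (by rw [hf.smul_left, hwu, mul_zero]) (s := 0)
      (by rw [hf.smul_left, Unit.smul_right hf, hww, ← frobEquiv_apply hF, map_zero]; ring)
    have hR3M : R3 ∈ M := by
      have h1 := M.mul_mem (M.inv_mem hR1) (M.mul_mem (M.mul_mem (hM hG) hR1) (M.inv_mem (hM hG)))
      suffices R1⁻¹ * (G * R1 * G⁻¹) = R3 by rwa [this] at h1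
      rw [inv_mul_eq_iff_eq_mul]
      refine gl_ext_mulVec fun y => ?_
      rw [hR2 y, mul_mulVec, hR1e, hR3 y]
      simp only [zero_mul, zero_sub, hf.add_left, hf.smul_left, Unit.add_right hf, Unit.smul_right hf, huv, hwv,
        hf.herm u w, hwu, hww, map_zero, mul_zero, add_zero]
      module
    have h0 := ha u' hu' hu'u' hu'v
    have h1 := h0.conj hMI hR3M
    have e1 : (R3 : Matrix (Fin n) (Fin n) F) *ᵥ v = v := by
      rw [hR3 v, hvu, Unit.smul_right hf, hvw]
      module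
    have e2 : (R3 : Matrix (Fin n) (Fin n) F) *ᵥ u' = u' + b • w := by
      rw [hR3 u', hu'u, Unit.smul_right hf, hf.herm u' w, hwu', map_zero]
      module
    rw [e1, Matrix.mulVec_smul, e2, smul_add, smul_smul] at h1
    have h2 := h1.sub hF hvv h0
    rw [add_sub_cancel_left] at h2
    exact htrans _ w hw hwv hwn h2
  have huniv : ∀ c, c ∈ S := SpTv.eq_univ_of_subring hr hcard hS0 hSadd hmul hμS hμ
  have hall : ∀ x, hh x v = 0 → VP q M v x := fun x hx =>
    perp_induction hF hS hv (p := fun x => VP q M v x)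
      (by simpa using VP.centre (M := M) hF hvv 0) (fun a b ha hb => ha.add hF hvv hb)
      (fun y c hy hyv => rs_induction hF hS ![v] hv1 (by omega) (p := fun y => VP q M v (c • y))
        (fun a b _ _ ha hb => by rw [smul_add]; exact ha.add hF hvv hb)
        (fun a ha haa hau => huniv c a ha haa (by simpa using hau 0)) hy (fun j => by simpa using hyv)) hx
  obtain ⟨z, z', -, -, -, -, hzz', -, hzu, hz'u⟩ := exists_rs_pair hF hS ![v] hv1 (by omega)
  have hfull := full_of_vp hF hvv hall (z := z) (w := z') (by simpa using hzu 0) (by simpa using hz'u 0) hzz'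
  -- a full centre not orthogonal to `v`
  obtain ⟨p, hp, hpp, hvp, hpv, -⟩ := exists_iso_dual hF hS (Fin.elim0 : Fin 0 → (Fin n → F)) (fun j => j.elim0)
    hv hvv (fun j => j.elim0) (by simpa using hv0)
  obtain ⟨y, hy, hyy, hyu⟩ := exists_rs_aniso hF hS ![v, p] (Fin.forall_fin_two.2 ⟨hv, hp⟩) (by omega)
  have hyv : hh y v = 0 := by simpa using hyu 0
  have hyp : hh y p = 0 := by simpa using hyu 1
  obtain ⟨s, hs0, hs⟩ := exists_trace0 hF hS hy
  obtain ⟨E, hE, hEe⟩ := rat_eich_mem hF hS hp hy hpp hyp hs0 hs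
  refine suGL_le_of_vp hF (by omega) hMI hfull (full_conj hF hMI hfull (hM hE)) ?_ hall
  rw [hEe v, hvp, hf.herm v y, hyv, map_zero, hf.add_left, hf.add_left, hf.smul_left, hf.smul_left, hvv, hyv, hpv]
  intro e
  apply hyy
  have hs' : s = 0 := by linear_combination e
  rw [hs', ← frobEquiv_apply hF, map_zero] at hs
  linear_combination hs

/-- An irrational isotropic centre orthogonal to a rational isotropic vector. -/
theorem suGL_le_of_centre {r : ℕ} (hn : 6 ≤ n) (hr : r.Prime) (hcard : Nat.card F = Nat.card F₀ ^ r)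
    (hM : subfieldSubgroup F₀ P ⊓ suGL n F q ≤ M) (hMI : M ≤ suGL n F q) {a v : Fin n → F}
    (ha : ¬ IsPt F₀ P a) (haa : hh a a = 0)
    (hA : ∀ c ∈ F₀, c + c ^ q = 0 → tvec a (uax q a c) (uax_dot_self haa c) ∈ M)
    (hv : InRS F₀ P v) (hvv : hh v v = 0) (hv0 : v ≠ 0) (hav : hh a v = 0) : suGL n F q ≤ M := by
  have hf := isUnitaryForm hF (n := n)
  -- some product of two pairings is irrational
  obtain ⟨v, hv, hvv, hv0, hav, x, w, hx, hw, hww, hxv, hwv, hμ⟩ : ∃ v, InRS F₀ P v ∧ hh v v = 0 ∧ v ≠ 0 ∧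
      hh a v = 0 ∧ ∃ x w, InRS F₀ P x ∧ InRS F₀ P w ∧ hh w w = 0 ∧ hh x v = 0 ∧ hh w v = 0 ∧
        hh x a * hh a w ∉ F₀ := by
    by_contra hcon
    push Not at hcon
    have hprod : ∀ v, InRS F₀ P v → hh v v = 0 → v ≠ 0 → hh a v = 0 → ∀ x w, InRS F₀ P x → InRS F₀ P w →
        hh x v = 0 → hh w v = 0 → hh x a * hh a w ∈ F₀ := fun v hv hvv hv0 hav x w hx hw hxv hwv =>
      rs_induction hF hS ![v] (fun j => by simpa using hv) (by omega)
        (p := fun w => hh x a * hh a w ∈ F₀)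
        (fun b c _ _ hb hc => by rw [Unit.add_right hf, mul_add]; exact F₀.add_mem hb hc)
        (fun b hb hbb hbu => hcon v hv hvv hv0 hav x b hx hb hbb hxv (by simpa using hbu 0)) hw
        (fun j => by simpa using hwv)
    have hfr : ∀ y ∈ F₀, frobEquiv hF y ∈ F₀ := fun y hy => by rw [frobEquiv_apply hF]; exact pow_mem hy q
    by_cases hall : ∀ w, InRS F₀ P w → hh w v = 0 → hh w a = 0
    · refine ha ?_
      have hmem : a ∈ F ∙ v := mem_of_perp hF fun z hz => by
        rw [hf.herm]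
        have h1 := perp_induction hF hS hv (p := fun x => hh x a = 0)
          (LinLeft.zero_left ⟨CfsgLib.Unitary.herm_add_left n, CfsgLib.Unitary.herm_smul_left n⟩ a)
          (fun x y hx hy => by rw [hf.add_left, hx, hy, add_zero])
          (fun y c hy hyv => by rw [hf.smul_left, hall y hy hyv, mul_zero])
          (x := z) (hz v (Submodule.mem_span_singleton_self v))
        rw [h1, map_zero]
      obtain ⟨c, hc⟩ := Submodule.mem_span_singleton.1 hmem
      exact ⟨c, v, hv, hc.symm⟩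
    push Not at hall
    obtain ⟨w0, hw0, hw0v, haw0⟩ := hall
    set β := hh a w0 with hβdef
    have hw0a : hh w0 a = frobEquiv hF β := hf.herm _ _
    have hβ : β ≠ 0 := fun e => haw0 (by rw [hw0a, e, map_zero])
    have hσβ : frobEquiv hF β ≠ 0 := by rwa [Ne, map_eq_zero]
    have hN : frobEquiv hF β * β ∈ F₀ := hw0a ▸ hprod v hv hvv hv0 hav w0 w0 hw0 hw0 hw0v hw0v
    have hratio : ∀ x, InRS F₀ P x → hh x v = 0 → hh a x / β ∈ F₀ := fun x hx hxv => by
      have h1 := F₀.div_mem (hprod v hv hvv hv0 hav w0 x hw0 hx hw0v hxv) hN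
      rwa [hw0a, mul_div_mul_left _ _ hσβ] at h1
    obtain ⟨p, hp, -, hvp, hpv, -⟩ := exists_iso_dual hF hS (Fin.elim0 : Fin 0 → (Fin n → F))
      (fun j => j.elim0) hv hvv (fun j => j.elim0) (by simpa using hv0)
    set c := hh a p
    set r0 := β⁻¹ • (a - c • v) with hr0def
    have hdec : a = β • r0 + c • v := by
      rw [hr0def, smul_smul, mul_inv_cancel₀ hβ, one_smul, sub_add_cancel]
    have hr0 : InRS F₀ P r0 := by
      refine inRS_of_pairing hF hS fun e he => ?_
      have hev : hh (e - hh e v • p) v = 0 := by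
        rw [sub_eq_add_neg, ← neg_smul, hf.add_left, hf.smul_left, hpv]; ring
      have h1 := hratio _ (he.sub (hp.smul (herm_mem hS he hv))) hev
      have h2 : hh r0 e = hh a (e - hh e v • p) / β := by
        simp only [hr0def, sub_eq_add_neg, ← neg_smul, hf.smul_left, hf.add_left, Unit.add_right hf,
          Unit.smul_right hf, map_neg, hf.herm v e, c]
        ring
      rwa [h2]
    clear_value r0
    have hr0v : hh r0 v = 0 := by
      have h1 := hav
      rw [hdec, hf.add_left, hf.smul_left, hf.smul_left, hvv, mul_zero, add_zero] at h1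
      exact (mul_eq_zero.1 h1).resolve_left hβ
    obtain ⟨z, z', hz, hz', hzz, -, hzz', -, hzu, hz'u⟩ := exists_rs_pair hF hS ![r0, v]
      (Fin.forall_fin_two.2 ⟨hr0, hv⟩) (by omega)
    have hzr : hh z r0 = 0 := by simpa using hzu 0
    have hzv : hh z v = 0 := by simpa using hzu 1
    have hz'r : hh z' r0 = 0 := by simpa using hz'u 0
    have hz'v : hh z' v = 0 := by simpa using hz'u 1
    have hz0 : z ≠ 0 := fun e => by
      rw [e, LinLeft.zero_left ⟨CfsgLib.Unitary.herm_add_left n, CfsgLib.Unitary.herm_smul_left n⟩] at hzz'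
      exact zero_ne_one hzz'
    have hr0n : r0 ∉ Submodule.span F (Set.range ![v, z]) := by
      intro h
      rw [Submodule.mem_span_range_iff_exists_fun] at h
      obtain ⟨d, hd⟩ := h
      simp only [Fin.sum_univ_two, Matrix.cons_val_zero, Matrix.cons_val_one] at hd
      have h1 := congrArg (fun y => hh y z') hd
      simp only [hf.add_left, hf.smul_left, hzz', hf.herm v z', hz'v, hf.herm r0 z', hz'r, map_zero, mul_zero,
        zero_add, mul_one] at h1
      rw [h1, zero_smul, add_zero] at hd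
      refine haw0 ?_
      rw [hdec, ← hd, smul_smul, ← add_smul, Unit.smul_right hf, hw0v, mul_zero]
    have hvn : v ∉ Submodule.span F (Set.range ![r0, z]) := by
      intro h
      rw [Submodule.mem_span_range_iff_exists_fun] at h
      obtain ⟨d, hd⟩ := h
      simp only [Fin.sum_univ_two, Matrix.cons_val_zero, Matrix.cons_val_one] at hd
      have h1 := congrArg (fun y => hh y z') hd
      simp only [hf.add_left, hf.smul_left, hzz', hf.herm r0 z', hz'r, hf.herm v z', hz'v, map_zero, mul_zero,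
        zero_add, mul_one] at h1
      rw [h1, zero_smul, add_zero] at hd
      rcases eq_or_ne (d 0) 0 with h0 | h0
      · exact hv0 (by rw [← hd, h0, zero_smul])
      · exact hr0n (Submodule.mem_span_range_iff_exists_fun F |>.2 ⟨![(d 0)⁻¹, 0], by
          simp [← hd, smul_smul, inv_mul_cancel₀ h0]⟩)
    obtain ⟨x0, hx0, e0, f0⟩ := exists_rs_dual hF hS ![v, z] (Fin.forall_fin_two.2 ⟨hv, hz⟩) hr0 hr0n
    obtain ⟨x1, hx1, e1, f1⟩ := exists_rs_dual hF hS ![r0, z] (Fin.forall_fin_two.2 ⟨hr0, hz⟩) hv hvn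
    have haz : hh a z = 0 := by
      rw [hdec, hf.add_left, hf.smul_left, hf.smul_left, hf.herm r0 z, hzr, hf.herm v z, hzv, map_zero]; ring
    have b0 : hh a x0 = β := by
      rw [hdec, hf.add_left, hf.smul_left, hf.smul_left, e0, hf.herm v x0, show hh x0 v = 0 by simpa using f0 0,
        map_zero]
      ring
    have b1 : hh x1 a = frobEquiv hF c := by
      rw [hf.herm]
      congr 1
      rw [hdec, hf.add_left, hf.smul_left, hf.smul_left, e1, hf.herm r0 x1, show hh x1 r0 = 0 by simpa using f1 0,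
        map_zero]
      ring
    have h1 := hprod z hz hzz hz0 haz x1 x0 hx1 hx0 (by simpa using f1 1) (by simpa using f0 1)
    rw [b0, b1] at h1
    have h2 := F₀.div_mem (hfr _ h1) hN
    rw [map_mul, hf.involutive, mul_comm c, mul_div_mul_left _ _ hσβ] at h2
    refine ha ⟨β, r0 + (c / β) • v, hr0.add (hv.smul h2), ?_⟩
    rw [smul_add, smul_smul, mul_div_cancel₀ _ hβ]
    exact hdec
  obtain ⟨δ, hδF, hδ0, hδ⟩ := exists_skew0 hF hS
  have hT := hA δ hδF hδ
  have hTv : (tvec a (uax q a δ) (uax_dot_self haa δ) : Matrix (Fin n) (Fin n) F) *ᵥ v = v := by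
    rw [utv_mulVec hF haa, hf.herm v a, hav, map_zero, mul_zero, zero_smul, add_zero]
  obtain ⟨s, hs0, hs⟩ := exists_trace0 hF hS hx
  obtain ⟨X, hX, hXe⟩ := rat_eich_mem hF hS hv hx hvv hxv hs0 hs
  have hVx : VP q M v x := ⟨hxv, X, hM hX, s, hXe⟩
  have h1 := hVx.conj hMI hT
  rw [hTv, utv_mulVec hF haa] at h1
  have h2 := h1.sub hF hvv hVx
  rw [add_sub_cancel_left] at h2
  have h3 := h2.conj hMI (hM (rat_utv_mem0 hF hS hw hww hδF hδ))
  rw [utv_mulVec hF hww, hf.herm v w, hwv, map_zero, mul_zero, zero_smul, add_zero,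
    Matrix.mulVec_smul, utv_mulVec hF hww, smul_add] at h3
  have h4 := h3.sub hF hvv h2
  rw [add_sub_cancel_left, smul_smul] at h4
  refine suGL_le_of_scalar hF hS hn hr hcard hM hMI hv hvv hv0 hw hwv (fun h => ?_) ?_ h4
  · obtain ⟨d, rfl⟩ := Submodule.mem_span_singleton.1 h
    exact hμ (by rw [Unit.smul_right hf, hav, mul_zero, mul_zero]; exact F₀.zero_mem)
  · intro h5
    have h6 := F₀.div_mem h5 (F₀.mul_mem hδF hδF)
    rw [show δ * hh x a * (δ * hh a w) = δ * δ * (hh x a * hh a w) by ring,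
      mul_div_cancel_left₀ _ (mul_ne_zero hδ0 hδ0)] at h6
    exact hμ h6

end CfsgLib.Geo.UTv
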