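/-
Two rational root groups in one hyperbolic plane of a unitary space generate an irrational root element.
-/
import Cfsg.Agent.Geo.UnitSubfieldParabolic
import Cfsg.Agent.QuadPairs.FiniteField
import Mathlib.LinearAlgebra.Matrix.GeneralLinearGroup.Card
import Mathlib.FieldTheory.IntermediateField.Adjoin.Basic

set_option autoImplicit false

namespace CfsgLib.Geo.UTv

open Matrix Cfsg Cfsg.Geo CfsgLib.Geo

variable {n q : ℕ} {F : Type*} [Field F] [Finite F] (hF : Nat.card F = q ^ 2) {F₀ : Subfield F}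
  {P : GL (Fin n) F} (hS : UnitSub n q F F₀ P) {M : Subgroup (GL (Fin n) F)}

local notation "hh" => Cfsg.hermForm n F q

omit [Finite F] in
lemma five_not_dvd_card_SL2 {E : Type*} [Field E] [Finite E] {d : ℕ} (hE : Nat.card E = 3 ^ d) (hd : Odd d) :
    ¬ 5 ∣ Nat.card (Matrix.SpecialLinearGroup (Fin 2) E) := by
  intro h5
  haveI := Fintype.ofFinite E
  have h1 : Nat.card (Matrix.SpecialLinearGroup (Fin 2) E) ∣ Nat.card (GL (Fin 2) E) :=
    Subgroup.card_dvd_of_injective Matrix.SpecialLinearGroup.toGL Matrix.SpecialLinearGroup.toGL_injective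
  have h2 := h5.trans h1
  rw [Matrix.card_GL_field, Fin.prod_univ_two, ← Nat.card_eq_fintype_card, hE] at h2
  simp only [Fin.val_zero, Fin.val_one, pow_zero, pow_one] at h2
  obtain ⟨i, rfl⟩ := hd
  have h3 : (3 : ℕ) ^ (2 * i + 1) % 5 = 2 ∨ (3 : ℕ) ^ (2 * i + 1) % 5 = 3 := by
    clear h2 h5 h1 hE
    induction i with
    | zero => exact Or.inr (by norm_num)
    | succ i ih =>
      rw [show 2 * (i + 1) + 1 = 2 * i + 1 + 2 by ring, pow_add, Nat.mul_mod]
      rcases ih with e | e <;> rw [e] <;> norm_num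
  generalize (3 : ℕ) ^ (2 * i + 1) = Q at h2 h3
  rw [pow_two] at h2
  rcases (Nat.Prime.dvd_mul (by norm_num)).1 h2 with h | h
  · have hmod : Q * Q % 5 = 4 := by rw [Nat.mul_mod]; rcases h3 with e | e <;> rw [e]
    omega
  · have h' : 5 ∣ Q * (Q - 1) := by rwa [Nat.mul_sub, mul_one]
    rcases (Nat.Prime.dvd_mul (by norm_num)).1 h' with h | h <;> omega

include hF hS

/-- The root groups `T_e(k)` and `T_f(k α)` contain `T_e(α)` in the group they generate. -/
theorem plane_dickson {r : ℕ} (hro : Odd r) (hcard : Nat.card F = Nat.card F₀ ^ r) (h2 : (2 : F) ≠ 0)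
    {e f : Fin n → F} (hee : hh e e = 0) (hff : hh f f = 0) (hef : hh e f = 1) {δ : F} (hδ0 : δ ≠ 0)
    (hδ : δ + δ ^ q = 0) {α : F} (hα0 : α ≠ 0) (hα : frobEquiv hF α = α)
    (hup : ∀ s ∈ F₀, frobEquiv hF s = s → tvec e (uax q e (s / δ)) (uax_dot_self hee (s / δ)) ∈ M)
    (hlow : ∀ s ∈ F₀, frobEquiv hF s = s → tvec f (uax q f (s * α * δ)) (uax_dot_self hff (s * α * δ)) ∈ M) :
    tvec e (uax q e (α / δ)) (uax_dot_self hee (α / δ)) ∈ M := by
  classical
  have hf := isUnitaryForm hF (n := n)
  have hfe : hh f e = 1 := by rw [hf.herm, hef, map_one]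
  let k : Subfield F := F₀ ⊓ RingHom.eqLocusField (frobEquiv hF).toRingHom (RingHom.id F)
  have hk : ∀ {s : F}, s ∈ k ↔ s ∈ F₀ ∧ frobEquiv hF s = s := fun {s} => Iff.rfl
  let E : IntermediateField k F := IntermediateField.adjoin k {α}
  have hint : IsIntegral k α := IsIntegral.of_finite k α
  let pb := IntermediateField.adjoin.powerBasis hint
  let a : E := pb.gen
  have ha : (a : F) = α := rfl
  have hA : Algebra.adjoin k {a} = ⊤ := pb.adjoin_gen_eq_top
  have hEfix : ∀ x : E, frobEquiv hF (x : F) = x := fun x => by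
    have hx : x ∈ Algebra.adjoin k {a} := hA ▸ Algebra.mem_top
    induction hx using Algebra.adjoin_induction with
    | mem y hy => rw [Set.mem_singleton_iff.1 hy, ha, hα]
    | algebraMap c => exact (hk.1 c.2).2
    | add y z _ _ hy hz =>
      change frobEquiv hF ((y : F) + (z : F)) = (y : F) + (z : F)
      rw [map_add, hy, hz]
    | mul y z _ _ hy hz =>
      change frobEquiv hF ((y : F) * (z : F)) = (y : F) * (z : F)
      rw [map_mul, hy, hz]
  -- the field with three elements
  have h3 : Nat.card k ≠ 3 ∨ ¬ 5 ∣ Nat.card (Matrix.SpecialLinearGroup (Fin 2) E) := by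
    by_cases hc : Nat.card k = 3
    swap
    · exact Or.inl hc
    refine Or.inr ?_
    have hf0 := isUnitaryForm0 hF hS
    obtain ⟨t, ht⟩ := Unit.exists_trace_one hf0.ne_refl hf0.involutive
    obtain ⟨d0, hd0, hd⟩ := Unit.exists_skew hf0.ne_refl hf0.involutive
    have hfixk : ∀ x : F₀, sig0 hF F₀ x = x → (x : F) ∈ k := fun x hx =>
      hk.2 ⟨x.2, (sig0_apply hF x).symm.trans (congrArg Subtype.val hx)⟩
    let J : F₀ → k × k := fun x =>
      (⟨_, hfixk (x + sig0 hF F₀ x) (by rw [map_add, hf0.involutive, add_comm])⟩,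
        ⟨_, hfixk ((x - sig0 hF F₀ x) / d0) (by
          rw [map_div₀, map_sub, hf0.involutive, hd, div_neg, ← neg_div, neg_sub])⟩)
    have hJ : Function.Injective J := fun x y he => by
      have e1 : x + sig0 hF F₀ x = y + sig0 hF F₀ y := Subtype.ext (congrArg (fun p : k × k => (p.1 : F)) he)
      have e2 : (x - sig0 hF F₀ x) / d0 = (y - sig0 hF F₀ y) / d0 :=
        Subtype.ext (congrArg (fun p : k × k => (p.2 : F)) he)
      rw [div_left_inj' hd0] at e2
      refine Subtype.ext ?_
      have e3 := congrArg Subtype.val e1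
      have e4 := congrArg Subtype.val e2
      rw [Subfield.coe_add, Subfield.coe_add] at e3
      rw [Subfield.coe_sub, Subfield.coe_sub] at e4
      exact mul_left_cancel₀ h2 (by linear_combination e3 + e4)
    have h9 := Nat.card_le_card_of_injective J hJ
    rw [Nat.card_prod, hc] at h9
    -- `F₀` is a vector space over `k`
    letI : Algebra k F₀ := (Subfield.inclusion (inf_le_left : k ≤ F₀)).toAlgebra
    haveI : Module.Finite k F₀ := Module.Finite.of_finite
    have h0 : Nat.card F₀ = 9 := by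
      have e := Module.natCard_eq_pow_finrank (K := k) (V := F₀)
      rw [hc] at e
      have hm : Module.finrank k F₀ ≠ 1 := fun hm => by
        rw [hm, pow_one, ← hc] at e
        refine hd0 ?_
        have hsurj := (Nat.bijective_iff_injective_and_card (algebraMap k F₀)).2
          ⟨(algebraMap k F₀).injective, e.symm⟩
        obtain ⟨c, hc'⟩ := hsurj.2 d0
        have hfx : sig0 hF F₀ d0 = d0 := by
          rw [← hc']; exact Subtype.ext ((sig0_apply hF _).trans (hk.1 c.2).2)
        rw [hd] at hfx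
        have h5 := congrArg Subtype.val hfx
        rw [Subfield.coe_neg] at h5
        exact Subtype.ext (mul_left_cancel₀ h2 (by
          rw [Subfield.coe_zero]; linear_combination -h5))
      have hpos : 0 < Module.finrank k F₀ := Module.finrank_pos
      have hm3 : Module.finrank k F₀ < 3 := by
        by_contra hcon
        push Not at hcon
        have := Nat.pow_le_pow_right (show 0 < 3 by norm_num) hcon
        omega
      rw [e, show Module.finrank k F₀ = 2 by omega]
      norm_num
    rw [h0] at hcard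
    obtain ⟨i, rfl⟩ := hro
    have hq : q = 3 * 9 ^ i := by
      have e : q ^ 2 = (3 * 9 ^ i) ^ 2 := by rw [← hF, hcard, mul_pow, ← pow_mul, pow_succ]; ring_nf
      exact Nat.pow_left_injective two_ne_zero e
    have hEc := Module.natCard_eq_pow_finrank (K := k) (V := E)
    rw [hc] at hEc
    refine five_not_dvd_card_SL2 hEc ?_
    rcases Nat.even_or_odd' (Module.finrank k E) with ⟨j, hj | hj⟩
    swap
    · exact ⟨j, hj⟩
    exfalso
    obtain ⟨g, hg⟩ := IsCyclic.exists_generator (α := Eˣ)
    have hord := orderOf_eq_card_of_forall_mem_zpowers hg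
    rw [Nat.card_units, hEc, hj, pow_mul] at hord
    have hgq : g ^ (q - 1) = 1 := by
      refine Units.ext (mul_left_cancel₀ g.ne_zero (Subtype.ext ?_))
      rw [Units.val_pow_eq_pow_val, Units.val_one, mul_one, ← pow_succ', show q - 1 + 1 = q by
        have : 0 < 9 ^ i := pow_pos (by norm_num) i
        omega, SubmonoidClass.coe_pow, ← frobEquiv_apply hF, hEfix]
    have hdvd := orderOf_dvd_of_pow_eq_one hgq
    rw [hord] at hdvd
    have h8 : 8 ∣ (3 ^ 2) ^ j - 1 := by simpa using Nat.sub_dvd_pow_sub_pow 9 1 j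
    have h8' := h8.trans hdvd
    have hmod : 3 * 9 ^ i % 8 = 3 := by rw [Nat.mul_mod, Nat.pow_mod]; norm_num
    omega
  -- the action on the plane
  have hδ' : frobEquiv hF δ = -δ := by rw [frobEquiv_apply]; linear_combination hδ
  let X : (Fin n → F) → Fin 2 → F := fun x => ![hh x f, hh x e / δ]
  have hXadd : ∀ x y, X (x + y) = X x + X y := fun x y => by
    funext i; fin_cases i <;> simp [X, hf.add_left, add_div]
  have hXsmul : ∀ (c : F) x, X (c • x) = c • X x := fun c x => by
    funext i; fin_cases i <;> simp [X, hf.smul_left, mul_div_assoc]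
  let Φ : Matrix.SpecialLinearGroup (Fin 2) E → (Fin n → F) →ₗ[F] (Fin n → F) := fun g =>
    { toFun := fun x => x + ((g.1.map (Subtype.val : E → F) *ᵥ X x) 0 - X x 0) • e +
        (((g.1.map (Subtype.val : E → F) *ᵥ X x) 1 - X x 1) * δ) • f
      map_add' := fun x y => by
        simp only [hXadd, Matrix.mulVec_add, Pi.add_apply]
        module
      map_smul' := fun c x => by
        simp only [hXsmul, Matrix.mulVec_smul, Pi.smul_apply, smul_eq_mul, RingHom.id_apply]
        module }
  have hΦ : ∀ g x, Φ g x = x + ((g.1.map (Subtype.val : E → F) *ᵥ X x) 0 - X x 0) • e +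
        (((g.1.map (Subtype.val : E → F) *ᵥ X x) 1 - X x 1) * δ) • f := fun g x => rfl
  have hXΦ : ∀ g x, X (Φ g x) = g.1.map (Subtype.val : E → F) *ᵥ X x := fun g x => by
    funext i
    rw [hΦ]
    fin_cases i <;>
      simp [X, hf.add_left, hf.smul_left, hef, hfe, hee, hff, add_div, hδ0]
  have hmul : ∀ g h, Φ (g * h) = (Φ g).comp (Φ h) := fun g h => LinearMap.ext fun x => by
    have hm : (g * h).1.map (Subtype.val : E → F) *ᵥ X x =
        g.1.map (Subtype.val : E → F) *ᵥ (h.1.map (Subtype.val : E → F) *ᵥ X x) := by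
      rw [Matrix.mulVec_mulVec]
      congr 1
    rw [LinearMap.comp_apply, hΦ, hΦ g, hXΦ, hm]
    conv_rhs => rw [hΦ h]
    module
  have hone : Φ 1 = LinearMap.id := LinearMap.ext fun x => by
    rw [hΦ, Matrix.SpecialLinearGroup.coe_one,
      Matrix.map_one (Subtype.val : E → F) rfl rfl, Matrix.one_mulVec]
    simp
  let ρ : Matrix.SpecialLinearGroup (Fin 2) E →* GL (Fin n) F := MonoidHom.toHomUnits
    { toFun := fun g => LinearMap.toMatrix' (Φ g)
      map_one' := by rw [hone, LinearMap.toMatrix'_id]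
      map_mul' := fun g h => by rw [hmul, LinearMap.toMatrix'_comp] }
  have hρ : ∀ g x, (ρ g : Matrix (Fin n) (Fin n) F) *ᵥ x = Φ g x := fun g x => by
    show LinearMap.toMatrix' (Φ g) *ᵥ x = _
    rw [← Matrix.toLin'_apply, Matrix.toLin'_toMatrix']
  have hρup : ∀ y : E, ρ (CfsgLib.QP.up y) = tvec e (uax q e ((y : F) / δ)) (uax_dot_self hee _) :=
    fun y => gl_ext_mulVec fun x => by
      rw [hρ, hΦ, utv_mulVec hF hee, CfsgLib.QP.up_coe]
      simp [X, Matrix.mulVec, dotProduct, Fin.sum_univ_two, div_mul_eq_mul_div, mul_div_assoc]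
  have hρlow : ∀ y : E, ρ (CfsgLib.QP.low y) = tvec f (uax q f ((y : F) * δ)) (uax_dot_self hff _) :=
    fun y => gl_ext_mulVec fun x => by
      rw [hρ, hΦ, utv_mulVec hF hff, CfsgLib.QP.low_coe]
      simp [X, Matrix.mulVec, dotProduct, Fin.sum_univ_two]
      congr 1
      ring
  have hk2 : (2 : k) ≠ 0 := fun h => h2 ((map_ofNat k.subtype 2).symm.trans ((congrArg k.subtype h).trans (map_zero _)))
  have hgen : CfsgLib.QP.gen k a ≤ M.comap ρ := by
    refine (Subgroup.closure_le _).2 ?_
    rintro g (⟨c, rfl⟩ | ⟨c, rfl⟩)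
    · show ρ _ ∈ M
      rw [hρup]
      exact hup _ (hk.1 c.2).1 (hk.1 c.2).2
    · show ρ _ ∈ M
      rw [hρlow]
      exact hlow _ (hk.1 c.2).1 (hk.1 c.2).2
  have hmem := hgen (CfsgLib.QP.gen_contains_of_field' hk2 h3 (α := a)
    (fun h => hα0 (by rw [← ha, h]; rfl)) hA a).1
  rw [Subgroup.mem_comap, hρup] at hmem
  exact hmem

end CfsgLib.Geo.UTv
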