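/-
An odd-degree subfield group is maximal in the special unitary group.
-/
import Cfsg.Agent.Geo.UnitPlaneDickson

set_option autoImplicit false

namespace CfsgLib.Geo.UTv

open Matrix Cfsg Cfsg.Geo CfsgLib.Geo

variable {n q : ℕ} {F : Type*} [Field F]

local notation "hh" => Cfsg.hermForm n F q
local notation "GLn" => GL (Fin n) F

/-- The image of `z - 1`. -/
def mv (z : GL (Fin n) F) : Submodule F (Fin n → F) :=
  LinearMap.range (Matrix.toLin' ((z : Matrix (Fin n) (Fin n) F) - 1))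

lemma mem_mv {z : GLn} {y : Fin n → F} :
    y ∈ mv z ↔ ∃ x, (z : Matrix (Fin n) (Fin n) F) *ᵥ x - x = y := by
  simp [mv, Matrix.sub_mulVec]

lemma mv_mul_le (A B : GLn) : mv (A * B) ≤ mv A ⊔ mv B := by
  intro y hy
  obtain ⟨x, rfl⟩ := mem_mv.1 hy
  rw [mul_mulVec, ← sub_add_sub_cancel _ ((B : Matrix (Fin n) (Fin n) F) *ᵥ x) x]
  exact Submodule.add_mem_sup (mem_mv.2 ⟨_, rfl⟩) (mem_mv.2 ⟨_, rfl⟩)

lemma mv_one : mv (1 : GLn) = ⊥ := by simp [mv]

lemma mv_pow_le (A : GLn) (k : ℕ) : mv (A ^ k) ≤ mv A := by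
  induction k with
  | zero => rw [pow_zero, mv_one]; exact bot_le
  | succ k ih => rw [pow_succ]; exact (mv_mul_le _ _).trans (sup_le ih le_rfl)

lemma finrank_mv_conj {k z : GLn} : Module.finrank F (mv (k * z * k⁻¹)) = Module.finrank F (mv z) := by
  have : mv (k * z * k⁻¹) = (mv z).map (glEquiv k : (Fin n → F) ≃ₗ[F] (Fin n → F)).toLinearMap := by
    ext y
    simp only [mem_mv, Submodule.mem_map]
    constructor
    · rintro ⟨x, rfl⟩
      exact ⟨_, ⟨((k⁻¹ : GLn) : Matrix (Fin n) (Fin n) F) *ᵥ x, rfl⟩, by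
        rw [LinearEquiv.coe_coe, glEquiv_apply, Matrix.mulVec_sub, mulVec_inv_mulVec, mul_mulVec, mul_mulVec]⟩
    · rintro ⟨_, ⟨x, rfl⟩, rfl⟩
      exact ⟨(k : Matrix (Fin n) (Fin n) F) *ᵥ x, by
        rw [LinearEquiv.coe_coe, glEquiv_apply, Matrix.mulVec_sub, mul_mulVec, mul_mulVec, inv_mulVec_mulVec]⟩
  rw [this, LinearEquiv.finrank_map_eq]

lemma flip_pow {x c : GLn} (hx : x * x = 1) (hc : x * c * x = c⁻¹) (k : ℕ) :
    c ^ k * x * (c ^ k)⁻¹ = c ^ (2 * k) * x := by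
  have hxi : x⁻¹ = x := inv_eq_of_mul_eq_one_right hx
  have h1 : x * c ^ k * x = (c ^ k)⁻¹ := by
    have h2 := conj_pow (a := x) (b := c) (i := k)
    rw [hxi, hc, inv_pow] at h2
    exact h2.symm
  rw [← h1, two_mul, pow_add]
  simp only [mul_assoc]
  rw [← mul_assoc x x, hx, one_mul]

variable [Finite F] (hF : Nat.card F = q ^ 2) {F₀ : Subfield F} {P : GL (Fin n) F}
  (hS : UnitSub n q F F₀ P) {M : Subgroup (GL (Fin n) F)}

include hF hS

/-- No rational isotropic vector is orthogonal to an irrational image of another. -/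
def UGeneric (q : ℕ) (F₀ : Subfield F) (P : GL (Fin n) F) (M : Subgroup (GL (Fin n) F)) : Prop :=
  ∀ h ∈ M, ∀ u v, InRS F₀ P u → Cfsg.hermForm n F q u u = 0 → u ≠ 0 →
    InRS F₀ P v → Cfsg.hermForm n F q v v = 0 → v ≠ 0 →
    Cfsg.hermForm n F q ((h : Matrix (Fin n) (Fin n) F) *ᵥ u) v = 0 →
    IsPt F₀ P ((h : Matrix (Fin n) (Fin n) F) *ᵥ u)

/-- A rational isotropic vector in a subspace. -/
def HasIso (q : ℕ) (F₀ : Subfield F) (P : GL (Fin n) F) (S : Submodule F (Fin n → F)) : Prop :=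
  ∃ u, InRS F₀ P u ∧ Cfsg.hermForm n F q u u = 0 ∧ u ≠ 0 ∧ u ∈ S

/-- One orthogonal relation puts an element into the subfield group. -/
lemma mem_of_ugeneric (hn : 6 ≤ n) (hMI : M ≤ suGL n F q) (hg : UGeneric q F₀ P M) {g : GLn} (hgM : g ∈ M)
    {u v : Fin n → F} (hu : InRS F₀ P u) (huu : hh u u = 0) (hu0 : u ≠ 0) (hv : InRS F₀ P v) (hvv : hh v v = 0)
    (hv0 : v ≠ 0) (huv : hh ((g : Matrix (Fin n) (Fin n) F) *ᵥ u) v = 0) : g ∈ subfieldSubgroup F₀ P := by
  have hf := isUnitaryForm hF (n := n)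
  have hginj : ∀ x : Fin n → F, (g : Matrix (Fin n) (Fin n) F) *ᵥ x = 0 → x = 0 := fun x hx => by
    rw [← inv_mulVec_mulVec g x, hx, Matrix.mulVec_zero]
  have hdat : ∀ a, hh a a = 0 → a ≠ 0 → ∀ (c : F) (r : Fin n → F), (g : Matrix (Fin n) (Fin n) F) *ᵥ a = c • r →
      c ≠ 0 ∧ r ≠ 0 ∧ hh r r = 0 := by
    intro a haa ha0 c r e
    have hc : c ≠ 0 := fun hc => ha0 (hginj a (by rw [e, hc, zero_smul]))
    refine ⟨hc, fun hr => ha0 (hginj a (by rw [e, hr, smul_zero])), ?_⟩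
    have h1 := herm_mulVec (hMI hgM) a a
    rw [e, hf.smul_left, Unit.smul_right hf, haa] at h1
    exact (mul_eq_zero.1 ((mul_eq_zero.1 h1).resolve_left hc)).resolve_left ((map_ne_zero _).2 hc)
  have hnext : ∀ a b, InRS F₀ P a → hh a a = 0 → a ≠ 0 → InRS F₀ P b → hh b b = 0 → b ≠ 0 → hh b a = 0 →
      IsPt F₀ P ((g : Matrix (Fin n) (Fin n) F) *ᵥ a) → IsPt F₀ P ((g : Matrix (Fin n) (Fin n) F) *ᵥ b) := by
    rintro a b ha haa ha0 hb hbb hb0 hab ⟨c, r, hr, e⟩
    obtain ⟨hc, hr0, hrr⟩ := hdat a haa ha0 c r e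
    refine hg g hgM b r hb hbb hb0 hr hrr hr0 ?_
    have h1 := herm_mulVec (hMI hgM) b a
    rw [e, Unit.smul_right hf, hab] at h1
    exact (mul_eq_zero.1 h1).resolve_left ((map_ne_zero _).2 hc)
  have hzero : ∀ (z z' : Fin n → F), hh z z' = 1 → z ≠ 0 := fun z z' h e => by
    rw [e, LinLeft.zero_left ⟨CfsgLib.Unitary.herm_add_left n, CfsgLib.Unitary.herm_smul_left n⟩] at h
    exact zero_ne_one h
  have hpt : ∀ x, InRS F₀ P x → hh x x = 0 → x ≠ 0 → IsPt F₀ P ((g : Matrix (Fin n) (Fin n) F) *ᵥ x) := by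
    intro x hx hxx hx0
    obtain ⟨w, w', hw, -, hww, -, hww', -, hwu, -⟩ := exists_rs_pair hF hS ![u, x] (Fin.forall_fin_two.2 ⟨hu, hx⟩)
      (by omega)
    have hw0 := hzero w w' hww'
    exact hnext w x hw hww hw0 hx hxx hx0 (by rw [hf.herm, show hh w x = 0 by simpa using hwu 1, map_zero])
      (hnext u w hu huu hu0 hw hww hw0 (by simpa using hwu 0) (hg g hgM u v hu huu hu0 hv hvv hv0 huv))
  obtain ⟨c0, r0, hr0, e0⟩ := hpt u hu huu hu0
  obtain ⟨hc0, -, -⟩ := hdat u huu hu0 c0 r0 e0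
  set d := c0⁻¹
  let Q : (Fin n → F) → Prop := fun a => InRS F₀ P (d • ((g : Matrix (Fin n) (Fin n) F) *ᵥ a))
  have hsame : ∀ a b, InRS F₀ P a → hh a a = 0 → a ≠ 0 → InRS F₀ P b → hh b b = 0 → b ≠ 0 → hh a b = 0 →
      Q a → Q b := by
    intro a b ha haa ha0 hb hbb hb0 hab hQa
    by_cases hmem : b ∈ F ∙ a
    · obtain ⟨p, hp, hap, -⟩ := exists_rs_dual hF hS (Fin.elim0 : Fin 0 → (Fin n → F)) (fun j => j.elim0) ha
        (by simpa using ha0)
      obtain ⟨k, rfl⟩ := Submodule.mem_span_singleton.1 hmem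
      have hk : k ∈ F₀ := by
        have h1 := herm_mem hS hb hp
        rwa [hf.smul_left, hap, mul_one] at h1
      change InRS F₀ P (d • _)
      rw [Matrix.mulVec_smul, smul_comm]
      exact hQa.smul hk
    have hs : hh (a + b) (a + b) = 0 := by
      simp only [hf.add_left, Unit.add_right hf, haa, hbb, hab, hf.herm b a, map_zero, add_zero]
    have hs0 : a + b ≠ 0 := fun e => hmem (by
      rw [eq_neg_of_add_eq_zero_right e]; exact Submodule.neg_mem _ (Submodule.mem_span_singleton_self a))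
    obtain ⟨ν, r, hr, e⟩ := hpt _ (ha.add hb) hs hs0
    obtain ⟨l, rb, hrb, eb⟩ := hpt b hb hbb hb0
    obtain ⟨hν, -, -⟩ := hdat _ hs hs0 ν r e
    obtain ⟨hl, hrb0, -⟩ := hdat b hbb hb0 l rb eb
    set ra := d • ((g : Matrix (Fin n) (Fin n) F) *ᵥ a) with hra
    have hQa' : InRS F₀ P ra := hQa
    have hd : d ≠ 0 := inv_ne_zero hc0
    have hn1 : ra ∉ Submodule.span F (Set.range ![rb]) := fun h => by
      rw [Submodule.mem_span_range_iff_exists_fun] at h
      obtain ⟨k, hk⟩ := h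
      rw [Fin.sum_univ_one, Matrix.cons_val_zero] at hk
      have h1 : a = (d⁻¹ * k 0 * l⁻¹) • b := by
        rw [← sub_eq_zero]
        refine hginj _ ?_
        rw [Matrix.mulVec_sub, Matrix.mulVec_smul, eb, smul_smul, mul_assoc, inv_mul_cancel₀ hl, mul_one,
          ← smul_smul, hk, hra, smul_smul, inv_mul_cancel₀ hd, one_smul, sub_self]
      rcases eq_or_ne (d⁻¹ * k 0 * l⁻¹) 0 with h0 | h0
      · exact ha0 (by rw [h1, h0, zero_smul])
      · exact hmem (Submodule.mem_span_singleton.2 ⟨(d⁻¹ * k 0 * l⁻¹)⁻¹, by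
          rw [h1, smul_smul, inv_mul_cancel₀ h0, one_smul]⟩)
    have hn2 : rb ∉ Submodule.span F (Set.range ![ra]) := fun h => by
      rw [Submodule.mem_span_range_iff_exists_fun] at h
      obtain ⟨k, hk⟩ := h
      rw [Fin.sum_univ_one, Matrix.cons_val_zero] at hk
      rcases eq_or_ne (k 0) 0 with h0 | h0
      · exact hrb0 (by rw [← hk, h0, zero_smul])
      · exact hn1 ((Submodule.smul_mem_iff _ h0).1 (hk ▸ Submodule.subset_span ⟨0, by simp⟩))
    obtain ⟨p, hp, hap, hpu⟩ := exists_rs_dual hF hS ![rb] (fun j => by simpa using hrb) hQa' hn1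
    obtain ⟨p', hp', hbp', hp'u⟩ := exists_rs_dual hF hS ![ra] (fun j => by simpa using hQa') hrb hn2
    have e1 : d⁻¹ • ra + l • rb = ν • r := by
      rw [← eb, ← e, Matrix.mulVec_add, hra, smul_smul, inv_mul_cancel₀ hd, one_smul]
    clear_value ra
    have h1 := congrArg (fun y => hh y p) e1
    have h2 := congrArg (fun y => hh y p') e1
    simp only [hf.add_left, hf.smul_left, hap, hbp', hf.herm rb p, show hh p rb = 0 by simpa using hpu 0,
      hf.herm ra p', show hh p' ra = 0 by simpa using hp'u 0, map_zero, mul_zero, add_zero, zero_add, mul_one]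
      at h1 h2
    have hne : hh r p ≠ 0 := fun h0 => inv_ne_zero hd (by rw [h1, h0, mul_zero])
    have h3 : d * l = hh r p' / hh r p := by
      have hd' : d = (ν * hh r p)⁻¹ := by rw [← h1, inv_inv]
      rw [hd', h2, ← div_eq_inv_mul, mul_div_mul_left _ _ hν]
    change InRS F₀ P (d • _)
    rw [eb, smul_smul]
    exact hrb.smul (h3 ▸ F₀.div_mem (herm_mem hS hr hp') (herm_mem hS hr hp))
  refine mem_subfield_of_scaled_rs (inv_ne_zero hc0) fun x hx => ?_
  have hQu : Q u := by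
    change InRS F₀ P (d • _)
    rw [e0, smul_smul, inv_mul_cancel₀ hc0, one_smul]
    exact hr0
  refine rs_induction hF hS (Fin.elim0 : Fin 0 → (Fin n → F)) (fun j => j.elim0) (by omega) (p := Q)
    (fun a b _ _ ha hb => by change InRS F₀ P (d • _); rw [Matrix.mulVec_add, smul_add]; exact ha.add hb)
    (fun a ha haa _ => ?_) hx (fun j => j.elim0)
  rcases eq_or_ne a 0 with rfl | ha0
  · change InRS F₀ P (d • _); rw [Matrix.mulVec_zero, smul_zero]; exact inRS_zero
  obtain ⟨w, w', hw, -, hww, -, hww', -, hwu, -⟩ := exists_rs_pair hF hS ![u, a] (Fin.forall_fin_two.2 ⟨hu, ha⟩)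
    (by omega)
  have hw0 := hzero w w' hww'
  exact hsame w a hw hww hw0 ha haa ha0 (by simpa using hwu 1)
    (hsame u w hu huu hu0 hw hww hw0 (by rw [hf.herm, show hh w u = 0 by simpa using hwu 0, map_zero]) hQu)

/-- Involutions of the subfield group preserve the rational span. -/
lemma rat_of_involution {r : ℕ} (hn : 6 ≤ n) (hr : r.Prime) (hro : Odd r)
    (hcard : Nat.card F = Nat.card F₀ ^ r) {z : GLn} (hz : z ∈ subfieldSubgroup F₀ P) (hz2 : z * z = 1)
    {x : Fin n → F} (hx : InRS F₀ P x) : InRS F₀ P ((z : Matrix (Fin n) (Fin n) F) *ᵥ x) := by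
  obtain ⟨d, hd0, hd⟩ := exists_scaled_rs_of_mem hz
  obtain ⟨u, u', hu, hu', -, -, huu', -, -, -⟩ := exists_rs_pair hF hS (Fin.elim0 : Fin 0 → (Fin n → F))
    (fun j => j.elim0) (by omega)
  have hd2 : d * d ∈ F₀ := by
    have h1 := hd _ (hd u hu)
    rw [Matrix.mulVec_smul, ← mul_mulVec, hz2, Units.val_one, Matrix.one_mulVec, smul_smul] at h1
    have h2 := herm_mem hS h1 hu'
    rwa [(isUnitaryForm hF).smul_left, huu', mul_one] at h2
  have hdF : d ∈ F₀ := by
    by_contra hd'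
    have hall := SpTv.eq_univ_of_subring hr hcard (S := {x | ∃ a ∈ F₀, ∃ b ∈ F₀, x = a + b * d})
      (fun x hx => ⟨x, hx, 0, F₀.zero_mem, by ring⟩)
      (by rintro _ ⟨a, ha, b, hb, rfl⟩ _ ⟨a', ha', b', hb', rfl⟩
          exact ⟨a + a', F₀.add_mem ha ha', b + b', F₀.add_mem hb hb', by ring⟩)
      (by rintro _ ⟨a, ha, b, hb, rfl⟩ _ ⟨a', ha', b', hb', rfl⟩
          exact ⟨a * a' + b * b' * (d * d), F₀.add_mem (F₀.mul_mem ha ha') (F₀.mul_mem (F₀.mul_mem hb hb') hd2),
            a * b' + b * a', F₀.add_mem (F₀.mul_mem ha hb') (F₀.mul_mem hb ha'), by ring⟩)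
      (c := d) ⟨0, F₀.zero_mem, 1, F₀.one_mem, by ring⟩ hd'
    let φ : F₀ × F₀ → F := fun p => (p.1 : F) + (p.2 : F) * d
    have hsurj : Function.Surjective φ := fun x => by
      obtain ⟨a, ha, b, hb, e⟩ := hall x
      exact ⟨(⟨a, ha⟩, ⟨b, hb⟩), e.symm⟩
    have h1 := Nat.card_le_card_of_surjective φ hsurj
    rw [Nat.card_prod, hcard, ← pow_two] at h1
    have := Nat.pow_le_pow_iff_right (Finite.one_lt_card (α := F₀)) |>.1 h1
    have := hr.two_le
    obtain ⟨k, hk⟩ := hro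
    omega
  have h1 := (hd x hx).smul (F₀.inv_mem hdF)
  rwa [smul_smul, inv_mul_cancel₀ hd0, one_smul] at h1

/-- Both eigenspaces of an involution with small moved space have rational isotropic vectors. -/
lemma hasIso_of_involution {r : ℕ} (hn : 6 ≤ n) (hr : r.Prime) (hro : Odd r)
    (hcard : Nat.card F = Nat.card F₀ ^ r) {z : GLn} (hz : z ∈ subfieldSubgroup F₀ P ⊓ suGL n F q)
    (hz2 : z * z = 1) (h1 : z ≠ 1) (h2 : (2 : F) = 0) :
    HasIso q F₀ P (mv z) ∧ HasIso q F₀ P (mv (-z)) := by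
  classical
  have hf := isUnitaryForm hF (n := n)
  have hrat : ∀ {x : Fin n → F}, InRS F₀ P x → InRS F₀ P ((z : Matrix (Fin n) (Fin n) F) *ᵥ x) :=
    fun hx => rat_of_involution hF hS hn hr hro hcard hz.1 hz2 hx
  haveI : CharP F 2 := CharTwo.of_one_ne_zero_of_two_eq_zero one_ne_zero h2
  have hneg : -z = z := gl_ext_mulVec fun y => by
    rw [Units.val_neg, Matrix.neg_mulVec]; funext i; exact CharTwo.neg_eq _
  suffices HasIso q F₀ P (mv z) by exact ⟨this, hneg.symm ▸ this⟩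
  obtain ⟨i, hi⟩ : ∃ i, (z : Matrix (Fin n) (Fin n) F) *ᵥ ((P : Matrix (Fin n) (Fin n) F) *ᵥ Pi.single i 1) -
      (P : Matrix (Fin n) (Fin n) F) *ᵥ Pi.single i 1 ≠ 0 := by
    by_contra hc
    push Not at hc
    refine h1 (gl_ext_mulVec fun x => ?_)
    rw [Units.val_one, Matrix.one_mulVec]
    conv_lhs => rw [eq_sum_cols (P := P) x, Matrix.mulVec_sum]
    conv_rhs => rw [eq_sum_cols (P := P) x]
    exact Finset.sum_congr rfl fun i _ => by rw [Matrix.mulVec_smul, sub_eq_zero.1 (hc i)]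
  obtain ⟨e, he, hi⟩ : ∃ e, InRS F₀ P e ∧ (z : Matrix (Fin n) (Fin n) F) *ᵥ e - e ≠ 0 := ⟨_, inRS_col i, hi⟩
  refine ⟨_, (hrat he).sub he, ?_, hi, mem_mv.2 ⟨e, rfl⟩⟩
  have hsym : hh ((z : Matrix (Fin n) (Fin n) F) *ᵥ e) e = hh e ((z : Matrix (Fin n) (Fin n) F) *ᵥ e) := by
    conv_rhs => rw [← herm_mulVec hz.2, ← mul_mulVec z z, hz2, Units.val_one, Matrix.one_mulVec]
  simp only [sub_eq_add_neg, ← neg_one_smul F e, hf.add_left, Unit.add_right hf, hf.smul_left,
    Unit.smul_right hf, herm_mulVec hz.2, hsym, map_neg, map_one]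
  linear_combination (hh e e - hh e ((z : Matrix (Fin n) (Fin n) F) *ᵥ e)) * h2

/-- An element intertwining two rational involutions lies in the subfield group. -/
lemma mem_of_uintertwine (hn : 6 ≤ n) (hMI : M ≤ suGL n F q) (hg : UGeneric q F₀ P M) {h z z' : GLn}
    (hh' : h ∈ M) (hzI : z ∈ suGL n F q) (hz2 : z * z = 1) (hz'2 : z' * z' = 1)
    (hu : HasIso q F₀ P (mv z')) (hv : HasIso q F₀ P (mv (-z))) (e : h * z' = z * h) :
    h ∈ subfieldSubgroup F₀ P := by
  have hf := isUnitaryForm hF (n := n)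
  obtain ⟨u, hu, huu, hu0, hum⟩ := hu
  obtain ⟨v, hv, hvv, hv0, hvm⟩ := hv
  refine mem_of_ugeneric hF hS hn hMI hg hh' hu huu hu0 hv hvv hv0 ?_
  obtain ⟨y, rfl⟩ := mem_mv.1 hvm
  obtain ⟨x, rfl⟩ := mem_mv.1 hum
  set w := (z' : Matrix (Fin n) (Fin n) F) *ᵥ x - x
  have hz'w : (z' : Matrix (Fin n) (Fin n) F) *ᵥ w = -w := by
    simp only [w, Matrix.mulVec_sub, ← mul_mulVec, hz'2, Units.val_one, Matrix.one_mulVec, neg_sub]
  have hzhw : (z : Matrix (Fin n) (Fin n) F) *ᵥ ((h : Matrix (Fin n) (Fin n) F) *ᵥ w) =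
      -((h : Matrix (Fin n) (Fin n) F) *ᵥ w) := by
    rw [← mul_mulVec, ← e, mul_mulVec, hz'w, Matrix.mulVec_neg]
  have h1 := herm_mulVec hzI ((h : Matrix (Fin n) (Fin n) F) *ᵥ w) ((z : Matrix (Fin n) (Fin n) F) *ᵥ y)
  rw [hzhw, ← mul_mulVec, hz2, Units.val_one, Matrix.one_mulVec, ← neg_one_smul F, hf.smul_left] at h1
  rw [Units.val_neg, Matrix.neg_mulVec, sub_eq_add_neg, ← neg_one_smul F y,
    ← neg_one_smul F ((z : Matrix (Fin n) (Fin n) F) *ᵥ y), Unit.add_right hf, Unit.smul_right hf,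
    Unit.smul_right hf, map_neg, map_one]
  linear_combination h1

/-- The generic situation is impossible. -/
theorem false_of_ugeneric {r : ℕ} (hn : 6 ≤ n) (hr : r.Prime) (hro : Odd r)
    (hcard : Nat.card F = Nat.card F₀ ^ r) (hM : subfieldSubgroup F₀ P ⊓ suGL n F q ≤ M) (hMI : M ≤ suGL n F q)
    (hg : UGeneric q F₀ P M) (hMX : ¬ M ≤ subfieldSubgroup F₀ P) {x y0 : GLn}
    (hx : x ∈ subfieldSubgroup F₀ P ⊓ suGL n F q) (hy0 : y0 ∈ subfieldSubgroup F₀ P ⊓ suGL n F q)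
    (hx2 : x * x = 1) (hy2 : y0 * y0 = 1) (hx1 : x ≠ 1) (hy1 : y0 ≠ 1)
    (h2 : (2 : F) = 0)
    (hne : Module.finrank F (mv x) ≠ Module.finrank F (mv y0)) : False := by
  obtain ⟨g, hgM, hgX⟩ := SetLike.not_le_iff_exists.1 hMX
  set y := g * y0 * g⁻¹ with hy
  have hyM : y ∈ M := M.mul_mem (M.mul_mem hgM (hM hy0)) (M.inv_mem hgM)
  have hy2' : y * y = 1 := by
    rw [hy, show g * y0 * g⁻¹ * (g * y0 * g⁻¹) = g * (y0 * y0) * g⁻¹ by group, hy2, mul_one, mul_inv_cancel]
  have hy1' : y ≠ 1 := fun e => hy1 (by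
    rw [show y0 = g⁻¹ * y * g by rw [hy]; group, e, mul_one, inv_mul_cancel])
  have hmy : Module.finrank F (mv y) = Module.finrank F (mv y0) := by rw [hy, finrank_mv_conj]
  have hiso0 := hasIso_of_involution hF hS hn hr hro hcard hy0 hy2 hy1 h2
  have hyX : y ∉ subfieldSubgroup F₀ P := fun hyX => hgX
    (mem_of_uintertwine hF hS hn hMI hg hgM (hMI hyM) hy2' hy2 hiso0.1
      (hasIso_of_involution hF hS hn hr hro hcard ⟨hyX, hMI hyM⟩ hy2' hy1' h2).2 (by rw [hy]; group))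
  have hxM : x ∈ M := hM hx
  set c := y * x with hc
  have hcM : c ∈ M := M.mul_mem hyM hxM
  have hxc : x * c * x = c⁻¹ := by
    have e1 : x⁻¹ = x := inv_eq_of_mul_eq_one_right hx2
    have e2 : y⁻¹ = y := inv_eq_of_mul_eq_one_right hy2'
    rw [hc, _root_.mul_inv_rev, e1, e2, mul_assoc, mul_assoc, hx2, mul_one]
  rcases Nat.even_or_odd' (orderOf c) with ⟨j, hj | hj⟩
  swap
  · have e : c ^ (j + 1) * x * (c ^ (j + 1))⁻¹ = y := by
      rw [flip_pow hx2 hxc, show 2 * (j + 1) = orderOf c + 1 by omega, pow_succ, pow_orderOf_eq_one, one_mul, hc,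
        mul_assoc, hx2, mul_one]
    exact hne (by rw [← hmy, ← e, finrank_mv_conj])
  have hn0 : 0 < orderOf c := orderOf_pos c
  set z := c ^ j with hz
  have hz2 : z * z = 1 := by rw [hz, ← pow_add, ← two_mul, ← hj, pow_orderOf_eq_one]
  have hz1 : z ≠ 1 := by
    intro e
    have := orderOf_dvd_of_pow_eq_one e
    have := Nat.le_of_dvd (by omega) this
    omega
  have hzi : z⁻¹ = z := inv_eq_of_mul_eq_one_right hz2
  have hxz : z * x = x * z := by
    have h1 := flip_pow hx2 hxc j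
    rw [← hz, hzi, two_mul, pow_add, ← hz, hz2, one_mul] at h1
    calc z * x = z * x * z * z := by rw [mul_assoc (z * x), hz2, mul_one]
      _ = x * z := by rw [h1]
  have hzy : y * z = z * y := by
    have e : y = c * x := by rw [hc, mul_assoc, hx2, mul_one]
    calc y * z = c * (x * z) := by rw [e, mul_assoc]
      _ = c * z * x := by rw [← hxz]; exact (mul_assoc c z x).symm
      _ = z * c * x := by rw [hz, ← pow_succ, ← pow_succ']
      _ = z * y := by rw [e, mul_assoc]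
  have hzM : z ∈ M := M.pow_mem hcM _
  have hisox := hasIso_of_involution hF hS hn hr hro hcard hx hx2 hx1 h2
  have hzX : z ∈ subfieldSubgroup F₀ P :=
    mem_of_uintertwine hF hS hn hMI hg hzM hx.2 hx2 hx2 hisox.1 hisox.2 hxz
  have hisoz := hasIso_of_involution hF hS hn hr hro hcard ⟨hzX, hMI hzM⟩ hz2 hz1 h2
  exact hyX (mem_of_uintertwine hF hS hn hMI hg hyM (hMI hzM) hz2 hz2 hisoz.1 hisoz.2 hzy)

/-- The two model involutions. -/
lemma exists_uinvolutions (hn : 6 ≤ n) (h2 : (2 : F) = 0) :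
    ∃ x y0 : GLn, x ∈ subfieldSubgroup F₀ P ⊓ suGL n F q ∧ y0 ∈ subfieldSubgroup F₀ P ⊓ suGL n F q ∧
      x * x = 1 ∧ y0 * y0 = 1 ∧ x ≠ 1 ∧ y0 ≠ 1 ∧
      Module.finrank F (mv x) ≠ Module.finrank F (mv y0) := by
  classical
  have hf := isUnitaryForm hF (n := n)
  obtain ⟨δ, hδF, hδ0, hδ⟩ := exists_skew0 hF hS
  obtain ⟨u, u', hu, hu', huu, hu'u', huu', hu'u, -, -⟩ := exists_rs_pair hF hS
    (Fin.elim0 : Fin 0 → (Fin n → F)) (fun j => j.elim0) (by omega)
  obtain ⟨w, w', hw, hw', hww, hw'w', hww', hw'w, hwu, hw'u⟩ := exists_rs_pair hF hS ![u, u']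
    (Fin.forall_fin_two.2 ⟨hu, hu'⟩) (by omega)
  have c1 : hh w u = 0 := by simpa using hwu 0
  have c2 : hh w u' = 0 := by simpa using hwu 1
  have c3 : hh w' u = 0 := by simpa using hw'u 0
  have c4 : hh w' u' = 0 := by simpa using hw'u 1
  have c1' : hh u w = 0 := by rw [hf.herm, c1, map_zero]
  have c2' : hh u' w = 0 := by rw [hf.herm, c2, map_zero]
  have c3' : hh u w' = 0 := by rw [hf.herm, c3, map_zero]
  have c4' : hh u' w' = 0 := by rw [hf.herm, c4, map_zero]
  have hspan : ∀ z ∈ Submodule.span F ({u, u'} : Set (Fin n → F)), hh z w' = 0 := by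
    intro z hz
    induction hz using Submodule.span_induction with
    | mem y hy => rcases hy with rfl | rfl; exacts [c3', c4']
    | zero => exact LinLeft.zero_left ⟨CfsgLib.Unitary.herm_add_left n, CfsgLib.Unitary.herm_smul_left n⟩ _
    | add a b _ _ ha hb => rw [hf.add_left, ha, hb, add_zero]
    | smul a b _ hb => rw [hf.smul_left, hb, mul_zero]
  have hwns : w ∉ Submodule.span F ({u, u'} : Set (Fin n → F)) := fun h => by
    rw [hspan w h] at hww'; exact zero_ne_one hww'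
  have hne1 : ∀ {A : GLn} {b : Fin n → F}, b ≠ 0 → b ∈ mv A → A ≠ 1 := fun {A b} hb hbA e => by
    rw [e, mv_one, Submodule.mem_bot] at hbA
    exact hb hbA
  have hu0 : u ≠ 0 := fun e => by
    rw [e, LinLeft.zero_left ⟨CfsgLib.Unitary.herm_add_left n, CfsgLib.Unitary.herm_smul_left n⟩] at huu'
    exact zero_ne_one huu'
  have hw0 : w ≠ 0 := fun e => hwns (e ▸ Submodule.zero_mem _)
  haveI : CharP F 2 := CharTwo.of_one_ne_zero_of_two_eq_zero one_ne_zero h2
  set x := tvec u (uax q u δ) (uax_dot_self huu δ)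
  set x' := tvec w (uax q w δ) (uax_dot_self hww δ)
  have hxv : ∀ y, (x : Matrix (Fin n) (Fin n) F) *ᵥ y = y + (δ * hh y u) • u := utv_mulVec hF huu δ
  have hx'v : ∀ y, (x' : Matrix (Fin n) (Fin n) F) *ᵥ y = y + (δ * hh y w) • w := utv_mulVec hF hww δ
  have hsq : ∀ (A : GLn) (a : Fin n → F), hh a a = 0 →
      (∀ y, (A : Matrix (Fin n) (Fin n) F) *ᵥ y = y + (δ * hh y a) • a) → A * A = 1 := fun A a haa hA =>
    gl_ext_mulVec fun y => by
      rw [mul_mulVec, hA, hA, hf.add_left, hf.smul_left, haa, mul_zero, add_zero, add_assoc, ← add_smul,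
        CharTwo.add_self_eq_zero, zero_smul, add_zero, Units.val_one, Matrix.one_mulVec]
  have hmx : mv x ≤ F ∙ u := fun y hy => by
    obtain ⟨z, rfl⟩ := mem_mv.1 hy
    rw [hxv, add_sub_cancel_left]
    exact Submodule.smul_mem _ _ (Submodule.mem_span_singleton_self u)
  have hmx' : mv x' ≤ F ∙ w := fun y hy => by
    obtain ⟨z, rfl⟩ := mem_mv.1 hy
    rw [hx'v, add_sub_cancel_left]
    exact Submodule.smul_mem _ _ (Submodule.mem_span_singleton_self w)
  have hux : u ∈ mv x := mem_mv.2 ⟨δ⁻¹ • u', by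
    rw [hxv, add_sub_cancel_left, hf.smul_left, hu'u, mul_one, mul_inv_cancel₀ hδ0, one_smul]⟩
  have huy : u ∈ mv (x * x') := mem_mv.2 ⟨δ⁻¹ • u', by
    rw [mul_mulVec, hx'v, hxv, hf.smul_left, c2', mul_zero, mul_zero, zero_smul, add_zero, add_sub_cancel_left,
      hf.smul_left, hu'u, mul_one, mul_inv_cancel₀ hδ0, one_smul]⟩
  have hwy : w ∈ mv (x * x') := mem_mv.2 ⟨δ⁻¹ • w', by
    rw [mul_mulVec, hx'v, hxv, hf.smul_left, hw'w, mul_one, mul_inv_cancel₀ hδ0, one_smul, hf.add_left,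
      hf.smul_left, c1, c3, mul_zero, add_zero, mul_zero, zero_smul, add_zero, add_sub_cancel_left]⟩
  have hlt : mv x < mv (x * x') :=
    lt_of_le_of_ne (hmx.trans ((Submodule.span_singleton_le_iff_mem _ _).2 huy))
      fun e => hwns (Submodule.span_mono (by simp) (hmx (e ▸ hwy)))
  have hd := Submodule.finrank_lt_finrank_of_lt hlt
  have h1 := (Submodule.finrank_mono hmx).trans_eq (finrank_span_singleton hu0)
  have h1' := (Submodule.finrank_mono hmx').trans_eq (finrank_span_singleton hw0)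
  have h2' := (Submodule.finrank_mono (mv_mul_le x x')).trans (Submodule.finrank_add_le_finrank_add_finrank _ _)
  refine ⟨x, x * x', rat_utv_mem0 hF hS hu huu hδF hδ,
    Subgroup.mul_mem _ (rat_utv_mem0 hF hS hu huu hδF hδ) (rat_utv_mem0 hF hS hw hww hδF hδ),
    hsq x u huu hxv, ?_, hne1 hu0 hux, hne1 hw0 hwy, by omega⟩
  have hcomm : x' * x = x * x' := gl_ext_mulVec fun y => by
    simp only [mul_mulVec, hxv, hx'v, hf.add_left, hf.smul_left, c1, c1', mul_zero, add_zero]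
    abel
  rw [mul_assoc, ← mul_assoc x', hcomm, mul_assoc, hsq x' w hww hx'v, mul_one, hsq x u huu hxv]

omit hF hS in
lemma frob_mem {x : F} {q : ℕ} (hF : Nat.card F = q ^ 2) (hx : x ∈ F₀) : frobEquiv hF x ∈ F₀ := by
  rw [frobEquiv_apply]; exact pow_mem hx q

/-- In odd characteristic the generic situation contradicts Dickson's lemma. -/
theorem false_of_ugeneric_odd {r : ℕ} (hn : 6 ≤ n) (hro : Odd r) (hcard : Nat.card F = Nat.card F₀ ^ r)
    (h2 : (2 : F) ≠ 0) (hM : subfieldSubgroup F₀ P ⊓ suGL n F q ≤ M) (hMI : M ≤ suGL n F q)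
    (hg : UGeneric q F₀ P M) (hMX : ¬ M ≤ subfieldSubgroup F₀ P) : False := by
  have hf := isUnitaryForm hF (n := n)
  obtain ⟨g, hgM, hgX⟩ := SetLike.not_le_iff_exists.1 hMX
  obtain ⟨δ, hδF, hδ0, hδ⟩ := exists_skew0 hF hS
  have hδ' : frobEquiv hF δ = -δ := by rw [frobEquiv_apply]; linear_combination hδ
  obtain ⟨u, u', hu, hu', huu, hu'u', huu', hu'u, -, -⟩ := exists_rs_pair hF hS
    (Fin.elim0 : Fin 0 → (Fin n → F)) (fun j => j.elim0) (by omega)
  have hu0 : u ≠ 0 := fun e => by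
    rw [e, LinLeft.zero_left ⟨CfsgLib.Unitary.herm_add_left n, CfsgLib.Unitary.herm_smul_left n⟩] at huu'
    exact zero_ne_one huu'
  set a := (g : Matrix (Fin n) (Fin n) F) *ᵥ u with ha
  have haa : hh a a = 0 := by rw [ha, herm_mulVec (hMI hgM)]; exact huu
  have hne : ∀ v, InRS F₀ P v → hh v v = 0 → v ≠ 0 → hh a v ≠ 0 := fun v hv hvv hv0 e =>
    hgX (mem_of_ugeneric hF hS hn hMI hg hgM hu huu hu0 hv hvv hv0 e)
  have hTu : ∀ c ∈ F₀, c + c ^ q = 0 → tvec a (uax q a c) (uax_dot_self haa c) ∈ M := fun c hc hc' => by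
    have h1 := M.mul_mem (M.mul_mem hgM (hM (rat_utv_mem0 hF hS hu huu hc hc'))) (M.inv_mem hgM)
    suffices g * tvec u (uax q u c) (uax_dot_self huu c) * g⁻¹ = tvec a (uax q a c) (uax_dot_self haa c) by
      rwa [this] at h1
    refine gl_ext_mulVec fun y => ?_
    rw [mul_mulVec, mul_mulVec, utv_mulVec hF huu, utv_mulVec hF haa, Matrix.mulVec_add, Matrix.mulVec_smul,
      mulVec_inv_mulVec, ha]
    conv_rhs => rw [← mulVec_inv_mulVec g y, herm_mulVec (hMI hgM), mulVec_inv_mulVec]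
  -- the norms of the pairings lie in the subfield
  have hN : ∀ v, InRS F₀ P v → hh v v = 0 → hh a v * hh v a ∈ F₀ := by
    intro v hv hvv
    rcases eq_or_ne v 0 with rfl | hv0
    · rw [LinLeft.zero_left ⟨CfsgLib.Unitary.herm_add_left n, CfsgLib.Unitary.herm_smul_left n⟩, mul_zero]
      exact F₀.zero_mem
    by_contra hα
    have hva : hh v a = frobEquiv hF (hh a v) := hf.herm _ _
    have hav : hh a v ≠ 0 := hne v hv hvv hv0
    obtain ⟨l, hl⟩ : ∃ l, frobEquiv hF l = (hh v a)⁻¹ := (frobEquiv hF).surjective _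
    have hva0 : hh v a ≠ 0 := by rw [hva]; exact (map_ne_zero _).2 hav
    have hfix : frobEquiv hF (hh a v * hh v a) = hh a v * hh v a := by
      rw [map_mul, hva, hf.involutive, mul_comm]
    have hl' : l = (hh a v)⁻¹ := by
      have h1 := congrArg (frobEquiv hF) hl
      rwa [hf.involutive, map_inv₀, hva, hf.involutive] at h1
    have hff : hh (l • a) (l • a) = 0 := by rw [hf.smul_left, Unit.smul_right hf, haa, mul_zero, mul_zero]
    have hskew : ∀ s ∈ F₀, frobEquiv hF s = s → s * δ ∈ F₀ ∧ s * δ + (s * δ) ^ q = 0 := fun s hs hsf =>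
      ⟨F₀.mul_mem hs hδF, by rw [← frobEquiv_apply hF, map_mul, hsf, hδ']; ring⟩
    have hmem := plane_dickson hF hS hro hcard h2 (M := M) hvv hff
      (by rw [Unit.smul_right hf, hl, inv_mul_cancel₀ hva0]) hδ0 hδ (mul_ne_zero hav hva0) hfix
      (fun s hs hsf => hM (rat_utv_mem0 hF hS hv hvv (F₀.div_mem hs hδF) (by
        rw [← frobEquiv_apply hF, map_div₀, hsf, hδ', div_neg, add_neg_cancel])))
      (fun s hs hsf => by
        have h1 := hTu _ (hskew s hs hsf).1 (hskew s hs hsf).2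
        suffices tvec (l • a) (uax q (l • a) (s * (hh a v * hh v a) * δ)) (uax_dot_self hff _) =
            tvec a (uax q a (s * δ)) (uax_dot_self haa _) by rwa [this]
        refine gl_ext_mulVec fun y => ?_
        rw [utv_mulVec hF hff, utv_mulVec hF haa, Unit.smul_right hf, hl, hl', smul_smul]
        congr 2
        field_simp)
    have hsX := mem_of_ugeneric hF hS hn hMI hg hmem hv hvv hv0 hv hvv hv0 (by
      rw [utv_mulVec hF hvv, hf.add_left, hf.smul_left, hvv, mul_zero, add_zero])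
    obtain ⟨d, hd0, hd⟩ := exists_scaled_rs_of_mem hsX
    obtain ⟨p, hp, hpp, hvp, hpv, -⟩ := exists_iso_dual hF hS (Fin.elim0 : Fin 0 → (Fin n → F))
      (fun j => j.elim0) hv hvv (fun j => j.elim0) (by simpa using hv0)
    have hdF : d ∈ F₀ := by
      have h1 := herm_mem hS (hd v hv) hp
      rwa [utv_mulVec hF hvv, hvv, mul_zero, zero_smul, add_zero, hf.smul_left, hvp, mul_one] at h1
    have h1 := herm_mem hS ((hd p hp).smul (F₀.inv_mem hdF)) hp
    rw [smul_smul, inv_mul_cancel₀ hd0, one_smul, utv_mulVec hF hvv, hf.add_left, hf.smul_left, hpp, hpv, hvp,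
      zero_add, mul_one, mul_one] at h1
    refine hα ?_
    have h3 := F₀.mul_mem h1 hδF
    rwa [div_mul_cancel₀ _ hδ0] at h3
  -- orthogonal isotropic vectors have pairings in a rational ratio
  have horth : ∀ v w, InRS F₀ P v → hh v v = 0 → v ≠ 0 → InRS F₀ P w → hh w w = 0 → hh v w = 0 →
      hh a w / hh a v ∈ F₀ := by
    intro v w hv hvv hv0 hw hww hvw
    set α := hh a v
    set β := hh a w
    have hva : hh v a = frobEquiv hF α := hf.herm _ _
    have hwa : hh w a = frobEquiv hF β := hf.herm _ _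
    have hcross : ∀ l ∈ F₀, frobEquiv hF l * (β * frobEquiv hF α) + l * (α * frobEquiv hF β) ∈ F₀ := by
      intro l hl
      have h1 := hN (v + l • w) (hv.add (hw.smul hl)) (by
        simp only [hf.add_left, Unit.add_right hf, hf.smul_left, Unit.smul_right hf, hvv, hww, hvw, hf.herm w v,
          map_zero, mul_zero, add_zero])
      rw [Unit.add_right hf, Unit.smul_right hf, hf.add_left, hf.smul_left, hva, hwa] at h1
      have e1 := hN v hv hvv
      have e2 := F₀.mul_mem (F₀.mul_mem hl (frob_mem hF hl)) (hN w hw hww)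
      rw [hva] at e1
      rw [hwa] at e2
      have e3 := F₀.sub_mem (F₀.sub_mem h1 e1) e2
      convert e3 using 1
      simp only [α, β]
      ring
    have p1 := hcross 1 F₀.one_mem
    rw [map_one, one_mul, one_mul] at p1
    have p2 := F₀.div_mem (hcross δ hδF) hδF
    rw [hδ', show (-δ * (β * frobEquiv hF α) + δ * (α * frobEquiv hF β)) / δ =
      α * frobEquiv hF β - β * frobEquiv hF α by field_simp; ring] at p2
    have p3 := F₀.div_mem (F₀.sub_mem p1 p2) (show (2 : F) ∈ F₀ from by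
      rw [show (2 : F) = 1 + 1 by norm_num]; exact F₀.add_mem F₀.one_mem F₀.one_mem)
    rw [show (β * frobEquiv hF α + α * frobEquiv hF β - (α * frobEquiv hF β - β * frobEquiv hF α)) / 2 =
      β * frobEquiv hF α by field_simp; ring] at p3
    have p4 := F₀.div_mem p3 (hva ▸ hN v hv hvv)
    have hσα : frobEquiv hF α ≠ 0 := (map_ne_zero _).2 (hne v hv hvv hv0)
    rwa [mul_comm β, mul_comm α, mul_div_mul_left _ _ hσα] at p4
  have hzero : ∀ (z z' : Fin n → F), hh z z' = 1 → z ≠ 0 := fun z z' h e => by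
    rw [e, LinLeft.zero_left ⟨CfsgLib.Unitary.herm_add_left n, CfsgLib.Unitary.herm_smul_left n⟩] at h
    exact zero_ne_one h
  have hiso : ∀ w, InRS F₀ P w → hh w w = 0 → hh a w / hh a u ∈ F₀ := by
    intro w hw hww
    obtain ⟨z, z', hz, -, hzz, -, hzz', -, hzu, -⟩ := exists_rs_pair hF hS ![u, w]
      (Fin.forall_fin_two.2 ⟨hu, hw⟩) (by omega)
    have hz0 := hzero z z' hzz'
    have h1 := horth u z hu huu hu0 hz hzz (by rw [hf.herm, show hh z u = 0 by simpa using hzu 0, map_zero])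
    have h3 := horth z w hz hzz hz0 hw hww (by simpa using hzu 1)
    have h4 := F₀.mul_mem h3 h1
    rwa [div_mul_div_cancel₀ (hne z hz hzz hz0)] at h4
  have hrat : InRS F₀ P ((hh a u)⁻¹ • a) := inRS_of_pairing hF hS fun e he => by
    rw [hf.smul_left, ← div_eq_inv_mul]
    exact rs_induction hF hS (Fin.elim0 : Fin 0 → (Fin n → F)) (fun j => j.elim0) (by omega)
      (p := fun e => hh a e / hh a u ∈ F₀)
      (fun x y _ _ hx hy => by rw [Unit.add_right hf, add_div]; exact F₀.add_mem hx hy)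
      (fun w hw hww _ => hiso w hw hww) he (fun j => j.elim0)
  have hau := hne u hu huu hu0
  refine hne _ hrat (by rw [hf.smul_left, Unit.smul_right hf, haa, mul_zero, mul_zero]) (fun e => ?_)
    (by rw [Unit.smul_right hf, haa, mul_zero])
  rcases smul_eq_zero.1 e with h | h
  · exact inv_ne_zero hau h
  · exact hau (by rw [h, LinLeft.zero_left ⟨CfsgLib.Unitary.herm_add_left n, CfsgLib.Unitary.herm_smul_left n⟩])

theorem unitSub_key {r : ℕ} (hn : 6 ≤ n) (hr : r.Prime) (hro : Odd r) (hcard : Nat.card F = Nat.card F₀ ^ r)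
    (hM : subfieldSubgroup F₀ P ⊓ suGL n F q ≤ M) (hMI : M ≤ suGL n F q)
    (hMX : ¬ M ≤ subfieldSubgroup F₀ P) : suGL n F q ≤ M := by
  by_cases hg : UGeneric q F₀ P M
  · by_cases h2 : (2 : F) = 0
    · obtain ⟨x, y0, a1, a2, a3, a4, a5, a6, a7⟩ := exists_uinvolutions hF hS hn h2
      exact (false_of_ugeneric hF hS hn hr hro hcard hM hMI hg hMX a1 a2 a3 a4 a5 a6 h2 a7).elim
    · exact (false_of_ugeneric_odd hF hS hn hro hcard h2 hM hMI hg hMX).elim
  simp only [UGeneric, not_forall] at hg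
  obtain ⟨g, hgM, u, v, hu, huu, -, hv, hvv, hv0, huv, hpt⟩ := hg
  refine suGL_le_of_centre hF hS hn hr hcard hM hMI hpt (by rw [herm_mulVec (hMI hgM)]; exact huu)
    (fun c hc0 hc => ?_) hv hvv hv0 huv
  have h1 := M.mul_mem (M.mul_mem hgM (hM (rat_utv_mem0 hF hS hu huu hc0 hc))) (M.inv_mem hgM)
  have h2 : g * tvec u (uax q u c) (uax_dot_self huu c) * g⁻¹ =
      tvec ((g : Matrix (Fin n) (Fin n) F) *ᵥ u) (uax q ((g : Matrix (Fin n) (Fin n) F) *ᵥ u) c)
        (uax_dot_self (by rw [herm_mulVec (hMI hgM)]; exact huu) c) := by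
    refine gl_ext_mulVec fun y => ?_
    rw [mul_mulVec, mul_mulVec, utv_mulVec hF huu,
      utv_mulVec hF (show hh ((g : Matrix (Fin n) (Fin n) F) *ᵥ u) ((g : Matrix (Fin n) (Fin n) F) *ᵥ u) = 0 by
        rw [herm_mulVec (hMI hgM)]; exact huu),
      Matrix.mulVec_add, Matrix.mulVec_smul, mulVec_inv_mulVec]
    conv_rhs => rw [← mulVec_inv_mulVec g y, herm_mulVec (hMI hgM), mulVec_inv_mulVec]
  rwa [h2] at h1

theorem unitSub_proper {r : ℕ} (hn : 6 ≤ n) (hr : r.Prime) (hcard : Nat.card F = Nat.card F₀ ^ r) :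
    ¬ suGL n F q ≤ subfieldSubgroup F₀ P := by
  have hf := isUnitaryForm hF (n := n)
  intro hle
  obtain ⟨v, v', hv, hv', hvv, hv'v', hvv', hv'v, -, -⟩ := exists_rs_pair hF hS
    (Fin.elim0 : Fin 0 → (Fin n → F)) (fun j => j.elim0) (by omega)
  obtain ⟨z, z', hz, hz', hzz, -, hzz', -, hzu, hz'u⟩ := exists_rs_pair hF hS ![v, v']
    (Fin.forall_fin_two.2 ⟨hv, hv'⟩) (by omega)
  have hzv : hh z v = 0 := by simpa using hzu 0
  have hzv' : hh z v' = 0 := by simpa using hzu 1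
  have hz'v : hh z' v = 0 := by simpa using hz'u 0
  obtain ⟨μ, hμ⟩ : ∃ μ : F, μ ∉ F₀ := by
    by_contra hc
    push Not at hc
    have h1 := Nat.card_le_card_of_injective (fun x : F => (⟨x, hc x⟩ : F₀))
      fun a b e => congrArg Subtype.val e
    rw [hcard] at h1
    exact lt_irrefl _ (lt_of_lt_of_le (lt_self_pow₀ (Finite.one_lt_card (α := F₀)) hr.one_lt) h1)
  obtain ⟨A, hA, hAe⟩ := exists_eich hF hvv (x := μ • z) (by rw [hf.smul_left, hzv, mul_zero]) (s := 0)
    (by rw [hf.smul_left, Unit.smul_right hf, hzz, ← frobEquiv_apply hF, map_zero]; ring)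
  obtain ⟨d, hd0, hd⟩ := exists_scaled_rs_of_mem (hle hA)
  have e1 : (A : Matrix (Fin n) (Fin n) F) *ᵥ v = v := by
    rw [hAe v, hvv, Unit.smul_right hf, hf.herm v z, hzv, map_zero]
    module
  have hd' : d ∈ F₀ := by
    have h1 := herm_mem hS (hd v hv) hv'
    rwa [e1, hf.smul_left, hvv', mul_one] at h1
  have h1 := herm_mem hS ((hd v' hv').smul (F₀.inv_mem hd')) hz'
  rw [smul_smul, inv_mul_cancel₀ hd0, one_smul, hAe v', hv'v, hf.add_left, hf.add_left, hf.smul_left, hf.smul_left,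
    hf.smul_left, hzz', hf.herm v z', hz'v, map_zero] at h1
  have h2 := F₀.sub_mem h1 (herm_mem hS hv' hz')
  refine hμ ?_
  ring_nf at h2
  exact h2

omit hS in
/-- A subfield of odd index is moved by the Frobenius involution. -/
theorem moves_of_odd {r : ℕ} (hr : r.Prime) (hro : Odd r) (hcard : Nat.card F = Nat.card F₀ ^ r) :
    ∃ x ∈ F₀, x ^ q ≠ x := by
  have hu := isUnitaryForm hF (n := 1)
  by_contra hc
  push Not at hc
  let K : Set F := {x | frobEquiv hF x = x}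
  have hKF : ∀ x, x ∈ K → x ∈ F₀ := by
    intro x hx
    by_contra hx'
    have hall := SpTv.eq_univ_of_subring hr hcard (S := K)
      (fun y hy => by change frobEquiv hF y = y; rw [frobEquiv_apply hF]; exact hc y hy)
      (fun a ha b hb => by change frobEquiv hF (a + b) = a + b; rw [map_add, ha, hb])
      (fun a ha b hb => by change frobEquiv hF (a * b) = a * b; rw [map_mul, ha, hb]) hx hx'
    exact hu.ne_refl (RingEquiv.ext fun y => hall y)
  obtain ⟨t, ht⟩ := Unit.exists_trace_one hu.ne_refl hu.involutive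
  obtain ⟨δ, hδ0, hδ⟩ := Unit.exists_skew hu.ne_refl hu.involutive
  have h1 : ∀ x : F, x + frobEquiv hF x ∈ F₀ := fun x => hKF _ (by
    change frobEquiv hF (x + frobEquiv hF x) = _
    rw [map_add, hu.involutive, add_comm])
  have h2 : ∀ x : F, (x - (x + frobEquiv hF x) * t) / δ ∈ F₀ := fun x => hKF _ (by
    change frobEquiv hF _ = _
    rw [map_div₀, hδ, div_neg, ← neg_div, map_sub, map_mul, map_add, hu.involutive]
    congr 1
    linear_combination (x + frobEquiv hF x) * ht)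
  have hinj := Nat.card_le_card_of_injective
    (fun x : F => ((⟨_, h1 x⟩, ⟨_, h2 x⟩) : F₀ × F₀)) (fun x y e => by
      have e1 : x + frobEquiv hF x = y + frobEquiv hF y := congrArg (fun p => ((p.1 : F₀) : F)) e
      have e2 : (x - (x + frobEquiv hF x) * t) / δ = (y - (y + frobEquiv hF y) * t) / δ :=
        congrArg (fun p => ((p.2 : F₀) : F)) e
      rw [e1, div_left_inj' hδ0] at e2
      linear_combination e2)
  rw [Nat.card_prod, hcard, ← pow_two] at hinj
  have := Nat.pow_le_pow_iff_right (Finite.one_lt_card (α := F₀)) |>.1 hinj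
  have := hr.two_le
  obtain ⟨k, hk⟩ := hro
  omega

end CfsgLib.Geo.UTv
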