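import Cfsg.Agent.Geo.ClassSplit
import Cfsg.Agent.Geo.GUUnipotent
import Cfsg.Agent.GLElem.RegularCentralizer
import Cfsg.Agent.Unitary.Special

/-!
Regular unipotent classes of `SU n`.
-/

set_option autoImplicit false
set_option linter.style.haveILetI false

namespace CfsgLib.Geo.SURegUnip

open Matrix CfsgLib.Forms CfsgLib.Unitary

section Linear

variable {F : Type*} [Field F] {m : ℕ}

/-- Regular unipotent matrices. -/
def IsReg (A : Matrix (Fin (m + 1)) (Fin (m + 1)) F) : Prop :=
  (A - 1) ^ (m + 1) = 0 ∧ (A - 1).rank = m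

theorem reg_data {A : Matrix (Fin (m + 1)) (Fin (m + 1)) F} (hA : IsReg A) :
    IsNilpotent (Matrix.toLinAlgEquiv' (A - 1)) ∧
      Module.finrank F (LinearMap.ker (Matrix.toLinAlgEquiv' (A - 1))) ≤ 1 := by
  refine ⟨⟨m + 1, by rw [← map_pow, hA.1, map_zero]⟩, ?_⟩
  have h := (Matrix.toLinAlgEquiv' (A - 1)).finrank_range_add_finrank_ker
  rw [Module.finrank_fin_fun] at h
  have hr : Module.finrank F (LinearMap.range (Matrix.toLinAlgEquiv' (A - 1))) = m := hA.2
  omega

theorem IsReg.conj {A : Matrix (Fin (m + 1)) (Fin (m + 1)) F} (hA : IsReg A)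
    (g : GL (Fin (m + 1)) F) : IsReg ((g : Matrix (Fin (m + 1)) (Fin (m + 1)) F) * A *
      ((g⁻¹ : GL (Fin (m + 1)) F) : Matrix (Fin (m + 1)) (Fin (m + 1)) F)) := by
  have e : (g : Matrix (Fin (m + 1)) (Fin (m + 1)) F) * A *
      ((g⁻¹ : GL (Fin (m + 1)) F) : Matrix (Fin (m + 1)) (Fin (m + 1)) F) - 1 =
      (g : Matrix (Fin (m + 1)) (Fin (m + 1)) F) * (A - 1) *
        ((g⁻¹ : GL (Fin (m + 1)) F) : Matrix (Fin (m + 1)) (Fin (m + 1)) F) := by
    rw [mul_sub, sub_mul, mul_one, Units.mul_inv]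
  refine ⟨?_, ?_⟩
  · rw [e, Units.conj_pow, hA.1, mul_zero, zero_mul]
  · rw [e, Matrix.rank_mul_eq_left_of_isUnit_det _ _
      ((Matrix.isUnit_iff_isUnit_det _).mp (Units.isUnit g⁻¹)),
      Matrix.rank_mul_eq_right_of_isUnit_det _ _ ((Matrix.isUnit_iff_isUnit_det _).mp g.isUnit)]
    exact hA.2

theorem isConj_GL {g h : GL (Fin (m + 1)) F} (hg : IsReg (g : Matrix (Fin (m + 1)) (Fin (m + 1)) F))
    (hh : IsReg (h : Matrix (Fin (m + 1)) (Fin (m + 1)) F)) : IsConj g h := by
  obtain ⟨hN, hK⟩ := reg_data hg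
  obtain ⟨hN', hK'⟩ := reg_data hh
  obtain ⟨e, he⟩ := CfsgLib.GLElem.exists_conj_regular (Module.finrank_fin_fun F) hN hK hN' hK'
  refine isConj_iff.2 ⟨glOfEquiv e, mul_inv_eq_iff_eq_mul.2 (Units.ext ?_)⟩
  refine Matrix.toLin'.injective (LinearMap.ext fun x => ?_)
  have := he x
  rw [Matrix.toLinAlgEquiv'_apply, Matrix.toLinAlgEquiv'_apply, sub_mulVec, sub_mulVec, map_sub,
    one_mulVec, one_mulVec, sub_left_inj] at this
  rw [Units.val_mul, Units.val_mul, Matrix.toLin'_apply, Matrix.toLin'_apply, ← mulVec_mulVec,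
    ← mulVec_mulVec, glOfEquiv_mulVec, glOfEquiv_mulVec]
  exact this

theorem exists_residue {A g : Matrix (Fin (m + 1)) (Fin (m + 1)) F} (hA : IsReg A)
    (hg : Commute g A) : ∃ c : F, IsNilpotent (g - c • 1) := by
  obtain ⟨hN, hK⟩ := reg_data hA
  set N : Module.End F (Fin (m + 1) → F) := Matrix.toLinAlgEquiv' (A - 1)
  have hgN : Commute (Matrix.toLinAlgEquiv' g) N :=
    (hg.sub_right (Commute.one_right _)).map _
  obtain ⟨v, hv⟩ := CfsgLib.GLElem.pow_ne_zero_of_regular (Module.finrank_fin_fun F) hK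
  have hsp := CfsgLib.GLElem.span_powers_eq_top (Module.finrank_fin_fun F) hN hK hv
  obtain ⟨c, y, hcy⟩ : ∃ (c : F) (y : Fin (m + 1) → F), Matrix.toLinAlgEquiv' g v = c • v + N y := by
    have hw : Matrix.toLinAlgEquiv' g v ∈ Submodule.span F (Set.range fun k : ℕ => (N ^ k) v) :=
      hsp ▸ Submodule.mem_top
    generalize Matrix.toLinAlgEquiv' g v = w at hw ⊢
    induction hw using Submodule.span_induction with
    | mem x hx =>
      obtain ⟨k, rfl⟩ := hx
      rcases k with _ | k
      · exact ⟨1, 0, by simp⟩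
      · exact ⟨0, (N ^ k) v, by simp [pow_succ']⟩
    | zero => exact ⟨0, 0, by simp⟩
    | add x y _ _ hx hy =>
      obtain ⟨a, p, rfl⟩ := hx
      obtain ⟨b, q, rfl⟩ := hy
      exact ⟨a + b, p + q, by rw [map_add, add_smul]; abel⟩
    | smul r x _ hx =>
      obtain ⟨a, p, rfl⟩ := hx
      exact ⟨r * a, r • p, by rw [map_smul, smul_add, smul_smul]⟩
  obtain ⟨d, hd, hdv⟩ := CfsgLib.GLElem.exists_commute_map hsp y
  have heq : Matrix.toLinAlgEquiv' g = c • (1 : Module.End F _) + N * d :=
    CfsgLib.GLElem.commute_ext hsp hgN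
      (((Commute.one_left N).smul_left c).add_left ((Commute.refl N).mul_left hd)) (by simp [hcy, hdv])
  obtain ⟨k, hk⟩ := Commute.isNilpotent_mul_right (x := N) hd.symm hN
  refine ⟨c, k, (Matrix.toLinAlgEquiv' (R := F) (n := Fin (m + 1))).injective ?_⟩
  rw [map_pow, map_sub, map_smul, map_one, heq, add_sub_cancel_left, hk, map_zero]

theorem det_residue {g : Matrix (Fin (m + 1)) (Fin (m + 1)) F} {c : F}
    (hn : IsNilpotent (g - c • 1)) : g.det = c ^ (m + 1) := by
  have h1 := (Matrix.isNilpotent_charpoly_sub_pow_of_isNilpotent hn.neg).eq_zero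
  rw [sub_eq_zero, Fintype.card_fin] at h1
  have h2 := Matrix.eval_charpoly (-(g - c • 1)) c
  rw [h1, Polynomial.eval_pow, Polynomial.eval_X] at h2
  rw [h2]
  congr 1
  rw [sub_neg_eq_add, Matrix.scalar_apply, ← Matrix.smul_one_eq_diagonal]
  abel

end Linear

variable {K : Type*} [Field K] [Finite K] {q m : ℕ} (hK : Nat.card K = q ^ 2)
include hK

theorem card_classes :
    Nat.card {C : ConjClasses (Cfsg.SU (m + 1) K q) // ∃ u : Cfsg.SU (m + 1) K q, ConjClasses.mk u = C ∧
      IsReg (((u : GL (Fin (m + 1)) K) : Matrix (Fin (m + 1)) (Fin (m + 1)) K))} =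
      Nat.gcd (m + 1) (q + 1) := by
  classical
  obtain ⟨p, k, hp, hpp, hq⟩ := exists_charP_pow hK
  haveI := hp
  haveI := Fact.mk hpp
  -- a regular unipotent element of GU
  obtain ⟨A, hA, hpart⟩ := CfsgLib.GLClass.exists_unipotent (F := K) (Nat.Partition.indiscrete (m + 1))
  have hAreg : IsReg (A : Matrix (Fin (m + 1)) (Fin (m + 1)) K) := by
    refine ⟨hA, Nat.pow_right_injective (Finite.one_lt_card (α := K)) ?_⟩
    show Nat.card K ^ _ = Nat.card K ^ m
    have h := GUUnipotent.card_range_pow hA 1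
    rw [hpart, Nat.Partition.indiscrete_parts (by omega), Multiset.map_singleton,
      Multiset.sum_singleton, Nat.add_sub_cancel, pow_one] at h
    rw [← h]
    exact (Module.natCard_eq_pow_finrank (K := K)
      (V := LinearMap.range ((A : Matrix (Fin (m + 1)) (Fin (m + 1)) K) - 1).mulVecLin)).symm
  obtain ⟨g₀, hg₀⟩ := GUUnipotent.exists_GU_conj hK A hA
  have hg₀reg : IsReg ((g₀ : GL (Fin (m + 1)) K) : Matrix (Fin (m + 1)) (Fin (m + 1)) K) := by
    obtain ⟨c, hc⟩ := isConj_iff.1 hg₀
    rw [← hc, Units.val_mul, Units.val_mul]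
    exact hAreg.conj c
  let δ := detGU (F := K) (q := q) (m + 1)
  let ι : Cfsg.SU (m + 1) K q →* Cfsg.GU (m + 1) K q :=
    δ.ker.subtype.comp (suEquiv (F := K) (q := q) (m + 1)).toMonoidHom
  have hιinj : Function.Injective ι :=
    Subtype.val_injective.comp (suEquiv (F := K) (q := q) (m + 1)).injective
  have hιr : ι.range = δ.ker := by
    rw [MonoidHom.range_comp, MonoidHom.range_eq_top.2 (suEquiv (F := K) (q := q) (m + 1)).surjective,
      ← MonoidHom.range_eq_map, Subgroup.range_subtype]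
  have hιval : ∀ u : Cfsg.SU (m + 1) K q, ((ι u : GL (Fin (m + 1)) K) : Matrix (Fin (m + 1)) (Fin (m + 1)) K) =
      ((u : GL (Fin (m + 1)) K) : Matrix (Fin (m + 1)) (Fin (m + 1)) K) := fun u => rfl
  have h₀ : δ g₀ = 1 := by
    refine Units.ext ?_
    show ((g₀ : GL (Fin (m + 1)) K) : Matrix (Fin (m + 1)) (Fin (m + 1)) K).det = 1
    rw [det_residue (c := 1) (by rw [one_smul]; exact ⟨m + 1, hg₀reg.1⟩), one_pow]
  have hiff : ∀ u : Cfsg.SU (m + 1) K q, IsReg ((u : GL (Fin (m + 1)) K) : Matrix (Fin (m + 1)) (Fin (m + 1)) K) ↔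
      IsConj g₀ (ι u) := fun u => by
    rw [isConj_iff_GL hK, ← hιval]
    refine ⟨fun h => isConj_GL hg₀reg h, fun h => ?_⟩
    obtain ⟨c, hc⟩ := isConj_iff.1 h
    rw [← hc, Units.val_mul, Units.val_mul]
    exact hg₀reg.conj c
  rw [Nat.card_congr (Equiv.subtypeEquivRight fun C => exists_congr fun u => and_congr_right fun _ => hiff u),
    ClassSplit.card_split δ ι hιinj hιr g₀ h₀]
  -- the determinants of the centraliser
  have hrange : δ.range = (powMonoidHom (q + 1) : Kˣ →* Kˣ).ker := range_detGU hK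
  have hP : ((Subgroup.centralizer ({g₀} : Set (Cfsg.GU (m + 1) K q))).map δ).subgroupOf δ.range =
      (powMonoidHom (m + 1) : δ.range →* δ.range).range := by
    ext a
    rw [Subgroup.mem_subgroupOf]
    constructor
    · rintro ⟨x, hx, hxa⟩
      rw [SetLike.mem_coe, Subgroup.mem_centralizer_singleton_iff] at hx
      set X := ((x : GL (Fin (m + 1)) K) : Matrix (Fin (m + 1)) (Fin (m + 1)) K) with hX
      have hcomm : Commute X ((g₀ : GL (Fin (m + 1)) K) : Matrix (Fin (m + 1)) (Fin (m + 1)) K) :=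
        congrArg (fun z : Cfsg.GU (m + 1) K q =>
          ((z : GL (Fin (m + 1)) K) : Matrix (Fin (m + 1)) (Fin (m + 1)) K)) hx
      obtain ⟨c, hc⟩ := exists_residue hg₀reg hcomm
      have hu := (mem_GU_iff_adj hK).1 x.2
      have hc1 : (frobQ hK c) * c = 1 := by
        set σ := frobQ hK
        have hadj : IsNilpotent (adj σ X - σ c • 1) := by
          obtain ⟨j, hj⟩ := hc
          refine ⟨j, ?_⟩
          have e : adj σ X - σ c • 1 = adj σ (X - c • 1) := by
            have := adj_add σ (X - c • 1) (c • 1)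
            rw [sub_add_cancel, adj_smul, adj_one] at this
            exact sub_eq_of_eq_add this
          have hpow : ∀ i, adj σ ((X - c • 1) ^ i) = adj σ (X - c • 1) ^ i := fun i => by
            induction i with
            | zero => simp [adj_one]
            | succ i ih => rw [pow_succ, adj_mul, ih, ← pow_succ']
          rw [e, ← hpow, hj]
          ext a b; simp [adj]
        have hXa : Commute (adj σ X) X := hu.trans (mul_eq_one_comm.1 hu).symm
        have hc2 : IsNilpotent ((1 - σ c * c) • (1 : Matrix (Fin (m + 1)) (Fin (m + 1)) K)) := by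
          have e : (1 - σ c * c) • (1 : Matrix (Fin (m + 1)) (Fin (m + 1)) K) =
              (adj σ X - σ c • 1) * X + σ c • (X - c • 1) := by
            rw [sub_mul, hu, smul_mul_assoc, one_mul, smul_sub, smul_smul, sub_smul, one_smul]
            abel
          have hc0 : Commute (adj σ X - σ c • 1) X := hXa.sub_left ((Commute.one_left X).smul_left _)
          rw [e]
          refine Commute.isNilpotent_add ?_ (Commute.isNilpotent_mul_right hc0 hadj) (hc.smul _)
          exact ((hc0.sub_right ((Commute.one_right _).smul_right c)).mul_left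
            ((Commute.refl X).sub_right ((Commute.one_right X).smul_right c))).smul_right _
        obtain ⟨j, hj⟩ := hc2
        rw [smul_pow, one_pow] at hj
        have hj' := congrFun (congrFun hj 0) 0
        simp only [Matrix.smul_apply, Matrix.one_apply_eq, smul_eq_mul, mul_one, Matrix.zero_apply] at hj'
        exact (sub_eq_zero.1 (eq_zero_of_pow_eq_zero hj')).symm
      let cu : Kˣ := Units.mkOfMulEqOne c (frobQ hK c) (by rw [mul_comm]; exact hc1)
      have hcu : cu ∈ δ.range := by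
        rw [hrange, MonoidHom.mem_ker, powMonoidHom_apply]
        refine Units.ext ?_
        rw [Units.val_pow_eq_pow_val, Units.val_one, pow_succ]
        exact hc1
      refine ⟨⟨cu, hcu⟩, Subtype.ext ?_⟩
      rw [← hxa]
      refine Units.ext ?_
      show c ^ (m + 1) = X.det
      exact (det_residue hc).symm
    · rintro ⟨⟨b, hb⟩, rfl⟩
      have hb' : b ^ (q + 1) = 1 := by rw [hrange] at hb; exact hb
      let S : GL (Fin (m + 1)) K := Units.map (Matrix.scalar (Fin (m + 1))).toMonoidHom b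
      have hS : S ∈ Cfsg.GU (m + 1) K q := by
        rw [mem_GU_iff_adj hK]
        show adj (frobQ hK) (Matrix.scalar (Fin (m + 1)) (b : K)) * Matrix.scalar (Fin (m + 1)) (b : K) = 1
        rw [adj, Matrix.scalar_apply, Matrix.diagonal_map (map_zero _), Matrix.diagonal_transpose,
          Matrix.diagonal_mul_diagonal, ← Matrix.diagonal_one]
        congr 1
        funext i
        rw [frobQ_apply, ← pow_succ, ← Units.val_pow_eq_pow_val, hb', Units.val_one]
      refine ⟨⟨S, hS⟩, ?_, Units.ext ?_⟩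
      · rw [SetLike.mem_coe, Subgroup.mem_centralizer_singleton_iff]
        exact Subtype.ext (Units.ext ((Matrix.scalar_commute _ (Commute.all _) _).eq))
      · show (Matrix.scalar (Fin (m + 1)) (b : K)).det = ((b ^ (m + 1) : Kˣ) : K)
        simp [Matrix.det_diagonal]
  rw [Subgroup.relIndex, hP, IsCyclic.index_powMonoidHom_range, hrange, IsCyclic.card_powMonoidHom_ker,
    card_units_eq hK, Nat.gcd_mul_right_left, Nat.gcd_comm]

end CfsgLib.Geo.SURegUnip
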