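import Cfsg.Agent.Geo.SUThreeConjRadical
import Cfsg.Agent.Unitary.Special

/-!
Three conjugates of a regular unipotent element in dimension three.
-/

set_option autoImplicit false
set_option linter.unusedSectionVars false

namespace CfsgLib.Geo.SUThreeConj

open Matrix Cfsg Cfsg.Geo CfsgLib.Geo CfsgLib.Geo.UTv

variable {n q : ℕ} {F : Type*} [Field F] [Finite F] (hF : Nat.card F = q ^ 2)

local notation "hh" => Cfsg.hermForm n F q
local notation "mat" => fun (g : GL (Fin n) F) => (g : Matrix (Fin n) (Fin n) F)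

include hF

/-- A unitary map with a prescribed determinant fixing the orthogonal of a unit vector. -/
theorem exists_det_fix (hn : 1 ≤ n) {z : Fin n → F} (hz : hh z z = 1) (α : Fˣ) (hα : α ^ (q + 1) = 1) :
    ∃ D ∈ Cfsg.GU n F q, Matrix.GeneralLinearGroup.det D = α ∧ ∀ w, hh w z = 0 → mat D *ᵥ w = w := by
  classical
  obtain ⟨n, rfl⟩ : ∃ k, n = k + 1 := ⟨n - 1, by omega⟩
  have hf := isUnitaryForm hF (n := n + 1)
  have h00 : Cfsg.hermForm (n + 1) F q (Pi.single 0 1) (Pi.single 0 1) = 1 := by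
    rw [herm_single hF, if_pos rfl, one_pow, mul_one]
  obtain ⟨h0, h0z⟩ := CfsgLib.Unitary.exists_GU_family hF (fun _ : Fin 1 => Pi.single 0 1) (fun _ => z)
    (linearIndependent_unique_iff.mpr (fun e => one_ne_zero (α := F) (by simpa using congrFun e (0 : Fin (n + 1)))))
    (linearIndependent_unique_iff.mpr (fun e => one_ne_zero (α := F) (by
      rw [← hz, show z = 0 from e]; exact (Unit.linLeft hf).zero_left _)))
    (fun _ _ => by rw [h00, hz])
  refine ⟨h0.1 * (CfsgLib.Unitary.diagFirst α hα).1 * h0.1⁻¹,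
    Subgroup.mul_mem _ (Subgroup.mul_mem _ h0.2 (CfsgLib.Unitary.diagFirst α hα).2) (Subgroup.inv_mem _ h0.2),
    by rw [map_mul, map_mul, map_inv, mul_comm, inv_mul_cancel_left, CfsgLib.Unitary.det_diagFirst], fun w hw => ?_⟩
  simp only [mul_mulVec]
  set x := ((h0.1⁻¹ : GL (Fin (n + 1)) F) : Matrix (Fin (n + 1)) (Fin (n + 1)) F) *ᵥ w with hx
  have hx0 : x 0 = 0 := by
    rw [← hw, ← h0z 0, show w = (h0.1 : Matrix (Fin (n + 1)) (Fin (n + 1)) F) *ᵥ x by
      rw [hx, mulVec_inv_mulVec], CfsgLib.Unitary.mem_GU_iff.1 h0.2]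
    simp [Cfsg.hermForm, Pi.single_apply, Finset.sum_eq_single (0 : Fin (n + 1)), q_ne_zero hF]
  have hfix : (((CfsgLib.Unitary.diagFirst (n := n) α hα).1 : GL (Fin (n + 1)) F) : Matrix (Fin (n + 1)) (Fin (n + 1)) F) *ᵥ x = x := by
    funext i
    simp only [CfsgLib.Unitary.diagFirst, Matrix.mulVec_diagonal]
    induction i using Fin.cases with
    | zero => rw [hx0, mul_zero]
    | succ i => simp
  rw [hfix, hx, mulVec_inv_mulVec]

theorem mem_suGL_of_det {g : GL (Fin n) F} (hg : g ∈ Cfsg.GU n F q)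
    (hd : Matrix.GeneralLinearGroup.det g = 1) : g ∈ suGL n F q := by
  refine ⟨hg, ?_⟩
  exact mem_specialLinear.2 (by
    rw [← Matrix.GeneralLinearGroup.val_det_apply, hd, Units.val_one])

variable (fr : Frame n F q 1)
include fr

/-- Two pairs of isotropic vectors with equal products are related inside the special unitary group. -/
theorem exists_su_pair {w w' p r : Fin n → F} (hw : hh w w = 0) (hw' : hh w' w' = 0) (hp : hh p p = 0)
    (hr : hh r r = 0) (he : hh w' w = hh r p) (h0 : hh r p ≠ 0) :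
    ∃ k ∈ suGL n F q, mat k *ᵥ w = p ∧ mat k *ᵥ w' = r := by
  have hf := isUnitaryForm hF (n := n)
  set x := hh r p with hx
  have hli : ∀ {a b : Fin n → F}, hh a a = 0 → hh b a ≠ 0 → LinearIndependent F ![a, b] := by
    intro a b ha hb
    rw [LinearIndependent.pair_iff]
    intro s t hst
    have h1 := congrArg (fun y => hh y a) hst
    simp only [hf.add_left, hf.smul_left, ha, mul_zero, zero_add, (Unit.linLeft hf).zero_left] at h1
    have ht : t = 0 := (mul_eq_zero.1 h1).resolve_right hb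
    rw [ht, zero_smul, add_zero] at hst
    exact ⟨(smul_eq_zero.1 hst).resolve_right fun e => hb (by rw [e, Unit.zero_right hf]), ht⟩
  have hgram : ∀ {a b : Fin n → F}, hh a a = 0 → hh b b = 0 → hh b a = x →
      ∀ i j : Fin 2, hh (![fr.E 0, x • fr.Fv 0] i) (![fr.E 0, x • fr.Fv 0] j) = hh (![a, b] i) (![a, b] j) := by
    intro a b ha hb hba i j
    fin_cases i <;> fin_cases j
    · simp [fr.EE, ha]
    · simp [Unit.smul_right hf, fr.EF, hf.herm a b, hba]
    · simp [hf.smul_left, fr.FE, hba]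
    · simp [Unit.smul_right hf, hf.smul_left, fr.FF, hb]
  have hfr : LinearIndependent F ![fr.E 0, x • fr.Fv 0] := hli (fr.EE 0 0) (by
    rw [hf.smul_left, fr.FE, if_pos ⟨rfl, by omega⟩, mul_one]; exact h0)
  obtain ⟨g1, hg1⟩ := CfsgLib.Unitary.exists_GU_family hF ![fr.E 0, x • fr.Fv 0] ![w, w'] hfr
    (hli hw (by rw [he]; exact h0)) (hgram hw hw' he)
  obtain ⟨g2, hg2⟩ := CfsgLib.Unitary.exists_GU_family hF ![fr.E 0, x • fr.Fv 0] ![p, r] hfr
    (hli hp h0) (hgram hp hr rfl)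
  have hdet : (Matrix.GeneralLinearGroup.det g1.1 / Matrix.GeneralLinearGroup.det g2.1) ^ (q + 1) = 1 := by
    rw [div_pow, CfsgLib.Unitary.det_GU hF g1.2, CfsgLib.Unitary.det_GU hF g2.2, div_one]
  obtain ⟨D, hD, hDd, hDfix⟩ := exists_det_fix hF (by have := fr.dim; omega) fr.zz _ hdet
  have hinv : ∀ i, ((g1.1⁻¹ : GL (Fin n) F) : Matrix (Fin n) (Fin n) F) *ᵥ (![w, w'] i) =
      ![fr.E 0, x • fr.Fv 0] i := fun i => by rw [← hg1 i, inv_mulVec_mulVec]
  refine ⟨g2.1 * D * g1.1⁻¹, mem_suGL_of_det hF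
    (Subgroup.mul_mem _ (Subgroup.mul_mem _ g2.2 hD) (Subgroup.inv_mem _ g1.2)) ?_, ?_, ?_⟩
  · rw [map_mul, map_mul, map_inv, hDd, mul_div_cancel, mul_inv_cancel]
  · have h := hinv 0
    have h' := hg2 0
    simp only [Matrix.cons_val_zero] at h h'
    simp only [mul_mulVec, h, hDfix _ (fr.Ez 0), h']
  · have h := hinv 1
    have h' := hg2 1
    simp only [Matrix.cons_val_one, Matrix.cons_val_fin_one] at h h'
    simp only [mul_mulVec, h, hDfix _ (show hh (x • fr.Fv 0) fr.z = 0 by rw [hf.smul_left, fr.Fz, mul_zero]), h']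

/-- A vector is determined by its products with the frame. -/
theorem frame_coords {lam : F} (hlam : lam + lam ^ q + 1 = 0) (x : Fin n → F) :
    x = hh x (fr.E 0) • fr.Fv 0 + hh x (fr.Fv 0) • fr.E 0 + hh x fr.z • fr.z := by
  have hf := isUnitaryForm hF (n := n)
  obtain ⟨g, hg⟩ := exists_coords hF fr hlam x
  obtain ⟨a, b, c, rfl⟩ : ∃ a b c : F, x = a • fr.Fv 0 + b • fr.z + c • fr.E 0 := by
    have h1 : chain fr lam 1 = fr.z + lam • fr.E 0 := by
      rw [chain, pow_one, nM_Fv_last hF fr hlam (m := 1), u_E_zero hF fr hlam]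
    have h2 : chain fr lam 2 = -fr.E 0 := by
      rw [show (2 : ℕ) = 2 * 1 from rfl, chain_top hF fr hlam]; simp
    obtain rfl : n = 3 := fr.dim
    refine ⟨g 0, g 1, g 1 * lam - g 2, ?_⟩
    rw [← hg, Fin.sum_univ_three]
    simp only [Fin.val_zero, Fin.val_one, Fin.val_two, h1, h2]
    rw [chain, pow_zero, Matrix.one_mulVec]
    module
  simp only [hf.add_left, hf.smul_left, fr.FE, fr.EF, fr.EE, fr.FF, fr.zE, fr.zF, fr.zz, fr.Fz, fr.Ez,
    true_and, if_pos (show (0 : ℕ) < 1 by omega), mul_zero, mul_one, zero_add, add_zero]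
  module

/-- Rescaling the centre. -/
theorem vp_of_smul {M : Subgroup (GL (Fin n) F)} {v x : Fin n → F} {c : F} (hc : c ≠ 0)
    (h : VP q M (c • v) x) : VP q M v (c ^ q • x) := by
  have hf := isUnitaryForm hF (n := n)
  obtain ⟨hx, A, hA, s, hs⟩ := h
  rw [Unit.smul_right hf, frobEquiv_apply, mul_eq_zero, or_iff_right (pow_ne_zero _ hc)] at hx
  refine ⟨by rw [hf.smul_left, hx, mul_zero], A, hA, s * c * c ^ q, fun y => ?_⟩
  rw [hs y, Unit.smul_right hf, Unit.smul_right hf, frobEquiv_apply, frobEquiv_apply, pow_q_pow_q hF]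
  module

theorem three_conjugates_three (h3 : 3 ≤ q) : ∃ lam : F, lam + lam ^ q + 1 = 0 ∧
    ∃ g ∈ suGL n F q, ∃ h ∈ suGL n F q, ∀ M : Subgroup (GL (Fin n) F), M ≤ suGL n F q →
      uG fr lam ∈ M → g * uG fr lam * g⁻¹ ∈ M → h * uG fr lam * h⁻¹ ∈ M → suGL n F q ≤ M := by
  classical
  haveI := Fintype.ofFinite F
  have hf := isUnitaryForm hF (n := n)
  obtain ⟨G, hG⟩ := IsCyclic.exists_monoid_generator (α := Fˣ)
  have hord : orderOf G = (q + 1) * (q - 1) := by
    rw [orderOf_eq_card_of_forall_mem_zpowers fun x => mem_powers_iff_mem_zpowers.1 (hG x),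
      Nat.card_units, hF, ← Nat.sq_sub_sq, one_pow]
  have hG0 : (G : F) ≠ 0 := G.ne_zero
  set χ := ((G : F) ^ q) ^ 2 / G with hχ
  have hχS : ∀ S : Subring F, χ ∈ S → ∀ x : F, x ∈ S := by
    intro S hS
    have hne : χ - χ ^ q ≠ 0 := by
      intro e
      rw [sub_eq_zero, hχ, div_pow, ← pow_mul, ← pow_mul,
        show q * 2 * q = q * q * 2 by ring, pow_mul _ (q * q) 2,
        show (G : F) ^ (q * q) = G by rw [pow_mul, pow_q_pow_q hF],
        div_eq_div_iff hG0 (pow_ne_zero _ hG0), ← pow_add, ← pow_succ] at e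
      have h3q : G ^ (3 * (q - 1)) = 1 := by
        refine Units.ext ?_
        rw [Units.val_pow_eq_pow_val, Units.val_one]
        refine mul_right_cancel₀ (pow_ne_zero 3 hG0) ?_
        rw [one_mul, ← pow_add, show 3 * (q - 1) + 3 = q * 2 + q by omega, e]
      rw [← orderOf_dvd_iff_pow_eq_one, hord, Nat.mul_dvd_mul_iff_right (by omega)] at h3q
      have := Nat.le_of_dvd (by omega) h3q
      omega
    have hN : (G : F) ^ (q + 1) ∈ S := by
      have : χ ^ q * χ = (G : F) ^ (q + 1) := by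
        rw [hχ, div_pow, ← pow_mul ((G : F) ^ q), mul_comm 2 q, pow_mul ((G : F) ^ q), pow_q_pow_q hF,
          pow_succ]
        field_simp
        try ring
      exact this ▸ mul_mem (pow_mem hS q) hS
    have hfix : ∀ x : F, x ^ q = x → x ∈ S := by
      intro x hx
      rcases eq_or_ne x 0 with rfl | hx0
      · exact S.zero_mem
      obtain ⟨k, hk⟩ := Submonoid.mem_powers_iff _ _ |>.1 (hG (Units.mk0 x hx0))
      have h1 : G ^ (k * (q - 1)) = 1 := by
        rw [pow_mul, hk]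
        refine Units.ext ?_
        rw [Units.val_pow_eq_pow_val, Units.val_mk0, Units.val_one]
        refine mul_left_cancel₀ hx0 ?_
        rw [← pow_succ', Nat.sub_add_cancel (by omega), hx, mul_one]
      rw [← orderOf_dvd_iff_pow_eq_one, hord, Nat.mul_dvd_mul_iff_right (by omega)] at h1
      obtain ⟨j, rfl⟩ := h1
      have : x = ((G : F) ^ (q + 1)) ^ j := by
        rw [← pow_mul, ← Units.val_pow_eq_pow_val, hk, Units.val_mk0]
      exact this ▸ pow_mem hN j
    intro y
    set t2 := (y - y ^ q) / (χ - χ ^ q) with ht2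
    have h2q : t2 ^ q = t2 := by
      rw [ht2, div_pow, sub_pow_q hF, sub_pow_q hF, pow_q_pow_q hF, pow_q_pow_q hF, ← neg_sub,
        ← neg_sub χ, neg_div_neg_eq]
    have h1q : (y - χ * t2) ^ q = y - χ * t2 := by
      have e : t2 * (χ - χ ^ q) = y - y ^ q := div_mul_cancel₀ _ hne
      rw [sub_pow_q hF, mul_pow, h2q]
      linear_combination e
    have := add_mem (hfix _ h1q) (mul_mem hS (hfix _ h2q))
    rwa [sub_add_cancel] at this
  -- the parameter of the unipotent element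
  obtain ⟨lam, hlam, hlam'⟩ : ∃ lam : F, lam + lam ^ q + 1 = 0 ∧
      (G : F) * lam + ((G : F) * lam) ^ q ≠ 0 := by
    obtain ⟨l, hl⟩ := CfsgLib.Unitary.exists_trace_eq hF (μ := (-1 : F))
      (by rw [neg_pow_q hF, one_pow])
    obtain ⟨δ, hδ0, hδ⟩ := CfsgLib.Unitary.exists_skew hF
    by_cases h : (G : F) * l + ((G : F) * l) ^ q = 0
    · refine ⟨l + δ, ?_, fun h' => ?_⟩
      · rw [← frobEquiv_apply hF, map_add, frobEquiv_apply, frobEquiv_apply]
        linear_combination hl + hδ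
      · rw [mul_add, ← frobEquiv_apply hF, map_add, frobEquiv_apply, frobEquiv_apply] at h'
        rw [mul_pow, mul_pow] at h'
        rw [mul_pow] at h
        have : ((G : F) - (G : F) ^ q) * δ = 0 := by linear_combination h' - h - (G : F) ^ q * hδ
        have hGq : (G : F) ^ q = G := (sub_eq_zero.1 ((mul_eq_zero.1 this).resolve_right hδ0)).symm
        have h1 : G ^ (q - 1) = 1 := by
          refine Units.ext (mul_left_cancel₀ hG0 ?_)
          rw [Units.val_pow_eq_pow_val, Units.val_one, ← pow_succ', Nat.sub_add_cancel (by omega), hGq, mul_one]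
        rw [← orderOf_dvd_iff_pow_eq_one, hord] at h1
        have := Nat.le_of_dvd (by omega) h1
        have : 2 * (q - 1) ≤ (q + 1) * (q - 1) := Nat.mul_le_mul_right _ (by omega)
        omega
    · exact ⟨l, by linear_combination hl, h⟩
  refine ⟨lam, hlam, ?_⟩
  set u := uG fr lam with hudef
  have hum : u ∈ suGL n F q := uG_mem hF fr hlam
  have huE : mat u *ᵥ fr.E 0 = fr.E 0 := u_E_zero hF fr hlam
  have huz : mat u *ᵥ fr.z = fr.z - fr.E 0 := by
    have := u_z hF fr hlam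
    rwa [show (1 : ℕ) - 1 = 0 from rfl, huE] at this
  have huf : mat u *ᵥ fr.Fv 0 = fr.Fv 0 + fr.z + lam • fr.E 0 := by
    have := u_Fv_last hF fr hlam
    rwa [show (1 : ℕ) - 1 = 0 from rfl, huE] at this
  have hfe : hh (fr.Fv 0) (fr.E 0) = 1 := by rw [fr.FE, if_pos ⟨rfl, by omega⟩]
  have hef : hh (fr.E 0) (fr.Fv 0) = 1 := by rw [fr.EF, if_pos ⟨rfl, by omega⟩]
  have hufp : hh (mat u *ᵥ fr.Fv 0) (fr.Fv 0) = lam := by
    rw [huf]; simp [hf.add_left, hf.smul_left, fr.FF, fr.zF, hef]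
  -- the element fixing the line of the second isotropic vector
  set x := (G : F) * lam with hx
  have hxne : x ≠ 0 := fun e => hlam' (by rw [e, zero_pow_q hF, add_zero])
  obtain ⟨ρ, hρ⟩ := CfsgLib.Unitary.exists_norm_eq hF (μ := -(x + x ^ q)) (by
    rw [neg_pow_q hF, ← frobEquiv_apply hF (x + x ^ q), map_add, frobEquiv_apply, frobEquiv_apply,
      pow_q_pow_q hF, add_comm])
  have hρ0 : ρ ≠ 0 := by
    intro e
    rw [e, zero_pow (Nat.succ_ne_zero q), eq_comm, neg_eq_zero] at hρ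
    exact hlam' hρ
  rw [pow_succ'] at hρ
  set γ := x / (ρ * ρ ^ q) - lam with hγ
  have hγq : γ ^ q = -γ := by
    have e : x ^ q = -(ρ * ρ ^ q) - x := by linear_combination hρ
    have hlamq : lam ^ q = -1 - lam := by linear_combination hlam
    rw [hγ, sub_pow_q hF, div_pow, e, hlamq,
      show (ρ * ρ ^ q) ^ q = ρ * ρ ^ q by rw [mul_pow, pow_q_pow_q hF, mul_comm]]
    field_simp
    ring
  obtain ⟨t0, ht0⟩ := CfsgLib.Unitary.exists_trace_eq hF (μ := (1 : F)) (one_pow q)
  set a := -(γ * t0) with ha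
  have haq : a ^ q - a = γ := by
    rw [ha, neg_pow_q hF, mul_pow, hγq]; linear_combination γ * ht0
  obtain ⟨c, hc⟩ := CfsgLib.Unitary.exists_trace_eq hF (μ := -(a * a ^ q))
    (by rw [neg_pow_q hF, mul_pow, pow_q_pow_q hF, mul_comm])
  set w := ρ • (fr.Fv 0 + a • fr.z + c • fr.E 0) with hw
  have hww : hh w w = 0 := by
    rw [hw]
    simp only [hf.add_left, Unit.add_right hf, hf.smul_left, Unit.smul_right hf, frobEquiv_apply, fr.FF,
      fr.Fz, hfe, hef, fr.zF, fr.zz, fr.zE, fr.Ez, fr.EE]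
    linear_combination (ρ * ρ ^ q) * hc
  have huw : mat u *ᵥ w = ρ • (fr.Fv 0 + (1 + a) • fr.z + (lam - a + c) • fr.E 0) := by
    rw [hw]
    simp only [Matrix.mulVec_smul, Matrix.mulVec_add, huf, huz, huE]
    module
  have hval : hh (mat u *ᵥ w) w = x := by
    rw [huw, hw]
    simp only [hf.add_left, Unit.add_right hf, hf.smul_left, Unit.smul_right hf, frobEquiv_apply, fr.FF,
      fr.Fz, hfe, hef, fr.zF, fr.zz, fr.zE, fr.Ez, fr.EE]
    have e : (x / (ρ * ρ ^ q)) * (ρ * ρ ^ q) = x := div_mul_cancel₀ _ (mul_ne_zero hρ0 (pow_ne_zero _ hρ0))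
    linear_combination (ρ * ρ ^ q) * hc + (ρ * ρ ^ q) * haq + (ρ * ρ ^ q) * hγ + e
  set p := ((u⁻¹ : GL (Fin n) F) : Matrix (Fin n) (Fin n) F) *ᵥ fr.Fv 0 with hp
  have hpp : hh p p = 0 := by rw [hp, herm_mulVec (Subgroup.inv_mem _ hum), fr.FF]
  have hrp : hh ((G : F) • fr.Fv 0) p = x := by
    rw [hf.smul_left, hp, ← herm_mulVec hum (fr.Fv 0), mulVec_inv_mulVec, hufp]
  obtain ⟨g, hgm, hgw, hguw⟩ := exists_su_pair hF fr hww (by rw [herm_mulVec hum, hww]) hpp
    (show hh ((G : F) • fr.Fv 0) ((G : F) • fr.Fv 0) = 0 by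
      rw [hf.smul_left, Unit.smul_right hf, fr.FF, mul_zero, mul_zero])
    (hval.trans hrp.symm) (hrp.symm ▸ hxne)
  obtain ⟨k, hkm, hke, -⟩ := exists_su_pair hF fr (w := fr.E 0) (w' := fr.Fv 0) (p := fr.Fv 0) (r := fr.E 0)
    (fr.EE 0 0) (fr.FF 0 0) (fr.FF 0 0) (fr.EE 0 0) (hfe.trans hef.symm) (hef ▸ one_ne_zero)
  refine ⟨g, hgm, k, hkm, fun M hMI hu hg hk => ?_⟩
  set y := g * u * g⁻¹ * u⁻¹ with hydef
  have hy : y ∈ M := M.mul_mem hg (M.inv_mem hu)
  have hyf : mat y *ᵥ fr.Fv 0 = (G : F) • fr.Fv 0 := by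
    rw [hydef]
    simp only [mul_mulVec, ← hp]
    rw [show ((g⁻¹ : GL (Fin n) F) : Matrix (Fin n) (Fin n) F) *ᵥ p = w by rw [← hgw, inv_mulVec_mulVec]]
    exact hguw
  have hyI := hMI hy
  -- the action of `y` at its fixed line
  obtain ⟨ζ, μ, hyz, hμ⟩ : ∃ ζ μ : F, mat y *ᵥ fr.z = ζ • fr.Fv 0 + μ • fr.z ∧
      (G : F) ^ q * μ = χ := by
    have hzf : hh (mat y *ᵥ fr.z) (fr.Fv 0) = 0 := by
      have h := herm_mulVec hyI fr.z (fr.Fv 0)
      rw [hyf, Unit.smul_right hf, fr.zF, frobEquiv_apply] at h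
      exact (mul_eq_zero.1 h).resolve_left (pow_ne_zero _ hG0)
    have hez := frame_coords hF fr hlam (mat y *ᵥ fr.z)
    rw [hzf, zero_smul, add_zero] at hez
    set ζ := hh (mat y *ᵥ fr.z) (fr.E 0)
    set μ := hh (mat y *ᵥ fr.z) fr.z
    set a' := hh (mat y *ᵥ fr.E 0) (fr.Fv 0) with ha'
    set b' := hh (mat y *ᵥ fr.E 0) fr.z
    set c' := hh (mat y *ᵥ fr.E 0) (fr.E 0)
    have hee := frame_coords hF fr hlam (mat y *ᵥ fr.E 0)
    have hGa : (G : F) ^ q * a' = 1 := by
      have h := herm_mulVec hyI (fr.E 0) (fr.Fv 0)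
      rwa [hyf, Unit.smul_right hf, frobEquiv_apply, hef] at h
    refine ⟨ζ, μ, hez, ?_⟩
    have hdim : n = 3 := fr.dim
    subst hdim
    let P : Matrix (Fin 3) (Fin 3) F := Matrix.of fun i j => ![fr.Fv 0, fr.z, fr.E 0] j i
    let T : Matrix (Fin 3) (Fin 3) F := !![(G : F), ζ, c'; 0, μ, b'; 0, 0, a']
    have hPT : (y : Matrix (Fin 3) (Fin 3) F) * P = P * T := by
      ext i j
      have e1 := congrFun hyf i
      have e2 := congrFun hez i
      have e3 := congrFun hee i
      simp only [Matrix.mulVec, dotProduct, Fin.sum_univ_three, Pi.add_apply, Pi.smul_apply, smul_eq_mul]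
        at e1 e2 e3
      fin_cases j <;> simp [P, T, Matrix.mul_apply, Fin.sum_univ_three]
      · linear_combination e1
      · linear_combination e2
      · linear_combination e3
    have hP : P.det ≠ 0 := by
      intro h0
      obtain ⟨v, hv, hPv⟩ := Matrix.exists_mulVec_eq_zero_iff.2 h0
      have hv' : v 0 • fr.Fv 0 + v 1 • fr.z + v 2 • fr.E 0 = 0 := by
        rw [← hPv]
        funext i
        simp [P, Matrix.mulVec, dotProduct, Fin.sum_univ_three]
        ring
      refine hv (funext fun i => ?_)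
      have h1 := congrArg (fun y => Cfsg.hermForm 3 F q y (fr.E 0)) hv'
      have h2 := congrArg (fun y => Cfsg.hermForm 3 F q y fr.z) hv'
      have h3 := congrArg (fun y => Cfsg.hermForm 3 F q y (fr.Fv 0)) hv'
      simp only [hf.add_left, hf.smul_left, (Unit.linLeft hf).zero_left, fr.EE, fr.FF, fr.zE, fr.zF, fr.zz,
        fr.Fz, fr.Ez, hfe, hef, mul_zero, mul_one, zero_add, add_zero] at h1 h2 h3
      fin_cases i <;> assumption
    have hd := congrArg Matrix.det hPT
    rw [Matrix.det_mul, Matrix.det_mul, mem_specialLinear.1 hyI.2, one_mul,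
      Matrix.det_fin_three T] at hd
    have hT : (G : F) * μ * a' = 1 := by
      refine mul_left_cancel₀ hP ?_
      rw [mul_one]
      conv_rhs => rw [hd]
      simp [T]
    rw [hχ, eq_div_iff hG0]
    linear_combination ((G : F) ^ q) ^ 2 * hT - (G : F) ^ q * μ * (G : F) * hGa
  -- the radical at the fixed line
  have hkf : mat k *ᵥ fr.E 0 = fr.Fv 0 := hke
  have hseed : VP q M (fr.Fv 0) (mat k *ᵥ fr.z) := by
    have h1 : IsEich q u (fr.E 0) fr.z lam := by
      intro v
      have := uG_mulVec hF fr hlam v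
      simpa [levi] using this
    have h2 := h1.conj hkm
    rw [hkf] at h2
    exact ⟨by rw [← hkf, herm_mulVec hkm, fr.zE], _, hk, _, h2⟩
  let P : AddSubgroup F :=
    { carrier := {r | VP q M (fr.Fv 0) (r • fr.z)}
      zero_mem' := by simpa using VP.centre (M := M) hF (fr.FF 0 0) 0
      add_mem' := fun {r s} hr hs => by
        simp only [Set.mem_ofPred_eq, add_smul]
        exact VP.add hF (fr.FF 0 0) hr hs
      neg_mem' := fun {r} hr => by
        simp only [Set.mem_ofPred_eq, neg_smul]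
        exact VP.neg hF (fr.FF 0 0) hr }
  have hred : ∀ X, VP q M (fr.Fv 0) X → hh X fr.z ∈ P := by
    intro X hX
    have h := hX.shift hF (fr.FF 0 0) (-hh X (fr.E 0))
    have e := frame_coords hF fr hlam X
    rw [hX.1, zero_smul, add_zero] at e
    show VP q M (fr.Fv 0) (hh X fr.z • fr.z)
    convert h using 1
    conv_rhs => arg 1; rw [e]
    module
  have hχP : ∀ r ∈ P, χ * r ∈ P := by
    intro r hr
    have h := VP.conj hMI hy hr
    rw [Matrix.mulVec_smul, hyz, hyf] at h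
    have h2 := hred _ (vp_of_smul hF fr hG0 h)
    simp only [hf.smul_left, hf.add_left, fr.Fz, fr.zz] at h2
    convert h2 using 1
    rw [← hμ]
    ring
  have ha0 : hh (mat k *ᵥ fr.z) fr.z ∈ P := hred _ hseed
  have ha0' : hh (mat k *ᵥ fr.z) fr.z ≠ 0 := by
    intro h0
    have h1 : hh (mat k *ᵥ fr.z) (mat k *ᵥ fr.z) = 1 := by rw [herm_mulVec hkm, fr.zz]
    have e := frame_coords hF fr hlam (mat k *ᵥ fr.z)
    rw [hseed.1, h0, zero_smul, zero_smul, add_zero, add_zero] at e
    rw [e, hf.smul_left, Unit.smul_right hf, fr.FF, mul_zero, mul_zero] at h1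
    exact zero_ne_one h1
  let S : Subring F :=
    { carrier := {r | ∀ s ∈ P, r * s ∈ P}
      one_mem' := fun s hs => by rwa [one_mul]
      mul_mem' := fun {r s} hr hs a ha => by rw [mul_assoc]; exact hr _ (hs a ha)
      zero_mem' := fun a _ => by rw [zero_mul]; exact zero_mem _
      add_mem' := fun {r s} hr hs a ha => by rw [add_mul]; exact add_mem (hr a ha) (hs a ha)
      neg_mem' := fun {r} hr a ha => by rw [neg_mul]; exact neg_mem (hr a ha) }
  have hall : ∀ X, hh X (fr.Fv 0) = 0 → VP q M (fr.Fv 0) X := by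
    intro X hX
    have hz : VP q M (fr.Fv 0) (hh X fr.z • fr.z) := by
      have h := hχS S hχP (hh X fr.z / hh (mat k *ᵥ fr.z) fr.z) _ ha0
      rwa [div_mul_cancel₀ _ ha0'] at h
    have h := hz.shift hF (fr.FF 0 0) (hh X (fr.E 0))
    have e := frame_coords hF fr hlam X
    rw [hX, zero_smul, add_zero, add_comm] at e
    rwa [← e] at h
  have hfull : Full q M (fr.Fv 0) :=
    full_of_vp hF (fr.FF 0 0) hall (z := fr.z) (w := fr.z) (fr.zF 0) (fr.zF 0) fr.zz
  refine suGL_le_of_full' hF (by have := fr.dim; omega) (by omega) ?_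
  exact full_all_of_vp hF hMI hfull (full_conj hF hMI hfull hu)
    (by rw [hufp]; exact fun e => hxne (by rw [hx, e, mul_zero])) hall

end CfsgLib.Geo.SUThreeConj
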