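import Cfsg.Agent.Geo.SUThreeConjLarge
import Cfsg.Agent.Geo.SUThreeConjThree

/-!
The special unitary group in odd dimension is generated by three conjugate regular unipotent elements.
-/

set_option autoImplicit false

namespace CfsgLib.Geo.SUThreeConj

open Matrix Cfsg Cfsg.Geo CfsgLib.Geo CfsgLib.Geo.UTv

variable {n q : ℕ} {F : Type*} [Field F] [Finite F]

/-- The inclusion in the general linear group. -/
noncomputable def toG : Cfsg.SU n F q →* GL (Fin n) F :=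
  Matrix.SpecialLinearGroup.toGL.comp (Cfsg.SU n F q).subtype

theorem exists_lift {g : GL (Fin n) F} (hg : g ∈ suGL n F q) : ∃ g' : Cfsg.SU n F q, toG g' = g :=
  ⟨⟨⟨(g : Matrix (Fin n) (Fin n) F), mem_specialLinear.1 hg.2⟩, fun u v => herm_mulVec hg u v⟩,
    Units.ext rfl⟩

theorem toG_mem (g : Cfsg.SU n F q) : toG g ∈ suGL n F q :=
  ⟨fun u v => g.2 u v, mem_specialLinear.2 g.1.2⟩

theorem three_conjugates (hF : Nat.card F = q ^ 2) (hn : 3 ≤ n) (hodd : Odd n) (h32 : ¬ (n = 3 ∧ q = 2)) :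
    ∃ u g h : Cfsg.SU n F q,
      (IsNilpotent (((u : Matrix.SpecialLinearGroup (Fin n) F) : Matrix (Fin n) (Fin n) F) - 1) ∧
        (((u : Matrix.SpecialLinearGroup (Fin n) F) : Matrix (Fin n) (Fin n) F) - 1) ^ (n - 1) ≠ 0) ∧
      Subgroup.closure ({u, g * u * g⁻¹, h * u * h⁻¹} : Set (Cfsg.SU n F q)) = ⊤ := by
  obtain ⟨m, rfl⟩ := hodd
  have hm : 1 ≤ m := by omega
  obtain ⟨fr⟩ := exists_frame (n := 2 * m + 1) hF hm rfl
  obtain ⟨lam, hlam, g, hg, h, hh', hgen⟩ : ∃ lam : F, lam + lam ^ q + 1 = 0 ∧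
      ∃ g ∈ suGL (2 * m + 1) F q, ∃ h ∈ suGL (2 * m + 1) F q,
        ∀ M : Subgroup (GL (Fin (2 * m + 1)) F), M ≤ suGL (2 * m + 1) F q → uG fr lam ∈ M →
          g * uG fr lam * g⁻¹ ∈ M → h * uG fr lam * h⁻¹ ∈ M → suGL (2 * m + 1) F q ≤ M := by
    rcases Nat.lt_or_ge m 2 with h2 | h2
    · obtain rfl : m = 1 := by omega
      exact three_conjugates_three hF fr (by have := CfsgLib.Forms.two_le_q hF; omega)
    · obtain ⟨l, hl⟩ := CfsgLib.Unitary.exists_trace_eq hF (μ := (-1 : F)) (by rw [neg_pow_q hF, one_pow])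
      have hl' : l + l ^ q + 1 = 0 := by linear_combination hl
      exact ⟨l, hl', three_conjugates_large hF fr h2 hl'⟩
  obtain ⟨u', hu'⟩ := exists_lift (uG_mem hF fr hlam)
  obtain ⟨g', rfl⟩ := exists_lift hg
  obtain ⟨h', rfl⟩ := exists_lift hh'
  have hmat : ((u' : Matrix.SpecialLinearGroup (Fin (2 * m + 1)) F) :
      Matrix (Fin (2 * m + 1)) (Fin (2 * m + 1)) F) - 1 = nM fr lam := by
    rw [nM, ← hu']
    rfl
  refine ⟨u', g', h', ⟨⟨2 * m + 1, ?_⟩, ?_⟩, ?_⟩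
  · rw [hmat]; exact nM_nilpotent hF fr hlam
  · rw [hmat]; exact nM_pow_ne_zero hF fr hlam
  set S := Subgroup.closure ({u', g' * u' * g'⁻¹, h' * u' * h'⁻¹} : Set (Cfsg.SU (2 * m + 1) F q))
  have hmem : ∀ {x}, x ∈ ({u', g' * u' * g'⁻¹, h' * u' * h'⁻¹} : Set (Cfsg.SU (2 * m + 1) F q)) →
      toG x ∈ S.map toG := fun hx => Subgroup.mem_map_of_mem _ (Subgroup.subset_closure hx)
  have hle := hgen (S.map toG) (by rintro _ ⟨x, -, rfl⟩; exact toG_mem x) (hu' ▸ hmem (Or.inl rfl))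
    (by have := hmem (Or.inr (Or.inl rfl)); rwa [map_mul, map_mul, map_inv, hu'] at this)
    (by have := hmem (Or.inr (Or.inr rfl)); rwa [map_mul, map_mul, map_inv, hu'] at this)
  refine eq_top_iff.2 fun x _ => ?_
  obtain ⟨z, hz, e⟩ := hle (toG_mem x)
  have : z = x := Subtype.ext (Subtype.ext (congrArg Units.val e))
  exact this ▸ hz

end CfsgLib.Geo.SUThreeConj
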