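import Cfsg.Agent.Geo.UnitEichler
import Cfsg.Agent.Unitary.Two

/-!
A hyperbolic frame of an odd-dimensional unitary space and a regular unipotent element adapted to it.
-/

set_option autoImplicit false
set_option linter.unusedSectionVars false

namespace CfsgLib.Geo.SUThreeConj

open Matrix Cfsg Cfsg.Geo CfsgLib.Geo CfsgLib.Geo.UTv

variable {n q : ℕ} {F : Type*} [Field F]

local notation "hh" => Cfsg.hermForm n F q
local notation "mat" => fun (g : GL (Fin n) F) => (g : Matrix (Fin n) (Fin n) F)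

/-- Hyperbolic pairs and an anisotropic vector. -/
structure Frame (n : ℕ) (F : Type*) [Field F] (q m : ℕ) where
  E : ℕ → Fin n → F
  Fv : ℕ → Fin n → F
  z : Fin n → F
  dim : n = 2 * m + 1
  pos : 1 ≤ m
  E_out : ∀ j, m ≤ j → E j = 0
  Fv_out : ∀ j, m ≤ j → Fv j = 0
  EE : ∀ i j, Cfsg.hermForm n F q (E i) (E j) = 0
  FF : ∀ i j, Cfsg.hermForm n F q (Fv i) (Fv j) = 0
  FE : ∀ i j, Cfsg.hermForm n F q (Fv i) (E j) = if i = j ∧ j < m then 1 else 0
  EF : ∀ i j, Cfsg.hermForm n F q (E i) (Fv j) = if i = j ∧ j < m then 1 else 0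
  zE : ∀ j, Cfsg.hermForm n F q z (E j) = 0
  Ez : ∀ j, Cfsg.hermForm n F q (E j) z = 0
  zF : ∀ j, Cfsg.hermForm n F q z (Fv j) = 0
  Fz : ∀ j, Cfsg.hermForm n F q (Fv j) z = 0
  zz : Cfsg.hermForm n F q z z = 1

variable [Finite F] (hF : Nat.card F = q ^ 2)
include hF

theorem q_ne_zero : q ≠ 0 := by
  have := CfsgLib.Forms.two_le_q hF
  omega

theorem herm_single (a b : Fin n) (x y : F) :
    hh (Pi.single a x) (Pi.single b y) = if a = b then x * y ^ q else 0 := by
  classical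
  rw [Cfsg.hermForm]
  split_ifs with h
  · subst h
    rw [Finset.sum_eq_single a]
    · simp
    · intro c _ hc; simp [hc]
    · simp
  · refine Finset.sum_eq_zero fun c _ => ?_
    rcases eq_or_ne c a with rfl | hc
    · rw [Pi.single_eq_of_ne h, zero_pow (q_ne_zero hF), mul_zero]
    · rw [Pi.single_eq_of_ne hc, zero_mul]

theorem exists_frame {m : ℕ} (hm : 1 ≤ m) (hn : n = 2 * m + 1) : Nonempty (Frame n F q m) := by
  classical
  haveI := Fintype.ofFinite F
  have hf := isUnitaryForm hF (n := n)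
  have hm1 : (-1 : F) ^ q = -1 := by
    rw [← CfsgLib.Forms.frobQ_apply hF, map_neg, map_one]
  obtain ⟨α, hα⟩ := CfsgLib.Unitary.exists_norm_eq hF hm1
  have hcard := CfsgLib.Forms.card_norm_fiber hF (μ := (-1 : F)) (neg_ne_zero.mpr one_ne_zero) hm1
  rw [Nat.card_eq_fintype_card] at hcard
  obtain ⟨⟨β, hβ⟩, hne⟩ := Fintype.exists_ne_of_one_lt_card
    (show 1 < Fintype.card {x : F // x ^ (q + 1) = -1} by
      have := CfsgLib.Forms.two_le_q hF; omega) ⟨α, hα⟩
  have hαβ : β ≠ α := fun e => hne (Subtype.ext e)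
  rw [pow_succ'] at hα hβ
  have h0 : 1 + β * α ^ q ≠ 0 := fun e => hαβ (by
    have : (β - α) * α ^ q = 0 := by linear_combination e - hα
    rcases mul_eq_zero.1 this with h | h
    · exact sub_eq_zero.1 h
    · rw [h, mul_zero] at hα; exact absurd hα.symm (neg_ne_zero.2 one_ne_zero))
  set t := (1 + β * α ^ q)⁻¹ with ht
  let E : ℕ → Fin n → F := fun i => if h : i < m then
    Pi.single ⟨2 * i, by omega⟩ 1 + Pi.single ⟨2 * i + 1, by omega⟩ α else 0
  let G : ℕ → Fin n → F := fun i => if h : i < m then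
    Pi.single ⟨2 * i, by omega⟩ t + Pi.single ⟨2 * i + 1, by omega⟩ (t * β) else 0
  let z : Fin n → F := Pi.single ⟨2 * m, by omega⟩ 1
  have hzero : ∀ v : Fin n → F, hh 0 v = 0 ∧ hh v 0 = 0 := fun v =>
    ⟨(Unit.linLeft hf).zero_left v, Unit.zero_right hf v⟩
  have hz : ∀ (i j : ℕ) (x y : F) (h1 : 2 * i + 1 < n) (h2 : 2 * i < n) (w : Fin n → F)
      (_ : w = Pi.single ⟨2 * i, h2⟩ x + Pi.single ⟨2 * i + 1, h1⟩ y), i < m → hh z w = 0 := by
    rintro i j x y h1 h2 w rfl hi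
    rw [Unit.add_right hf, herm_single hF, herm_single hF, if_neg, if_neg, add_zero] <;>
      simp only [Fin.ext_iff] <;> omega
  have hpair : ∀ (i j : ℕ) (x y x' y' : F) (hi : i < m) (hj : j < m),
      hh (Pi.single ⟨2 * i, by omega⟩ x + Pi.single ⟨2 * i + 1, by omega⟩ y)
        (Pi.single ⟨2 * j, by omega⟩ x' + Pi.single ⟨2 * j + 1, by omega⟩ y') =
        if i = j then x * x' ^ q + y * y' ^ q else 0 := by
    intro i j x y x' y' hi hj
    simp only [hf.add_left, Unit.add_right hf, herm_single hF, Fin.ext_iff]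
    by_cases h : i = j
    · subst h
      simp only [if_pos, if_neg (show ¬ 2 * i = 2 * i + 1 by omega),
        if_neg (show ¬ 2 * i + 1 = 2 * i by omega)]
      ring
    · simp only [if_neg h, if_neg (show ¬ 2 * i = 2 * j by omega), if_neg (show ¬ 2 * i + 1 = 2 * j + 1 by omega),
        if_neg (show ¬ 2 * i = 2 * j + 1 by omega), if_neg (show ¬ 2 * i + 1 = 2 * j by omega), add_zero]
  have hFE : ∀ i j, hh (G i) (E j) = if i = j ∧ j < m then 1 else 0 := by
    intro i j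
    by_cases hi : i < m <;> by_cases hj : j < m
    · simp only [E, G, dif_pos hi, dif_pos hj, hpair i j _ _ _ _ hi hj, hj, and_true]
      refine if_congr Iff.rfl ?_ rfl
      rw [one_pow, ht, mul_one, mul_assoc, ← mul_one_add, inv_mul_cancel₀ h0]
    all_goals
      rw [if_neg (by omega)]
      simp [E, G, hi, hj, hzero]
  have hzE : ∀ j, hh z (E j) = 0 := by
    intro j
    by_cases hj : j < m
    · exact hz j 0 1 α (by omega) (by omega) _ (dif_pos hj) hj
    · simp [E, hj, hzero]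
  have hzF : ∀ j, hh z (G j) = 0 := by
    intro j
    by_cases hj : j < m
    · exact hz j 0 t (t * β) (by omega) (by omega) _ (dif_pos hj) hj
    · simp [G, hj, hzero]
  refine ⟨⟨E, G, z, hn, hm, fun j hj => dif_neg (by omega), fun j hj => dif_neg (by omega),
    fun i j => ?_, fun i j => ?_, hFE, fun i j => ?_, hzE, fun j => ?_, hzF, fun j => ?_, ?_⟩⟩
  · by_cases hi : i < m <;> by_cases hj : j < m
    · simp only [E, dif_pos hi, dif_pos hj, hpair i j _ _ _ _ hi hj]
      split_ifs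
      · rw [one_pow, mul_one, hα, add_neg_cancel]
      · rfl
    all_goals simp [E, hi, hj, hzero]
  · by_cases hi : i < m <;> by_cases hj : j < m
    · simp only [G, dif_pos hi, dif_pos hj, hpair i j _ _ _ _ hi hj]
      split_ifs
      · rw [mul_pow]; linear_combination t * t ^ q * hβ
      · rfl
    all_goals simp [G, hi, hj, hzero]
  · rw [hf.herm, hFE]
    by_cases h : j = i ∧ i < m
    · rw [if_pos h, if_pos ⟨h.1.symm, h.1 ▸ h.2⟩, map_one]
    · rw [if_neg h, if_neg (fun h' : i = j ∧ j < m => h ⟨h'.1.symm, h'.1 ▸ h'.2⟩), map_zero]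
  · rw [hf.herm, hzE, map_zero]
  · rw [hf.herm, hzF, map_zero]
  · rw [herm_single hF, if_pos rfl, one_pow, mul_one]

omit hF in
open Classical in
/-- An Eichler transformation. -/
noncomputable def eichG (q : ℕ) (v x : Fin n → F) (s : F) : GL (Fin n) F :=
  if h : ∃ A ∈ suGL n F q, IsEich q A v x s then h.choose else 1

theorem eichG_spec {v x : Fin n → F} (hv : hh v v = 0) (hxv : hh x v = 0) {s : F}
    (hs : s + s ^ q + hh x x = 0) :
    eichG q v x s ∈ suGL n F q ∧ IsEich q (eichG q v x s) v x s := by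
  have h := exists_eich hF hv hxv hs
  unfold eichG
  rw [dif_pos h]
  exact h.choose_spec

variable {m : ℕ} (fr : Frame n F q m)

omit hF in
/-- The Levi part: the first `k` elementary factors. -/
noncomputable def levi : ℕ → GL (Fin n) F
  | 0 => 1
  | k + 1 => levi k * eichG q (fr.E k) (fr.Fv (k + 1)) 0

theorem step_spec (k : ℕ) : eichG q (fr.E k) (fr.Fv (k + 1)) 0 ∈ suGL n F q ∧
    IsEich q (eichG q (fr.E k) (fr.Fv (k + 1)) 0) (fr.E k) (fr.Fv (k + 1)) 0 :=
  eichG_spec hF (fr.EE k k) (by rw [fr.FE, if_neg (by omega)])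
    (by rw [fr.FF, zero_pow (q_ne_zero hF), add_zero, add_zero])

theorem levi_mem : ∀ k, levi fr k ∈ suGL n F q
  | 0 => Subgroup.one_mem _
  | k + 1 => Subgroup.mul_mem _ (levi_mem k) (step_spec hF fr k).1

theorem step_mulVec (k : ℕ) (y : Fin n → F) :
    mat (eichG q (fr.E k) (fr.Fv (k + 1)) 0) *ᵥ y =
      y + hh y (fr.E k) • fr.Fv (k + 1) - hh y (fr.Fv (k + 1)) • fr.E k := by
  rw [(step_spec hF fr k).2 y]
  module

theorem levi_z : ∀ k, mat (levi fr k) *ᵥ fr.z = fr.z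
  | 0 => by simp [levi]
  | k + 1 => by
    simp only [levi, mul_mulVec, step_mulVec hF, fr.zE, fr.zF, zero_smul, add_zero, sub_zero]
    exact levi_z k

theorem levi_Fv_of_le : ∀ {k j : ℕ}, k ≤ j → mat (levi fr k) *ᵥ fr.Fv j = fr.Fv j
  | 0, _, _ => by simp [levi]
  | k + 1, j, h => by
    simp only [levi, mul_mulVec, step_mulVec hF, fr.FE, fr.FF, if_neg (show ¬ (j = k ∧ k < m) by omega),
      zero_smul, add_zero, sub_zero]
    exact levi_Fv_of_le (by omega)

theorem levi_Fv : ∀ {k j : ℕ}, j < k → k < m → mat (levi fr k) *ᵥ fr.Fv j = fr.Fv j + fr.Fv (j + 1)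
  | 0, j, h, _ => absurd h (by omega)
  | k + 1, j, h, hk => by
    simp only [levi, mul_mulVec, step_mulVec hF, fr.FE, fr.FF, zero_smul, sub_zero]
    rcases eq_or_ne j k with rfl | hne
    · rw [if_pos ⟨rfl, by omega⟩, one_smul, Matrix.mulVec_add, levi_Fv_of_le hF fr le_rfl,
        levi_Fv_of_le hF fr (by omega)]
    · rw [if_neg (by omega), zero_smul, add_zero]
      exact levi_Fv (by omega) (by omega)

theorem levi_E_of_lt : ∀ {k j : ℕ}, k < j → mat (levi fr k) *ᵥ fr.E j = fr.E j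
  | 0, _, _ => by simp [levi]
  | k + 1, j, h => by
    simp only [levi, mul_mulVec, step_mulVec hF, fr.EE, fr.EF,
      if_neg (show ¬ (j = k + 1 ∧ k + 1 < m) by omega), zero_smul, add_zero, sub_zero]
    exact levi_E_of_lt (by omega)

theorem levi_E_zero : ∀ k, mat (levi fr k) *ᵥ fr.E 0 = fr.E 0
  | 0 => by simp [levi]
  | k + 1 => by
    simp only [levi, mul_mulVec, step_mulVec hF, fr.EE, fr.EF,
      if_neg (show ¬ (0 = k + 1 ∧ k + 1 < m) by omega), zero_smul, add_zero, sub_zero]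
    exact levi_E_zero k

theorem levi_E_succ : ∀ {k j : ℕ}, j < k → k < m →
    mat (levi fr k) *ᵥ fr.E (j + 1) = fr.E (j + 1) - mat (levi fr k) *ᵥ fr.E j
  | 0, j, h, _ => absurd h (by omega)
  | k + 1, j, h, hk => by
    have hj : mat (levi fr (k + 1)) *ᵥ fr.E j = mat (levi fr k) *ᵥ fr.E j := by
      simp only [levi, mul_mulVec, step_mulVec hF, fr.EE, fr.EF,
        if_neg (show ¬ (j = k + 1 ∧ k + 1 < m) by omega), zero_smul, add_zero, sub_zero]
    rw [hj]
    simp only [levi, mul_mulVec, step_mulVec hF, fr.EE, fr.EF, zero_smul, add_zero]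
    rcases eq_or_ne j k with rfl | hne
    · rw [if_pos ⟨rfl, hk⟩, one_smul, Matrix.mulVec_sub, levi_E_of_lt hF fr (by omega)]
    · rw [if_neg (by omega), zero_smul, sub_zero]
      exact levi_E_succ (by omega) (by omega)

omit hF in
/-- The regular unipotent element. -/
noncomputable def uG (lam : F) : GL (Fin n) F := levi fr (m - 1) * eichG q (fr.E (m - 1)) fr.z lam

variable {lam : F} (hlam : lam + lam ^ q + 1 = 0)
include hlam

theorem last_spec : eichG q (fr.E (m - 1)) fr.z lam ∈ suGL n F q ∧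
    IsEich q (eichG q (fr.E (m - 1)) fr.z lam) (fr.E (m - 1)) fr.z lam :=
  eichG_spec hF (fr.EE _ _) (fr.zE _) (by rw [fr.zz]; exact hlam)

theorem uG_mem : uG fr lam ∈ suGL n F q :=
  Subgroup.mul_mem _ (levi_mem hF fr _) (last_spec hF fr hlam).1

theorem uG_mulVec (y : Fin n → F) : mat (uG fr lam) *ᵥ y = mat (levi fr (m - 1)) *ᵥ
    (y + hh y (fr.E (m - 1)) • fr.z + (lam * hh y (fr.E (m - 1)) - hh y fr.z) • fr.E (m - 1)) := by
  rw [← (last_spec hF fr hlam).2 y]
  exact mul_mulVec _ _ _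

theorem u_E (j : ℕ) : mat (uG fr lam) *ᵥ fr.E j = mat (levi fr (m - 1)) *ᵥ fr.E j := by
  rw [uG_mulVec hF fr hlam]
  simp [fr.EE, fr.Ez]

theorem u_E_zero : mat (uG fr lam) *ᵥ fr.E 0 = fr.E 0 := by
  rw [u_E hF fr hlam, levi_E_zero hF]

theorem u_E_succ {j : ℕ} (hj : j + 1 < m) :
    mat (uG fr lam) *ᵥ fr.E (j + 1) = fr.E (j + 1) - mat (uG fr lam) *ᵥ fr.E j := by
  rw [u_E hF fr hlam, u_E hF fr hlam, levi_E_succ hF fr (by omega) (by omega)]

theorem u_Fv {j : ℕ} (hj : j + 1 < m) :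
    mat (uG fr lam) *ᵥ fr.Fv j = fr.Fv j + fr.Fv (j + 1) := by
  rw [uG_mulVec hF fr hlam]
  simp only [fr.FE, fr.Fz, if_neg (show ¬ (j = m - 1 ∧ m - 1 < m) by omega), zero_smul, mul_zero,
    sub_zero, add_zero]
  exact levi_Fv hF fr (by omega) (by omega)

theorem u_Fv_last : mat (uG fr lam) *ᵥ fr.Fv (m - 1) =
    fr.Fv (m - 1) + fr.z + lam • (mat (uG fr lam) *ᵥ fr.E (m - 1)) := by
  have := fr.pos
  rw [uG_mulVec hF fr hlam, u_E hF fr hlam]
  simp only [fr.FE, fr.Fz, true_and, if_pos (show m - 1 < m by omega), one_smul, mul_one, sub_zero,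
    Matrix.mulVec_add, Matrix.mulVec_smul, levi_Fv_of_le hF fr le_rfl, levi_z hF]

theorem u_z : mat (uG fr lam) *ᵥ fr.z = fr.z - mat (uG fr lam) *ᵥ fr.E (m - 1) := by
  rw [uG_mulVec hF fr hlam, u_E hF fr hlam]
  simp only [fr.zE, fr.zz, zero_smul, mul_zero, zero_sub, add_zero,
    neg_smul, one_smul, ← sub_eq_add_neg, Matrix.mulVec_sub, levi_z hF]

/-! ### The nilpotent part -/

omit hF hlam in
/-- The nilpotent part. -/
noncomputable def nM (lam : F) : Matrix (Fin n) (Fin n) F := mat (uG fr lam) - 1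

omit hF hlam in
theorem nM_mulVec (x : Fin n → F) : nM fr lam *ᵥ x = mat (uG fr lam) *ᵥ x - x := by
  rw [nM, Matrix.sub_mulVec, Matrix.one_mulVec]

omit hF hlam in
theorem nM_pow_succ (k : ℕ) (x : Fin n → F) :
    nM fr lam ^ (k + 1) *ᵥ x = nM fr lam ^ k *ᵥ (nM fr lam *ᵥ x) := by
  rw [pow_succ, Matrix.mulVec_mulVec]

omit hF hlam in
theorem nM_pow_u (k : ℕ) (x : Fin n → F) :
    nM fr lam ^ k *ᵥ (mat (uG fr lam) *ᵥ x) = mat (uG fr lam) *ᵥ (nM fr lam ^ k *ᵥ x) := by
  induction k generalizing x with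
  | zero => simp
  | succ k ih =>
    rw [nM_pow_succ, nM_pow_succ, ← ih, nM_mulVec, nM_mulVec]
    simp only [Matrix.mulVec_sub]

theorem nM_pow_E : ∀ {j : ℕ}, j < m → nM fr lam ^ j *ᵥ fr.E j = (-1 : F) ^ j • fr.E 0
  | 0, _ => by simp
  | j + 1, hj => by
    rw [nM_pow_succ, nM_mulVec, u_E_succ hF fr hlam hj, sub_sub_cancel_left, Matrix.mulVec_neg,
      nM_pow_u, nM_pow_E (j := j) (by omega), Matrix.mulVec_smul, u_E_zero hF fr hlam, pow_succ,
      mul_neg_one, neg_smul]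

theorem nM_pow_E_succ : ∀ {j : ℕ}, j + 1 < m →
    ∃ r : F, nM fr lam ^ j *ᵥ fr.E (j + 1) = (-1 : F) ^ j • fr.E 1 + r • fr.E 0
  | 0, _ => ⟨0, by simp⟩
  | j + 1, hj => by
    obtain ⟨r, hr⟩ := nM_pow_E_succ (j := j) (by omega)
    refine ⟨(-1 : F) ^ j - r, ?_⟩
    rw [nM_pow_succ, nM_mulVec, u_E_succ hF fr hlam hj, sub_sub_cancel_left, Matrix.mulVec_neg,
      nM_pow_u, hr, Matrix.mulVec_add, Matrix.mulVec_smul, Matrix.mulVec_smul, u_E_zero hF fr hlam,
      u_E_succ hF fr hlam (show 0 + 1 < m by omega), u_E_zero hF fr hlam, pow_succ, mul_neg_one]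
    module

theorem nM_E_zero : nM fr lam *ᵥ fr.E 0 = 0 := by
  rw [nM_mulVec, u_E_zero hF fr hlam, sub_self]

theorem nM_pow_Fv (i : ℕ) : ∀ {k : ℕ}, i + k < m → nM fr lam ^ k *ᵥ fr.Fv i = fr.Fv (i + k)
  | 0, _ => by simp
  | k + 1, hk => by
    rw [pow_succ', ← Matrix.mulVec_mulVec, nM_pow_Fv i (k := k) (by omega), nM_mulVec,
      u_Fv hF fr hlam (by omega), add_sub_cancel_left, add_assoc]

theorem nM_Fv_last :
    nM fr lam *ᵥ fr.Fv (m - 1) = fr.z + lam • (mat (uG fr lam) *ᵥ fr.E (m - 1)) := by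
  rw [nM_mulVec, u_Fv_last hF fr hlam, add_assoc, add_sub_cancel_left]

theorem nM_z : nM fr lam *ᵥ fr.z = -(mat (uG fr lam) *ᵥ fr.E (m - 1)) := by
  rw [nM_mulVec, u_z hF fr hlam, sub_sub_cancel_left]

theorem herm_nM_E (x : Fin n → F) : hh (nM fr lam *ᵥ x) (fr.E 0) = 0 := by
  have h := herm_mulVec (uG_mem hF fr hlam) x (fr.E 0)
  rw [u_E_zero hF fr hlam] at h
  rw [nM_mulVec, sub_eq_add_neg, (isUnitaryForm hF).add_left, ← neg_one_smul F x,
    (isUnitaryForm hF).smul_left, h]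
  ring

omit hF hlam in
/-- The Jordan chain of the first vector of the second half. -/
noncomputable def chain (lam : F) (j : ℕ) : Fin n → F := nM fr lam ^ j *ᵥ fr.Fv 0

omit hF hlam in
theorem chain_succ (j : ℕ) : chain fr lam (j + 1) = nM fr lam *ᵥ chain fr lam j := by
  rw [chain, chain, pow_succ', Matrix.mulVec_mulVec]

theorem chain_top : chain fr lam (2 * m) = (-1 : F) ^ m • fr.E 0 := by
  have := fr.pos
  rw [chain, show 2 * m = m + (1 + (m - 1)) by omega, pow_add, ← Matrix.mulVec_mulVec, pow_add _ 1,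
    ← Matrix.mulVec_mulVec, nM_pow_Fv hF fr hlam 0 (k := m - 1) (by omega), zero_add, pow_one,
    nM_Fv_last hF fr hlam, Matrix.mulVec_add, Matrix.mulVec_smul, nM_pow_u,
    show (nM fr lam ^ m : Matrix (Fin n) (Fin n) F) = nM fr lam ^ ((m - 1) + 1) by
      rw [Nat.sub_add_cancel fr.pos],
    nM_pow_succ fr (m - 1) fr.z, nM_z hF fr hlam, Matrix.mulVec_neg, nM_pow_u, pow_succ' (nM fr lam) (m - 1),
    ← Matrix.mulVec_mulVec (fr.E (m - 1)),
    nM_pow_E hF fr hlam (by omega), Matrix.mulVec_smul, Matrix.mulVec_smul,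
    nM_E_zero hF fr hlam, u_E_zero hF fr hlam]
  rw [smul_zero, Matrix.mulVec_zero, smul_zero, add_zero, ← neg_smul]
  congr 1
  conv_rhs => rw [show m = (m - 1) + 1 by omega, pow_succ]
  ring

theorem chain_pre (h2 : 2 ≤ m) :
    ∃ r : F, chain fr lam (2 * m - 1) = (-1 : F) ^ (m - 1) • fr.E 1 + r • fr.E 0 := by
  obtain ⟨r, hr⟩ := nM_pow_E_succ hF fr hlam (j := m - 2) (by omega)
  rw [show m - 2 + 1 = m - 1 by omega] at hr
  refine ⟨(-1 : F) ^ (m - 2) - r + lam * (-1 : F) ^ (m - 1), ?_⟩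
  rw [chain, show 2 * m - 1 = (m - 1) + (1 + (m - 1)) by omega, pow_add, ← Matrix.mulVec_mulVec, pow_add _ 1,
    ← Matrix.mulVec_mulVec, nM_pow_Fv hF fr hlam 0 (k := m - 1) (by omega), zero_add, pow_one,
    nM_Fv_last hF fr hlam, Matrix.mulVec_add, Matrix.mulVec_smul, nM_pow_u,
    nM_pow_E hF fr hlam (by omega), Matrix.mulVec_smul, u_E_zero hF fr hlam,
    show (nM fr lam ^ (m - 1) : Matrix (Fin n) (Fin n) F) = nM fr lam ^ ((m - 2) + 1) by
      rw [show m - 2 + 1 = m - 1 by omega],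
    nM_pow_succ fr (m - 2) fr.z, nM_z hF fr hlam, Matrix.mulVec_neg, nM_pow_u, hr, Matrix.mulVec_add,
    Matrix.mulVec_smul, Matrix.mulVec_smul, u_E_zero hF fr hlam,
    u_E_succ hF fr hlam (show 0 + 1 < m by omega), u_E_zero hF fr hlam,
    show (-1 : F) ^ (m - 1) = (-1) ^ (m - 2) * -1 by rw [← pow_succ]; congr 1; omega]
  module

theorem chain_zero_of_gt {j : ℕ} (hj : 2 * m < j) : chain fr lam j = 0 := by
  obtain ⟨d, rfl⟩ : ∃ d, j = d + (1 + 2 * m) := ⟨j - (1 + 2 * m), by omega⟩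
  rw [chain, pow_add, ← Matrix.mulVec_mulVec, pow_add, ← Matrix.mulVec_mulVec,
    show nM fr lam ^ (2 * m) *ᵥ fr.Fv 0 = _ from chain_top hF fr hlam, pow_one, Matrix.mulVec_smul,
    nM_E_zero hF fr hlam, smul_zero, Matrix.mulVec_zero]

omit hlam in
theorem E_zero_ne : fr.E 0 ≠ 0 := fun e => by
  have h := fr.FE 0 0
  rw [e, Unit.zero_right (isUnitaryForm hF), if_pos ⟨rfl, fr.pos⟩] at h
  exact zero_ne_one h

theorem chain_independent : LinearIndependent F fun i : Fin n => chain fr lam i.val := by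
  classical
  rw [Fintype.linearIndependent_iff]
  intro g hg
  by_contra hne
  push Not at hne
  obtain ⟨i, hi, hmin⟩ := (Finset.univ.filter fun i => g i ≠ 0).exists_min_image (fun i : Fin n => i.val)
    (by obtain ⟨i, hi⟩ := hne; exact ⟨i, by simp [hi]⟩)
  simp only [Finset.mem_filter, Finset.mem_univ, true_and] at hi hmin
  have h1 := congrArg (fun x => nM fr lam ^ (2 * m - i.val) *ᵥ x) hg
  simp only [Matrix.mulVec_zero, Matrix.mulVec_sum, Matrix.mulVec_smul] at h1
  have hd := fr.dim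
  rw [Finset.sum_eq_single i] at h1
  · rw [chain, Matrix.mulVec_mulVec, ← pow_add, show 2 * m - i.val + i.val = 2 * m by omega,
      show nM fr lam ^ (2 * m) *ᵥ fr.Fv 0 = _ from chain_top hF fr hlam, smul_smul] at h1
    exact mul_ne_zero hi (pow_ne_zero _ (neg_ne_zero.2 one_ne_zero))
      ((smul_eq_zero.1 h1).resolve_right (E_zero_ne hF fr))
  · intro k _ hk
    by_cases hgk : g k = 0
    · rw [hgk, zero_smul]
    · have := hmin k hgk
      rw [chain, Matrix.mulVec_mulVec, ← pow_add,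
        show nM fr lam ^ (2 * m - i.val + k.val) *ᵥ fr.Fv 0 = 0 from
          chain_zero_of_gt hF fr hlam (by
            have : k.val ≠ i.val := fun e => hk (Fin.ext e)
            omega), smul_zero]
  · simp

theorem exists_coords (x : Fin n → F) : ∃ g : Fin n → F, ∑ i, g i • chain fr lam i.val = x := by
  have h := (chain_independent hF fr hlam).span_eq_top_of_card_eq_finrank' (by simp)
  exact (Submodule.mem_span_range_iff_exists_fun F).1 (h ▸ Submodule.mem_top)

theorem nM_nilpotent : nM fr lam ^ n = 0 := by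
  refine Matrix.ext_iff_mulVec.2 fun x => ?_
  obtain ⟨g, rfl⟩ := exists_coords hF fr hlam x
  rw [Matrix.zero_mulVec, Matrix.mulVec_sum]
  refine Finset.sum_eq_zero fun i _ => ?_
  rw [Matrix.mulVec_smul, chain, Matrix.mulVec_mulVec, ← pow_add,
    show nM fr lam ^ (n + i.val) *ᵥ fr.Fv 0 = 0 from chain_zero_of_gt hF fr hlam (by
      have := fr.dim; omega), smul_zero]

theorem nM_pow_ne_zero : nM fr lam ^ (n - 1) ≠ 0 := fun h => by
  have h1 : nM fr lam ^ (2 * m) *ᵥ fr.Fv 0 = _ := chain_top hF fr hlam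
  rw [show 2 * m = n - 1 by have := fr.dim; omega, h, Matrix.zero_mulVec, eq_comm, smul_eq_zero] at h1
  exact h1.elim (pow_ne_zero _ (neg_ne_zero.2 one_ne_zero)) (E_zero_ne hF fr)

end CfsgLib.Geo.SUThreeConj
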