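import Cfsg.Agent.Geo.SUThreeConjRadical

/-!
Three conjugates of the regular unipotent element in dimension at least five.
-/

set_option autoImplicit false
set_option linter.unusedSectionVars false

namespace CfsgLib.Geo.SUThreeConj

open Matrix Cfsg Cfsg.Geo CfsgLib.Geo CfsgLib.Geo.UTv

variable {n q m : ℕ} {F : Type*} [Field F] [Finite F] (hF : Nat.card F = q ^ 2)

local notation "hh" => Cfsg.hermForm n F q
local notation "mat" => fun (g : GL (Fin n) F) => (g : Matrix (Fin n) (Fin n) F)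

include hF

theorem three_conjugates_large (fr : Frame n F q m) (h2 : 2 ≤ m) {lam : F}
    (hlam : lam + lam ^ q + 1 = 0) :
    ∃ g ∈ suGL n F q, ∃ h ∈ suGL n F q, ∀ M : Subgroup (GL (Fin n) F), M ≤ suGL n F q →
      uG fr lam ∈ M → g * uG fr lam * g⁻¹ ∈ M → h * uG fr lam * h⁻¹ ∈ M → suGL n F q ≤ M := by
  have hf := isUnitaryForm hF (n := n)
  obtain ⟨del, hdel0, hdel⟩ := CfsgLib.Unitary.exists_skew hF
  obtain ⟨κ, hκ0, hκ, hκS⟩ := exists_skew_gen hF
  obtain ⟨t0, ht0⟩ := CfsgLib.Unitary.exists_trace_eq hF (μ := (1 : F)) (one_pow q)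
  set d := κ / del ^ 2 with hd
  have hdq : del ^ q = -del := by linear_combination hdel
  have hκq : κ ^ q = -κ := by linear_combination hκ
  have hd2 : d ^ q = -d := by
    rw [hd, div_pow, ← pow_mul, mul_comm, pow_mul, hdq, neg_sq, hκq, neg_div]
  set c' := d * t0 with hc'
  have hcc : c' - c' ^ q = d := by
    rw [hc', mul_pow, hd2]; linear_combination d * ht0
  obtain ⟨r, hr⟩ := chain_pre hF fr hlam h2
  obtain ⟨ε, hεdef, hε⟩ : ∃ ε : F, ε = (-1) ^ (m - 1) ∧ ε * ε = 1 :=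
    ⟨_, rfl, by rw [← mul_pow]; simp⟩
  rw [← hεdef] at hr
  set c := -(ε * c') with hc
  set t := -ε * (1 + c * hh (chain fr lam (2 * m - 2)) (fr.Fv 1)) with ht
  set X' := c • chain fr lam (2 * m - 3) + t • chain fr lam (2 * m - 2) with hX'
  have hchE : ∀ j, 1 ≤ j → hh (chain fr lam j) (fr.E 0) = 0 := fun j hj => by
    rw [show j = j - 1 + 1 by omega, chain_succ, herm_nM_E hF fr hlam]
  have hXe : hh X' (fr.E 0) = 0 := by
    rw [hX', hf.add_left, hf.smul_left, hf.smul_left, hchE _ (by omega), hchE _ (by omega), mul_zero, mul_zero,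
      add_zero]
  obtain ⟨μ, hμ⟩ := CfsgLib.Unitary.exists_trace_eq hF (μ := -hh X' X')
    (by rw [neg_pow_q hF, CfsgLib.Unitary.herm_self_fixed hF])
  obtain ⟨hgm, hgs⟩ := eichG_spec hF (fr.EE 0 0) hXe (s := μ) (by rw [hμ, neg_add_cancel])
  refine ⟨tt q (fr.Fv 0) del, tt_mem hF (fr.FF 0 0) hdel, eichG q (fr.E 0) X' μ, hgm,
    fun M hMI hu hg hh' => ?_⟩
  have hy : yG fr del ∈ M := by
    have h := M.mul_mem hg (M.inv_mem hu)
    rwa [show tt q (fr.Fv 0) del * uG fr lam * (tt q (fr.Fv 0) del)⁻¹ * (uG fr lam)⁻¹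
        = tt q (fr.Fv 0) del * (uG fr lam * (tt q (fr.Fv 0) del)⁻¹ * (uG fr lam)⁻¹) by group,
      tt_inv hF (fr.FF 0 0), tt_conj hF (fr.FF 0 0) _ (uG_mem hF fr hlam), u_Fv hF fr hlam (by omega)] at h
  have hV : -(nM fr lam *ᵥ X') ∈ rad hF fr M := by
    have h := M.mul_mem hh' (M.inv_mem hu)
    rw [show eichG q (fr.E 0) X' μ * uG fr lam * (eichG q (fr.E 0) X' μ)⁻¹ * (uG fr lam)⁻¹
        = eichG q (fr.E 0) X' μ * (uG fr lam * (eichG q (fr.E 0) X' μ)⁻¹ * (uG fr lam)⁻¹) by group] at h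
    have h1 := (hgs.inv hF (fr.EE 0 0) hXe).conj (uG_mem hF fr hlam)
    rw [u_E_zero hF fr hlam] at h1
    have hXe' : hh (mat (uG fr lam) *ᵥ (-X')) (fr.E 0) = 0 := by
      conv_lhs => arg 5; rw [← u_E_zero hF fr hlam]
      rw [herm_mulVec (uG_mem hF fr hlam), herm_neg_left hF, hXe, neg_zero]
    have h2' := hgs.mul hF (fr.EE 0 0) hXe' hXe h1
    rw [show X' + mat (uG fr lam) *ᵥ (-X') = -(nM fr lam *ᵥ X') by
      rw [nM_mulVec, Matrix.mulVec_neg]; abel] at h2'
    exact ⟨by rw [herm_neg_left hF, herm_nM_E hF fr hlam, neg_zero], _, h, _, h2'⟩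
  have hVval : -(nM fr lam *ᵥ X') = -(c • chain fr lam (2 * m - 2) + t • chain fr lam (2 * m - 1)) := by
    rw [hX', Matrix.mulVec_add, Matrix.mulVec_smul, Matrix.mulVec_smul, ← chain_succ, ← chain_succ,
      show 2 * m - 3 + 1 = 2 * m - 2 by omega, show 2 * m - 2 + 1 = 2 * m - 1 by omega]
  rw [hVval] at hV
  have hone : c' • fr.E 1 ∈ rad hF fr M := by
    have h1 := rad_nM hF fr hlam hMI hu hV
    rw [Matrix.mulVec_neg, Matrix.mulVec_add, Matrix.mulVec_smul, Matrix.mulVec_smul, ← chain_succ,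
      ← chain_succ, show 2 * m - 2 + 1 = 2 * m - 1 by omega, show 2 * m - 1 + 1 = 2 * m by omega,
      chain_top hF fr hlam, hr] at h1
    have h3 := rad_centre_add hF fr (c * r + t * (-1 : F) ^ m) h1
    convert h3 using 1
    rw [hc]
    match_scalars
    · linear_combination -c' * hε
    · ring
  refine su_le_of_seeds hF fr hlam hMI hu h2 hdel hy (by have := fr.dim; omega) hone hV ?_ ?_ hdel0 ?_
  · rw [herm_neg_left hF, hf.add_left, hf.smul_left, hf.smul_left, hr, hf.add_left, hf.smul_left,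
      hf.smul_left, fr.EF, fr.EF, if_pos ⟨rfl, by omega⟩, if_neg (by omega), ht]
    linear_combination (1 + c * hh (chain fr lam (2 * m - 2)) (fr.Fv 1)) * hε
  · rw [hcc, hd]; exact div_ne_zero hκ0 (pow_ne_zero _ hdel0)
  · rw [hcc, hd, div_mul_cancel₀ _ (pow_ne_zero _ hdel0)]; exact hκS

end CfsgLib.Geo.SUThreeConj
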