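import Cfsg.Agent.Geo.SUThreeConjBasic
import Mathlib.Algebra.Ring.Subring.Basic
import Mathlib.RingTheory.IntegralDomain

/-!
A subgroup of an odd-dimensional special unitary group containing the adapted regular unipotent element,
a moving commutator and one suitable element of the radical at the fixed point is the whole group.
-/

set_option autoImplicit false
set_option linter.unusedSectionVars false

namespace CfsgLib.Geo.SUThreeConj

open Matrix Cfsg Cfsg.Geo CfsgLib.Geo CfsgLib.Geo.UTv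

variable {n q m : ℕ} {F : Type*} [Field F]

local notation "hh" => Cfsg.hermForm n F q
local notation "mat" => fun (g : GL (Fin n) F) => (g : Matrix (Fin n) (Fin n) F)

open Classical in
/-- A unitary transvection. -/
noncomputable def tt (q : ℕ) (v : Fin n → F) (c : F) : GL (Fin n) F :=
  if h : uax q v c ⬝ᵥ v = 0 then tvec v (uax q v c) h else 1

variable [Finite F] (hF : Nat.card F = q ^ 2)
include hF

theorem tt_mulVec {v : Fin n → F} (hv : hh v v = 0) (c : F) (y : Fin n → F) :
    mat (tt q v c) *ᵥ y = y + (c * hh y v) • v := by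
  simp only [tt, dif_pos (uax_dot_self hv c), utv_mulVec hF hv]

theorem tt_mem {v : Fin n → F} (hv : hh v v = 0) {c : F} (hc : c + c ^ q = 0) :
    tt q v c ∈ suGL n F q := by
  simp only [tt, dif_pos (uax_dot_self hv c), utv_mem hF hv hc]

theorem tt_conj {v : Fin n → F} (hv : hh v v = 0) (c : F) {g : GL (Fin n) F} (hg : g ∈ suGL n F q) :
    g * tt q v c * g⁻¹ = tt q (mat g *ᵥ v) c := by
  refine gl_ext_mulVec fun y => ?_
  have hgv : hh (mat g *ᵥ v) (mat g *ᵥ v) = 0 := by rw [herm_mulVec hg, hv]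
  simp only [mul_mulVec, tt_mulVec hF hv, tt_mulVec hF hgv, Matrix.mulVec_add, Matrix.mulVec_smul,
    mulVec_inv_mulVec]
  rw [← herm_mulVec hg _ v, mulVec_inv_mulVec]

theorem tt_inv {v : Fin n → F} (hv : hh v v = 0) (c : F) : (tt q v c)⁻¹ = tt q v (-c) := by
  rw [inv_eq_iff_mul_eq_one]
  refine gl_ext_mulVec fun y => ?_
  simp only [mul_mulVec, tt_mulVec hF hv, Units.val_one, Matrix.one_mulVec, (isUnitaryForm hF).add_left,
    (isUnitaryForm hF).smul_left, hv, mul_zero, add_zero]
  module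

theorem eich_mul_tt {A : GL (Fin n) F} {v x : Fin n → F} {s : F} (hv : hh v v = 0) (hxv : hh x v = 0)
    (hA : IsEich q A v x s) (d : F) : IsEich q (A * tt q v d) v x (s + d) := by
  have hf := isUnitaryForm hF (n := n)
  have hvx : hh v x = 0 := by rw [hf.herm, hxv, map_zero]
  intro y
  rw [mul_mulVec, tt_mulVec hF hv, hA]
  simp only [hf.add_left, hf.smul_left, hv, hvx, mul_zero, add_zero]
  module

theorem herm_neg_left (x y : Fin n → F) : hh (-x) y = -hh x y := by
  rw [← neg_one_smul F x, (isUnitaryForm hF).smul_left, neg_one_mul]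

theorem herm_sub_left (x x' y : Fin n → F) : hh (x - x') y = hh x y - hh x' y := by
  rw [sub_eq_add_neg, (isUnitaryForm hF).add_left, herm_neg_left hF, ← sub_eq_add_neg]

theorem herm_sub_right (x y y' : Fin n → F) : hh x (y - y') = hh x y - hh x y' := by
  rw [(isUnitaryForm hF).herm, herm_sub_left hF, map_sub, ← (isUnitaryForm hF).herm,
    ← (isUnitaryForm hF).herm]

theorem pow_q_pow_q (a : F) : (a ^ q) ^ q = a := by
  rw [← frobEquiv_apply hF, ← frobEquiv_apply hF, (isUnitaryForm hF (n := 0)).involutive]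

theorem zero_pow_q : (0 : F) ^ q = 0 := zero_pow (q_ne_zero hF)

theorem neg_pow_q (a : F) : (-a) ^ q = -(a ^ q) := by
  rw [← frobEquiv_apply hF, map_neg, frobEquiv_apply]

theorem sub_pow_q (a b : F) : (a - b) ^ q = a ^ q - b ^ q := by
  rw [← frobEquiv_apply hF, map_sub, frobEquiv_apply, frobEquiv_apply]

/-- A skew element generating a ring containing the fixed field. -/
theorem exists_skew_gen : ∃ κ : F, κ ≠ 0 ∧ κ + κ ^ q = 0 ∧
    ∀ S : Subring F, κ ∈ S → ∀ x : F, x ^ q = x → x ∈ S := by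
  classical
  haveI := Fintype.ofFinite F
  have hq := CfsgLib.Forms.two_le_q hF
  obtain ⟨G, hG⟩ := IsCyclic.exists_monoid_generator (α := Fˣ)
  have hcard : orderOf G = (q + 1) * (q - 1) := by
    rw [orderOf_eq_card_of_forall_mem_zpowers fun x => mem_powers_iff_mem_zpowers.1 (hG x),
      Nat.card_units, hF, ← Nat.sq_sub_sq, one_pow]
  have hgen : ∀ x : F, x ≠ 0 → x ^ q = x → ∃ k, x = ((G : F) ^ (q + 1)) ^ k := by
    intro x hx0 hx
    obtain ⟨k, hk⟩ := Submonoid.mem_powers_iff _ _ |>.1 (hG (Units.mk0 x hx0))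
    have h1 : G ^ (k * (q - 1)) = 1 := by
      rw [pow_mul, hk]
      refine Units.ext ?_
      rw [Units.val_pow_eq_pow_val, Units.val_mk0, Units.val_one]
      refine mul_left_cancel₀ hx0 ?_
      rw [← pow_succ', Nat.sub_add_cancel (by omega), hx, mul_one]
    rw [← orderOf_dvd_iff_pow_eq_one, hcard, Nat.mul_dvd_mul_iff_right (by omega)] at h1
    obtain ⟨j, rfl⟩ := h1
    exact ⟨j, by rw [← pow_mul, ← Units.val_pow_eq_pow_val, hk, Units.val_mk0]⟩
  have hmem : ∀ S : Subring F, (G : F) ^ (q + 1) ∈ S → ∀ x : F, x ^ q = x → x ∈ S := by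
    intro S hS x hx
    rcases eq_or_ne x 0 with rfl | h0
    · exact S.zero_mem
    · obtain ⟨k, rfl⟩ := hgen x h0 hx
      exact pow_mem hS k
  by_cases h2 : (2 : F) = 0
  · refine ⟨(G : F) ^ (q + 1), pow_ne_zero _ G.ne_zero, ?_, hmem⟩
    have e : ((G : F) ^ (q + 1)) ^ q = (G : F) ^ (q + 1) := by
      rw [pow_succ, mul_pow, pow_q_pow_q hF, mul_comm]
    rw [e, ← two_mul, h2, zero_mul]
  · obtain ⟨r, hr⟩ : ∃ r, q + 1 = 2 * r := by
      refine ⟨(q + 1) / 2, ?_⟩
      have hodd : Fintype.card F % 2 = 1 := by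
        refine FiniteField.odd_card_of_char_ne_two fun hc => h2 ?_
        haveI : CharP F 2 := ringChar.of_eq hc
        exact_mod_cast CharP.cast_eq_zero F 2
      rw [← Nat.card_eq_fintype_card, hF, Nat.pow_mod] at hodd
      rcases Nat.mod_two_eq_zero_or_one q with h | h
      · rw [h] at hodd; simp at hodd
      · omega
    have hq1 : (G : F) ^ ((q + 1) * (q - 1)) = 1 := by
      rw [← hcard, ← Units.val_pow_eq_pow_val, pow_orderOf_eq_one, Units.val_one]
    have hm1 : (G : F) ^ (r * (q - 1)) = -1 := by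
      have hsq : ((G : F) ^ (r * (q - 1))) ^ 2 = 1 := by
        rw [← pow_mul, show r * (q - 1) * 2 = (q + 1) * (q - 1) by rw [hr]; ring, hq1]
      refine (sq_eq_one_iff.1 hsq).resolve_left fun e => ?_
      have := orderOf_dvd_iff_pow_eq_one.2 (show G ^ (r * (q - 1)) = 1 from
        Units.ext (by rw [Units.val_pow_eq_pow_val, e, Units.val_one]))
      rw [hcard, Nat.mul_dvd_mul_iff_right (by omega)] at this
      have := Nat.le_of_dvd (by omega) this
      omega
    refine ⟨(G : F) ^ r, pow_ne_zero _ G.ne_zero, ?_, fun S hS => hmem S ?_⟩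
    · have e : ((G : F) ^ r) ^ q = (G : F) ^ r * (G : F) ^ (r * (q - 1)) := by
        rw [← pow_mul, ← pow_add]
        congr 1
        obtain ⟨q', rfl⟩ : ∃ q', q = q' + 1 := ⟨q - 1, by omega⟩
        rw [Nat.add_sub_cancel]
        ring
      rw [e, hm1]
      ring
    · rw [hr, mul_comm, pow_mul]
      exact pow_mem hS 2

/-! ### The moving commutator -/

variable (fr : Frame n F q m)

omit hF in
/-- The commutator of the transvection at the first vector of the second half. -/
noncomputable def yG (del : F) : GL (Fin n) F :=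
  tt q (fr.Fv 0) del * tt q (fr.Fv 0 + fr.Fv 1) (-del)

theorem herm_Fv01 : hh (fr.Fv 0 + fr.Fv 1) (fr.Fv 0 + fr.Fv 1) = 0 := by
  simp [(isUnitaryForm hF).add_left, Unit.add_right (isUnitaryForm hF), fr.FF]

theorem yG_mem {del : F} (hd : del + del ^ q = 0) : yG fr del ∈ suGL n F q :=
  Subgroup.mul_mem _ (tt_mem hF (fr.FF 0 0) hd)
    (tt_mem hF (herm_Fv01 hF fr) (by rw [neg_pow_q hF]; linear_combination -hd))

theorem yG_E_zero (h2 : 2 ≤ m) (del : F) :
    mat (yG fr del) *ᵥ fr.E 0 = fr.E 0 - del • fr.Fv 1 := by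
  simp only [yG, mul_mulVec, tt_mulVec hF (fr.FF 0 0), tt_mulVec hF (herm_Fv01 hF fr),
    (isUnitaryForm hF).add_left, (isUnitaryForm hF).smul_left, Unit.add_right (isUnitaryForm hF),
    fr.FF, fr.EF, true_and, if_pos (show 0 < m by omega), if_neg (show ¬ (0 = 1 ∧ 1 < m) by omega)]
  module

theorem yG_E_one (h2 : 2 ≤ m) (del : F) :
    mat (yG fr del) *ᵥ fr.E 1 = fr.E 1 - del • fr.Fv 0 - del • fr.Fv 1 := by
  simp only [yG, mul_mulVec, tt_mulVec hF (fr.FF 0 0), tt_mulVec hF (herm_Fv01 hF fr),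
    (isUnitaryForm hF).add_left, (isUnitaryForm hF).smul_left, Unit.add_right (isUnitaryForm hF),
    fr.FF, fr.EF, true_and, if_pos (show 1 < m by omega), if_neg (show ¬ (1 = 0 ∧ 0 < m) by omega)]
  module

variable {M : Subgroup (GL (Fin n) F)}

/-- The vector parts at the fixed point. -/
noncomputable def rad (M : Subgroup (GL (Fin n) F)) : AddSubgroup (Fin n → F) where
  carrier := {X | VP q M (fr.E 0) X}
  zero_mem' := by simpa using VP.centre (M := M) hF (fr.EE 0 0) 0
  add_mem' h h' := VP.add hF (fr.EE 0 0) h h'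
  neg_mem' h := VP.neg hF (fr.EE 0 0) h

theorem mem_rad {X : Fin n → F} : X ∈ rad hF fr M ↔ VP q M (fr.E 0) X := Iff.rfl

theorem rad_centre_add {X : Fin n → F} (c : F) (h : X ∈ rad hF fr M) :
    X + c • fr.E 0 ∈ rad hF fr M := VP.shift hF (fr.EE 0 0) h c

variable {lam : F} (hlam : lam + lam ^ q + 1 = 0) (hMI : M ≤ suGL n F q) (hu : uG fr lam ∈ M)
include hlam hMI hu

theorem rad_u {X : Fin n → F} (h : X ∈ rad hF fr M) :
    mat (uG fr lam) *ᵥ X ∈ rad hF fr M := by
  have h1 := VP.conj hMI hu h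
  rwa [u_E_zero hF fr hlam] at h1

theorem rad_nM {X : Fin n → F} (h : X ∈ rad hF fr M) : nM fr lam *ᵥ X ∈ rad hF fr M := by
  rw [nM_mulVec]
  exact sub_mem (rad_u hF fr hlam hMI hu h) h

theorem rad_chain (h2 : 2 ≤ m) {a : F} (h : a • fr.Fv 1 ∈ rad hF fr M) :
    ∀ j, a • chain fr lam (j + 1) ∈ rad hF fr M
  | 0 => by rwa [chain, nM_pow_Fv hF fr hlam 0 (by omega)]
  | j + 1 => by
    rw [chain_succ, ← Matrix.mulVec_smul]
    exact rad_nM hF fr hlam hMI hu (rad_chain h2 h j)

theorem rad_E_one (h2 : 2 ≤ m) {a : F} (h : a • fr.Fv 1 ∈ rad hF fr M) :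
    a • fr.E 1 ∈ rad hF fr M := by
  obtain ⟨r, hr⟩ := chain_pre hF fr hlam h2
  have h1 := rad_chain hF fr hlam hMI hu h2 h (2 * m - 2)
  rw [show 2 * m - 2 + 1 = 2 * m - 1 by omega, hr, smul_add, smul_smul, smul_smul] at h1
  have h3 := rad_centre_add hF fr (-(a * r)) h1
  rw [add_assoc, ← add_smul, add_neg_cancel, zero_smul, add_zero] at h3
  rcases neg_one_pow_eq_or F (m - 1) with e | e <;> rw [e] at h3
  · rwa [mul_one] at h3
  · rw [mul_neg_one, neg_smul] at h3
    exact neg_mem_iff.1 h3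

/-- The transvection appearing next to a multiple of the second vector. -/
theorem skew_mem (h2 : 2 ≤ m) {c : F} (h : c • fr.E 1 ∈ rad hF fr M) :
    tt q (fr.E 0) (c - c ^ q) ∈ M := by
  obtain ⟨hx, A, hA, s, hs⟩ := h
  have hB := M.mul_mem (M.mul_mem hu hA) (M.inv_mem hu)
  have hBs := hs.conj (hMI hu)
  rw [u_E_zero hF fr hlam, Matrix.mulVec_smul, u_E_succ hF fr hlam (show 0 + 1 < m by omega),
    u_E_zero hF fr hlam, smul_sub] at hBs
  have h3 := eich_mul_tt hF (fr.EE 0 0) hx (x := c • fr.E 1) (s := s - c + c ^ q)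
    (by simpa using hBs.shift hF c) (c - c ^ q)
  rw [show s - c + c ^ q + (c - c ^ q) = s by ring] at h3
  have e := IsEich.eq h3 hs
  have := M.mul_mem (M.inv_mem hB) hA
  rwa [← eq_inv_mul_of_mul_eq e] at this

section move

variable (h2 : 2 ≤ m) {del : F} (hdel : del + del ^ q = 0) (hy : yG fr del ∈ M)
include h2 hdel hy

/-- The bracket with the moved transvection. -/
theorem bracket {d : F} (hd : d + d ^ q = 0) (hT : tt q (fr.E 0) d ∈ M) {X : Fin n → F}
    (hX : X ∈ rad hF fr M) : (d * del ^ 2 * hh X (fr.Fv 1)) • fr.Fv 1 ∈ rad hF fr M := by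
  obtain ⟨hXe, A, hA, s, hs⟩ := hX
  have hf := isUnitaryForm hF (n := n)
  set e := fr.E 0 with he
  set v := e - del • fr.Fv 1 with hvdef
  have hee : hh e e = 0 := fr.EE 0 0
  have hef : hh e (fr.Fv 1) = 0 := by rw [he, fr.EF, if_neg (by omega)]
  have hfe : hh (fr.Fv 1) e = 0 := by rw [he, fr.FE, if_neg (by omega)]
  have hve : hh v e = 0 := by
    rw [hvdef, herm_sub_left hF, hf.smul_left, hee, hfe, mul_zero, sub_zero]
  have hev : hh e v = 0 := by rw [hf.herm, hve, map_zero]
  have hv : hh v v = 0 := by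
    rw [hvdef, herm_sub_left hF, herm_sub_right hF, herm_sub_right hF, hf.smul_left, hf.smul_left,
      Unit.smul_right hf, Unit.smul_right hf, hee, hef, hfe, fr.FF]
    ring
  have hTv : tt q v d ∈ M := by
    have h := M.mul_mem (M.mul_mem hy hT) (M.inv_mem hy)
    rwa [tt_conj hF hee d (hMI hy), yG_E_zero hF fr h2] at h
  set k := -hh v X with hk
  have hAv : mat A *ᵥ v = v + k • e := by
    change (A : Matrix (Fin n) (Fin n) F) *ᵥ v = _
    rw [hs v, hve, hk]; module
  have hve' : hh (v + k • e) (v + k • e) = 0 := by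
    simp only [hf.add_left, Unit.add_right hf, hf.smul_left, Unit.smul_right hf, hv, hve, hev, hee,
      mul_zero, add_zero]
  have hB : tt q (v + k • e) d * tt q v (-d) ∈ M := by
    have h := M.mul_mem (M.mul_mem (M.mul_mem hA hTv) (M.inv_mem hA)) (M.inv_mem hTv)
    rwa [tt_conj hF hv d (hMI hA), hAv, tt_inv hF hv] at h
  have hdq : d ^ q = -d := by linear_combination hd
  have hkq : hh X v = -(k ^ q) := by
    rw [hk, neg_pow_q hF, neg_neg, ← frobEquiv_apply hF, ← hf.herm]
  have hXv : hh X v = del * hh X (fr.Fv 1) := by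
    rw [hvdef, herm_sub_right hF, Unit.smul_right hf, hXe, frobEquiv_apply]
    linear_combination -(hh X (fr.Fv 1)) * hdel
  have hvp : VP q M e ((d * k ^ q) • v) := by
    refine ⟨by rw [hf.smul_left, hve, mul_zero], _, hB, d * k * k ^ q, fun y => ?_⟩
    simp only [mul_mulVec, tt_mulVec hF hv, tt_mulVec hF hve', Unit.smul_right hf, Unit.add_right hf,
      hf.add_left, hf.smul_left, hv, hve, mul_zero, add_zero, map_mul, frobEquiv_apply,
      pow_q_pow_q hF, hdq]
    module
  have h3 := rad_centre_add hF fr (-(d * k ^ q)) ((mem_rad hF fr).2 hvp)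
  rw [hvdef, smul_sub, smul_smul, ← he] at h3
  convert h3 using 1
  have hkk : k ^ q = -(del * hh X (fr.Fv 1)) := by rw [← hXv, hkq, neg_neg]
  rw [hkk]
  module

/-- The seeds fill the radical and give everything. -/
theorem su_le_of_seeds (hn : 4 ≤ n) {c : F} (hc : c • fr.E 1 ∈ rad hF fr M) {V : Fin n → F}
    (hV : V ∈ rad hF fr M) (hV1 : hh V (fr.Fv 1) = 1) (hd0 : c - c ^ q ≠ 0) (hdel0 : del ≠ 0)
    (hS : ∀ S : Subring F, (c - c ^ q) * del ^ 2 ∈ S → ∀ x : F, x ^ q = x → x ∈ S) :
    suGL n F q ≤ M := by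
  have hf := isUnitaryForm hF (n := n)
  have hd : (c - c ^ q) + (c - c ^ q) ^ q = 0 := by
    rw [sub_pow_q hF, pow_q_pow_q hF]; ring
  have hT := skew_mem hF fr hlam hMI hu h2 hc
  set κ := (c - c ^ q) * del ^ 2 with hκdef
  have hκ : κ ≠ 0 := mul_ne_zero hd0 (pow_ne_zero _ hdel0)
  have hstep : ∀ {a : F}, a • fr.Fv 1 ∈ rad hF fr M → (κ * a) • fr.Fv 1 ∈ rad hF fr M := fun {a} ha => by
    have := bracket hF fr hlam hMI hu h2 hdel hy hd hT (rad_E_one hF fr hlam hMI hu h2 ha)
    rwa [hf.smul_left, fr.EF, if_pos ⟨rfl, by omega⟩, mul_one] at this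
  let S : Subring F :=
    { carrier := {r | ∀ a : F, a • fr.Fv 1 ∈ rad hF fr M → (r * a) • fr.Fv 1 ∈ rad hF fr M}
      one_mem' := fun a ha => by rwa [one_mul]
      mul_mem' := fun {r s} hr hs a ha => by rw [mul_assoc]; exact hr _ (hs a ha)
      zero_mem' := fun a _ => by rw [zero_mul, zero_smul]; exact zero_mem _
      add_mem' := fun {r s} hr hs a ha => by rw [add_mul, add_smul]; exact add_mem (hr a ha) (hs a ha)
      neg_mem' := fun {r} hr a ha => by rw [neg_mul, neg_smul]; exact neg_mem (hr a ha) }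
  have hfix : ∀ x : F, x ^ q = x → x ∈ S := hS S fun a ha => hstep ha
  have hone : κ • fr.Fv 1 ∈ rad hF fr M := by
    have := bracket hF fr hlam hMI hu h2 hdel hy hd hT hV
    rwa [hV1, mul_one] at this
  have hcc : (κ * c) • fr.Fv 1 ∈ rad hF fr M := by
    have := bracket hF fr hlam hMI hu h2 hdel hy hd hT hc
    rwa [hf.smul_left, fr.EF, if_pos ⟨rfl, by omega⟩, mul_one] at this
  have hP : ∀ a : F, a • fr.Fv 1 ∈ rad hF fr M := fun a => by
    set y := a / κ with hy'
    set t2 := (y - y ^ q) / (c - c ^ q) with ht2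
    have h2q : t2 ^ q = t2 := by
      rw [ht2, div_pow, sub_pow_q hF, sub_pow_q hF, pow_q_pow_q hF, pow_q_pow_q hF, ← neg_sub,
        ← neg_sub c, neg_div_neg_eq]
    have h1q : (y - c * t2) ^ q = y - c * t2 := by
      have e : t2 * (c - c ^ q) = y - y ^ q := div_mul_cancel₀ _ hd0
      rw [sub_pow_q hF, mul_pow, h2q]
      linear_combination e
    have h := add_mem (hfix _ h1q _ hone) (hfix _ h2q _ hcc)
    rwa [← add_smul, show (y - c * t2) * κ + t2 * (κ * c) = a by
      rw [hy']; field_simp; ring] at h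
  have hall : ∀ x, hh x (fr.E 0) = 0 → VP q M (fr.E 0) x := by
    intro x hx
    obtain ⟨g, rfl⟩ := exists_coords hF fr hlam x
    rw [← mem_rad hF fr]
    have hd' := fr.dim
    have hlin : ∀ s : Finset (Fin n), hh (∑ i ∈ s, g i • chain fr lam i.val) (fr.E 0) =
        ∑ i ∈ s, g i * hh (chain fr lam i.val) (fr.E 0) := fun s => by
      induction s using Finset.cons_induction with
      | empty => simp [(Unit.linLeft hf).zero_left]
      | cons a s ha ih => rw [Finset.sum_cons, Finset.sum_cons, hf.add_left, hf.smul_left, ih]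
    have h0 : g ⟨0, by omega⟩ = 0 := by
      rw [hlin, Finset.sum_eq_single ⟨0, by omega⟩] at hx
      · rwa [chain, pow_zero, Matrix.one_mulVec, fr.FE, if_pos ⟨rfl, by omega⟩, mul_one] at hx
      · intro i _ hi
        have : i.val ≠ 0 := fun e => hi (Fin.ext e)
        rw [show i.val = i.val - 1 + 1 by omega, chain_succ, herm_nM_E hF fr hlam, mul_zero]
      · simp
    refine sum_mem fun i _ => ?_
    by_cases hi : i.val = 0
    · rw [show i = ⟨0, by omega⟩ from Fin.ext hi, h0, zero_smul]; exact zero_mem _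
    · have := rad_chain hF fr hlam hMI hu h2 (hP (g i)) (i.val - 1)
      rwa [Nat.sub_add_cancel (by omega)] at this
  have he : Full q M (fr.E 0) := full_of_vp hF (fr.EE 0 0) hall (z := fr.Fv 1) (w := fr.E 1)
    (by rw [fr.FE, if_neg (by omega)]) (fr.EE 1 0) (by rw [fr.FE, if_pos ⟨rfl, by omega⟩])
  have hv := full_conj hF hMI he hy
  rw [yG_E_zero hF fr h2] at hv
  obtain ⟨-, A, hA, s, hs⟩ := hall (del⁻¹ • fr.E 1) (by rw [hf.smul_left, fr.EE, mul_zero])
  have hdq : del ^ q = -del := by linear_combination hdel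
  have hp := full_conj hF hMI hv hA
  rw [hs, show hh (fr.E 0 - del • fr.Fv 1) (fr.E 0) = 0 by
      rw [herm_sub_left hF, hf.smul_left, fr.EE, fr.FE, if_neg (by omega), mul_zero, sub_zero],
    show hh (fr.E 0 - del • fr.Fv 1) (del⁻¹ • fr.E 1) = 1 by
      rw [herm_sub_left hF, hf.smul_left, Unit.smul_right hf, Unit.smul_right hf, fr.EE, fr.FE,
        if_pos ⟨rfl, by omega⟩, frobEquiv_apply, inv_pow, hdq]
      field_simp
      ring] at hp
  have hf1 : Full q M (fr.Fv 1) := by
    have := full_smul hF hp (-del⁻¹)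
    convert this using 1
    match_scalars <;> field_simp <;> ring
  obtain ⟨k, hk⟩ : ∃ k : ℕ, hh (mat (yG fr del * uG fr lam ^ k) *ᵥ fr.Fv 1) (fr.E 0) ≠ 0 := by
    by_contra hcon
    push Not at hcon
    have key : ∀ j k, hh (mat (yG fr del * uG fr lam ^ k) *ᵥ chain fr lam (j + 1)) (fr.E 0) = 0 := by
      intro j
      induction j with
      | zero => intro k; rw [chain, nM_pow_Fv hF fr hlam 0 (by omega)]; exact hcon k
      | succ j ih =>
        intro k
        have h1 := ih (k + 1)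
        simp only [pow_succ, mul_mulVec] at h1
        rw [chain_succ, nM_mulVec]
        simp only [mul_mulVec, Matrix.mulVec_sub, herm_sub_left hF]
        rw [h1, show hh _ _ = 0 from by simpa only [mul_mulVec] using ih k, sub_zero]
    obtain ⟨r, hr⟩ := chain_pre hF fr hlam h2
    have h := key (2 * m - 2) 0
    rw [show 2 * m - 2 + 1 = 2 * m - 1 by omega, pow_zero, mul_one, hr] at h
    simp only [Matrix.mulVec_add, Matrix.mulVec_smul, yG_E_zero hF fr h2, yG_E_one hF fr h2,
      hf.add_left, hf.smul_left, herm_sub_left hF, fr.EE, fr.FE, true_and, if_pos (show 0 < m by omega),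
      if_neg (show ¬ (1 = 0 ∧ 0 < m) by omega)] at h
    refine mul_ne_zero (pow_ne_zero (m - 1) (neg_ne_zero.2 one_ne_zero)) hdel0 ?_
    linear_combination -h
  exact suGL_le_of_vp hF hn hMI he (full_conj hF hMI hf1 (M.mul_mem hy (pow_mem hu k))) hk hall

end move

end CfsgLib.Geo.SUThreeConj
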