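import Cfsg.Agent.Geo.SUTwoConjBasic

/-!
Two conjugate regular unipotent elements generate the special unitary group in dimension three:
certificates for the two small exceptional fields.
-/

set_option autoImplicit false
set_option linter.unusedSectionVars false
set_option linter.unusedSimpArgs false
set_option linter.unreachableTactic false
set_option linter.unusedTactic false
set_option linter.style.longLine false
set_option maxHeartbeats 1000000

namespace CfsgLib.Geo.SUTwoConj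

open Matrix Cfsg Cfsg.Geo CfsgLib.Geo CfsgLib.Geo.UTv CfsgLib.Geo.SUThreeConj

variable {q : ℕ} {F : Type*} [Field F] [Finite F] (hF : Nat.card F = q ^ 2) (fr : Frame 3 F q 1)

local notation "hh" => Cfsg.hermForm 3 F q
local notation "mat" => fun (g : GL (Fin 3) F) => (g : Matrix (Fin 3) (Fin 3) F)

theorem inv_mul {g : GL (Fin 3) F} {a b : Fin 3 → F} (h : mat g *ᵥ a = b) :
    mat g⁻¹ *ᵥ b = a := by rw [← h, inv_mulVec_mulVec]

theorem field_arith_five : ∀ (s : Fin 26) (k : Fin 5),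
    (2 ≤ s.val ∧ 2 ≤ k.val ∧ s.val ^ k.val = 25) → s.val = 5 := by
  decide +kernel

theorem field_arith_eight : ∀ (s : Fin 9) (k : Fin 7),
    (2 ≤ s.val ∧ 2 ≤ k.val ∧ s.val ^ k.val = 64) → (s.val = 2 ∨ s.val = 4 ∨ s.val = 8) := by
  decide +kernel

include hF

theorem two_conjugates_five (hq : q = 5) : ∃ lam : F, lam + lam ^ q + 1 = 0 ∧
    ∃ g ∈ suGL 3 F q, ∀ M : Subgroup (GL (Fin 3) F), M ≤ suGL 3 F q →
      uG fr lam ∈ M → g * uG fr lam * g⁻¹ ∈ M → suGL 3 F q ≤ M := by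
  haveI := Fintype.ofFinite F
  have hp : (5 : F) = 0 := by
    have h : ((Fintype.card F : ℕ) : F) = 0 := Nat.cast_card_eq_zero F
    rw [← Nat.card_eq_fintype_card, hF, hq] at h
    push_cast at h
    exact eq_zero_of_pow_eq_zero (n := 2) (by linear_combination h)
  obtain ⟨G0, hG0⟩ := IsCyclic.exists_monoid_generator (α := Fˣ)
  have hord : orderOf G0 = 24 := by
    rw [orderOf_eq_card_of_forall_mem_zpowers fun x => mem_powers_iff_mem_zpowers.1 (hG0 x),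
      Nat.card_units, hF, hq]
    all_goals norm_num
  set w : F := (G0 : F) ^ 8 with hwdef
  have hw3 : w ^ 3 = 1 := by
    rw [hwdef, ← pow_mul, ← Units.val_pow_eq_pow_val, show 8 * 3 = orderOf G0 by rw [hord],
      pow_orderOf_eq_one, Units.val_one]
  have hw1 : w - 1 ≠ 0 := by
    rw [hwdef, sub_ne_zero, ← Units.val_pow_eq_pow_val, Ne, Units.val_eq_one]
    intro e
    have := orderOf_dvd_iff_pow_eq_one.2 e
    rw [hord] at this
    omega
  have hw : w ^ 2 + w + 1 = 0 := by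
    refine (mul_eq_zero.1 (show (w - 1) * (w ^ 2 + w + 1) = 0 by linear_combination hw3)).resolve_left hw1
  have hwq : w ^ q = w ^ 2 := by rw [hq]; linear_combination w ^ 2 * hw3
  have hc : ∀ a0 a1 : ℕ, ((a0 : F) + (a1 : F) * w) ^ q = a0 + a1 * w ^ 2 := fun a0 a1 => by
    simp only [← frobEquiv_apply hF] at hwq ⊢
    simp only [map_add, map_mul, map_natCast, hwq]
  have hlam : (w : F) + (w : F) ^ q + 1 = 0 := by
    rw [show (w : F) ^ q = (4 + 4 * w : F) from (by rw [show (w : F) = ((0 : ℕ) : F) + ((1 : ℕ) : F) * w by push_cast; ring, hc]; push_cast; linear_combination (1 : F) * hw + (-1 - w : F) * hp)]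
    linear_combination (0 : F) * hw + (1 + w : F) * hp
  let A : Fin 3 → Fin 3 → F := ![![(0 : F), (0 : F), (1 + 3 * w : F)], ![(0 : F), (w : F), (0 : F)], ![(3 + 4 * w : F), (0 : F), (0 : F)]]
  have cj0 : (1 + 3 * w : F) ^ q = (3 + 2 * w : F) := (by rw [show (1 + 3 * w : F) = ((1 : ℕ) : F) + ((3 : ℕ) : F) * w by push_cast; ring, hc]; push_cast; linear_combination (3 : F) * hw + (-1 - w : F) * hp)
  have cj1 : (w : F) ^ q = (4 + 4 * w : F) := (by rw [show (w : F) = ((0 : ℕ) : F) + ((1 : ℕ) : F) * w by push_cast; ring, hc]; push_cast; linear_combination (1 : F) * hw + (-1 - w : F) * hp)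
  have cj2 : (3 + 4 * w : F) ^ q = (4 + w : F) := (by rw [show (3 + 4 * w : F) = ((3 : ℕ) : F) + ((4 : ℕ) : F) * w by push_cast; ring, hc]; push_cast; linear_combination (4 : F) * hw + (-1 - w : F) * hp)
  obtain ⟨g, hgm, hg⟩ := exists_su_of_coords hF fr (A := A) (B := ![![1, 0, 0], ![0, 1, 0], ![0, 0, 1]])
    (fun i j => by
      fin_cases i <;> fin_cases j
      · simp [A, cj0, cj1, cj2, q_ne_zero hF] <;> linear_combination (0 : F) * hw + (0 : F) * hp
      · simp [A, cj0, cj1, cj2, q_ne_zero hF] <;> linear_combination (0 : F) * hw + (0 : F) * hp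
      · simp [A, cj0, cj1, cj2, q_ne_zero hF] <;> linear_combination (3 : F) * hw + (2 * w : F) * hp
      · simp [A, cj0, cj1, cj2, q_ne_zero hF] <;> linear_combination (0 : F) * hw + (0 : F) * hp
      · simp [A, cj0, cj1, cj2, q_ne_zero hF] <;> linear_combination (4 : F) * hw + (-1 : F) * hp
      · simp [A, cj0, cj1, cj2, q_ne_zero hF] <;> linear_combination (0 : F) * hw + (0 : F) * hp
      · simp [A, cj0, cj1, cj2, q_ne_zero hF] <;> linear_combination (8 : F) * hw + (2 * w : F) * hp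
      · simp [A, cj0, cj1, cj2, q_ne_zero hF] <;> linear_combination (0 : F) * hw + (0 : F) * hp
      · simp [A, cj0, cj1, cj2, q_ne_zero hF] <;> linear_combination (0 : F) * hw + (0 : F) * hp
      )
    (by
      rw [Matrix.det_fin_three, Matrix.det_fin_three]
      simp [A] <;> linear_combination (-1 - 12 * w : F) * hw + (2 * w : F) * hp)
    (by rw [Matrix.det_fin_three]; simp)
  have hgv : ∀ x y z : F, mat g *ᵥ vec fr ![x, y, z] = vec fr ![(0 : F) * x + (0 : F) * y + (3 + 4 * w : F) * z, (0 : F) * x + (w : F) * y + (0 : F) * z, (1 + 3 * w : F) * x + (0 : F) * y + (0 : F) * z] := by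
    intro x y z
    have e : vec fr ![x, y, z] = x • vec fr ![1, 0, 0] + y • vec fr ![0, 1, 0] + z • vec fr ![0, 0, 1] := by
      simp [vec]
    rw [e]
    simp only [Matrix.mulVec_add, Matrix.mulVec_smul]
    rw [show mat g *ᵥ vec fr ![1, 0, 0] = vec fr (A 0) from hg 0,
      show mat g *ᵥ vec fr ![0, 1, 0] = vec fr (A 1) from hg 1,
      show mat g *ᵥ vec fr ![0, 0, 1] = vec fr (A 2) from hg 2]
    simp only [A, vec, Matrix.cons_val_zero, Matrix.cons_val_one, Matrix.cons_val]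
    module
  set lam := (w : F) with hlamdef
  have s1 : mat g *ᵥ vec fr ![(4 + w : F), (0 : F), (0 : F)] = vec fr ![(0 : F), (0 : F), (1 : F)] := (hgv _ _ _).trans (congrArg (vec fr) (by
    funext i
    fin_cases i
    · simp <;> linear_combination (0 : F) * hw + (0 : F) * hp
    · simp <;> linear_combination (0 : F) * hw + (0 : F) * hp
    · simp <;> linear_combination (3 : F) * hw + (2 * w : F) * hp
    ))
  have s2 : mat (uG fr lam) *ᵥ vec fr ![(4 + w : F), (0 : F), (0 : F)] = vec fr ![(4 + w : F), (4 + w : F), (4 + 3 * w : F)] := (u_vec hF fr hlam _).trans (congrArg (vec fr) (by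
    funext i
    fin_cases i
    · simp <;> linear_combination (0 : F) * hw + (0 : F) * hp
    · simp <;> linear_combination (0 : F) * hw + (0 : F) * hp
    · simp <;> linear_combination (1 : F) * hw + (-1 : F) * hp
    ))
  have s3 : mat g *ᵥ vec fr ![(4 + w : F), (4 + w : F), (4 + 3 * w : F)] = vec fr ![(3 * w : F), (4 + 3 * w : F), (1 : F)] := (hgv _ _ _).trans (congrArg (vec fr) (by
    funext i
    fin_cases i
    · simp <;> linear_combination (12 : F) * hw + (2 * w : F) * hp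
    · simp <;> linear_combination (1 : F) * hw + (-1 : F) * hp
    · simp <;> linear_combination (3 : F) * hw + (2 * w : F) * hp
    ))
  have s4 : mat g *ᵥ vec fr ![(4 + w : F), (4 + w : F), (4 + 3 * w : F)] = vec fr ![(3 * w : F), (4 + 3 * w : F), (1 : F)] := (hgv _ _ _).trans (congrArg (vec fr) (by
    funext i
    fin_cases i
    · simp <;> linear_combination (12 : F) * hw + (2 * w : F) * hp
    · simp <;> linear_combination (1 : F) * hw + (-1 : F) * hp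
    · simp <;> linear_combination (3 : F) * hw + (2 * w : F) * hp
    ))
  have s5 : mat (uG fr lam) *ᵥ vec fr ![(4 + w : F), (4 + w : F), (4 + 3 * w : F)] = vec fr ![(4 + w : F), (3 + 2 * w : F), (4 : F)] := (u_vec hF fr hlam _).trans (congrArg (vec fr) (by
    funext i
    fin_cases i
    · simp <;> linear_combination (0 : F) * hw + (0 : F) * hp
    · simp <;> linear_combination (0 : F) * hw + (1 : F) * hp
    · simp <;> linear_combination (1 : F) * hw + (-1 + w : F) * hp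
    ))
  have s6 : mat g *ᵥ vec fr ![(4 + w : F), (3 + 2 * w : F), (4 : F)] = vec fr ![(2 + w : F), (3 + w : F), (1 : F)] := (hgv _ _ _).trans (congrArg (vec fr) (by
    funext i
    fin_cases i
    · simp <;> linear_combination (0 : F) * hw + (2 + 3 * w : F) * hp
    · simp <;> linear_combination (2 : F) * hw + (-1 : F) * hp
    · simp <;> linear_combination (3 : F) * hw + (2 * w : F) * hp
    ))
  have s7 : mat (uG fr lam) *ᵥ vec fr ![(2 + w : F), (3 + w : F), (1 : F)] = vec fr ![(2 + w : F), (2 * w : F), (2 : F)] := (u_vec hF fr hlam _).trans (congrArg (vec fr) (by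
    funext i
    fin_cases i
    · simp <;> linear_combination (0 : F) * hw + (0 : F) * hp
    · simp <;> linear_combination (0 : F) * hw + (1 : F) * hp
    · simp <;> linear_combination (1 : F) * hw + (-1 : F) * hp
    ))
  have s8 : mat (uG fr lam) *ᵥ vec fr ![(2 + w : F), (2 * w : F), (2 : F)] = vec fr ![(2 + w : F), (2 + 3 * w : F), (1 + 4 * w : F)] := (u_vec hF fr hlam _).trans (congrArg (vec fr) (by
    funext i
    fin_cases i
    · simp <;> linear_combination (0 : F) * hw + (0 : F) * hp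
    · simp <;> linear_combination (0 : F) * hw + (0 : F) * hp
    · simp <;> linear_combination (1 : F) * hw + (-w : F) * hp
    ))
  have s9 : mat (uG fr lam) *ᵥ vec fr ![(2 + w : F), (2 + 3 * w : F), (1 + 4 * w : F)] = vec fr ![(2 + w : F), (4 + 4 * w : F), (3 + 2 * w : F)] := (u_vec hF fr hlam _).trans (congrArg (vec fr) (by
    funext i
    fin_cases i
    · simp <;> linear_combination (0 : F) * hw + (0 : F) * hp
    · simp <;> linear_combination (0 : F) * hw + (0 : F) * hp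
    · simp <;> linear_combination (1 : F) * hw + (-1 : F) * hp
    ))
  have s10 : mat g *ᵥ vec fr ![(4 * w : F), (w : F), (4 : F)] = vec fr ![(2 + w : F), (4 + 4 * w : F), (3 + 2 * w : F)] := (hgv _ _ _).trans (congrArg (vec fr) (by
    funext i
    fin_cases i
    · simp <;> linear_combination (0 : F) * hw + (2 + 3 * w : F) * hp
    · simp <;> linear_combination (1 : F) * hw + (-1 - w : F) * hp
    · simp <;> linear_combination (12 : F) * hw + (-3 - 2 * w : F) * hp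
    ))
  have s11 : mat (uG fr lam) *ᵥ vec fr ![(4 * w : F), (w : F), (4 : F)] = vec fr ![(4 * w : F), (0 : F), (0 : F)] := (u_vec hF fr hlam _).trans (congrArg (vec fr) (by
    funext i
    fin_cases i
    · simp <;> linear_combination (0 : F) * hw + (0 : F) * hp
    · simp <;> linear_combination (0 : F) * hw + (w : F) * hp
    · simp <;> linear_combination (4 : F) * hw + (-w : F) * hp
    ))
  have s12 : mat g *ᵥ vec fr ![(4 * w : F), (0 : F), (0 : F)] = vec fr ![(0 : F), (0 : F), (3 + 2 * w : F)] := (hgv _ _ _).trans (congrArg (vec fr) (by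
    funext i
    fin_cases i
    · simp <;> linear_combination (0 : F) * hw + (0 : F) * hp
    · simp <;> linear_combination (0 : F) * hw + (0 : F) * hp
    · simp <;> linear_combination (12 : F) * hw + (-3 - 2 * w : F) * hp
    ))
  refine ⟨lam, hlam, g, hgm, fun M hMI hu hc' => ?_⟩
  have hE : fr.E 0 = vec fr ![(0 : F), (0 : F), (1 : F)] := vec_E hF fr
  have hGconj : (3 + 2 * w : F) ^ q = (1 + 3 * w : F) := by
    rw [show (3 + 2 * w : F) = ((3 : ℕ) : F) + ((2 : ℕ) : F) * w by push_cast; ring, hc]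
    push_cast
    linear_combination (2 : F) * hw + (-w : F) * hp
  have hG0 : (3 + 2 * w : F) ≠ 0 := left_ne_zero_of_mul_eq_one (b := (3 + 4 * w : F)) (by linear_combination (8 : F) * hw + (2 * w : F) * hp)
  have hx0 : (3 * w : F) ≠ 0 := left_ne_zero_of_mul_eq_one (b := (3 + 3 * w : F)) (by linear_combination (9 : F) * hw + (-2 : F) * hp)
  refine su_le_of_word hF fr hlam (by omega) hMI hu (c := (g * uG fr lam * g⁻¹)) hc' ?_
    (W := (g * uG fr lam * g⁻¹) * uG fr lam * uG fr lam * uG fr lam * (g * uG fr lam * g⁻¹) * (g * uG fr lam * g⁻¹)) (M.mul_mem (M.mul_mem (M.mul_mem (M.mul_mem (M.mul_mem hc' hu) hu) hu) hc') hc') hG0 ?_ ?_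
  · simp only [mul_mulVec, _root_.mul_inv_rev, inv_inv] at *
    rw [hE, inv_mul (h := s1), s2, s3, herm_vec hF]
    simpa [q_ne_zero hF] using hx0
  · simp only [mul_mulVec, _root_.mul_inv_rev, inv_inv] at *
    rw [hE, inv_mul (h := s1), s2, s3, inv_mul (h := s4), s5, s6, s7, s8, s9, inv_mul (h := s10), s11, s12]
    simp [vec]
  · intro S hS x
    by_contra hx
    obtain ⟨s, k, hs, hk, hsk, hfix⟩ := exists_card_subring hF S hx
    have hC : ((3 + 2 * w : F) ^ q) ^ 2 / (3 + 2 * w : F) = (3 + w : F) := by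
      rw [hGconj, div_eq_iff hG0]
      linear_combination (7 : F) * hw + (-3 - 2 * w : F) * hp
    have h := hfix _ hS
    rw [hC] at h
    rw [hq] at hsk
    have hk5 : k < 5 := by
      by_contra hk'
      have h1 := Nat.pow_le_pow_right (show 1 ≤ 2 by omega) (show 5 ≤ k by omega)
      have h2 := Nat.pow_le_pow_left hs k
      norm_num at h1 hsk
      omega
    have hs26 : s < 26 := by
      have := Nat.le_self_pow (show k ≠ 0 by omega) s
      norm_num at hsk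
      omega
    obtain rfl : s = 5 := field_arith_five ⟨s, hs26⟩ ⟨k, hk5⟩ ⟨hs, hk, by norm_num at hsk ⊢; exact hsk⟩
    have h5 : (3 + w : F) ^ 5 = (2 + 4 * w : F) := by
      linear_combination (181 + 75 * w + 14 * w ^ 2 + w ^ 3 : F) * hw + (12 + 29 * w : F) * hp
    rw [h5, ← sub_eq_zero] at h
    refine one_ne_zero (α := F) ?_
    have hD : ((2 + 4 * w : F) - (3 + w : F)) * (2 + 4 * w : F) = 1 := by
      linear_combination (12 : F) * hw + (-3 - 2 * w : F) * hp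
    rw [← hD, h, zero_mul]


theorem two_conjugates_eight (hq : q = 8) : ∃ lam : F, lam + lam ^ q + 1 = 0 ∧
    ∃ g ∈ suGL 3 F q, ∀ M : Subgroup (GL (Fin 3) F), M ≤ suGL 3 F q →
      uG fr lam ∈ M → g * uG fr lam * g⁻¹ ∈ M → suGL 3 F q ≤ M := by
  haveI := Fintype.ofFinite F
  have hp : (2 : F) = 0 := by
    have h : ((Fintype.card F : ℕ) : F) = 0 := Nat.cast_card_eq_zero F
    rw [← Nat.card_eq_fintype_card, hF, hq] at h
    push_cast at h
    exact eq_zero_of_pow_eq_zero (n := 6) (by linear_combination h)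
  obtain ⟨G0, hG0⟩ := IsCyclic.exists_monoid_generator (α := Fˣ)
  have hord : orderOf G0 = 63 := by
    rw [orderOf_eq_card_of_forall_mem_zpowers fun x => mem_powers_iff_mem_zpowers.1 (hG0 x),
      Nat.card_units, hF, hq]
    all_goals norm_num
  set w : F := (G0 : F) ^ 7 with hwdef
  have hw9 : w ^ 9 = 1 := by
    rw [hwdef, ← pow_mul, ← Units.val_pow_eq_pow_val, show 7 * 9 = orderOf G0 by rw [hord],
      pow_orderOf_eq_one, Units.val_one]
  have hw1 : w ^ 3 - 1 ≠ 0 := by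
    rw [hwdef, ← pow_mul, sub_ne_zero, ← Units.val_pow_eq_pow_val, Ne, Units.val_eq_one]
    intro e
    have := orderOf_dvd_iff_pow_eq_one.2 e
    rw [hord] at this
    omega
  have hw : w ^ 6 + w ^ 3 + 1 = 0 := by
    refine (mul_eq_zero.1 (show (w ^ 3 - 1) * (w ^ 6 + w ^ 3 + 1) = 0 by linear_combination hw9)).resolve_left hw1
  have hwq : w ^ q = w ^ 8 := by rw [hq]
  have hc : ∀ a0 a1 a2 a3 a4 a5 : ℕ,
      ((a0 : F) + (a1 : F) * w + (a2 : F) * w ^ 2 + (a3 : F) * w ^ 3 + (a4 : F) * w ^ 4 + (a5 : F) * w ^ 5) ^ q =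
        a0 + a1 * w ^ 8 + a2 * w ^ 16 + a3 * w ^ 24 + a4 * w ^ 32 + a5 * w ^ 40 := fun a0 a1 a2 a3 a4 a5 => by
    simp only [← frobEquiv_apply hF] at hwq ⊢
    simp only [map_add, map_mul, map_pow, map_natCast, hwq]
    ring
  have hlam : (w ^ 3 + w ^ 4 + w ^ 5 : F) + (w ^ 3 + w ^ 4 + w ^ 5 : F) ^ q + 1 = 0 := by
    rw [show (w ^ 3 + w ^ 4 + w ^ 5 : F) ^ q = (1 + w ^ 3 + w ^ 4 + w ^ 5 : F) from (by rw [show (w ^ 3 + w ^ 4 + w ^ 5 : F) = ((0 : ℕ) : F) + ((0 : ℕ) : F) * w + ((0 : ℕ) : F) * w ^ 2 + ((1 : ℕ) : F) * w ^ 3 + ((1 : ℕ) : F) * w ^ 4 + ((1 : ℕ) : F) * w ^ 5 by push_cast; ring, hc]; push_cast; linear_combination (1 - w ^ 4 - w ^ 5 - w ^ 6 + w ^ 7 + w ^ 8 + w ^ 9 - w ^ 13 - w ^ 14 - w ^ 15 + w ^ 16 + w ^ 17 + w ^ 18 - w ^ 22 - w ^ 23 + w ^ 25 + w ^ 26 - w ^ 31 + w ^ 34 : F) * hw + (-1 - w ^ 3 : F) * hp)]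
    linear_combination (0 : F) * hw + (1 + w ^ 3 + w ^ 4 + w ^ 5 : F) * hp
  let A : Fin 3 → Fin 3 → F := ![![(0 : F), (0 : F), (w + w ^ 3 + w ^ 5 : F)], ![(0 : F), (w ^ 3 : F), (1 + w ^ 4 : F)], ![(w ^ 2 + w ^ 4 : F), (w ^ 3 + w ^ 4 + w ^ 5 : F), (1 + w + w ^ 4 : F)]]
  have cj0 : (w + w ^ 3 + w ^ 5 : F) ^ q = (1 + w ^ 2 + w ^ 3 + w ^ 4 + w ^ 5 : F) := (by rw [show (w + w ^ 3 + w ^ 5 : F) = ((0 : ℕ) : F) + ((1 : ℕ) : F) * w + ((0 : ℕ) : F) * w ^ 2 + ((1 : ℕ) : F) * w ^ 3 + ((0 : ℕ) : F) * w ^ 4 + ((1 : ℕ) : F) * w ^ 5 by push_cast; ring, hc]; push_cast; linear_combination (1 + w ^ 2 - w ^ 4 - w ^ 6 + w ^ 7 + w ^ 9 - w ^ 13 - w ^ 15 + w ^ 16 + w ^ 18 - w ^ 22 + w ^ 25 - w ^ 31 + w ^ 34 : F) * hw + (-1 - w ^ 2 - w ^ 3 - w ^ 5 : F) * hp)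
  have cj1 : (w ^ 3 : F) ^ q = (1 + w ^ 3 : F) := (by rw [show (w ^ 3 : F) = ((0 : ℕ) : F) + ((0 : ℕ) : F) * w + ((0 : ℕ) : F) * w ^ 2 + ((1 : ℕ) : F) * w ^ 3 + ((0 : ℕ) : F) * w ^ 4 + ((0 : ℕ) : F) * w ^ 5 by push_cast; ring, hc]; push_cast; linear_combination (1 - w ^ 6 + w ^ 9 - w ^ 15 + w ^ 18 : F) * hw + (-1 - w ^ 3 : F) * hp)
  have cj2 : (1 + w ^ 4 : F) ^ q = (1 + w ^ 5 : F) := (by rw [show (1 + w ^ 4 : F) = ((1 : ℕ) : F) + ((0 : ℕ) : F) * w + ((0 : ℕ) : F) * w ^ 2 + ((0 : ℕ) : F) * w ^ 3 + ((1 : ℕ) : F) * w ^ 4 + ((0 : ℕ) : F) * w ^ 5 by push_cast; ring, hc]; push_cast; linear_combination (-w ^ 5 + w ^ 8 - w ^ 14 + w ^ 17 - w ^ 23 + w ^ 26 : F) * hw + (0 : F) * hp)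
  have cj3 : (w ^ 2 + w ^ 4 : F) ^ q = (w + w ^ 4 + w ^ 5 : F) := (by rw [show (w ^ 2 + w ^ 4 : F) = ((0 : ℕ) : F) + ((0 : ℕ) : F) * w + ((1 : ℕ) : F) * w ^ 2 + ((0 : ℕ) : F) * w ^ 3 + ((1 : ℕ) : F) * w ^ 4 + ((0 : ℕ) : F) * w ^ 5 by push_cast; ring, hc]; push_cast; linear_combination (w - w ^ 5 - w ^ 7 + w ^ 8 + w ^ 10 - w ^ 14 + w ^ 17 - w ^ 23 + w ^ 26 : F) * hw + (-w - w ^ 4 : F) * hp)
  have cj4 : (w ^ 3 + w ^ 4 + w ^ 5 : F) ^ q = (1 + w ^ 3 + w ^ 4 + w ^ 5 : F) := (by rw [show (w ^ 3 + w ^ 4 + w ^ 5 : F) = ((0 : ℕ) : F) + ((0 : ℕ) : F) * w + ((0 : ℕ) : F) * w ^ 2 + ((1 : ℕ) : F) * w ^ 3 + ((1 : ℕ) : F) * w ^ 4 + ((1 : ℕ) : F) * w ^ 5 by push_cast; ring, hc]; push_cast; linear_combination (1 - w ^ 4 - w ^ 5 - w ^ 6 + w ^ 7 + w ^ 8 + w ^ 9 - w ^ 13 - w ^ 14 - w ^ 15 + w ^ 16 + w ^ 17 + w ^ 18 - w ^ 22 - w ^ 23 + w ^ 25 + w ^ 26 - w ^ 31 + w ^ 34 : F) * hw + (-1 - w ^ 3 : F) * hp)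
  have cj5 : (1 + w + w ^ 4 : F) ^ q = (1 + w ^ 2 : F) := (by rw [show (1 + w + w ^ 4 : F) = ((1 : ℕ) : F) + ((1 : ℕ) : F) * w + ((0 : ℕ) : F) * w ^ 2 + ((0 : ℕ) : F) * w ^ 3 + ((1 : ℕ) : F) * w ^ 4 + ((0 : ℕ) : F) * w ^ 5 by push_cast; ring, hc]; push_cast; linear_combination (w ^ 2 - w ^ 5 + w ^ 8 - w ^ 14 + w ^ 17 - w ^ 23 + w ^ 26 : F) * hw + (-w ^ 2 : F) * hp)
  obtain ⟨g, hgm, hg⟩ := exists_su_of_coords hF fr (A := A) (B := ![![1, 0, 0], ![0, 1, 0], ![0, 0, 1]])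
    (fun i j => by
      fin_cases i <;> fin_cases j
      · simp [A, cj0, cj1, cj2, cj3, cj4, cj5, q_ne_zero hF] <;> linear_combination (0 : F) * hw + (0 : F) * hp
      · simp [A, cj0, cj1, cj2, cj3, cj4, cj5, q_ne_zero hF] <;> linear_combination (0 : F) * hw + (0 : F) * hp
      · simp [A, cj0, cj1, cj2, cj3, cj4, cj5, q_ne_zero hF] <;> linear_combination (1 + w ^ 2 + w ^ 3 + w ^ 4 : F) * hw + (-1 - w ^ 3 : F) * hp
      · simp [A, cj0, cj1, cj2, cj3, cj4, cj5, q_ne_zero hF] <;> linear_combination (0 : F) * hw + (0 : F) * hp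
      · simp [A, cj0, cj1, cj2, cj3, cj4, cj5, q_ne_zero hF] <;> linear_combination (1 : F) * hw + (-1 : F) * hp
      · simp [A, cj0, cj1, cj2, cj3, cj4, cj5, q_ne_zero hF] <;> linear_combination (w + 2 * w ^ 2 + w ^ 3 : F) * hw + (-w ^ 2 : F) * hp
      · simp [A, cj0, cj1, cj2, cj3, cj4, cj5, q_ne_zero hF] <;> linear_combination (1 + 2 * w + w ^ 2 + w ^ 3 : F) * hw + (-1 - w - w ^ 3 : F) * hp
      · simp [A, cj0, cj1, cj2, cj3, cj4, cj5, q_ne_zero hF] <;> linear_combination (2 * w + w ^ 2 + w ^ 3 : F) * hw + (-w : F) * hp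
      · simp [A, cj0, cj1, cj2, cj3, cj4, cj5, q_ne_zero hF] <;> linear_combination (w + 4 * w ^ 2 + 3 * w ^ 3 + w ^ 4 : F) * hw + (-w ^ 2 - w ^ 3 + w ^ 4 : F) * hp
      )
    (by
      rw [Matrix.det_fin_three, Matrix.det_fin_three]
      simp [A] <;> linear_combination (-1 + 2 * w - 2 * w ^ 2 + w ^ 3 - 2 * w ^ 4 - w ^ 6 : F) * hw + (-w + w ^ 2 + w ^ 5 : F) * hp)
    (by rw [Matrix.det_fin_three]; simp)
  have hgv : ∀ x y z : F, mat g *ᵥ vec fr ![x, y, z] = vec fr ![(0 : F) * x + (0 : F) * y + (w ^ 2 + w ^ 4 : F) * z, (0 : F) * x + (w ^ 3 : F) * y + (w ^ 3 + w ^ 4 + w ^ 5 : F) * z, (w + w ^ 3 + w ^ 5 : F) * x + (1 + w ^ 4 : F) * y + (1 + w + w ^ 4 : F) * z] := by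
    intro x y z
    have e : vec fr ![x, y, z] = x • vec fr ![1, 0, 0] + y • vec fr ![0, 1, 0] + z • vec fr ![0, 0, 1] := by
      simp [vec]
    rw [e]
    simp only [Matrix.mulVec_add, Matrix.mulVec_smul]
    rw [show mat g *ᵥ vec fr ![1, 0, 0] = vec fr (A 0) from hg 0,
      show mat g *ᵥ vec fr ![0, 1, 0] = vec fr (A 1) from hg 1,
      show mat g *ᵥ vec fr ![0, 0, 1] = vec fr (A 2) from hg 2]
    simp only [A, vec, Matrix.cons_val_zero, Matrix.cons_val_one, Matrix.cons_val]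
    module
  set lam := (w ^ 3 + w ^ 4 + w ^ 5 : F) with hlamdef
  have s1 : mat g *ᵥ vec fr ![(w + w ^ 4 + w ^ 5 : F), (0 : F), (0 : F)] = vec fr ![(0 : F), (0 : F), (1 : F)] := (hgv _ _ _).trans (congrArg (vec fr) (by
    funext i
    fin_cases i
    · simp <;> linear_combination (0 : F) * hw + (0 : F) * hp
    · simp <;> linear_combination (0 : F) * hw + (0 : F) * hp
    · simp <;> linear_combination (1 + w ^ 2 + w ^ 3 + w ^ 4 : F) * hw + (-1 - w ^ 3 : F) * hp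
    ))
  have s2 : mat (uG fr lam) *ᵥ vec fr ![(w + w ^ 4 + w ^ 5 : F), (w + w ^ 4 + w ^ 5 : F), (1 + w + w ^ 3 + w ^ 4 : F)] = vec fr ![(w + w ^ 4 + w ^ 5 : F), (0 : F), (0 : F)] := (u_vec hF fr hlam _).trans (congrArg (vec fr) (by
    funext i
    fin_cases i
    · simp <;> linear_combination (0 : F) * hw + (0 : F) * hp
    · simp <;> linear_combination (0 : F) * hw + (w + w ^ 4 + w ^ 5 : F) * hp
    · simp <;> linear_combination (-1 + 2 * w ^ 2 + 2 * w ^ 3 + w ^ 4 : F) * hw + (1 - w ^ 2 - w ^ 5 : F) * hp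
    ))
  have s3 : mat g *ᵥ vec fr ![(w + w ^ 4 + w ^ 5 : F), (w + w ^ 4 + w ^ 5 : F), (1 + w + w ^ 3 + w ^ 4 : F)] = vec fr ![(1 + w + w ^ 5 : F), (1 + w + w ^ 2 + w ^ 3 + w ^ 5 : F), (1 + w ^ 2 + w ^ 3 + w ^ 4 : F)] := (hgv _ _ _).trans (congrArg (vec fr) (by
    funext i
    fin_cases i
    · simp <;> linear_combination (1 + w + w ^ 2 : F) * hw + (-1 - w : F) * hp
    · simp <;> linear_combination (1 + 3 * w + 3 * w ^ 2 + w ^ 3 : F) * hw + (-1 - 2 * w - 2 * w ^ 2 - w ^ 3 - w ^ 5 : F) * hp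
    · simp <;> linear_combination (w + 3 * w ^ 2 + 2 * w ^ 3 + w ^ 4 : F) * hw + (w - w ^ 2 - w ^ 3 + w ^ 4 + w ^ 5 : F) * hp
    ))
  have s4 : mat (uG fr lam) *ᵥ vec fr ![(1 + w + w ^ 5 : F), (1 + w + w ^ 2 + w ^ 3 + w ^ 5 : F), (1 + w ^ 2 + w ^ 3 + w ^ 4 : F)] = vec fr ![(1 + w + w ^ 5 : F), (w ^ 2 + w ^ 3 : F), (w ^ 2 + w ^ 4 : F)] := (u_vec hF fr hlam _).trans (congrArg (vec fr) (by
    funext i
    fin_cases i
    · simp <;> linear_combination (0 : F) * hw + (0 : F) * hp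
    · simp <;> linear_combination (0 : F) * hw + (1 + w + w ^ 5 : F) * hp
    · simp <;> linear_combination (-w + w ^ 2 + w ^ 3 + w ^ 4 : F) * hw + (-w ^ 2 + w ^ 4 : F) * hp
    ))
  have s5 : mat g *ᵥ vec fr ![(1 + w + w ^ 5 : F), (1 + w ^ 2 + w ^ 3 + w ^ 5 : F), (1 + w + w ^ 3 + w ^ 4 : F)] = vec fr ![(1 + w + w ^ 5 : F), (w ^ 2 + w ^ 3 : F), (w ^ 2 + w ^ 4 : F)] := (hgv _ _ _).trans (congrArg (vec fr) (by
    funext i
    fin_cases i
    · simp <;> linear_combination (1 + w + w ^ 2 : F) * hw + (-1 - w : F) * hp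
    · simp <;> linear_combination (2 + 2 * w + 3 * w ^ 2 + w ^ 3 : F) * hw + (-1 - w - 2 * w ^ 2 - w ^ 3 : F) * hp
    · simp <;> linear_combination (2 + w + 2 * w ^ 2 + w ^ 3 + w ^ 4 : F) * hw + (w + w ^ 4 + w ^ 5 : F) * hp
    ))
  have s6 : mat (uG fr lam) *ᵥ vec fr ![(1 + w + w ^ 5 : F), (w + w ^ 2 + w ^ 3 : F), (1 + w + w ^ 4 + w ^ 5 : F)] = vec fr ![(1 + w + w ^ 5 : F), (1 + w ^ 2 + w ^ 3 + w ^ 5 : F), (1 + w + w ^ 3 + w ^ 4 : F)] := (u_vec hF fr hlam _).trans (congrArg (vec fr) (by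
    funext i
    fin_cases i
    · simp <;> linear_combination (0 : F) * hw + (0 : F) * hp
    · simp <;> linear_combination (0 : F) * hw + (w : F) * hp
    · simp <;> linear_combination (-w + w ^ 2 + w ^ 3 + w ^ 4 : F) * hw + (-w ^ 2 - w ^ 3 + w ^ 4 + w ^ 5 : F) * hp
    ))
  have s7 : mat g *ᵥ vec fr ![(1 + w + w ^ 5 : F), (w + w ^ 2 + w ^ 3 : F), (1 + w + w ^ 4 + w ^ 5 : F)] = vec fr ![(w : F), (w ^ 3 + w ^ 5 : F), (w ^ 2 + w ^ 5 : F)] := (hgv _ _ _).trans (congrArg (vec fr) (by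
    funext i
    fin_cases i
    · simp <;> linear_combination (w + w ^ 2 + w ^ 3 : F) * hw + (-w : F) * hp
    · simp <;> linear_combination (2 * w ^ 2 + 2 * w ^ 3 + w ^ 4 : F) * hw + (-w ^ 2 - w ^ 3 + w ^ 4 : F) * hp
    · simp <;> linear_combination (3 + 2 * w ^ 2 + w ^ 3 + w ^ 4 : F) * hw + (-1 + 2 * w - w ^ 3 + w ^ 4 + w ^ 5 : F) * hp
    ))
  have s8 : mat (uG fr lam) *ᵥ vec fr ![(w : F), (w ^ 3 + w ^ 5 : F), (w ^ 2 + w ^ 5 : F)] = vec fr ![(w : F), (w + w ^ 3 + w ^ 5 : F), (1 + w ^ 2 + w ^ 4 + w ^ 5 : F)] := (u_vec hF fr hlam _).trans (congrArg (vec fr) (by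
    funext i
    fin_cases i
    · simp <;> linear_combination (0 : F) * hw + (0 : F) * hp
    · simp <;> linear_combination (0 : F) * hw + (0 : F) * hp
    · simp <;> linear_combination (1 : F) * hw + (-1 - w ^ 3 : F) * hp
    ))
  have s9 : mat (uG fr lam) *ᵥ vec fr ![(w : F), (w + w ^ 3 + w ^ 5 : F), (1 + w ^ 2 + w ^ 4 + w ^ 5 : F)] = vec fr ![(w : F), (w ^ 3 + w ^ 5 : F), (w + w ^ 2 + w ^ 5 : F)] := (u_vec hF fr hlam _).trans (congrArg (vec fr) (by
    funext i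
    fin_cases i
    · simp <;> linear_combination (0 : F) * hw + (0 : F) * hp
    · simp <;> linear_combination (0 : F) * hw + (w : F) * hp
    · simp <;> linear_combination (1 : F) * hw + (-w - w ^ 3 + w ^ 4 : F) * hp
    ))
  have s10 : mat g *ᵥ vec fr ![(w + w ^ 2 + w ^ 3 : F), (w + w ^ 2 + w ^ 3 : F), (1 + w + w ^ 4 + w ^ 5 : F)] = vec fr ![(w : F), (w ^ 3 + w ^ 5 : F), (w + w ^ 2 + w ^ 5 : F)] := (hgv _ _ _).trans (congrArg (vec fr) (by
    funext i
    fin_cases i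
    · simp <;> linear_combination (w + w ^ 2 + w ^ 3 : F) * hw + (-w : F) * hp
    · simp <;> linear_combination (2 * w ^ 2 + 2 * w ^ 3 + w ^ 4 : F) * hw + (-w ^ 2 - w ^ 3 + w ^ 4 : F) * hp
    · simp <;> linear_combination (3 + 2 * w + 2 * w ^ 2 + w ^ 3 : F) * hw + (-1 - w ^ 3 + w ^ 4 + w ^ 5 : F) * hp
    ))
  have s11 : mat (uG fr lam) *ᵥ vec fr ![(w + w ^ 2 + w ^ 3 : F), (w + w ^ 2 + w ^ 3 : F), (1 + w + w ^ 4 + w ^ 5 : F)] = vec fr ![(w + w ^ 2 + w ^ 3 : F), (0 : F), (0 : F)] := (u_vec hF fr hlam _).trans (congrArg (vec fr) (by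
    funext i
    fin_cases i
    · simp <;> linear_combination (0 : F) * hw + (0 : F) * hp
    · simp <;> linear_combination (0 : F) * hw + (w + w ^ 2 + w ^ 3 : F) * hp
    · simp <;> linear_combination (3 + 2 * w + w ^ 2 : F) * hw + (-1 - w - w ^ 2 - 2 * w ^ 3 + w ^ 5 : F) * hp
    ))
  have s12 : mat g *ᵥ vec fr ![(w + w ^ 2 + w ^ 3 : F), (0 : F), (0 : F)] = vec fr ![(0 : F), (0 : F), (w + w ^ 3 + w ^ 4 : F)] := (hgv _ _ _).trans (congrArg (vec fr) (by
    funext i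
    fin_cases i
    · simp <;> linear_combination (0 : F) * hw + (0 : F) * hp
    · simp <;> linear_combination (0 : F) * hw + (0 : F) * hp
    · simp <;> linear_combination (2 + w + w ^ 2 : F) * hw + (-1 - w - w ^ 3 : F) * hp
    ))
  refine ⟨lam, hlam, g, hgm, fun M hMI hu hc' => ?_⟩
  have hE : fr.E 0 = vec fr ![(0 : F), (0 : F), (1 : F)] := vec_E hF fr
  have hGconj : (w + w ^ 3 + w ^ 4 : F) ^ q = (1 + w ^ 2 + w ^ 3 : F) := by
    rw [show (w + w ^ 3 + w ^ 4 : F) = ((0 : ℕ) : F) + ((1 : ℕ) : F) * w + ((0 : ℕ) : F) * w ^ 2 + ((1 : ℕ) : F) * w ^ 3 + ((1 : ℕ) : F) * w ^ 4 + ((0 : ℕ) : F) * w ^ 5 by push_cast; ring, hc]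
    push_cast
    linear_combination (1 + w ^ 2 - w ^ 5 - w ^ 6 + w ^ 8 + w ^ 9 - w ^ 14 - w ^ 15 + w ^ 17 + w ^ 18 - w ^ 23 + w ^ 26 : F) * hw + (-1 - w ^ 2 - w ^ 3 : F) * hp
  have hG0 : (w + w ^ 3 + w ^ 4 : F) ≠ 0 := left_ne_zero_of_mul_eq_one (b := (1 + w ^ 2 + w ^ 4 + w ^ 5 : F)) (by linear_combination (1 + w + 2 * w ^ 2 + w ^ 3 : F) * hw + (-1 - w ^ 2 : F) * hp)
  have hx0 : (1 + w + w ^ 5 : F) ≠ 0 := left_ne_zero_of_mul_eq_one (b := (1 + w ^ 2 + w ^ 3 : F)) (by linear_combination (w + w ^ 2 : F) * hw + (w ^ 3 : F) * hp)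
  refine su_le_of_word hF fr hlam (by omega) hMI hu (c := (g * uG fr lam * g⁻¹)⁻¹) (M.inv_mem hc') ?_
    (W := (g * uG fr lam * g⁻¹) * uG fr lam * uG fr lam * (g * uG fr lam * g⁻¹)⁻¹ * uG fr lam * (g * uG fr lam * g⁻¹)⁻¹) (M.mul_mem (M.mul_mem (M.mul_mem (M.mul_mem (M.mul_mem hc' hu) hu) (M.inv_mem hc')) hu) (M.inv_mem hc')) hG0 ?_ ?_
  · simp only [mul_mulVec, _root_.mul_inv_rev, inv_inv] at *
    rw [hE, inv_mul (h := s1), inv_mul (h := s2), s3, herm_vec hF]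
    simpa [q_ne_zero hF] using hx0
  · simp only [mul_mulVec, _root_.mul_inv_rev, inv_inv] at *
    rw [hE, inv_mul (h := s1), inv_mul (h := s2), s3, s4, inv_mul (h := s5), inv_mul (h := s6), s7, s8, s9, inv_mul (h := s10), s11, s12]
    simp [vec]
  · intro S hS x
    by_contra hx
    obtain ⟨s, k, hs, hk, hsk, hfix⟩ := exists_card_subring hF S hx
    have hC : ((w + w ^ 3 + w ^ 4 : F) ^ q) ^ 2 / (w + w ^ 3 + w ^ 4 : F) = (w + w ^ 5 : F) := by
      rw [hGconj, div_eq_iff hG0]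
      linear_combination (1 - w ^ 2 - w ^ 3 : F) * hw + (w ^ 2 + w ^ 3 + w ^ 5 : F) * hp
    have h := hfix _ hS
    rw [hC] at h
    rw [hq] at hsk
    have hk7 : k < 7 := by
      by_contra hk'
      have h1 := Nat.pow_le_pow_right (show 1 ≤ 2 by omega) (show 7 ≤ k by omega)
      have h2 := Nat.pow_le_pow_left hs k
      norm_num at h1 hsk
      omega
    have hs9 : s < 9 := by
      by_contra hs'
      have h1 := Nat.pow_le_pow_left (show 9 ≤ s by omega) 2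
      have h2 := Nat.pow_le_pow_right (show 1 ≤ s by omega) hk
      norm_num at h1 hsk
      omega
    have h2' : (w + w ^ 5 : F) ^ 2 = (w + w ^ 2 : F) := by linear_combination (2 - w + w ^ 4 : F) * hw + (-1 - w ^ 3 : F) * hp
    have h4' : (w + w ^ 5 : F) ^ 4 = (w ^ 2 + w ^ 4 : F) := by
      rw [show (w + w ^ 5 : F) ^ 4 = ((w + w ^ 5 : F) ^ 2) ^ 2 by ring, h2']
      linear_combination (0 : F) * hw + (w ^ 3 : F) * hp
    have h8' : (w + w ^ 5 : F) ^ 8 = (w ^ 2 + w ^ 4 + w ^ 5 : F) := by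
      rw [show (w + w ^ 5 : F) ^ 8 = ((w + w ^ 5 : F) ^ 4) ^ 2 by ring, h4']
      linear_combination (2 + w ^ 2 : F) * hw + (-1 - w ^ 2 - w ^ 3 - w ^ 5 : F) * hp
    have n4 : (w ^ 2 + w ^ 4 : F) - (w + w ^ 5 : F) ≠ 0 := left_ne_zero_of_mul_eq_one (b := (1 + w + w ^ 3 + w ^ 4 + w ^ 5 : F)) (by
      linear_combination (-1 + 3 * w - w ^ 4 : F) * hw + (-2 * w + w ^ 3 - w ^ 4 : F) * hp)
    have n8 : (w ^ 2 + w ^ 4 + w ^ 5 : F) - (w + w ^ 5 : F) ≠ 0 := left_ne_zero_of_mul_eq_one (b := (1 + w ^ 4 + w ^ 5 : F)) (by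
      linear_combination (-1 + w + w ^ 2 + w ^ 3 : F) * hw + (-w - w ^ 5 : F) * hp)
    rcases field_arith_eight ⟨s, hs9⟩ ⟨k, hk7⟩ ⟨hs, hk, by norm_num at hsk ⊢; exact hsk⟩ with e | e | e
    · simp only at e
      subst e
      exact n4 (by rw [← h4', show (w + w ^ 5 : F) ^ 4 = ((w + w ^ 5 : F) ^ 2) ^ 2 by ring, h, h, sub_self])
    · simp only at e
      subst e
      exact n4 (by rw [← h4', h, sub_self])
    · simp only at e
      subst e
      exact n8 (by rw [← h8', h, sub_self])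


end CfsgLib.Geo.SUTwoConj
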