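import Cfsg.Agent.Geo.SUTwoConjGen
import Cfsg.Agent.Geo.SUTwoConjExc
import Cfsg.Agent.Geo.SUThreeConj

/-!
The special unitary group in dimension three is generated by two conjugate regular unipotent elements.
-/

set_option autoImplicit false

namespace CfsgLib.Geo.SUTwoConj

open Matrix Cfsg Cfsg.Geo CfsgLib.Geo CfsgLib.Geo.UTv CfsgLib.Geo.SUThreeConj

variable {q : ℕ} {F : Type*} [Field F] [Finite F]

theorem two_conjugates (hF : Nat.card F = q ^ 2) (h3 : 3 ≤ q) :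
    ∃ u g : Cfsg.SU 3 F q,
      (IsNilpotent (((u : Matrix.SpecialLinearGroup (Fin 3) F) : Matrix (Fin 3) (Fin 3) F) - 1) ∧
        (((u : Matrix.SpecialLinearGroup (Fin 3) F) : Matrix (Fin 3) (Fin 3) F) - 1) ^ (3 - 1) ≠ 0) ∧
      Subgroup.closure ({u, g * u * g⁻¹} : Set (Cfsg.SU 3 F q)) = ⊤ := by
  obtain ⟨fr⟩ := exists_frame (n := 3) hF le_rfl rfl
  obtain ⟨lam, hlam, g, hg, hgen⟩ : ∃ lam : F, lam + lam ^ q + 1 = 0 ∧
      ∃ g ∈ suGL 3 F q, ∀ M : Subgroup (GL (Fin 3) F), M ≤ suGL 3 F q →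
        uG fr lam ∈ M → g * uG fr lam * g⁻¹ ∈ M → suGL 3 F q ≤ M := by
    by_cases h5 : q = 5
    · exact two_conjugates_five hF fr h5
    by_cases h8 : q = 8
    · exact two_conjugates_eight hF fr h8
    exact two_conjugates_gen hF fr h3 h5 h8
  obtain ⟨u', hu'⟩ := exists_lift (uG_mem hF fr hlam)
  obtain ⟨g', rfl⟩ := exists_lift hg
  have hmat : ((u' : Matrix.SpecialLinearGroup (Fin 3) F) : Matrix (Fin 3) (Fin 3) F) - 1 = nM fr lam := by
    rw [nM, ← hu']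
    rfl
  refine ⟨u', g', ⟨⟨3, ?_⟩, ?_⟩, ?_⟩
  · rw [hmat]; exact nM_nilpotent hF fr hlam
  · rw [hmat]; exact nM_pow_ne_zero hF fr hlam
  set S := Subgroup.closure ({u', g' * u' * g'⁻¹} : Set (Cfsg.SU 3 F q))
  have hmem : ∀ {x}, x ∈ ({u', g' * u' * g'⁻¹} : Set (Cfsg.SU 3 F q)) →
      toG x ∈ S.map toG := fun hx => Subgroup.mem_map_of_mem _ (Subgroup.subset_closure hx)
  have hle := hgen (S.map toG) (by rintro _ ⟨x, -, rfl⟩; exact toG_mem x) (hu' ▸ hmem (Or.inl rfl))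
    (by have := hmem (Or.inr rfl); rwa [map_mul, map_mul, map_inv, hu'] at this)
  refine eq_top_iff.2 fun x _ => ?_
  obtain ⟨z, hz, e⟩ := hle (toG_mem x)
  have : z = x := Subtype.ext (Subtype.ext (congrArg Units.val e))
  exact this ▸ hz

end CfsgLib.Geo.SUTwoConj
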