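import Cfsg.Agent.Geo.SUThreeConjThree

/-!
Coordinates in dimension three, and the generation criterion by a word fixing the point of the
regular unipotent element.
-/

set_option autoImplicit false
set_option linter.unusedSectionVars false

namespace CfsgLib.Geo.SUTwoConj

open Matrix Cfsg Cfsg.Geo CfsgLib.Geo CfsgLib.Geo.UTv CfsgLib.Geo.SUThreeConj

variable {q : ℕ} {F : Type*} [Field F] [Finite F] (hF : Nat.card F = q ^ 2) (fr : Frame 3 F q 1)

local notation "hh" => Cfsg.hermForm 3 F q
local notation "mat" => fun (g : GL (Fin 3) F) => (g : Matrix (Fin 3) (Fin 3) F)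

/-- A vector given by its coordinates along the second isotropic vector, the middle and the first one. -/
def vec (v : Fin 3 → F) : Fin 3 → F := v 0 • fr.Fv 0 + v 1 • fr.z + v 2 • fr.E 0

/-- The frame as a matrix. -/
def pM : Matrix (Fin 3) (Fin 3) F := Matrix.of fun i j => ![fr.Fv 0, fr.z, fr.E 0] j i

theorem pM_mulVec (v : Fin 3 → F) : pM fr *ᵥ v = vec fr v := by
  funext i
  simp [pM, vec, Matrix.mulVec, dotProduct, Fin.sum_univ_three]
  ring

include hF

theorem herm_vec (v w : Fin 3 → F) :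
    hh (vec fr v) (vec fr w) = v 0 * w 2 ^ q + v 1 * w 1 ^ q + v 2 * w 0 ^ q := by
  have hf := isUnitaryForm hF (n := 3)
  simp only [vec, hf.add_left, Unit.add_right hf, hf.smul_left, Unit.smul_right hf, frobEquiv_apply,
    fr.FF, fr.FE, fr.EF, fr.EE, fr.zE, fr.zF, fr.zz, fr.Fz, fr.Ez, true_and, if_pos (show (0 : ℕ) < 1 by omega)]
  ring

theorem vec_injective : Function.Injective (vec fr) := by
  intro v w h
  have key : ∀ x : Fin 3 → F, v 0 * x 2 ^ q + v 1 * x 1 ^ q + v 2 * x 0 ^ q =
      w 0 * x 2 ^ q + w 1 * x 1 ^ q + w 2 * x 0 ^ q := fun x => by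
    rw [← herm_vec hF fr, ← herm_vec hF fr, h]
  have h0 := key ![0, 0, 1]
  have h1 := key ![0, 1, 0]
  have h2 := key ![1, 0, 0]
  simp [q_ne_zero hF] at h0 h1 h2
  funext i
  fin_cases i <;> assumption

theorem det_pM : (pM fr).det ≠ 0 := by
  intro h0
  obtain ⟨v, hv, hPv⟩ := Matrix.exists_mulVec_eq_zero_iff.2 h0
  refine hv (vec_injective hF fr ?_)
  rw [← pM_mulVec, hPv]
  simp [vec]

/-- An element of the special unitary group with prescribed values. -/
theorem exists_su_of_coords {A B : Fin 3 → Fin 3 → F}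
    (hG : ∀ i j, A i 0 * A j 2 ^ q + A i 1 * A j 1 ^ q + A i 2 * A j 0 ^ q =
      B i 0 * B j 2 ^ q + B i 1 * B j 1 ^ q + B i 2 * B j 0 ^ q)
    (hd : (Matrix.of A).det = (Matrix.of B).det) (h0 : (Matrix.of B).det ≠ 0) :
    ∃ g ∈ suGL 3 F q, ∀ i, mat g *ᵥ vec fr (B i) = vec fr (A i) := by
  have hli : ∀ {C : Fin 3 → Fin 3 → F}, (Matrix.of C).det ≠ 0 →
      LinearIndependent F fun i => vec fr (C i) := by
    intro C hC
    have h1 : LinearIndependent F C :=
      Matrix.linearIndependent_rows_of_det_ne_zero (A := Matrix.of C) hC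
    have h2 : Function.Injective (Matrix.mulVecLin (pM fr)) := fun v w e => vec_injective hF fr (by
      rw [← pM_mulVec, ← pM_mulVec]; exact e)
    have h3 := h1.map' (Matrix.mulVecLin (pM fr)) (LinearMap.ker_eq_bot.2 h2)
    have e : (fun i => vec fr (C i)) = Matrix.mulVecLin (pM fr) ∘ C :=
      funext fun i => (pM_mulVec fr _).symm
    rw [e]
    exact h3
  obtain ⟨g, hg⟩ := CfsgLib.Unitary.exists_GU_family hF (fun i => vec fr (B i)) (fun i => vec fr (A i))
    (hli h0) (hli (hd ▸ h0)) (fun i j => by rw [herm_vec hF, herm_vec hF, hG])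
  refine ⟨g.1, ⟨g.2, mem_specialLinear.2 ?_⟩, hg⟩
  have hm : (g.1 : Matrix (Fin 3) (Fin 3) F) * (pM fr * (Matrix.of B)ᵀ) = pM fr * (Matrix.of A)ᵀ := by
    ext a i
    have h1 := congrFun (hg i) a
    rw [← pM_mulVec, ← pM_mulVec, Matrix.mulVec_mulVec] at h1
    rw [← Matrix.mul_assoc]
    simpa [Matrix.mulVec, dotProduct, Matrix.mul_apply] using h1
  have := congrArg Matrix.det hm
  rw [Matrix.det_mul, Matrix.det_mul, Matrix.det_mul, Matrix.det_transpose, Matrix.det_transpose, hd] at this
  refine mul_right_cancel₀ (mul_ne_zero (det_pM hF fr) h0) ?_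
  rw [one_mul]
  exact this

variable {lam : F} (hlam : lam + lam ^ q + 1 = 0)
include hlam

theorem u_vec (v : Fin 3 → F) : mat (uG fr lam) *ᵥ vec fr v =
    vec fr ![v 0, v 0 + v 1, lam * v 0 - v 1 + v 2] := by
  have huE := u_E_zero hF fr hlam
  have huz := u_z hF fr hlam
  have huf := u_Fv_last hF fr hlam
  simp only [show (1 : ℕ) - 1 = 0 from rfl, huE] at huz huf
  simp only [vec, Matrix.mulVec_add, Matrix.mulVec_smul, huE, huz, huf, Matrix.cons_val_zero,
    Matrix.cons_val_one, Matrix.cons_val]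
  module

omit hlam in
theorem vec_E : fr.E 0 = vec fr ![0, 0, 1] := by simp [vec]

/-- A word fixing the point of `u` with large multiplier, and a conjugate moving it, give everything. -/
theorem su_le_of_word (h3 : 3 ≤ q) {M : Subgroup (GL (Fin 3) F)} (hMI : M ≤ suGL 3 F q)
    (hu : uG fr lam ∈ M) {c : GL (Fin 3) F} (hc : c ∈ M) (hce : hh (mat c *ᵥ fr.E 0) (fr.E 0) ≠ 0)
    {W : GL (Fin 3) F} (hW : W ∈ M) {G : F} (hG0 : G ≠ 0) (hWe : mat W *ᵥ fr.E 0 = G • fr.E 0)
    (hχ : ∀ S : Subring F, (G ^ q) ^ 2 / G ∈ S → ∀ x : F, x ∈ S) : suGL 3 F q ≤ M := by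
  have hf := isUnitaryForm hF (n := 3)
  have hWI := hMI hW
  have coords : ∀ x : Fin 3 → F, x = vec fr ![hh x (fr.E 0), hh x fr.z, hh x (fr.Fv 0)] := fun x => by
    conv_lhs => rw [frame_coords hF fr hlam x]
    simp [vec]
    module
  have hze : hh (mat W *ᵥ fr.z) (fr.E 0) = 0 := by
    have h := herm_mulVec hWI fr.z (fr.E 0)
    rw [hWe, Unit.smul_right hf, fr.zE, frobEquiv_apply] at h
    exact (mul_eq_zero.1 h).resolve_left (pow_ne_zero _ hG0)
  have hfe : G ^ q * hh (mat W *ᵥ fr.Fv 0) (fr.E 0) = 1 := by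
    have h := herm_mulVec hWI (fr.Fv 0) (fr.E 0)
    rwa [hWe, Unit.smul_right hf, fr.FE, if_pos ⟨rfl, by omega⟩, frobEquiv_apply] at h
  set μ := hh (mat W *ᵥ fr.z) fr.z with hμdef
  have hz := coords (mat W *ᵥ fr.z)
  rw [hze] at hz
  have hμ : G ^ q * μ = (G ^ q) ^ 2 / G := by
    set a := hh (mat W *ᵥ fr.Fv 0) (fr.E 0)
    let T : Fin 3 → Fin 3 → F := ![![a, hh (mat W *ᵥ fr.Fv 0) fr.z, hh (mat W *ᵥ fr.Fv 0) (fr.Fv 0)],
      ![0, μ, hh (mat W *ᵥ fr.z) (fr.Fv 0)], ![0, 0, G]]
    have hm : (W : Matrix (Fin 3) (Fin 3) F) * pM fr = pM fr * (Matrix.of T)ᵀ := by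
      ext i j
      have e1 := congrFun (coords (mat W *ᵥ fr.Fv 0)) i
      have e2 := congrFun hz i
      have e3 := congrFun hWe i
      simp only [vec, Matrix.mulVec, dotProduct, Fin.sum_univ_three, Pi.add_apply, Pi.smul_apply, smul_eq_mul,
        Matrix.cons_val_zero, Matrix.cons_val_one, Matrix.cons_val] at e1 e2 e3
      fin_cases j <;> simp [pM, T, Matrix.mul_apply, Fin.sum_univ_three]
      · linear_combination e1
      · linear_combination e2
      · linear_combination e3
    have hd := congrArg Matrix.det hm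
    rw [Matrix.det_mul, Matrix.det_mul, Matrix.det_transpose, mem_specialLinear.1 hWI.2, one_mul,
      Matrix.det_fin_three (Matrix.of T)] at hd
    have hT : a * μ * G = 1 := by
      refine mul_left_cancel₀ (det_pM hF fr) ?_
      rw [mul_one]
      conv_rhs => rw [hd]
      simp [T]
    rw [eq_div_iff hG0]
    linear_combination (G ^ q) ^ 2 * hT - G ^ q * μ * G * hfe
  let P : AddSubgroup F :=
    { carrier := {r | VP q M (fr.E 0) (r • fr.z)}
      zero_mem' := by simpa using VP.centre (M := M) hF (fr.EE 0 0) 0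
      add_mem' := fun {r s} hr hs => by
        simp only [Set.mem_ofPred_eq, add_smul]
        exact VP.add hF (fr.EE 0 0) hr hs
      neg_mem' := fun {r} hr => by
        simp only [Set.mem_ofPred_eq, neg_smul]
        exact VP.neg hF (fr.EE 0 0) hr }
  have hred : ∀ X, VP q M (fr.E 0) X → hh X fr.z ∈ P := by
    intro X hX
    have h := hX.shift hF (fr.EE 0 0) (-hh X (fr.Fv 0))
    have e := frame_coords hF fr hlam X
    rw [hX.1, zero_smul, zero_add] at e
    show VP q M (fr.E 0) (hh X fr.z • fr.z)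
    convert h using 1
    conv_rhs => arg 1; rw [e]
    module
  have hχP : ∀ r ∈ P, (G ^ q) ^ 2 / G * r ∈ P := by
    intro r hr
    have h := VP.conj hMI hW hr
    rw [Matrix.mulVec_smul, hWe] at h
    have h2 := hred _ (vp_of_smul hF fr hG0 h)
    simp only [hf.smul_left, ← hμdef] at h2
    convert h2 using 1
    rw [← hμ]
    ring
  have hone : (1 : F) ∈ P := by
    show VP q M (fr.E 0) ((1 : F) • fr.z)
    rw [one_smul]
    refine ⟨fr.zE 0, _, hu, lam, fun v => ?_⟩
    have := uG_mulVec hF fr hlam v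
    simpa [levi] using this
  let S : Subring F :=
    { carrier := {r | ∀ s ∈ P, r * s ∈ P}
      one_mem' := fun s hs => by rwa [one_mul]
      mul_mem' := fun {r s} hr hs a ha => by rw [mul_assoc]; exact hr _ (hs a ha)
      zero_mem' := fun a _ => by rw [zero_mul]; exact zero_mem _
      add_mem' := fun {r s} hr hs a ha => by rw [add_mul]; exact add_mem (hr a ha) (hs a ha)
      neg_mem' := fun {r} hr a ha => by rw [neg_mul]; exact neg_mem (hr a ha) }
  have hall : ∀ X, hh X (fr.E 0) = 0 → VP q M (fr.E 0) X := by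
    intro X hX
    have hz : VP q M (fr.E 0) (hh X fr.z • fr.z) := by
      have h := hχ S hχP (hh X fr.z) _ hone
      rwa [mul_one] at h
    have h := hz.shift hF (fr.EE 0 0) (hh X (fr.Fv 0))
    have e := frame_coords hF fr hlam X
    rw [hX, zero_smul, zero_add, add_comm] at e
    rwa [← e] at h
  have hfull : Full q M (fr.E 0) :=
    full_of_vp hF (fr.EE 0 0) hall (z := fr.z) (w := fr.z) (fr.zE 0) (fr.zE 0) fr.zz
  exact suGL_le_of_full' hF (by omega) (by omega)
    (full_all_of_vp hF hMI hfull (full_conj hF hMI hfull hc) hce hall)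

omit hlam in
/-- A subring outside of which there are elements is fixed by a power map. -/
theorem exists_card_subring (S : Subring F) {x : F} (hx : x ∉ S) :
    ∃ s k : ℕ, 2 ≤ s ∧ 2 ≤ k ∧ s ^ k = q ^ 2 ∧ ∀ y ∈ S, y ^ s = y := by
  classical
  haveI := Fintype.ofFinite F
  let K : Subfield F :=
    { S with
      inv_mem' := fun y hy => by
        by_cases h0 : y = 0
        · subst h0; simp
        · have e : y⁻¹ = y ^ (Fintype.card F - 2) := by
            refine inv_eq_of_mul_eq_one_right ?_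
            have := Fintype.one_lt_card (α := F)
            rw [← pow_succ', show Fintype.card F - 2 + 1 = Fintype.card F - 1 by omega,
              FiniteField.pow_card_sub_one_eq_one y h0]
          rw [e]
          exact S.pow_mem hy _ }
  haveI : Fintype K := Fintype.ofFinite K
  have hcard := Module.natCard_eq_pow_finrank (K := K) (V := F)
  refine ⟨Nat.card K, Module.finrank K F, Finite.one_lt_card, ?_, hcard.symm.trans hF, fun y hy => ?_⟩
  · by_contra hk
    have hpos : 0 < Module.finrank K F := Module.finrank_pos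
    rw [show Module.finrank K F = 1 by omega, pow_one] at hcard
    have hsurj : Function.Surjective (Subtype.val : K → F) :=
      ((Nat.bijective_iff_injective_and_card _).2 ⟨Subtype.val_injective, hcard.symm⟩).2
    obtain ⟨⟨y, hy⟩, rfl⟩ := hsurj x
    exact hx hy
  · have := congrArg Subtype.val (FiniteField.pow_card (⟨y, hy⟩ : K))
    rw [Nat.card_eq_fintype_card]
    simpa using this

end CfsgLib.Geo.SUTwoConj
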