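import Cfsg.Agent.Geo.SUTwoConjBasic

/-!
Two conjugate regular unipotent elements generate the special unitary group in dimension three:
the general fields.
-/

set_option autoImplicit false
set_option linter.unusedSectionVars false

namespace CfsgLib.Geo.SUTwoConj

open Matrix Cfsg Cfsg.Geo CfsgLib.Geo CfsgLib.Geo.UTv CfsgLib.Geo.SUThreeConj

variable {q : ℕ} {F : Type*} [Field F] [Finite F] (hF : Nat.card F = q ^ 2) (fr : Frame 3 F q 1)

local notation "hh" => Cfsg.hermForm 3 F q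
local notation "mat" => fun (g : GL (Fin 3) F) => (g : Matrix (Fin 3) (Fin 3) F)

theorem order_arith : ∀ (q : Fin 25) (s : Fin 9) (k : Fin 10),
    (3 ≤ q.val ∧ 2 ≤ k.val ∧ 2 ≤ s.val ∧ s.val ^ k.val = q.val ^ 2 ∧ (q.val + 1) ∣ 3 * (s.val - 1)) →
      (q.val = 5 ∨ q.val = 8) := by
  decide +kernel

include hF

/-- Triples of isotropic vectors with equal lower products have equal products. -/
theorem gram_eq {x y : Fin 3 → Fin 3 → F} (hx : ∀ i, hh (vec fr (x i)) (vec fr (x i)) = 0)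
    (hy : ∀ i, hh (vec fr (y i)) (vec fr (y i)) = 0)
    (h10 : hh (vec fr (x 1)) (vec fr (x 0)) = hh (vec fr (y 1)) (vec fr (y 0)))
    (h20 : hh (vec fr (x 2)) (vec fr (x 0)) = hh (vec fr (y 2)) (vec fr (y 0)))
    (h21 : hh (vec fr (x 2)) (vec fr (x 1)) = hh (vec fr (y 2)) (vec fr (y 1))) (i j : Fin 3) :
    x i 0 * x j 2 ^ q + x i 1 * x j 1 ^ q + x i 2 * x j 0 ^ q =
      y i 0 * y j 2 ^ q + y i 1 * y j 1 ^ q + y i 2 * y j 0 ^ q := by
  have hf := isUnitaryForm hF (n := 3)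
  rw [← herm_vec hF fr, ← herm_vec hF fr]
  fin_cases i <;> fin_cases j
  · exact (hx 0).trans (hy 0).symm
  · change hh (vec fr (x 0)) (vec fr (x 1)) = hh (vec fr (y 0)) (vec fr (y 1))
    rw [hf.herm, h10, ← hf.herm]
  · change hh (vec fr (x 0)) (vec fr (x 2)) = hh (vec fr (y 0)) (vec fr (y 2))
    rw [hf.herm, h20, ← hf.herm]
  · exact h10
  · exact (hx 1).trans (hy 1).symm
  · change hh (vec fr (x 1)) (vec fr (x 2)) = hh (vec fr (y 1)) (vec fr (y 2))
    rw [hf.herm, h21, ← hf.herm]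
  · exact h20
  · exact h21
  · exact (hx 2).trans (hy 2).symm

theorem two_conjugates_gen (h3 : 3 ≤ q) (h5 : q ≠ 5) (h8 : q ≠ 8) : ∃ lam : F, lam + lam ^ q + 1 = 0 ∧
    ∃ g ∈ suGL 3 F q, ∀ M : Subgroup (GL (Fin 3) F), M ≤ suGL 3 F q →
      uG fr lam ∈ M → g * uG fr lam * g⁻¹ ∈ M → suGL 3 F q ≤ M := by
  classical
  haveI := Fintype.ofFinite F
  have hf := isUnitaryForm hF (n := 3)
  obtain ⟨G0, hG0⟩ := IsCyclic.exists_monoid_generator (α := Fˣ)
  have hord : orderOf G0 = (q + 1) * (q - 1) := by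
    rw [orderOf_eq_card_of_forall_mem_zpowers fun x => mem_powers_iff_mem_zpowers.1 (hG0 x),
      Nat.card_units, hF, ← Nat.sq_sub_sq, one_pow]
  set ξ : F := (G0 : F) ^ (q - 1) with hξdef
  have hξpow : ∀ j : ℕ, ξ ^ j = 1 → q + 1 ∣ j := by
    intro j h
    rw [hξdef, ← pow_mul, ← Units.val_pow_eq_pow_val, Units.val_eq_one, ← orderOf_dvd_iff_pow_eq_one,
      hord, mul_comm (q + 1)] at h
    exact Nat.dvd_of_mul_dvd_mul_left (by omega) h
  have hξ0 : ξ ≠ 0 := pow_ne_zero _ G0.ne_zero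
  have hξN : ξ ^ q * ξ = 1 := by
    rw [← pow_succ, hξdef, ← pow_mul, mul_comm, ← hord, ← Units.val_pow_eq_pow_val, pow_orderOf_eq_one,
      Units.val_one]
  have hξ1 : 1 + ξ ≠ 0 := fun e => by
    have := Nat.le_of_dvd two_pos (hξpow 2 (by linear_combination (ξ - 1) * e))
    omega
  set ω := ξ / (1 + ξ) with hω
  have hξq : ξ ^ q = 1 / ξ := by rw [eq_div_iff hξ0]; exact hξN
  have hωq : ω ^ q = 1 / (1 + ξ) := by
    rw [hω, div_pow, ← frobEquiv_apply hF (1 + ξ), map_add, map_one, frobEquiv_apply, hξq]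
    rw [show 1 + 1 / ξ = (1 + ξ) / ξ by field_simp; ring, div_div_div_cancel_right₀ hξ0]
  have hω0 : ω ≠ 0 := div_ne_zero hξ0 hξ1
  set n0 := ω * ω ^ q with hn0
  have hn00 : n0 ≠ 0 := mul_ne_zero hω0 (pow_ne_zero _ hω0)
  have hn0q : n0 ^ q = n0 := by rw [hn0, mul_pow, pow_q_pow_q hF, mul_comm]
  set r := -1 / (n0 * ω) with hr
  set ρ := -1 / n0 with hρ
  have hρq : ρ ^ q = ρ := by rw [hρ, div_pow, neg_pow_q hF, one_pow, hn0q]
  have hrq : r ^ q = ξ * r := by
    rw [hr, div_pow, neg_pow_q hF, one_pow, mul_pow, hn0q, hωq, hω]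
    field_simp
  obtain ⟨t0, ht0⟩ := CfsgLib.Unitary.exists_trace_eq hF (μ := (1 : F)) (one_pow q)
  obtain ⟨lam, hlam⟩ := CfsgLib.Unitary.exists_trace_eq hF (μ := (-1 : F)) (by rw [neg_pow_q hF, one_pow])
  replace hlam : lam + lam ^ q + 1 = 0 := by linear_combination hlam
  have hlamq : lam ^ q = -1 - lam := by linear_combination hlam
  set δ := -(3 + ξ ^ q) * n0 * ω ^ q - lam ^ q with hδdef
  have h3q : (3 : F) ^ q = 3 := by
    rw [← frobEquiv_apply hF, map_ofNat]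
  have hδ : δ ^ q = -δ := by
    have e : δ ^ q = -(3 + ξ) * n0 * ω - lam := by
      rw [hδdef, sub_pow_q hF, mul_pow, mul_pow, neg_pow_q hF, ← frobEquiv_apply hF (3 + ξ ^ q), map_add,
        frobEquiv_apply, frobEquiv_apply, h3q, pow_q_pow_q hF, pow_q_pow_q hF, hn0q, pow_q_pow_q hF]
    rw [e, hδdef, hn0, hωq, hlamq, hξq, hω]
    field_simp
    ring
  set a := δ * t0 with ha
  have haq : a - a ^ q = δ := by rw [ha, mul_pow, hδ]; linear_combination δ * ht0
  obtain ⟨b, hb⟩ := CfsgLib.Unitary.exists_trace_eq hF (μ := -(a * a ^ q))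
    (by rw [neg_pow_q hF, mul_pow, pow_q_pow_q hF, mul_comm])
  set γ := -ω - lam with hγ
  have hγq : γ ^ q = -γ := by
    rw [hγ, sub_pow_q hF, neg_pow_q hF, hωq, hlamq, hω]
    field_simp
    ring
  set a' := -(γ * t0) with ha'
  have haq' : a' ^ q - a' = γ := by
    rw [ha', neg_pow_q hF, mul_pow, hγq]; linear_combination γ * ht0
  obtain ⟨b', hb'⟩ := CfsgLib.Unitary.exists_trace_eq hF (μ := -(a' * a' ^ q))
    (by rw [neg_pow_q hF, mul_pow, pow_q_pow_q hF, mul_comm])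
  set u := uG fr lam with hudef
  have hum : u ∈ suGL 3 F q := uG_mem hF fr hlam
  set X := vec fr ![ρ, ρ * a', ρ * b'] with hX
  let B : Fin 3 → Fin 3 → F := ![![ρ, ρ * a', ρ * b'], ![ρ, ρ * (1 + a'), ρ * (lam - a' + b')],
    ![ρ, ρ * (2 + a'), ρ * (b' + 2 * (lam - a') - 1)]]
  let A : Fin 3 → Fin 3 → F := ![![r, r * a, r * b], ![0, 0, 1],
    ![ξ * r, ξ * r * (a - 1), ξ * r * (b + a + lam ^ q)]]
  have hu0 : mat u *ᵥ vec fr (B 0) = vec fr (B 1) := by
    rw [u_vec hF fr hlam]; congr 1; funext i; fin_cases i <;> simp [B] <;> ring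
  have hu1 : mat u *ᵥ vec fr (B 1) = vec fr (B 2) := by
    rw [u_vec hF fr hlam]; congr 1; funext i; fin_cases i <;> simp [B] <;> ring
  have hu2 : mat u *ᵥ vec fr (A 2) = vec fr (ξ • A 0) := by
    rw [u_vec hF fr hlam]; congr 1; funext i; fin_cases i <;> simp [A]
    · ring
    · linear_combination ξ * r * hlam
  have hB00 : hh (vec fr (B 0)) (vec fr (B 0)) = 0 := by
    rw [herm_vec hF]; simp [B, mul_pow, hρq]; linear_combination ρ ^ 2 * hb'
  have hB11 : hh (vec fr (B 1)) (vec fr (B 1)) = 0 := by rw [← hu0, herm_mulVec hum, hB00]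
  have hB22 : hh (vec fr (B 2)) (vec fr (B 2)) = 0 := by rw [← hu1, herm_mulVec hum, hB11]
  have hA00 : hh (vec fr (A 0)) (vec fr (A 0)) = 0 := by
    rw [herm_vec hF]; simp [A, mul_pow]; linear_combination r * r ^ q * hb
  have hA22 : hh (vec fr (A 2)) (vec fr (A 2)) = 0 := by
    rw [← herm_mulVec hum, hu2, ← pM_mulVec, Matrix.mulVec_smul, pM_mulVec, hf.smul_left,
      Unit.smul_right hf, hA00, mul_zero, mul_zero]
  have h10 : hh (vec fr (A 1)) (vec fr (A 0)) = hh (vec fr (B 1)) (vec fr (B 0)) := by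
    rw [herm_vec hF, herm_vec hF]
    simp [A, B, mul_pow, hρq, hrq, zero_pow_q hF]
    have e : r * ξ = ρ ^ 2 * -ω := by rw [hr, hρ, hn0, hωq, hω]; field_simp
    linear_combination e - ρ ^ 2 * hb' - ρ ^ 2 * haq' - ρ ^ 2 * hγ
  have h21 : hh (vec fr (A 2)) (vec fr (A 1)) = hh (vec fr (B 2)) (vec fr (B 1)) := by
    rw [← hu1, show hh (mat u *ᵥ vec fr (B 1)) (vec fr (B 1)) = hh (vec fr (B 1)) (vec fr (B 0)) by
      conv_lhs => arg 5; rw [← hu0]
      exact herm_mulVec hum _ _, ← h10]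
    rw [herm_vec hF, herm_vec hF]
    simp [A, zero_pow_q hF, mul_pow, hrq]
  have h20 : hh (vec fr (A 2)) (vec fr (A 0)) = hh (vec fr (B 2)) (vec fr (B 0)) := by
    rw [herm_vec hF, herm_vec hF]
    simp [A, B, mul_pow, hρq]
    have e : ξ * r * r ^ q * (-(3 + ξ ^ q) * n0 * ω ^ q) = ρ ^ 2 * (-2 * ω - 1) := by
      rw [hrq, hr, hρ, hn0, hωq, hξq, hω]
      field_simp
      ring
    linear_combination e + ξ * r * r ^ q * hb + ξ * r * r ^ q * haq + ξ * r * r ^ q * hδdef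
      - ρ ^ 2 * hb' - 2 * ρ ^ 2 * haq' - 2 * ρ ^ 2 * hγ
  have hG := gram_eq hF fr (x := A) (y := B)
    (fun i => by
      fin_cases i
      · exact hA00
      · change hh (vec fr (A 1)) (vec fr (A 1)) = 0
        rw [herm_vec hF]; simp [A, zero_pow_q hF]
      · exact hA22)
    (fun i => by
      fin_cases i
      · exact hB00
      · exact hB11
      · exact hB22) h10 h20 h21
  have hdA : (Matrix.of A).det = ξ * r ^ 2 := by
    rw [Matrix.det_fin_three]; simp [A]; ring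
  have hdB : (Matrix.of B).det = -ρ ^ 3 := by
    rw [Matrix.det_fin_three]; simp [B]; ring
  have hd : (Matrix.of A).det = (Matrix.of B).det := by
    rw [hdA, hdB, hr, hρ, hn0, hωq, hω]; field_simp
  obtain ⟨g, hgm, hg⟩ := exists_su_of_coords hF fr hG hd
    (by rw [hdB]; exact neg_ne_zero.2 (pow_ne_zero _ (div_ne_zero (neg_ne_zero.2 one_ne_zero) hn00)))
  refine ⟨lam, hlam, g, hgm, fun M hMI hu hc => ?_⟩
  have hginv : ∀ i, ((g⁻¹ : GL (Fin 3) F) : Matrix (Fin 3) (Fin 3) F) *ᵥ vec fr (A i) = vec fr (B i) :=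
    fun i => by rw [← hg i, inv_mulVec_mulVec]
  have hc0 : mat (g * u * g⁻¹) *ᵥ vec fr (A 0) = vec fr (A 1) := by
    simp only [mul_mulVec, hginv]; simp only at hu0; rw [hu0]; exact hg 1
  have hc1 : mat (g * u * g⁻¹) *ᵥ vec fr (A 1) = vec fr (A 2) := by
    simp only [mul_mulVec, hginv]; simp only at hu1; rw [hu1]; exact hg 2
  have hE : fr.E 0 = vec fr (A 1) := vec_E hF fr
  refine su_le_of_word hF fr hlam h3 hMI hu hc ?_ (M.mul_mem (M.mul_mem hc hu) hc) hξ0 ?_ ?_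
  · rw [hE, hc1, herm_vec hF]
    simp [A, zero_pow_q hF, hξ0, hr, hn00, hω0]
  · simp only at hc0 hc1 hu2 ⊢
    rw [mul_mulVec, mul_mulVec, hE, hc1, hu2, ← pM_mulVec fr (ξ • A 0), Matrix.mulVec_smul, pM_mulVec,
      Matrix.mulVec_smul, hc0]
  · intro S hS x
    by_contra hx
    obtain ⟨s, k, hs, hk, hsk, hfix⟩ := exists_card_subring hF S hx
    have h := hfix _ hS
    set χ := (ξ ^ q) ^ 2 / ξ with hχ
    have hχ3 : χ * ξ ^ 3 = 1 := by rw [hχ, hξq]; field_simp
    have hd3 : q + 1 ∣ 3 * (s - 1) := by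
      refine hξpow _ ?_
      have h1 : χ ^ (s - 1) = 1 := by
        refine mul_left_cancel₀ (left_ne_zero_of_mul_eq_one hχ3) ?_
        rw [← pow_succ', Nat.sub_add_cancel (by omega), h, mul_one]
      rw [pow_mul]
      calc (ξ ^ 3) ^ (s - 1) = (χ * ξ ^ 3) ^ (s - 1) := by rw [mul_pow, h1, one_mul]
        _ = 1 := by rw [hχ3, one_pow]
    rcases Nat.lt_or_ge k 3 with hk2 | hk2
    · obtain rfl : k = 2 := by omega
      obtain rfl : s = q := Nat.pow_left_injective two_ne_zero hsk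
      obtain ⟨c, hc⟩ := hd3
      have hc3 : c ≤ 2 := by
        by_contra hc'
        have := Nat.mul_le_mul_left (s + 1) (show 3 ≤ c by omega)
        omega
      interval_cases c <;> omega
    · have h3s : s ^ 3 ≤ q ^ 2 := hsk ▸ Nat.pow_le_pow_right (by omega) hk2
      have hle := Nat.le_of_dvd (by omega) hd3
      have hq : q < 25 := by
        by_contra hq'
        have h1 : (q + 1) ^ 3 ≤ (3 * s) ^ 3 := Nat.pow_le_pow_left (by omega) 3
        nlinarith [Nat.mul_le_mul_right (q ^ 2) (show 25 ≤ q by omega)]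
      have hs9 : s < 9 := by
        by_contra hs'
        have := Nat.pow_le_pow_left (show 9 ≤ s by omega) 3
        have h1 : q ^ 2 ≤ 24 ^ 2 := Nat.pow_le_pow_left (by omega) 2
        norm_num at this h1
        omega
      have hk10 : k < 10 := by
        by_contra hk'
        have h1 := Nat.pow_le_pow_right (show 1 ≤ 2 by omega) (show 10 ≤ k by omega)
        have h2 := Nat.pow_le_pow_left hs k
        have h3 : q ^ 2 ≤ 24 ^ 2 := Nat.pow_le_pow_left (by omega) 2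
        norm_num at h1 h3
        omega
      rcases order_arith ⟨q, hq⟩ ⟨s, hs9⟩ ⟨k, hk10⟩ ⟨h3, hk, hs, hsk, hd3⟩ with e | e
      · exact h5 e
      · exact h8 e

end CfsgLib.Geo.SUTwoConj
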