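import Cfsg.Agent.Unitary.Basic
import Mathlib.LinearAlgebra.SymplecticGroup
import Mathlib.LinearAlgebra.Matrix.BilinearForm
import Mathlib.RingTheory.AdjoinRoot
import Mathlib.Algebra.Polynomial.SpecificDegree
import Mathlib.FieldTheory.Finite.Basic

/-!
The centraliser of a fixed-point-free element of order three in `Sp_2m(q)`, `q ≡ 2 (mod 3)`,
is the unitary group of the Hermitian form it defines over the field with `q ^ 2` elements.
-/

set_option autoImplicit false
set_option linter.style.haveILetI false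

namespace CfsgLib.Geo.SpOrderThree

open Matrix Polynomial CfsgLib.Forms CfsgLib.Unitary

variable {F : Type*} [Field F] [Fintype F] {m : ℕ}

/-- The standard alternating form. -/
noncomputable def altB (F : Type*) [Field F] (m : ℕ) :
    LinearMap.BilinForm F (Fin m ⊕ Fin m → F) :=
  Matrix.toBilin' (Matrix.J (Fin m) F)

omit [Fintype F] in
theorem altB_mulVec (g : Matrix (Fin m ⊕ Fin m) (Fin m ⊕ Fin m) F) (v w : Fin m ⊕ Fin m → F) :
    altB F m (g *ᵥ v) (g *ᵥ w) = v ⬝ᵥ (gᵀ * Matrix.J (Fin m) F * g) *ᵥ w := by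
  rw [altB, Matrix.toBilin'_apply', ← mulVec_mulVec, ← mulVec_mulVec,
    dotProduct_mulVec v gᵀ, vecMul_transpose]

omit [Fintype F] in
theorem mem_sp_iff {g : Matrix (Fin m ⊕ Fin m) (Fin m ⊕ Fin m) F} :
    g ∈ Matrix.symplecticGroup (Fin m) F ↔ ∀ v w, altB F m (g *ᵥ v) (g *ᵥ w) = altB F m v w := by
  rw [SymplecticGroup.mem_iff']
  simp only [altB_mulVec]
  refine ⟨fun h v w => by rw [h, altB, Matrix.toBilin'_apply'], fun h => ?_⟩
  refine Matrix.toBilin'.injective (LinearMap.ext₂ fun v w => ?_)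
  rw [Matrix.toBilin'_apply', h, altB]

omit [Fintype F] in
theorem altB_swap (v w : Fin m ⊕ Fin m → F) : altB F m w v = -altB F m v w := by
  rw [altB, Matrix.toBilin'_apply', Matrix.toBilin'_apply', dotProduct_mulVec, dotProduct_comm,
    ← mulVec_transpose, J_transpose, neg_mulVec, dotProduct_neg]

omit [Fintype F] in
theorem altB_nondeg {v : Fin m ⊕ Fin m → F} (h : ∀ w, altB F m v w = 0) : v = 0 := by
  have h' : ∀ w, v ᵥ* Matrix.J (Fin m) F ⬝ᵥ w = 0 := fun w => by
    rw [← dotProduct_mulVec, ← Matrix.toBilin'_apply']; exact h w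
  have hv := dotProduct_eq_zero _ h'
  have := congrArg (fun u => u ᵥ* Matrix.J (Fin m) F) hv
  simpa [vecMul_vecMul, J_squared, vecMul_neg] using this

theorem card_centralizer {q : ℕ} (hF : Fintype.card F = q) (hq : q % 3 = 2)
    (x : Matrix.symplecticGroup (Fin m) F) (hx3 : x ^ 3 = 1)
    (hfpf : IsUnit ((x : Matrix (Fin m ⊕ Fin m) (Fin m ⊕ Fin m) F) - 1)) :
    Nat.card (Subgroup.centralizer ({x} : Set (Matrix.symplecticGroup (Fin m) F))) =
      q ^ (m * (m - 1) / 2) *
        ∏ i ∈ Finset.range m, (if Even i then q ^ (i + 1) + 1 else q ^ (i + 1) - 1) := by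
  classical
  set X : Matrix (Fin m ⊕ Fin m) (Fin m ⊕ Fin m) F := x.1 with hX
  have hX3 : X ^ 3 = 1 := congrArg Subtype.val hx3
  have hquad : X * X + X + 1 = 0 := by
    obtain ⟨u, hu⟩ := hfpf
    have h : (X - 1) * (X * X + X + 1) = 0 := by
      have e : (X - 1) * (X * X + X + 1) = X ^ 3 - 1 := by noncomm_ring
      rw [e, hX3, sub_self]
    calc X * X + X + 1 = (↑u⁻¹ * ↑u) * (X * X + X + 1) := by simp
      _ = 0 := by rw [mul_assoc, hu, h, mul_zero]
  -- the quadratic extension
  let p : F[X] := Polynomial.X ^ 2 + Polynomial.X + 1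
  have hroot : ∀ r : F, r ^ 2 + r + 1 ≠ 0 := by
    intro r hr
    have hr0 : r ≠ 0 := fun h => by simp [h] at hr
    have h3 : r ^ 3 = 1 := by linear_combination (r - 1) * hr
    have hq1 : r ^ (q - 1) = 1 := hF ▸ FiniteField.pow_card_sub_one_eq_one r hr0
    have h1 : r = 1 := by
      have e : q - 1 = 3 * (q / 3) + 1 := by omega
      rw [e, pow_succ, pow_mul, h3, one_pow, one_mul] at hq1
      exact hq1
    have h30 : ((3 : ℕ) : F) = 0 := by rw [← hr, h1]; push_cast; norm_num
    obtain ⟨c, hc⟩ := CharP.exists F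
    obtain ⟨n, hcp, hn⟩ := FiniteField.card F c
    have : c ∣ 3 := (CharP.cast_eq_zero_iff F c 3).mp h30
    rcases (Nat.dvd_prime Nat.prime_three).mp this with h | h
    · exact hcp.ne_one h
    · have : 3 ∣ q := by rw [← hF, hn, h]; exact dvd_pow_self _ n.pos.ne'
      omega
  have hdeg : p.natDegree = 2 := by simp only [p]; compute_degree!
  have hirr : Irreducible p :=
    irreducible_of_degree_le_three_of_not_isRoot (by simp [hdeg]) fun r h => hroot r (by
      simpa [p, IsRoot] using h)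
  haveI : Fact (Irreducible p) := ⟨hirr⟩
  let pb := AdjoinRoot.powerBasis hirr.ne_zero
  haveI : FiniteDimensional F (AdjoinRoot p) := Module.Finite.of_basis pb.basis
  haveI : Finite (AdjoinRoot p) := Module.finite_of_finite F
  have hK : Nat.card (AdjoinRoot p) = q ^ 2 := by
    rw [Module.natCard_eq_pow_finrank (K := F), Nat.card_eq_fintype_card, hF, pb.finrank,
      AdjoinRoot.powerBasis_dim, hdeg]
  set ω : AdjoinRoot p := AdjoinRoot.root p with hω
  have hω2 : ω ^ 2 + ω + 1 = 0 := by
    simpa [p, hω] using (AdjoinRoot.eval₂_root p)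
  have hω3 : ω ^ 3 = 1 := by linear_combination (ω - 1) * hω2
  let σ := frobQ hK
  have hσof : ∀ a : F, σ (AdjoinRoot.of p a) = AdjoinRoot.of p a := fun a => by
    rw [frobQ_apply, ← map_pow, ← hF, FiniteField.pow_card]
  have hσω : σ ω = -1 - ω := by
    rw [frobQ_apply, ← Nat.div_add_mod q 3, hq, pow_add, pow_mul, hω3, one_pow, one_mul]
    linear_combination hω2
  have hsep : ∀ a b a' b' : F, AdjoinRoot.of p a + AdjoinRoot.of p b * ω =
      AdjoinRoot.of p a' + AdjoinRoot.of p b' * ω → b = b' := by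
    intro a b a' b' h
    by_contra hne
    have hd : AdjoinRoot.of p (b - b') ≠ 0 :=
      (_root_.map_ne_zero _).mpr (sub_ne_zero.mpr hne)
    have e : ω = AdjoinRoot.of p ((a' - a) / (b - b')) := by
      rw [map_div₀, eq_div_iff hd, map_sub, map_sub]
      linear_combination h
    rw [e, ← map_pow, ← map_add, ← map_one (AdjoinRoot.of p), ← map_add] at hω2
    exact hroot _ ((_root_.map_eq_zero _).mp hω2)
  -- the module structure
  let Xl : Module.End F (Fin m ⊕ Fin m → F) := Matrix.toLinAlgEquiv' X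
  have hXl : ∀ v, Xl v = X *ᵥ v := fun v => Matrix.toLinAlgEquiv'_apply X v
  have hp0 : Polynomial.aeval Xl p = 0 := by
    have : Polynomial.aeval Xl p = Matrix.toLinAlgEquiv' (X * X + X + 1) := by
      simp [p, Xl, pow_two]
    rw [this, hquad, map_zero]
  let φ : AdjoinRoot p →+* Module.End F (Fin m ⊕ Fin m → F) :=
    Ideal.Quotient.lift (Ideal.span {p}) (Polynomial.aeval Xl).toRingHom (fun a ha => by
      obtain ⟨c, rfl⟩ := Ideal.mem_span_singleton'.mp ha
      simp [hp0])
  letI : Module (AdjoinRoot p) (Fin m ⊕ Fin m → F) := Module.compHom _ φ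
  have hsmul : ∀ (g : F[X]) (v : Fin m ⊕ Fin m → F),
      AdjoinRoot.mk p g • v = Polynomial.aeval Xl g v := fun g v => rfl
  have hωv : ∀ v : Fin m ⊕ Fin m → F, ω • v = X *ᵥ v := fun v => by
    rw [hω, ← AdjoinRoot.mk_X, hsmul, aeval_X, hXl]
  have hcv : ∀ (c : F) (v : Fin m ⊕ Fin m → F), AdjoinRoot.of p c • v = c • v := fun c v => by
    rw [← AdjoinRoot.mk_C, hsmul, aeval_C, Module.algebraMap_end_apply]
  haveI : Module.Finite (AdjoinRoot p) (Fin m ⊕ Fin m → F) := Module.Finite.of_finite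
  have hfr : Module.finrank (AdjoinRoot p) (Fin m ⊕ Fin m → F) = m := by
    have h1 := Module.natCard_eq_pow_finrank (K := AdjoinRoot p) (V := Fin m ⊕ Fin m → F)
    rw [Nat.card_fun, hK, Nat.card_eq_fintype_card (α := F), hF, Nat.card_eq_fintype_card,
      Fintype.card_sum, Fintype.card_fin, ← pow_mul] at h1
    have h2q : 2 ≤ q := by omega
    have := Nat.pow_right_injective h2q h1
    omega
  -- the Hermitian form
  set B := altB F m with hB
  have hBX : ∀ v w, B (X *ᵥ v) (X *ᵥ w) = B v w := mem_sp_iff.mp x.2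
  have hX2v : ∀ v, X *ᵥ (X *ᵥ v) = -v - X *ᵥ v := fun v => by
    have := congrArg (· *ᵥ v) hquad
    simp only [add_mulVec, one_mulVec, zero_mulVec, ← mulVec_mulVec] at this
    linear_combination (norm := module) this
  have hBr : ∀ v w, B v (X *ᵥ w) = -B v w - B (X *ᵥ v) w := fun v w => by
    rw [← hBX v (X *ᵥ w), hX2v]
    simp only [map_sub, map_neg, hBX]
    abel
  let h : (Fin m ⊕ Fin m → F) → (Fin m ⊕ Fin m → F) → AdjoinRoot p := fun v w =>
    AdjoinRoot.of p (B (X *ᵥ v) w + B v w) + AdjoinRoot.of p (B v w) * ω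
  have haddl : ∀ u v w, h (u + v) w = h u w + h v w := fun u v w => by
    simp [h, mulVec_add]; ring
  have hsmull : ∀ (k : AdjoinRoot p) v w, h (k • v) w = k * h v w := by
    intro k v w
    obtain ⟨g, rfl⟩ := AdjoinRoot.mk_surjective k
    induction g using Polynomial.induction_on generalizing v with
    | C a =>
      rw [AdjoinRoot.mk_C, hcv]
      simp [h, mulVec_smul]; ring
    | add f g hf hg => rw [map_add, add_smul, haddl, hf, hg, add_mul]
    | monomial n a ih =>
      rw [pow_succ, ← mul_assoc, map_mul (AdjoinRoot.mk p), AdjoinRoot.mk_X, ← hω, mul_smul, hωv,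
        ih (X *ᵥ v), mul_assoc]
      congr 1
      simp only [h, hX2v, map_sub, map_neg, map_add, LinearMap.sub_apply, LinearMap.neg_apply]
      linear_combination (-(AdjoinRoot.of p (B v w))) * hω2
  have hswap : ∀ v w, h w v = σ (h v w) := fun v w => by
    simp only [h, map_add, map_mul, hσof, hσω]
    rw [altB_swap v w, altB_swap v (X *ᵥ w), ← hB, hBr]
    simp only [map_neg, map_sub]
    ring
  let H : (Fin m ⊕ Fin m → F) →ₛₗ[σ] (Fin m ⊕ Fin m → F) →ₗ[AdjoinRoot p] AdjoinRoot p :=
    LinearMap.mk₂'ₛₗ σ (RingHom.id (AdjoinRoot p)) (fun v w => h w v)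
      (fun u v w => by rw [hswap (u + v) w, hswap u w, hswap v w, haddl, map_add])
      (fun c v w => by rw [hswap (c • v) w, hswap v w, hsmull, map_mul, smul_eq_mul])
      (fun v u w => haddl u w v)
      (fun c v w => hsmull c w v)
  have hHapp : ∀ v w, H v w = h w v := fun v w => rfl
  have hHs : H.IsSymm := ⟨fun v w => by
    rw [hHapp, hHapp, hswap v w]; exact frobQ_invol hK _⟩
  have hnd : ∀ v, (∀ w, h v w = 0) → v = 0 := fun v hv => altB_nondeg fun w => by
    refine hsep (B (X *ᵥ v) w + B v w) (B v w) 0 0 ?_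
    rw [map_zero, zero_mul, add_zero]
    exact hv w
  have hHn : H.Nondegenerate :=
    ⟨fun v hv => hnd v fun w => by
      have := hv w
      rw [hHapp, hswap v w] at this
      exact (_root_.map_eq_zero σ).mp this,
     fun v hv => hnd v fun w => hv w⟩
  obtain ⟨bas, hbas⟩ := exists_orthonormal_herm (frobQ_ne_id hK) (frobQ_invol hK)
    (finite_norm_surjective (frobQ_ne_id hK) (frobQ_invol hK)) m _ H hHs hHn hfr
  let e := bas.equivFun
  have hkey : ∀ v w, Cfsg.hermForm m (AdjoinRoot p) q (e v) (e w) = h v w := by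
    intro v w
    conv_rhs => rw [← hHapp, ← bas.sum_equivFun w, ← bas.sum_equivFun v]
    simp only [map_sum, LinearMap.map_smulₛₗ, LinearMap.sum_apply, LinearMap.smul_apply,
      map_smul, hbas, smul_eq_mul, mul_ite, mul_one, mul_zero,
      Finset.sum_ite_eq', Finset.mem_univ, if_true]
    simp [Cfsg.hermForm, e, σ, frobQ_apply]
  rw [← card_GU hK m]
  have hcomm : ∀ g : Subgroup.centralizer ({x} : Set (Matrix.symplecticGroup (Fin m) F)),
      g.1.1 * X = X * g.1.1 := fun g =>
    congrArg Subtype.val (Subgroup.mem_centralizer_singleton_iff.mp g.2)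
  let L : Subgroup.centralizer ({x} : Set (Matrix.symplecticGroup (Fin m) F)) →
      ((Fin m ⊕ Fin m → F) →ₗ[AdjoinRoot p] (Fin m ⊕ Fin m → F)) := fun g =>
    { toFun := fun v => g.1.1 *ᵥ v
      map_add' := fun u v => mulVec_add _ u v
      map_smul' := fun k v => by
        obtain ⟨f, rfl⟩ := AdjoinRoot.mk_surjective k
        simp only [RingHom.id_apply]
        induction f using Polynomial.induction_on generalizing v with
        | C a => rw [AdjoinRoot.mk_C, hcv, hcv, mulVec_smul]
        | add f₁ f₂ hf₁ hf₂ => rw [map_add, add_smul, mulVec_add, hf₁, hf₂, ← add_smul]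
        | monomial n a ih =>
          rw [pow_succ, ← mul_assoc, map_mul (AdjoinRoot.mk p), AdjoinRoot.mk_X, ← hω, mul_smul,
            hωv, ih (X *ᵥ v), mulVec_mulVec, hcomm, ← mulVec_mulVec, ← hωv, ← mul_smul] }
  have hLinj : ∀ g, Function.Bijective (L g) := fun g => by
    have hi : Function.Injective (L g) := fun u v huv => by
      have := congrArg (fun z => (g⁻¹).1.1 *ᵥ z) huv
      simpa [L, mulVec_mulVec, ← Submonoid.coe_mul, ← Subgroup.coe_mul] using this
    exact ⟨hi, Finite.surjective_of_injective hi⟩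
  let f : Subgroup.centralizer ({x} : Set (Matrix.symplecticGroup (Fin m) F)) →
      Cfsg.GU m (AdjoinRoot p) q := fun g =>
    ⟨glOfEquiv (e.symm ≪≫ₗ LinearEquiv.ofBijective (L g) (hLinj g) ≪≫ₗ e),
      mem_GU_iff.mpr fun u v => by
        simp only [glOfEquiv_mulVec, LinearEquiv.trans_apply, hkey, LinearEquiv.ofBijective_apply]
        conv_rhs => rw [← e.apply_symm_apply u, ← e.apply_symm_apply v, hkey]
        simp only [h, L, LinearMap.coe_mk, AddHom.coe_mk]
        rw [mulVec_mulVec, ← hcomm, ← mulVec_mulVec, mem_sp_iff.mp g.1.2, mem_sp_iff.mp g.1.2]⟩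
  refine Nat.card_congr (Equiv.ofBijective f ⟨fun g g' hgg => ?_, fun A => ?_⟩)
  · refine Subtype.ext (Subtype.ext (Matrix.toLin'.injective (LinearMap.ext fun v => ?_)))
    have := congrArg (fun A : Cfsg.GU m (AdjoinRoot p) q =>
      (A.1 : Matrix (Fin m) (Fin m) (AdjoinRoot p)) *ᵥ e v) hgg
    simpa [f, glOfEquiv_mulVec, L] using this
  · let T : (Fin m ⊕ Fin m → F) →ₗ[AdjoinRoot p] (Fin m ⊕ Fin m → F) :=
      e.symm.toLinearMap ∘ₗ (Matrix.toLin' (A.1 : Matrix (Fin m) (Fin m) (AdjoinRoot p))) ∘ₗ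
        e.toLinearMap
    let TF : (Fin m ⊕ Fin m → F) →ₗ[F] (Fin m ⊕ Fin m → F) :=
      { toFun := T
        map_add' := map_add T
        map_smul' := fun c v => by
          rw [← hcv c v, map_smul, hcv, RingHom.id_apply] }
    let G := LinearMap.toMatrix' TF
    have hG : ∀ v, G *ᵥ v = T v := fun v => LinearMap.toMatrix'_mulVec TF v
    have hGmem : G ∈ Matrix.symplecticGroup (Fin m) F := mem_sp_iff.mpr fun v w => by
      rw [hG, hG]
      have h1 : h (T v) (T w) = h v w := by
        rw [← hkey, ← hkey]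
        simp only [T, LinearMap.comp_apply, LinearEquiv.coe_coe, LinearEquiv.apply_symm_apply,
          Matrix.toLin'_apply]
        exact mem_GU_iff.mp A.2 _ _
      exact hsep _ _ _ _ h1
    have hGc : G * X = X * G := Matrix.toLin'.injective (LinearMap.ext fun v => by
      simp only [Matrix.toLin'_apply, ← mulVec_mulVec, hG, ← hωv, map_smul])
    refine ⟨⟨⟨G, hGmem⟩, Subgroup.mem_centralizer_singleton_iff.mpr (Subtype.ext hGc)⟩, ?_⟩
    refine Subtype.ext (Units.ext (Matrix.toLin'.injective (LinearMap.ext fun v => ?_)))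
    simp [f, glOfEquiv_mulVec, L, hG, T]

end CfsgLib.Geo.SpOrderThree
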