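import Cfsg.Agent.Geo.PrimeSelfDual
import Cfsg.Agent.Classical.SemisimpleSymp
import Mathlib

/-!
Elements of symplectic groups with a given self-dual characteristic polynomial.
-/

set_option autoImplicit false
set_option linter.style.haveILetI false
set_option linter.unusedSectionVars false

namespace CfsgLib.Geo.SpSemi

open Matrix Polynomial CfsgLib.Geo.USemi
open CfsgLib.GLClass (rootFactors mem_rootFactors rootFactors_spec)

variable {K : Type*} [Field K] [Fintype K] (p : ℕ) [Fact p.Prime] [CharP K p]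

/-- An invertible alternating form fixed by `g`. -/
def HasForm {n : ℕ} (g : GL (Fin n) K) : Prop :=
  ∃ S : Matrix (Fin n) (Fin n) K, Sᵀ = -S ∧ (∀ i, S i i = 0) ∧ IsUnit S ∧ g.valᵀ * S * g.val = S

/-- A semisimple element with this polynomial fixes a form. -/
def Realised (f : K[X]) : Prop :=
  ∃ (n : ℕ) (g : GL (Fin n) K), (orderOf g).Coprime p ∧ g.val.charpoly = f ∧ HasForm g

theorem realised_one : Realised p (1 : K[X]) := by
  refine ⟨0, 1, by rw [orderOf_one]; exact Nat.coprime_one_left p, by simp, ⟨0, by simp, fun i => i.elim0, ?_, Subsingleton.elim _ _⟩⟩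
  exact isUnit_of_subsingleton _

theorem Realised.mul {f h : K[X]} (hf : Realised p f) (hh : Realised p h) : Realised p (f * h) := by
  obtain ⟨n, g, hgo, hgc, S, hS1, hS2, hS3, hS4⟩ := hf
  obtain ⟨m, k, hko, hkc, T, hT1, hT2, hT3, hT4⟩ := hh
  refine ⟨n + m, emb (g, k), coprime_emb p hgo hko, by rw [charpoly_emb, hgc, hkc],
    Matrix.reindex finSumFinEquiv finSumFinEquiv (Matrix.fromBlocks S 0 0 T), ?_, fun i => ?_, ?_, ?_⟩
  · rw [Matrix.transpose_reindex, Matrix.fromBlocks_transpose, hS1, hT1, Matrix.transpose_zero,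
      Matrix.transpose_zero]
    simp only [Matrix.reindex_apply]
    rw [show Matrix.fromBlocks (-S) 0 0 (-T) = -Matrix.fromBlocks S 0 0 T by
      rw [Matrix.fromBlocks_neg, neg_zero, neg_zero]]
    rfl
  · rw [Matrix.reindex_apply, Matrix.submatrix_apply]
    rcases finSumFinEquiv.symm i with a | a
    · exact hS2 a
    · exact hT2 a
  · rw [Matrix.isUnit_iff_isUnit_det, Matrix.det_reindex_self, Matrix.det_fromBlocks_zero₂₁]
    exact ((Matrix.isUnit_iff_isUnit_det S).1 hS3).mul ((Matrix.isUnit_iff_isUnit_det T).1 hT3)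
  · rw [emb_val]
    simp only [Matrix.reindex_apply, Matrix.transpose_submatrix, Matrix.submatrix_mul_equiv,
      Matrix.fromBlocks_transpose, Matrix.fromBlocks_multiply, Matrix.transpose_zero, Matrix.mul_zero, Matrix.zero_mul,
      add_zero, zero_add, hS4, hT4]

/-- A hyperbolic pair. -/
theorem realised_pair {f : K[X]} (hm : f.Monic) (h0 : f.coeff 0 ≠ 0) :
    Realised p (f * dual (RingHom.id K) f) := by
  obtain ⟨A, hA, hAc⟩ := CfsgLib.GLClass.exists_regular_charpoly p
    (⟨f, hm, rfl, h0⟩ : CfsgLib.GLClass.GoodPoly K f.natDegree)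
  have hstar : (star' (RingHom.id K) A).val = (A⁻¹).valᵀ := by
    show CfsgLib.Unitary.adj _ _ = _
    rfl
  refine ⟨_, emb (A, star' (RingHom.id K) A), coprime_emb p hA (hA.coprime_dvd_left (orderOf_map_dvd _ _)),
    by rw [charpoly_emb, charpoly_star', hAc],
    Matrix.reindex finSumFinEquiv finSumFinEquiv (Matrix.fromBlocks 0 1 (-1) 0), ?_, fun i => ?_, ?_, ?_⟩
  · rw [Matrix.transpose_reindex, Matrix.fromBlocks_transpose]
    simp only [Matrix.reindex_apply, Matrix.transpose_zero, Matrix.transpose_one, Matrix.transpose_neg]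
    rw [show Matrix.fromBlocks (0 : Matrix (Fin f.natDegree) (Fin f.natDegree) K) (-1) 1 0 =
        -Matrix.fromBlocks 0 1 (-1) 0 by rw [Matrix.fromBlocks_neg, neg_zero, neg_neg]]
    rfl
  · rw [Matrix.reindex_apply, Matrix.submatrix_apply]
    rcases finSumFinEquiv.symm i with a | a <;> rfl
  · refine IsUnit.of_mul_eq_one (Matrix.reindex finSumFinEquiv finSumFinEquiv (Matrix.fromBlocks 0 (-1) 1 0)) ?_
    simp [Matrix.reindex_apply, Matrix.submatrix_mul_equiv, Matrix.fromBlocks_multiply]
  · rw [emb_val]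
    simp only [Matrix.reindex_apply, Matrix.transpose_submatrix, Matrix.submatrix_mul_equiv,
      Matrix.fromBlocks_transpose, Matrix.fromBlocks_multiply, Matrix.transpose_zero, Matrix.mul_zero, Matrix.zero_mul,
      add_zero, zero_add, mul_one, hstar, Matrix.transpose_transpose, mul_neg, neg_mul, neg_zero]
    rw [← Matrix.transpose_mul, Units.inv_mul, Matrix.transpose_one]

theorem invariant_eq_top {d : ℕ} {A : Matrix (Fin d) (Fin d) K} {P : K[X]} (hP : Irreducible P)
    (hd : P.natDegree = d) (hA : aeval A P = 0) {W : Submodule K (Fin d → K)} (hW : ∀ w ∈ W, A *ᵥ w ∈ W)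
    {v : Fin d → K} (hv : v ∈ W) (hv0 : v ≠ 0) : W = ⊤ := by
  have hmem : ∀ s : K[X], (aeval A s) *ᵥ v ∈ W := by
    intro s
    induction s using Polynomial.induction_on' with
    | add a b ha hb => rw [map_add, Matrix.add_mulVec]; exact W.add_mem ha hb
    | monomial k a =>
      rw [aeval_monomial, Algebra.algebraMap_eq_smul_one, smul_mul_assoc, one_mul, Matrix.smul_mulVec]
      refine W.smul_mem a ?_
      induction k with
      | zero => simpa using hv
      | succ k ih => rw [pow_succ', ← Matrix.mulVec_mulVec]; exact hW _ ih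
  let φ : Polynomial.degreeLT K d →ₗ[K] W :=
    { toFun := fun s => ⟨(aeval A (s : K[X])) *ᵥ v, hmem _⟩
      map_add' := fun a b => Subtype.ext (by simp [Matrix.add_mulVec])
      map_smul' := fun c a => Subtype.ext (by simp [Matrix.smul_mulVec]) }
  have hφ : Function.Injective φ := by
    rw [← LinearMap.ker_eq_bot, LinearMap.ker_eq_bot']
    intro s hs
    by_contra hs0
    have hs0' : (s : K[X]) ≠ 0 := fun h => hs0 (Subtype.ext h)
    have hlt : (s : K[X]).natDegree < P.natDegree := by
      rw [hd]; exact (natDegree_lt_iff_degree_lt hs0').2 (Polynomial.mem_degreeLT.1 s.2)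
    obtain ⟨a, b, hab⟩ := (hP.coprime_iff_not_dvd).2 fun hdv => by
      have := natDegree_le_of_dvd hdv hs0'; omega
    have h1 := congrArg (fun t : K[X] => (aeval A t) *ᵥ v) hab
    simp only [map_add, map_mul, hA, mul_zero, zero_add, map_one, Matrix.one_mulVec, ← Matrix.mulVec_mulVec,
      show (aeval A (s : K[X])) *ᵥ v = 0 from congrArg Subtype.val hs, Matrix.mulVec_zero] at h1
    exact hv0 h1.symm
  apply Submodule.eq_top_of_finrank_eq
  refine le_antisymm (Submodule.finrank_le W) ?_
  have h1 : Module.finrank K (Polynomial.degreeLT K d) = d := by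
    rw [LinearEquiv.finrank_eq (Polynomial.degreeLTEquiv K d), Module.finrank_fin_fun]
  exact (Module.finrank_fin_fun K).le.trans (h1.ge.trans (LinearMap.finrank_le_finrank_of_injective hφ))

theorem realised_irreducible {P : K[X]} (hm : P.Monic) (hP : Irreducible P) (h0 : P.coeff 0 ≠ 0)
    (hd : dual (RingHom.id K) P = P) (hne : ¬ P ∣ X ^ 2 - 1) : Realised p P := by
  obtain ⟨g, hg, hgc⟩ := CfsgLib.GLClass.exists_regular_charpoly p
    (⟨P, hm, rfl, h0⟩ : CfsgLib.GLClass.GoodPoly K P.natDegree)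
  obtain ⟨k, hk⟩ := isConj_iff.1 (CfsgLib.GLClass.isConj_of_charpoly_eq p (g := g)
    (h := star' (RingHom.id K) g) hg (hg.coprime_dvd_left (orderOf_map_dvd _ _)) (by rw [charpoly_star', hgc, hd]))
  have hA : aeval g.val P = 0 := by
    have := Matrix.aeval_self_charpoly g.val; rwa [hgc] at this
  set X' := k.val
  have hX : g.valᵀ * X' * g.val = X' := by
    have h1 : X' * g.val = (g⁻¹).valᵀ * X' := by
      have : (k * g).val = (star' (RingHom.id K) g * k).val := by rw [← hk, inv_mul_cancel_right]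
      rw [Units.val_mul, Units.val_mul] at this
      rw [this]; rfl
    rw [mul_assoc, h1, ← mul_assoc, ← Matrix.transpose_mul, Units.inv_mul, Matrix.transpose_one, one_mul]
  have key : ∀ M : Matrix (Fin P.natDegree) (Fin P.natDegree) K, g.valᵀ * M * g.val = M →
      M = Mᵀ ∨ Realised p P := by
    intro M hM
    set S := M - Mᵀ with hS
    have hMT : g.valᵀ * Mᵀ * g.val = Mᵀ := by
      have := congrArg Matrix.transpose hM
      rwa [Matrix.transpose_mul, Matrix.transpose_mul, Matrix.transpose_transpose, ← mul_assoc] at this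
    have hSg : g.valᵀ * S * g.val = S := by rw [hS, mul_sub, sub_mul, hM, hMT]
    by_cases hker : ∀ v, S *ᵥ v = 0 → v = 0
    · right
      refine ⟨_, g, hg, hgc, S, by rw [hS, Matrix.transpose_sub, Matrix.transpose_transpose, neg_sub],
        fun i => by simp [hS], ?_, hSg⟩
      exact Matrix.mulVec_injective_iff_isUnit.1 fun a b hab => sub_eq_zero.1 (hker _ (by
        rw [Matrix.mulVec_sub, hab, sub_self]))
    · left
      push Not at hker
      obtain ⟨v, hv, hv0⟩ := hker
      have htop : LinearMap.ker S.mulVecLin = ⊤ := by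
        refine invariant_eq_top hP rfl hA (fun w hw => ?_) (LinearMap.mem_ker.2 hv) hv0
        rw [LinearMap.mem_ker, Matrix.mulVecLin_apply] at hw ⊢
        have h1 : (g⁻¹).valᵀ * (g.valᵀ * S * g.val) = S * g.val := by
          rw [← mul_assoc, ← mul_assoc, ← Matrix.transpose_mul, Units.mul_inv, Matrix.transpose_one, one_mul]
        rw [hSg] at h1
        rw [Matrix.mulVec_mulVec, ← h1, ← Matrix.mulVec_mulVec, hw, Matrix.mulVec_zero]
      refine sub_eq_zero.1 (Matrix.ext_of_mulVec_single fun i => ?_)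
      rw [Matrix.zero_mulVec]
      exact LinearMap.mem_ker.1 (htop ▸ Submodule.mem_top)
  rcases key X' hX with hsym | h
  · rcases key (X' * g.val) (by
      calc g.valᵀ * (X' * g.val) * g.val = g.valᵀ * X' * g.val * g.val := by rw [← mul_assoc]
        _ = X' * g.val := by rw [hX]) with hsym2 | h
    · exfalso
      rw [Matrix.transpose_mul, ← hsym] at hsym2
      have h2 : X' * (g.val * g.val) = X' := by rw [← mul_assoc, hsym2, hX]
      have h3 : g.val * g.val = 1 := by
        have := congrArg ((k⁻¹).val * ·) h2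
        simpa [X', ← mul_assoc] using this
      refine hne ?_
      by_contra hdv
      obtain ⟨a, b, hab⟩ := (hP.coprime_iff_not_dvd).2 hdv
      have h4 := congrArg (aeval g.val) hab
      rw [map_add, map_mul, map_mul, hA, mul_zero, zero_add, map_sub, map_pow, aeval_X, map_one, sq, h3,
        sub_self, mul_zero] at h4
      haveI : Nonempty (Fin P.natDegree) := ⟨⟨0, hP.natDegree_pos⟩⟩
      exact zero_ne_one h4
    · exact h
  · exact h

/-- Realisation of self-dual polynomials with roots of odd prime order or equal to one. -/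
theorem realised_of_factors (r : ℕ) [Fact r.Prime] (hrp : r.Coprime p) (hr2 : r ≠ 2)
    (hev : ∀ P ∈ rootFactors K r, dual (RingHom.id K) P = P → Even P.natDegree) :
    ∀ d : ℕ, ∀ f : K[X], f.natDegree = d → f.Monic → f.coeff 0 ≠ 0 → dual (RingHom.id K) f = f →
      Even d → (∀ P, P.Monic → Irreducible P → P ∣ f → P = X - C 1 ∨ P ∈ rootFactors K r) → Realised p f := by
  intro d
  induction d using Nat.strong_induction_on with
  | _ d ih =>
  intro f hfd hfm hf0 hfdual hev' hfac
  have hone : Realised p ((X - C (1 : K)) * (X - C 1)) := by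
    have := realised_pair p (monic_X_sub_C (1 : K)) (by simp)
    rwa [CfsgLib.Geo.PrimeSD.dual_X_sub_one] at this
  by_cases hR : ∃ P ∈ rootFactors K r, P ∣ f
  · obtain ⟨P, hPR, hPf⟩ := hR
    obtain ⟨hPm, hPi, hPc⟩ := mem_rootFactors hPR
    have hP0 : P.coeff 0 ≠ 0 := CfsgLib.GLClass.coeff_zero_ne_of_dvd hPf hf0
    have hDR := (CfsgLib.Geo.PrimeSD.dual_rootFactor p r hrp (RingHom.id K) (k := 0) (fun a => by simp) hPR).1
    obtain ⟨B, hBm, hB0, hBd, hBr, hBf, hBev⟩ : ∃ B : K[X], B.Monic ∧ B.coeff 0 ≠ 0 ∧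
        dual (RingHom.id K) B = B ∧ Realised p B ∧ B ∣ f ∧ Even B.natDegree ∧ 0 < B.natDegree := by
      by_cases hPd : dual (RingHom.id K) P = P
      · refine ⟨P, hPm, hP0, hPd, realised_irreducible p hPm hPi hP0 hPd fun h => ?_, hPf, hev P hPR hPd,
          hPi.natDegree_pos⟩
        haveI := Fact.mk hPi
        haveI : NeZero (r : AdjoinRoot P) := ⟨by
          rw [← map_natCast (algebraMap K (AdjoinRoot P))]
          exact (_root_.map_ne_zero _).2 (CfsgLib.Geo.PrimeSD.cast_ne_zero p r hrp)⟩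
        have h1 : aeval (AdjoinRoot.root P) (cyclotomic r K) = 0 := by
          rw [AdjoinRoot.aeval_eq, AdjoinRoot.mk_eq_zero]; exact hPc
        rw [aeval_def, eval₂_eq_eval_map, map_cyclotomic] at h1
        have h2 := (isRoot_cyclotomic_iff.1 h1).dvd_of_pow_eq_one 2 (by
          rw [← AdjoinRoot.mk_eq_zero, map_sub, map_pow, AdjoinRoot.mk_X, map_one, sub_eq_zero] at h
          exact h)
        exact hr2 ((Nat.prime_dvd_prime_iff_eq Fact.out Nat.prime_two).1 h2)
      · have hQ0 : (dual (RingHom.id K) P).coeff 0 ≠ 0 := by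
          rw [coeff_zero_dual _ hPm]; exact inv_ne_zero hP0
        refine ⟨P * dual (RingHom.id K) P, hPm.mul (monic_dual _ hP0), by
          rw [mul_coeff_zero]; exact mul_ne_zero hP0 hQ0, by
          rw [dual_mul, dual_dual _ (fun a => rfl) hPm hP0, mul_comm], realised_pair p hPm hP0, ?_, ?_, ?_⟩
        · have hQf : dual (RingHom.id K) P ∣ f := by
            obtain ⟨R', hR'⟩ := hPf
            exact ⟨dual (RingHom.id K) R', by rw [← dual_mul, ← hR', hfdual]⟩
          refine IsCoprime.mul_dvd (hPi.coprime_iff_not_dvd.2 fun h => hPd ?_) hPf hQf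
          exact eq_of_monic_of_dvd_of_natDegree_le hPm (monic_dual _ hP0) h (natDegree_dual _ hP0).le
        · rw [hPm.natDegree_mul (monic_dual _ hP0), natDegree_dual _ hP0]; exact ⟨_, rfl⟩
        · rw [hPm.natDegree_mul (monic_dual _ hP0)]; have := hPi.natDegree_pos; omega
    obtain ⟨h, rfl⟩ := hBf
    have hhm : h.Monic := hBm.of_mul_monic_left hfm
    have hh0 : h.coeff 0 ≠ 0 := CfsgLib.GLClass.coeff_zero_ne_of_dvd (dvd_mul_left h B) hf0
    have hdd := hBm.natDegree_mul hhm
    refine hBr.mul p (ih h.natDegree (by rw [← hfd]; omega) h rfl hhm hh0 ?_ ?_ fun P h1 h2 h3 =>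
      hfac P h1 h2 (h3.trans (dvd_mul_left h B)))
    · rw [dual_mul, hBd] at hfdual
      exact mul_left_cancel₀ hBm.ne_zero hfdual
    · rw [← hfd, hdd] at hev'
      exact (Nat.even_add.1 hev').1 hBev.1
  · have hpow : f = (X - C 1) ^ d := by
      classical
      have h1 : UniqueFactorizationMonoid.normalizedFactors f =
          Multiset.replicate (Multiset.card (UniqueFactorizationMonoid.normalizedFactors f)) (X - C 1) :=
        Multiset.eq_replicate_card.2 fun P hP => (hfac P (CfsgLib.GLClass.monic_of_mem_nf hP)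
          (UniqueFactorizationMonoid.irreducible_of_normalized_factor P hP)
          (UniqueFactorizationMonoid.dvd_of_mem_normalizedFactors hP)).resolve_right fun h =>
            hR ⟨P, h, UniqueFactorizationMonoid.dvd_of_mem_normalizedFactors hP⟩
      have h2 : (UniqueFactorizationMonoid.normalizedFactors f).prod = f := by
        rw [UniqueFactorizationMonoid.prod_normalizedFactors_eq hfm.ne_zero, hfm.normalize_eq_self]
      rw [h1, Multiset.prod_replicate] at h2
      have h3 := congrArg natDegree h2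
      rw [(monic_X_sub_C (1 : K)).natDegree_pow, natDegree_X_sub_C, mul_one, hfd] at h3
      rw [← h3, h2]
    obtain ⟨e, he⟩ := hev'
    rw [hpow, he, ← two_mul, pow_mul, sq]
    clear he hpow
    induction e with
    | zero => simpa using realised_one p
    | succ e ihe => rw [pow_succ]; exact ihe.mul p hone

/-- Transfer to the standard symplectic group. -/
theorem exists_mem_symplectic {m : ℕ} {f : K[X]} (hd : f.natDegree = m + m) (hf : Realised p f) :
    ∃ M : Matrix.symplecticGroup (Fin m) K, (orderOf M).Coprime p ∧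
      (M : Matrix (Fin m ⊕ Fin m) (Fin m ⊕ Fin m) K).charpoly = f := by
  obtain ⟨n, g, hgo, hgc, S, hS1, hS2, hS3, hS4⟩ := hf
  obtain rfl : n = m + m := by
    rw [← hd, ← hgc, Matrix.charpoly_natDegree_eq_dim, Fintype.card_fin]
  let e := (finSumFinEquiv (m := m) (n := m)).symm
  let R := Matrix.reindexAlgEquiv K K e
  let g' : GL (Fin m ⊕ Fin m) K := Units.map R.toRingEquiv.toMonoidHom g
  set S' := R S
  have hg' : g'.valᵀ * S' * g'.val = S' := by
    show (R g.val)ᵀ * R S * R g.val = R S
    rw [show (R g.val)ᵀ = R g.valᵀ from Matrix.transpose_reindex e e g.val, ← map_mul, ← map_mul, hS4]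
  let B₀ := Matrix.toBilin' (Matrix.J (Fin m) K)
  let B₁ := Matrix.toBilin' S'
  have hJu : IsUnit (Matrix.J (Fin m) K) :=
    IsUnit.of_mul_eq_one (-Matrix.J (Fin m) K) (by rw [mul_neg, Matrix.J_squared, neg_neg])
  have hSu : IsUnit S' := hS3.map R
  have hnd : ∀ M : Matrix (Fin m ⊕ Fin m) (Fin m ⊕ Fin m) K, IsUnit M →
      ∀ x, (∀ y, Matrix.toBilin' M x y = 0) → x = 0 := fun M hM x hx =>
    Matrix.vecMul_injective_iff_isUnit.2 hM (funext fun j => by
      have := hx (Pi.single j 1)
      rw [Matrix.toBilin'_apply', Matrix.dotProduct_mulVec, dotProduct_single, mul_one] at this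
      show (x ᵥ* M) j = ((0 : Fin m ⊕ Fin m → K) ᵥ* M) j
      rw [this, Matrix.zero_vecMul]; rfl)
  have halt : ∀ M : Matrix (Fin m ⊕ Fin m) (Fin m ⊕ Fin m) K, Mᵀ = -M → (∀ i, M i i = 0) →
      (Matrix.toBilin' M).IsAlt := by
    intro M h1 h2 x
    rw [Matrix.toBilin'_apply]
    rw [← Fintype.sum_prod_type']
    refine Finset.sum_involution (fun ij _ => (ij.2, ij.1)) (fun ij _ => ?_) (fun ij _ hne he => hne ?_)
      (fun _ _ => Finset.mem_univ _) (fun _ _ => rfl)
    · have hT : M ij.2 ij.1 = - M ij.1 ij.2 := congrFun (congrFun h1 ij.1) ij.2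
      show x ij.1 * M ij.1 ij.2 * x ij.2 + x ij.2 * M ij.2 ij.1 * x ij.1 = 0
      rw [hT]; ring
    · rw [show ij.1 = ij.2 from (congrArg Prod.fst he).symm, h2, mul_zero, zero_mul]
  obtain ⟨φ, hφ⟩ := CfsgLib.SemiConj.exists_alt_equiv B₀ B₁
    (halt _ (by rw [Matrix.J_transpose]) fun i => by rcases i with i | i <;> rfl)
    (halt _ (by show (R S)ᵀ = -R S; rw [← map_neg, ← hS1]; exact Matrix.transpose_reindex e e S)
      fun i => hS2 _)
    (hnd _ hJu) (hnd _ hSu)
  let P := LinearMap.toMatrix' φ.toLinearMap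
  have hP : Pᵀ * Matrix.J (Fin m) K * P = S' := by
    apply Matrix.toBilin'.injective
    rw [← Matrix.toBilin'_comp]
    refine LinearMap.ext₂ fun x y => ?_
    show B₀ (Matrix.toLin' P x) (Matrix.toLin' P y) = B₁ x y
    rw [Matrix.toLin'_toMatrix']
    exact hφ x y
  have hPd : P.det ≠ 0 := by
    rw [LinearMap.det_toMatrix']; exact φ.isUnit_det'.ne_zero
  let Pu : GL (Fin m ⊕ Fin m) K := Matrix.GeneralLinearGroup.mkOfDetNeZero P hPd
  have hJ : ∀ Y : GL (Fin m ⊕ Fin m) K, Y.valᵀ * S' * Y.val = S' →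
      ((Pu * Y * Pu⁻¹).val)ᵀ * Matrix.J (Fin m) K * (Pu * Y * Pu⁻¹).val = Matrix.J (Fin m) K := by
    intro Y hY
    have hPu : Pu.val = P := rfl
    rw [← hP] at hY
    have h2 : (Pu⁻¹).valᵀ * P.transpose = 1 := by
      rw [← Matrix.transpose_mul, ← hPu, Units.mul_inv, Matrix.transpose_one]
    have h3 : P * (Pu⁻¹).val = 1 := Pu.mul_inv
    calc ((Pu * Y * Pu⁻¹).val)ᵀ * Matrix.J (Fin m) K * (Pu * Y * Pu⁻¹).val
        = (Pu⁻¹).valᵀ * (Y.valᵀ * (Pᵀ * Matrix.J (Fin m) K * P) * Y.val) * (Pu⁻¹).val := by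
          simp only [Units.val_mul, Matrix.transpose_mul, hPu, mul_assoc]
      _ = Matrix.J (Fin m) K := by
          rw [hY, ← mul_assoc, ← mul_assoc, h2, one_mul, mul_assoc, h3, mul_one]
  refine ⟨⟨(Pu * g' * Pu⁻¹).val, SymplecticGroup.mem_iff'.2 (hJ g' hg')⟩, ?_, ?_⟩
  · have h1 : orderOf (Pu * g' * Pu⁻¹) ∣ orderOf g := by
      rw [orderOf_isConj (isConj_iff.2 ⟨Pu, rfl⟩ : IsConj g' (Pu * g' * Pu⁻¹))]
      exact orderOf_map_dvd _ _
    rw [← orderOf_submonoid, orderOf_units]
    exact hgo.coprime_dvd_left h1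
  · show (Pu * g' * Pu⁻¹).val.charpoly = f
    rw [Units.val_mul, Units.val_mul, Matrix.coe_units_inv, Matrix.charpoly_units_conj, ← hgc]
    exact Matrix.charpoly_reindex e g.val

end CfsgLib.Geo.SpSemi
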