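import Cfsg.Agent.Geo.SpThreeConjBasic
import Mathlib.Algebra.CharP.Two
import Mathlib.Tactic.DeriveFintype

/-!
The four dimensional symplectic group over the field with four elements: two explicit words.
-/

set_option autoImplicit false
set_option linter.style.nativeDecide false

namespace CfsgLib.Geo.SpThree

open Matrix CfsgLib.Symp

/-- The field with four elements, as `a + b ω`. -/
structure Quad4 where
  /-- Constant part. -/
  a : Bool
  /-- Part at `ω`. -/
  b : Bool
deriving DecidableEq, Fintype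

namespace Quad4

instance : Zero Quad4 := ⟨⟨false, false⟩⟩
instance : One Quad4 := ⟨⟨true, false⟩⟩
instance : Add Quad4 := ⟨fun x y => ⟨xor x.a y.a, xor x.b y.b⟩⟩
instance : Neg Quad4 := ⟨fun x => x⟩
instance : Mul Quad4 := ⟨fun x y => ⟨xor (x.a && y.a) (x.b && y.b),
  xor (xor (x.a && y.b) (x.b && y.a)) (x.b && y.b)⟩⟩

instance : CommRing Quad4 where
  add_assoc := by decide
  zero_add := by decide
  add_zero := by decide
  add_comm := by decide
  left_distrib := by decide
  right_distrib := by decide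
  zero_mul := by decide
  mul_zero := by decide
  mul_assoc := by decide
  one_mul := by decide
  mul_one := by decide
  neg_add_cancel := by decide
  mul_comm := by decide
  nsmul := nsmulRec
  zsmul := zsmulRec

/-- The generator. -/
def om : Quad4 := ⟨false, true⟩

/-- The map into a field with a root of `X² + X + 1`. -/
def toField {F : Type*} [Field F] [CharP F 2] (w : F) (hw : w ^ 2 = w + 1) : Quad4 →+* F where
  toFun x := (if x.a then 1 else 0) + (if x.b then w else 0)
  map_one' := show (1 : F) + 0 = 1 from add_zero 1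
  map_zero' := show (0 : F) + 0 = 0 from add_zero 0
  map_add' := by
    have h2 : (2 : F) = 0 := CharTwo.two_eq_zero
    rintro ⟨_ | _, _ | _⟩ ⟨_ | _, _ | _⟩ <;> simp [show ∀ x y : Quad4, x + y = ⟨xor x.a y.a, xor x.b y.b⟩
      from fun _ _ => rfl] <;> grind
  map_mul' := by
    have h2 : (2 : F) = 0 := CharTwo.two_eq_zero
    rintro ⟨_ | _, _ | _⟩ ⟨_ | _, _ | _⟩ <;> simp [show ∀ x y : Quad4, x * y = ⟨xor (x.a && y.a) (x.b && y.b),
      xor (xor (x.a && y.b) (x.b && y.a)) (x.b && y.b)⟩ from fun _ _ => rfl] <;> grind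

end Quad4

variable {R : Type*} [CommRing R]

/-- The second commutator. -/
def xFour (w : R) : Matrix.symplecticGroup (Fin 2) R :=
  tv (E 1 + w • Fv 1) (w * w) * tv ((uSp : Matrix.symplecticGroup (Fin 2) R) • (E 1 + w • Fv 1 : Fin 2 ⊕ Fin 2 → R)) (w * w)

/-- The first commutator. -/
def yFour (w : R) : Matrix.symplecticGroup (Fin 2) R :=
  tv (Fv 0) w * tv ((uSp : Matrix.symplecticGroup (Fin 2) R) • (Fv 0 : Fin 2 ⊕ Fin 2 → R)) w

/-- The word giving a transvection. -/
def wordT (w : R) : Matrix.symplecticGroup (Fin 2) R :=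
  uSp * xFour w * yFour w * xFour w * uSp * xFour w * uSp * yFour w * xFour w * xFour w

/-- The word giving the rational commutator. -/
def wordY (w : R) : Matrix.symplecticGroup (Fin 2) R :=
  xFour w * uSp * yFour w * xFour w * xFour w * (uSp * uSp * uSp) * xFour w * yFour w * xFour w * uSp

theorem wordT_quad : ((wordT Quad4.om : Matrix.symplecticGroup (Fin 2) Quad4) :
    Matrix (Fin 2 ⊕ Fin 2) (Fin 2 ⊕ Fin 2) Quad4) = tvMat (E 0) (Quad4.om * Quad4.om) := by
  decide +kernel

theorem wordY_quad : ((wordY Quad4.om : Matrix.symplecticGroup (Fin 2) Quad4) :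
    Matrix (Fin 2 ⊕ Fin 2) (Fin 2 ⊕ Fin 2) Quad4) = tvMat (Fv 0) 1 * tvMat (Fv 0 + Fv 1) 1 := by
  decide +kernel

section map

variable {K : Type*} [CommRing K] (φ : R →+* K)

theorem map_E {n : ℕ} (j : ℕ) : φ ∘ (E j : Fin n ⊕ Fin n → R) = E j := by
  funext k
  rcases k with i | i <;> simp [E_inl, E_inr, apply_ite φ]

theorem map_Fv {n : ℕ} (j : ℕ) : φ ∘ (Fv j : Fin n ⊕ Fin n → R) = Fv j := by
  funext k
  rcases k with i | i <;> simp [Fv_inl, Fv_inr, apply_ite φ]

theorem map_J {l : Type*} [DecidableEq l] : (Matrix.J l R).map φ = Matrix.J l K := by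
  ext (i | i) (j | j) <;> simp [Matrix.J, Matrix.one_apply, apply_ite φ, apply_ite Neg.neg]

theorem map_tvMat {l : Type*} [Fintype l] [DecidableEq l] (v : l ⊕ l → R) (c : R) :
    φ.mapMatrix (tvMat v c) = tvMat (φ ∘ v) (φ c) := by
  ext i j
  simp only [RingHom.mapMatrix_apply, Matrix.map_apply, tvMat, Matrix.add_apply, Matrix.smul_apply,
    Matrix.vecMulVec_apply, map_add, map_mul, smul_eq_mul, Function.comp_apply]
  rw [RingHom.map_mulVec, map_J, Matrix.one_apply, Matrix.one_apply, apply_ite φ, map_one, map_zero]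

theorem map_uSp {n : ℕ} :
    φ.mapMatrix ((uSp : Matrix.symplecticGroup (Fin n) R) : Matrix (Fin n ⊕ Fin n) (Fin n ⊕ Fin n) R)
      = ((uSp : Matrix.symplecticGroup (Fin n) K) : Matrix (Fin n ⊕ Fin n) (Fin n ⊕ Fin n) K) := by
  show φ.mapMatrix (lMat * tvMat (E (n - 1)) 1) = lMat * tvMat (E (n - 1)) 1
  rw [map_mul, map_tvMat, map_E, map_one]
  congr 1
  ext (i | i) (j | j) <;> simp [lMat, eA, fB, apply_ite φ]

theorem map_smul_uSp {n : ℕ} (v : Fin n ⊕ Fin n → R) :
    φ ∘ ((uSp : Matrix.symplecticGroup (Fin n) R) • v) = (uSp : Matrix.symplecticGroup (Fin n) K) • (φ ∘ v) := by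
  funext i
  show φ ((((uSp : Matrix.symplecticGroup (Fin n) R) : Matrix _ _ R) *ᵥ v) i) =
    ((((uSp : Matrix.symplecticGroup (Fin n) K)) : Matrix _ _ K) *ᵥ (φ ∘ v)) i
  rw [← map_uSp φ, RingHom.map_mulVec]
  rfl

theorem map_xFour (w : R) :
    φ.mapMatrix (xFour w : Matrix (Fin 2 ⊕ Fin 2) (Fin 2 ⊕ Fin 2) R) = xFour (φ w) := by
  have hb : φ ∘ (E 1 + w • Fv 1 : Fin 2 ⊕ Fin 2 → R) = E 1 + φ w • Fv 1 := by
    funext k
    have h1 := congrFun (map_E φ (n := 2) 1) k
    have h2 := congrFun (map_Fv φ (n := 2) 1) k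
    simp only [Function.comp_apply] at h1 h2
    simp [h1, h2]
  show φ.mapMatrix (tvMat _ _ * tvMat _ _) = tvMat _ _ * tvMat _ _
  rw [map_mul, map_tvMat, map_tvMat, map_smul_uSp, hb, map_mul]

theorem map_yFour (w : R) :
    φ.mapMatrix (yFour w : Matrix (Fin 2 ⊕ Fin 2) (Fin 2 ⊕ Fin 2) R) = yFour (φ w) := by
  show φ.mapMatrix (tvMat _ _ * tvMat _ _) = tvMat _ _ * tvMat _ _
  rw [map_mul, map_tvMat, map_tvMat, map_smul_uSp, map_Fv]

end map

variable {F : Type*} [Field F] [CharP F 2] {w : F}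

theorem wordT_eq (hw : w ^ 2 = w + 1) : wordT w = tv (E 0) (w * w) := by
  refine Subtype.ext ?_
  have h := congrArg (Quad4.toField w hw).mapMatrix wordT_quad
  have e : Quad4.toField w hw Quad4.om = w := by
    show (0 : F) + w = w
    rw [zero_add]
  simp only [wordT, Submonoid.coe_mul, map_mul, map_uSp, map_xFour, map_yFour, map_tvMat, map_E, e] at h
  exact h

theorem wordY_eq (hw : w ^ 2 = w + 1) : wordY w = tv (Fv 0) 1 * tv (Fv 0 + Fv 1) 1 := by
  refine Subtype.ext ?_
  have h := congrArg (Quad4.toField w hw).mapMatrix wordY_quad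
  have e : Quad4.toField w hw Quad4.om = w := by
    show (0 : F) + w = w
    rw [zero_add]
  have ev : (Quad4.toField w hw) ∘ (Fv 0 + Fv 1 : Fin 2 ⊕ Fin 2 → Quad4) = Fv 0 + Fv 1 := by
    funext k
    have h1 := congrFun (map_Fv (Quad4.toField w hw) (n := 2) 0) k
    have h2 := congrFun (map_Fv (Quad4.toField w hw) (n := 2) 1) k
    simp only [Function.comp_apply] at h1 h2
    simp [h1, h2]
  simp only [wordY, Submonoid.coe_mul, map_mul, map_uSp, map_xFour, map_yFour, map_tvMat, map_Fv, ev, e,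
    map_one] at h
  exact h

end CfsgLib.Geo.SpThree
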