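import Cfsg.Agent.Geo.SpThreeConjGen
import Cfsg.Agent.Geo.SpThreeConjFour
import Cfsg.Agent.RegUnip.Gen

/-!
Three conjugate regular unipotent elements generate the symplectic group.
-/

set_option autoImplicit false
set_option linter.unusedSectionVars false

namespace CfsgLib.Geo.SpThree

open Matrix Cfsg Cfsg.Geo CfsgLib.Geo.SpTv

variable {n : ℕ} {F : Type*} [Field F] [Fintype F]

local notation "V" => Fin n ⊕ Fin n → F
local notation "Sp" => Matrix.symplecticGroup (Fin n) F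

/-- The short root element in the symplectic group. -/
noncomputable def tv2 (a b : V) : Sp :=
  CfsgLib.Symp.tv (a + b) 1 * CfsgLib.Symp.tv a (-1) * CfsgLib.Symp.tv b (-1)

theorem toGLHom_tv2 (a b : V) : toGLHom (tv2 a b) = stv2 a b := by
  rw [tv2, map_mul, map_mul]; rfl

theorem toGLHom_tv (v : V) (c : F) : toGLHom (CfsgLib.Symp.tv v c) = stv v c := rfl

theorem toGLHom_injective : Function.Injective (toGLHom : Sp →* GL (Fin n ⊕ Fin n) F) :=
  fun _ _ h => Subtype.ext (congrArg (Units.val) h)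

theorem form_neg_left (u v : V) : CfsgLib.Symp.form (-u) v = -CfsgLib.Symp.form u v := by
  rw [← neg_one_smul F u, CfsgLib.Symp.form_smul_left, neg_one_mul]

theorem form_neg_right (u v : V) : CfsgLib.Symp.form u (-v) = -CfsgLib.Symp.form u v := by
  rw [← neg_one_smul F v, CfsgLib.Symp.form_smul_right, neg_one_mul]

/-- The three conjugates. -/
def gens (g h : Sp) : Set Sp := {uSp, g * uSp * g⁻¹, h * uSp * h⁻¹}

theorem reduce (g h : Sp)
    (hM : ∀ M : Subgroup (GL (Fin n ⊕ Fin n) F), M ≤ spGL n F → uG ∈ M →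
      toGLHom g * uG * (toGLHom g)⁻¹ * uG⁻¹ ∈ M → toGLHom h * uG * (toGLHom h)⁻¹ * uG⁻¹ ∈ M →
      spGL n F ≤ M) : Subgroup.closure (gens g h) = ⊤ := by
  set S := Subgroup.closure (gens g h)
  set M := S.map toGLHom with hMdef
  have hmem : ∀ {x : Sp}, x ∈ gens g h → toGLHom x ∈ M := fun hx =>
    Subgroup.mem_map_of_mem _ (Subgroup.subset_closure hx)
  have hu : uG ∈ M := hmem (Or.inl rfl)
  have hle := hM M (by rintro _ ⟨x, -, rfl⟩; exact toGLHom_mem x) hu
    (by
      have := M.mul_mem (hmem (Or.inr (Or.inl rfl))) (M.inv_mem hu)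
      rwa [map_mul, map_mul, map_inv] at this)
    (by
      have := M.mul_mem (hmem (Or.inr (Or.inr rfl))) (M.inv_mem hu)
      rwa [map_mul, map_mul, map_inv] at this)
  refine eq_top_iff.2 fun x _ => ?_
  obtain ⟨z, hz, e⟩ := hle (toGLHom_mem x)
  exact toGLHom_injective e ▸ hz

theorem comm_stv (v : V) (c : F) :
    stv v c * uG * (stv v c)⁻¹ * uG⁻¹ = stv v c * stv ((uSp : Sp) • v) (-c) := by
  rw [stv_inv, show stv v c * uG * stv v (-c) * uG⁻¹ = stv v c * (uG * stv v (-c) * uG⁻¹) by group,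
    stv_conj uG_mem, uG_mulVec]

theorem uG_stv2 (X : V) : uG * stv2 (E 0) X * (uG : GL (Fin n ⊕ Fin n) F)⁻¹ = stv2 (E 0) ((uSp : Sp) • X) := by
  rw [stv2_conj uG_mem, uG_mulVec, uG_mulVec, uSp_E_zero]

theorem comm_shift {X : V} (hX : CfsgLib.Symp.form (E 0 : V) X = 0) (k : GL (Fin n ⊕ Fin n) F) :
    stv2 (E 0) X * k * uG * (stv2 (E 0) X * k)⁻¹ * uG⁻¹
      = stv2 (E 0) X * (k * uG * k⁻¹ * uG⁻¹) * stv2 (E 0) ((uSp : Sp) • (-X)) := by
  rw [← uG_stv2, ← stv2_inv hX]
  group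

/-- The first conjugating element gives the moving commutator. -/
theorem comm_first (hn : 2 ≤ n) :
    toGLHom (CfsgLib.Symp.tv (Fv 0 : V) 1) * uG * (toGLHom (CfsgLib.Symp.tv (Fv 0 : V) 1))⁻¹ * uG⁻¹ = yG := by
  rw [toGLHom_tv, comm_stv, uSp_Fv (by omega), yG]

theorem comm_large (hn : 3 ≤ n) (c : F) :
    toGLHom (tv2 (E 0 : V) (c • Fv 1) * (tv2 (E 0) (-E 2) * CfsgLib.Symp.tv (E 1) 1)) * uG *
      (toGLHom (tv2 (E 0 : V) (c • Fv 1) * (tv2 (E 0) (-E 2) * CfsgLib.Symp.tv (E 1) 1)))⁻¹ * uG⁻¹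
      = stv (E 0) 1 * stv2 (E 0) ((-c) • Fv 2) := by
  have h1 : CfsgLib.Symp.form (E 0 : V) (c • Fv 1) = 0 := by
    rw [CfsgLib.Symp.form_smul_right, form_e_Fv one_ne_zero, mul_zero]
  have h2 : CfsgLib.Symp.form (E 0 : V) (-E 2) = 0 := by
    rw [← neg_one_smul F (E 2 : V), CfsgLib.Symp.form_smul_right, form_EE, mul_zero]
  have hu1 : (uSp : Sp) • (E 1 : V) = E 1 - E 0 := by
    rw [show (1 : ℕ) = 0 + 1 from rfl, uSp_E_succ (by omega), uSp_E_zero]
  have hu2 : (uSp : Sp) • (E 2 : V) = E 2 - (E 1 - E 0) := by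
    rw [show (2 : ℕ) = 1 + 1 from rfl, uSp_E_succ (by omega), hu1]
  have hu3 : (uSp : Sp) • (-(c • Fv 1) : V) = -(c • (Fv 1 + Fv 2)) := by
    rw [smul_neg, smul_comm, uSp_Fv (by omega)]
  have hin : stv2 (E 0 : V) (-E 2) * stv (E 1) 1 * uG * (stv2 (E 0 : V) (-E 2) * stv (E 1) 1)⁻¹ * uG⁻¹
      = stv (E 0) 1 := by
    rw [comm_shift h2, comm_stv, neg_neg, hu1, hu2]
    have h3 : CfsgLib.Symp.form (E 0 : V) (E 2 - (E 1 - E 0)) = 0 := by
      simp [CfsgLib.Symp.form_sub_right, form_EE]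
    refine gl_ext_mulVec fun w => ?_
    simp only [mul_mulVec, stv_mulVec, stv2_mulVec h2, stv2_mulVec h3, form_neg_left, form_neg_right,
      CfsgLib.Symp.form_add_left, CfsgLib.Symp.form_sub_left, CfsgLib.Symp.form_sub_right,
      CfsgLib.Symp.form_smul_left, CfsgLib.Symp.form_smul_right, form_EE]
    module
  simp only [map_mul, toGLHom_tv2, toGLHom_tv]
  rw [comm_shift h1, hin, hu3]
  have h4 : CfsgLib.Symp.form (E 0 : V) (-(c • (Fv 1 + Fv 2))) = 0 := by
    rw [← neg_smul, CfsgLib.Symp.form_smul_right, CfsgLib.Symp.form_add_right, form_e_Fv one_ne_zero,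
      form_e_Fv (by omega), add_zero, mul_zero]
  have h5 : CfsgLib.Symp.form (E 0 : V) ((-c) • Fv 2) = 0 := by
    rw [CfsgLib.Symp.form_smul_right, form_e_Fv (by omega), mul_zero]
  refine gl_ext_mulVec fun w => ?_
  simp only [mul_mulVec, stv_mulVec, stv2_mulVec h1, stv2_mulVec h4, stv2_mulVec h5, form_neg_left, form_neg_right,
    CfsgLib.Symp.form_add_left, CfsgLib.Symp.form_add_right,
    CfsgLib.Symp.form_smul_left, CfsgLib.Symp.form_smul_right, form_EE, form_FF,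
    CfsgLib.Symp.form_swap (Fv 1 : V) (E 0), CfsgLib.Symp.form_swap (Fv 2 : V) (E 0),
    form_e_Fv (show (1 : ℕ) ≠ 0 by omega), form_e_Fv (show (2 : ℕ) ≠ 0 by omega)]
  module

theorem comm_two (hn : n = 2) (t : F) :
    toGLHom (tv2 (E 0 : V) (t • Fv 1) * CfsgLib.Symp.tv (E 1) t) * uG *
      (toGLHom (tv2 (E 0 : V) (t • Fv 1) * CfsgLib.Symp.tv (E 1) t))⁻¹ * uG⁻¹
      = stv (E 0) (t - t ^ 2) := by
  have h1 : CfsgLib.Symp.form (E 0 : V) (t • Fv 1) = 0 := by
    rw [CfsgLib.Symp.form_smul_right, form_e_Fv one_ne_zero, mul_zero]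
  have hu1 : (uSp : Sp) • (E 1 : V) = E 1 - E 0 := by
    rw [show (1 : ℕ) = 0 + 1 from rfl, uSp_E_succ (by omega), uSp_E_zero]
  have hu3 : (uSp : Sp) • (-(t • Fv 1) : V) = (-t) • (Fv 1 + (E 1 - E 0)) := by
    have h := uSp_Fv_last (R := F) (n := n) (by omega)
    rw [show n - 1 = 1 by omega, hu1] at h
    rw [smul_neg, smul_comm, h, neg_smul]
  simp only [map_mul, toGLHom_tv2, toGLHom_tv]
  rw [comm_shift h1, comm_stv, hu1, hu3]
  have h4 : CfsgLib.Symp.form (E 0 : V) ((-t) • (Fv 1 + (E 1 - E 0))) = 0 := by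
    simp [form_neg_right, CfsgLib.Symp.form_smul_right, CfsgLib.Symp.form_add_right, CfsgLib.Symp.form_sub_right, form_EE,
      form_e_Fv (show (1 : ℕ) ≠ 0 by omega)]
  refine gl_ext_mulVec fun w => ?_
  simp only [mul_mulVec, stv_mulVec, stv2_mulVec h1, stv2_mulVec h4,
    CfsgLib.Symp.form_add_left, CfsgLib.Symp.form_add_right, CfsgLib.Symp.form_sub_left,
    CfsgLib.Symp.form_sub_right, CfsgLib.Symp.form_smul_left, CfsgLib.Symp.form_smul_right, form_EE, form_FF,
    form_FE, form_EF, true_and, if_pos (show 1 < n by omega), if_neg (show ¬ ((1 : ℕ) = 0 ∧ 0 < n) by omega)]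
  module

/-- A generator of the shape `t - t²`. -/
theorem exists_param (h2 : Fintype.card F ≠ 2) (h4 : Fintype.card F ≠ 4) :
    ∃ t : F, t - t ^ 2 ≠ 0 ∧ Subring.closure ({t - t ^ 2} : Set F) = ⊤ := by
  obtain ⟨g, hg0, hg, -⟩ := CfsgLib.RegUnip.exists_primitive (F := F)
  have hcard := Fintype.one_lt_card (α := F)
  by_contra hcon
  push Not at hcon
  obtain ⟨p, hp⟩ := CharP.exists F
  haveI := hp
  haveI : Fact p.Prime := ⟨CharP.char_is_prime F p⟩
  obtain ⟨N, hpp, hN⟩ := FiniteField.card F p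
  have key : ∀ x : F, orderOf x = Fintype.card F - 1 → ∃ k : ℕ, 1 ≤ k ∧ 2 * k = (N : ℕ) ∧ x ^ p ^ k = 1 - x := by
    intro x hx
    have hx0 : x - x ^ 2 ≠ 0 := fun e => by
      rcases mul_eq_zero.1 (show x * (1 - x) = 0 by linear_combination e) with h | h
      · rw [h, orderOf_zero] at hx; omega
      · rw [show x = 1 by linear_combination -h, orderOf_one] at hx; omega
    obtain ⟨k, hk1, hk, hfix⟩ := CfsgLib.RegUnip.exists_pow_eq_of_not_generator hpp hN (hcon x hx0)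
    have hz : (x ^ p ^ k - x) * (x ^ p ^ k - (1 - x)) = 0 := by
      rw [sub_pow_char_pow, ← pow_mul, mul_comm 2, pow_mul] at hfix
      linear_combination -hfix
    have hpk : 2 ≤ p ^ k := le_trans hpp.two_le (Nat.le_self_pow (by omega) p)
    have hlt : p ^ k < p ^ (N : ℕ) := Nat.pow_lt_pow_right hpp.one_lt (by omega)
    have hxne : x ≠ 0 := fun e => by rw [e, orderOf_zero] at hx; omega
    have hne : x ^ p ^ k ≠ x := fun e => by
      have h1 : x ^ (p ^ k - 1) = 1 := mul_left_cancel₀ hxne (by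
        rw [← pow_succ', mul_one, show p ^ k - 1 + 1 = p ^ k by omega, e])
      have := orderOf_le_of_pow_eq_one (by omega) h1
      omega
    have hs : x ^ p ^ k = 1 - x :=
      sub_eq_zero.1 ((mul_eq_zero.1 hz).resolve_left (sub_ne_zero.2 hne))
    refine ⟨k, hk1, le_antisymm hk ?_, hs⟩
    by_contra hlt2
    have hpk2 : 4 ≤ p ^ (k + k) := by
      rw [pow_add]; exact Nat.mul_le_mul hpk hpk
    have hlt3 : p ^ (k + k) < p ^ (N : ℕ) := Nat.pow_lt_pow_right hpp.one_lt (by omega)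
    have h1 : x ^ (p ^ (k + k) - 1) = 1 := mul_left_cancel₀ hxne (by
      rw [← pow_succ', mul_one, show p ^ (k + k) - 1 + 1 = p ^ (k + k) by omega, pow_add, pow_mul, hs,
        sub_pow_char_pow, one_pow, hs]
      ring)
    have := orderOf_le_of_pow_eq_one (by omega) h1
    omega
  obtain ⟨k, hk1, hk, hs⟩ := key g hg
  obtain ⟨k', -, hk', hs'⟩ := key g⁻¹ (by
    rw [show g⁻¹ = ((Units.mk0 g hg0)⁻¹ : Fˣ) by simp, orderOf_units, orderOf_inv, ← orderOf_units,
      Units.val_mk0, hg])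
  obtain hkk : k' = k := by omega
  rw [hkk] at hs'
  rw [inv_pow, hs] at hs'
  have hg1 : (1 : F) - g ≠ 0 := by rw [← hs]; exact pow_ne_zero _ hg0
  have h6 : g ^ 6 = 1 := by
    have e : g ^ 2 - g + 1 = 0 := by
      field_simp at hs'
      linear_combination hs'
    linear_combination (g ^ 4 + g ^ 3 - g - 1) * e
  have := orderOf_le_of_pow_eq_one (by omega) h6
  have hsq : Fintype.card F = p ^ k * p ^ k := by rw [hN, ← hk, two_mul, pow_add]
  rw [hg] at this
  have hpk : p ^ k < 3 := by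
    by_contra hge
    have h9 : 3 * 3 ≤ p ^ k * p ^ k := Nat.mul_le_mul (by omega) (by omega)
    omega
  have : 2 ≤ p ^ k := le_trans hpp.two_le (Nat.le_self_pow (by omega) p)
  apply h4
  rw [hsq, show p ^ k = 2 by omega]

/-- The generator of the field with four elements. -/
theorem exists_omega (h4 : Fintype.card F = 4) :
    CharP F 2 ∧ ∃ w : F, w ^ 2 = w + 1 ∧ w ≠ 0 ∧ Subring.closure ({w * w} : Set F) = ⊤ := by
  obtain ⟨g, hg0, hg, -⟩ := CfsgLib.RegUnip.exists_primitive (F := F)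
  rw [h4] at hg
  have h3 : g ^ 3 = 1 := by
    have := pow_orderOf_eq_one g
    rwa [hg] at this
  have hg1 : g ≠ 1 := fun e => by rw [e, orderOf_one] at hg; omega
  have he : g ^ 2 + g + 1 = 0 := by
    rcases mul_eq_zero.1 (show (g - 1) * (g ^ 2 + g + 1) = 0 by linear_combination h3) with h | h
    · exact absurd (sub_eq_zero.1 h) hg1
    · exact h
  obtain ⟨p, hp⟩ := CharP.exists F
  haveI := hp
  obtain ⟨N, hpp, hN⟩ := FiniteField.card F p
  have hp2 : p = 2 := by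
    have h : p ∣ 2 ^ 2 := by rw [show (2 : ℕ) ^ 2 = 4 from rfl, ← h4, hN]; exact dvd_pow_self p N.2.ne'
    exact (Nat.prime_dvd_prime_iff_eq hpp Nat.prime_two).1 (hpp.dvd_of_dvd_pow h)
  subst hp2
  refine ⟨hp, g, ?_, hg0, ?_⟩
  · linear_combination he - (g + 1) * CharTwo.two_eq_zero (R := F)
  · refine eq_top_iff.2 fun y _ => ?_
    have hz : Subring.closure ({g} : Set F) ≤ Subring.closure ({g * g} : Set F) :=
      Subring.closure_le.2 (Set.singleton_subset_iff.2 (by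
        have h := mul_mem (Subring.subset_closure (R := F) (Set.mem_singleton (g * g)))
          (Subring.subset_closure (R := F) (Set.mem_singleton (g * g)))
        rwa [show g * g * (g * g) = g by linear_combination g * h3] at h))
    obtain ⟨g', -, -, hg'⟩ := CfsgLib.RegUnip.exists_primitive (F := F)
    refine hz ?_
    have hall : Subring.closure ({g} : Set F) = ⊤ := by
      by_contra hc
      obtain ⟨j, hj1, hj2, hj3⟩ := CfsgLib.RegUnip.exists_pow_eq_of_not_generator Nat.prime_two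
        (m := 2) (by rw [h4]; rfl) hc
      rw [show j = 1 by omega, pow_one] at hj3
      exact hg1 (mul_left_cancel₀ hg0 (by rw [← sq, hj3, mul_one]))
    rw [hall]; trivial

/-- Three conjugates of a regular unipotent element generate. -/
theorem three_conjugates (hn : 2 ≤ n) (h22 : ¬ (n = 2 ∧ Fintype.card F = 2)) :
    ∃ g h : Sp, Subgroup.closure (gens g h) = ⊤ := by
  rcases Nat.lt_or_ge n 3 with hlt | hge
  swap
  · obtain ⟨c, hc0, -, hgen⟩ := CfsgLib.RegUnip.exists_primitive (F := F)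
    refine ⟨CfsgLib.Symp.tv (Fv 0) 1, tv2 (E 0) (c • Fv 1) * (tv2 (E 0) (-E 2) * CfsgLib.Symp.tv (E 1) 1),
      reduce _ _ fun M hMI hu hy hx => ?_⟩
    rw [comm_first hn] at hy
    rw [comm_large hge] at hx
    exact sp_le_large hge hu hy hMI hc0 hgen hx
  have hn2 : n = 2 := by omega
  have hcard2 : Fintype.card F ≠ 2 := fun e => h22 ⟨hn2, e⟩
  obtain ⟨a, ha0, ha1⟩ : ∃ a : F, a ≠ 0 ∧ a ≠ 1 := by
    obtain ⟨g, hg0, hg, -⟩ := CfsgLib.RegUnip.exists_primitive (F := F)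
    refine ⟨g, hg0, fun e => ?_⟩
    rw [e, orderOf_one] at hg
    have := Fintype.one_lt_card (α := F)
    omega
  by_cases h4 : Fintype.card F = 4
  · obtain ⟨hchar, w, hw, hw0, hgen⟩ := exists_omega h4
    subst hn2
    refine ⟨CfsgLib.Symp.tv (Fv 0) w, CfsgLib.Symp.tv (E 1 + w • Fv 1) (w * w),
      reduce _ _ fun M hMI hu hy hx => ?_⟩
    rw [toGLHom_tv, comm_stv, CharTwo.neg_eq] at hy hx
    have hy' : toGLHom (yFour w) ∈ M := by
      rw [yFour, map_mul]; exact hy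
    have hx' : toGLHom (xFour w) ∈ M := by
      rw [xFour, map_mul]; exact hx
    have huu : toGLHom uSp ∈ M := hu
    have hT : toGLHom (wordT w) ∈ M := by
      simp only [wordT, map_mul]
      exact M.mul_mem (M.mul_mem (M.mul_mem (M.mul_mem (M.mul_mem (M.mul_mem (M.mul_mem (M.mul_mem (M.mul_mem huu hx') hy') hx') huu) hx') huu) hy') hx') hx'
    have hY : toGLHom (wordY w) ∈ M := by
      simp only [wordY, map_mul]
      exact M.mul_mem (M.mul_mem (M.mul_mem (M.mul_mem (M.mul_mem (M.mul_mem (M.mul_mem (M.mul_mem (M.mul_mem hx' huu) hy') hx') hx') (M.mul_mem (M.mul_mem huu huu) huu)) hx') hy') hx') huu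
    rw [wordT_eq hw] at hT
    rw [wordY_eq hw, map_mul] at hY
    refine sp_le_two rfl hu ?_ hMI (mul_ne_zero hw0 hw0) hgen hT ⟨a, ha0, ha1⟩
    rw [yG, CharTwo.neg_eq]
    exact hY
  · obtain ⟨t, ht0, htgen⟩ := exists_param hcard2 h4
    refine ⟨CfsgLib.Symp.tv (Fv 0) 1, tv2 (E 0) (t • Fv 1) * CfsgLib.Symp.tv (E 1) t,
      reduce _ _ fun M hMI hu hy hx => ?_⟩
    rw [comm_first hn] at hy
    rw [comm_two hn2] at hx
    exact sp_le_two hn2 hu hy hMI ht0 htgen hx ⟨a, ha0, ha1⟩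

end CfsgLib.Geo.SpThree
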