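import Cfsg.Agent.Classical.SymplecticBasic

/-!
An explicit regular unipotent element of the symplectic group.
-/

set_option autoImplicit false
set_option linter.unusedSectionVars false
set_option linter.style.haveILetI false

namespace CfsgLib.Geo.SpThree

open Matrix CfsgLib.Symp

variable {n : ℕ} {R : Type*} [CommRing R]

/-- The standard vectors of the first half, zero outside the range. -/
def E (j : ℕ) : Fin n ⊕ Fin n → R := if h : j < n then Pi.single (Sum.inl ⟨j, h⟩) 1 else 0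

/-- The standard vectors of the second half, zero outside the range. -/
def Fv (j : ℕ) : Fin n ⊕ Fin n → R := if h : j < n then Pi.single (Sum.inr ⟨j, h⟩) 1 else 0

theorem E_inl (j : ℕ) (i : Fin n) : (E j : Fin n ⊕ Fin n → R) (Sum.inl i) = if i.val = j then 1 else 0 := by
  unfold E
  split
  · simp [Pi.single_apply, Fin.ext_iff]
  · rename_i h
    rw [if_neg (by omega)]; rfl

theorem E_inr (j : ℕ) (i : Fin n) : (E j : Fin n ⊕ Fin n → R) (Sum.inr i) = 0 := by
  unfold E
  split <;> simp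

theorem Fv_inr (j : ℕ) (i : Fin n) : (Fv j : Fin n ⊕ Fin n → R) (Sum.inr i) = if i.val = j then 1 else 0 := by
  unfold Fv
  split
  · simp [Pi.single_apply, Fin.ext_iff]
  · rename_i h
    rw [if_neg (by omega)]; rfl

theorem Fv_inl (j : ℕ) (i : Fin n) : (Fv j : Fin n ⊕ Fin n → R) (Sum.inl i) = 0 := by
  unfold Fv
  split <;> simp

theorem Fv_of_le {j : ℕ} (h : n ≤ j) : (Fv j : Fin n ⊕ Fin n → R) = 0 := dif_neg (by omega)

theorem E_ne_zero [Nontrivial R] {j : ℕ} (h : j < n) : (E j : Fin n ⊕ Fin n → R) ≠ 0 := fun e => by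
  have := congrFun e (Sum.inl ⟨j, h⟩)
  simp [E_inl] at this

theorem form_EE (i j : ℕ) : form (E i : Fin n ⊕ Fin n → R) (E j) = 0 := by
  rw [form_apply]
  simp [E_inr]

theorem form_FF (i j : ℕ) : form (Fv i : Fin n ⊕ Fin n → R) (Fv j) = 0 := by
  rw [form_apply]
  simp [Fv_inl]

theorem form_FE (i j : ℕ) :
    form (Fv i : Fin n ⊕ Fin n → R) (E j) = if i = j ∧ j < n then 1 else 0 := by
  rw [form_apply]
  simp only [E_inr, Fv_inl, E_inl, Fv_inr, mul_zero, sub_zero]
  by_cases h : i = j ∧ j < n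
  · obtain ⟨rfl, hj⟩ := h
    rw [if_pos ⟨rfl, hj⟩, Finset.sum_eq_single (⟨i, hj⟩ : Fin n)]
    · simp
    · intro b _ hb
      rw [if_neg fun e => hb (Fin.ext e), zero_mul]
    · exact fun hm => absurd (Finset.mem_univ _) hm
  · rw [if_neg h]
    refine Finset.sum_eq_zero fun b _ => ?_
    by_cases h1 : b.val = i
    · by_cases h2 : b.val = j
      · exact absurd ⟨h1.symm.trans h2, h2 ▸ b.isLt⟩ h
      · simp [h2]
    · simp [h1]

theorem form_EF (i j : ℕ) :
    form (E i : Fin n ⊕ Fin n → R) (Fv j) = -(if j = i ∧ i < n then 1 else 0) := by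
  rw [form_swap, form_FE]

theorem ext_coords {x y : Fin n ⊕ Fin n → R} (h₁ : ∀ i, x (Sum.inl i) = y (Sum.inl i))
    (h₂ : ∀ i, x (Sum.inr i) = y (Sum.inr i)) : x = y := by
  funext k
  rcases k with i | i
  · exact h₁ i
  · exact h₂ i

/-! ### The regular unipotent element -/

/-- Its action on the first half. -/
def eA : Matrix (Fin n) (Fin n) R :=
  Matrix.of fun i j => if i ≤ j then (-1) ^ (j.val - i.val) else 0

/-- Its action on the second half. -/
def fB : Matrix (Fin n) (Fin n) R :=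
  Matrix.of fun i j => (if i = j then 1 else 0) + (if i.val = j.val + 1 then 1 else 0)

theorem eA_transpose_fB : (eA : Matrix (Fin n) (Fin n) R)ᵀ * fB = 1 := by
  ext i k
  simp only [Matrix.mul_apply, Matrix.transpose_apply, eA, fB, Matrix.of_apply, mul_add,
    Finset.sum_add_distrib, mul_ite, mul_one, mul_zero, Finset.sum_ite_eq', Finset.mem_univ, if_true]
  by_cases hk : k.val + 1 < n
  · rw [Finset.sum_eq_single (⟨k.val + 1, hk⟩ : Fin n) (fun b _ hb => if_neg fun e => hb (Fin.ext e))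
      (fun hm => absurd (Finset.mem_univ _) hm), if_pos rfl]
    rcases lt_trichotomy k.val i.val with h | h | h
    · rw [if_pos (show k ≤ i from h.le), if_pos (show (⟨k.val + 1, hk⟩ : Fin n) ≤ i from h),
        Matrix.one_apply_ne (fun e => by rw [e] at h; omega),
        show i.val - k.val = (i.val - (k.val + 1)) + 1 by omega, pow_succ]
      ring
    · obtain rfl : k = i := Fin.ext h
      rw [if_pos le_rfl, if_neg (fun hle => by have : k.val + 1 ≤ k.val := hle; omega),
        Matrix.one_apply_eq]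
      simp
    · rw [if_neg (fun hle => by have : k.val ≤ i.val := hle; omega),
        if_neg (fun hle => by have : k.val + 1 ≤ i.val := hle; omega),
        Matrix.one_apply_ne (fun e => by rw [e] at h; omega), add_zero]
  · rw [Finset.sum_eq_zero fun b _ => if_neg (by have := b.isLt; omega), add_zero]
    rcases eq_or_ne i k with rfl | hne
    · simp
    · rw [Matrix.one_apply_ne hne, if_neg]
      intro hle
      have h1 : k.val ≤ i.val := hle
      have := i.isLt
      exact hne (Fin.ext (by omega))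

/-- The Levi part. -/
def lMat : Matrix (Fin n ⊕ Fin n) (Fin n ⊕ Fin n) R := Matrix.fromBlocks eA 0 0 fB

theorem lMat_mem : (lMat : Matrix (Fin n ⊕ Fin n) (Fin n ⊕ Fin n) R) ∈ Matrix.symplecticGroup (Fin n) R := by
  rw [SymplecticGroup.mem_iff']
  have h2 : (fB : Matrix (Fin n) (Fin n) R)ᵀ * eA = 1 := by
    rw [← Matrix.transpose_transpose ((fB : Matrix (Fin n) (Fin n) R)ᵀ * eA), Matrix.transpose_mul,
      Matrix.transpose_transpose, eA_transpose_fB, Matrix.transpose_one]
  simp [lMat, Matrix.J, Matrix.fromBlocks_transpose, Matrix.fromBlocks_multiply, eA_transpose_fB, h2]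

/-- The Levi part in the group. -/
def lSp : Matrix.symplecticGroup (Fin n) R := ⟨lMat, lMat_mem⟩

/-- The regular unipotent element. -/
def uSp : Matrix.symplecticGroup (Fin n) R := lSp * tv (E (n - 1)) 1

theorem lSp_E_zero : (lSp : Matrix.symplecticGroup (Fin n) R) • (E 0 : Fin n ⊕ Fin n → R) = E 0 := by
  change lMat *ᵥ E 0 = E 0
  refine ext_coords (fun i => ?_) (fun i => ?_)
  · rw [E_inl]
    simp only [lMat, Matrix.mulVec, dotProduct, Fintype.sum_sum_type, E_inl, E_inr, mul_zero,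
      Finset.sum_const_zero, add_zero, Matrix.fromBlocks_apply₁₁, eA, Matrix.of_apply]
    by_cases h0 : i.val = 0
    · rw [if_pos h0, Finset.sum_eq_single i (fun b _ hb => by
        rw [if_neg (c := b.val = 0) (fun e => hb (Fin.ext (e.trans h0.symm))), mul_zero])
        (fun hm => absurd (Finset.mem_univ _) hm)]
      simp [h0]
    · rw [if_neg h0]
      refine Finset.sum_eq_zero fun b _ => ?_
      by_cases hb : b.val = 0
      · rw [if_neg (c := i ≤ b) (fun hle => by have : i.val ≤ b.val := hle; omega), zero_mul]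
      · rw [if_neg hb, mul_zero]
  · rw [E_inr]
    simp only [lMat, Matrix.mulVec, dotProduct, Fintype.sum_sum_type, E_inr, mul_zero,
      Finset.sum_const_zero, add_zero, Matrix.fromBlocks_apply₂₁, Matrix.zero_apply, zero_mul]

theorem lSp_E_succ {j : ℕ} (hj : j + 1 < n) :
    (lSp : Matrix.symplecticGroup (Fin n) R) • (E (j + 1) : Fin n ⊕ Fin n → R)
      + (lSp : Matrix.symplecticGroup (Fin n) R) • E j = E (j + 1) := by
  change lMat *ᵥ E (j + 1) + lMat *ᵥ E j = E (j + 1)
  rw [← Matrix.mulVec_add]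
  refine ext_coords (fun i => ?_) (fun i => ?_)
  · rw [E_inl]
    simp only [lMat, Matrix.mulVec, dotProduct, Fintype.sum_sum_type, Pi.add_apply, E_inl, E_inr, add_zero,
      mul_zero, Finset.sum_const_zero, Matrix.fromBlocks_apply₁₁, eA, Matrix.of_apply, mul_add,
      Finset.sum_add_distrib]
    rw [Finset.sum_eq_single (⟨j + 1, hj⟩ : Fin n) (fun b _ hb => by
        rw [if_neg (c := b.val = j + 1) (fun e => hb (Fin.ext e)), mul_zero])
        (fun hm => absurd (Finset.mem_univ _) hm),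
      Finset.sum_eq_single (⟨j, by omega⟩ : Fin n) (fun b _ hb => by
        rw [if_neg (c := b.val = j) (fun e => hb (Fin.ext e)), mul_zero])
        (fun hm => absurd (Finset.mem_univ _) hm)]
    simp only [if_true, mul_one, Fin.le_def]
    rcases lt_trichotomy i.val (j + 1) with h | h | h
    · rw [if_pos h.le, if_pos (by omega), if_neg (by omega),
        show j + 1 - i.val = (j - i.val) + 1 by omega, pow_succ]
      ring
    · rw [if_pos h.le, if_neg (by omega), if_pos h, h]
      simp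
    · rw [if_neg (by omega), if_neg (by omega), if_neg (by omega), add_zero]
  · rw [E_inr]
    simp only [lMat, Matrix.mulVec, dotProduct, Fintype.sum_sum_type, Pi.add_apply, E_inr, mul_zero,
      add_zero, Finset.sum_const_zero, Matrix.fromBlocks_apply₂₁, Matrix.zero_apply, zero_mul]

theorem lSp_Fv {j : ℕ} (hj : j < n) :
    (lSp : Matrix.symplecticGroup (Fin n) R) • (Fv j : Fin n ⊕ Fin n → R) = Fv j + Fv (j + 1) := by
  change lMat *ᵥ Fv j = _
  refine ext_coords (fun i => ?_) (fun i => ?_)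
  · simp [lMat, Matrix.mulVec, dotProduct, Fintype.sum_sum_type, Fv_inl]
  · rw [Pi.add_apply, Fv_inr, Fv_inr]
    simp only [lMat, Matrix.mulVec, dotProduct, Fintype.sum_sum_type, Fv_inr, Fv_inl, mul_zero,
      Finset.sum_const_zero, zero_add, Matrix.fromBlocks_apply₂₂, fB, Matrix.of_apply]
    rw [Finset.sum_eq_single (⟨j, hj⟩ : Fin n) (fun b _ hb => by
        rw [if_neg (c := b.val = j) (fun e => hb (Fin.ext e)), mul_zero])
        (fun hm => absurd (Finset.mem_univ _) hm)]
    simp [Fin.ext_iff]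

theorem uSp_E (j : ℕ) :
    (uSp : Matrix.symplecticGroup (Fin n) R) • (E j : Fin n ⊕ Fin n → R) = (lSp : Matrix.symplecticGroup (Fin n) R) • E j := by
  rw [uSp, mul_smul, tv_smul, form_EE, mul_zero, zero_smul, add_zero]

theorem uSp_E_zero : (uSp : Matrix.symplecticGroup (Fin n) R) • (E 0 : Fin n ⊕ Fin n → R) = E 0 := by
  rw [uSp_E, lSp_E_zero]

theorem uSp_E_succ {j : ℕ} (hj : j + 1 < n) :
    (uSp : Matrix.symplecticGroup (Fin n) R) • (E (j + 1) : Fin n ⊕ Fin n → R)
      = E (j + 1) - (uSp : Matrix.symplecticGroup (Fin n) R) • E j := by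
  rw [uSp_E, uSp_E, eq_sub_iff_add_eq, lSp_E_succ hj]

theorem uSp_Fv {j : ℕ} (hj : j + 1 < n) :
    (uSp : Matrix.symplecticGroup (Fin n) R) • (Fv j : Fin n ⊕ Fin n → R) = Fv j + Fv (j + 1) := by
  rw [uSp, mul_smul, tv_smul, form_FE, if_neg (by omega), mul_zero, zero_smul, add_zero,
    lSp_Fv (by omega)]

theorem uSp_Fv_last (hn : 0 < n) :
    (uSp : Matrix.symplecticGroup (Fin n) R) • (Fv (n - 1) : Fin n ⊕ Fin n → R)
      = Fv (n - 1) + (uSp : Matrix.symplecticGroup (Fin n) R) • E (n - 1) := by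
  rw [uSp_E, uSp, mul_smul, tv_smul, form_FE, if_pos ⟨rfl, by omega⟩, mul_one, one_smul, smul_add,
    lSp_Fv (by omega), Fv_of_le (j := n - 1 + 1) (by omega), add_zero]

/-! ### Regularity -/

/-- The nilpotent part. -/
def nMat : Matrix (Fin n ⊕ Fin n) (Fin n ⊕ Fin n) R :=
  ((uSp : Matrix.symplecticGroup (Fin n) R) : Matrix (Fin n ⊕ Fin n) (Fin n ⊕ Fin n) R) - 1

theorem nMat_mulVec (x : Fin n ⊕ Fin n → R) :
    nMat *ᵥ x = (uSp : Matrix.symplecticGroup (Fin n) R) • x - x := by
  rw [nMat, Matrix.sub_mulVec, Matrix.one_mulVec]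
  rfl

theorem nMat_pow_succ (k : ℕ) (x : Fin n ⊕ Fin n → R) :
    nMat ^ (k + 1) *ᵥ x = nMat ^ k *ᵥ (nMat *ᵥ x) := by
  rw [pow_succ, Matrix.mulVec_mulVec]

theorem nMat_pow_u (k : ℕ) (x : Fin n ⊕ Fin n → R) :
    nMat ^ k *ᵥ ((uSp : Matrix.symplecticGroup (Fin n) R) • x)
      = (uSp : Matrix.symplecticGroup (Fin n) R) • (nMat ^ k *ᵥ x) := by
  induction k generalizing x with
  | zero => simp
  | succ k ih =>
    rw [nMat_pow_succ, nMat_pow_succ, ← ih, nMat_mulVec, nMat_mulVec, smul_sub]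

theorem nMat_pow_E : ∀ {j : ℕ}, j < n →
    nMat ^ j *ᵥ (E j : Fin n ⊕ Fin n → R) = (-1 : R) ^ j • E 0
  | 0, _ => by simp
  | j + 1, hj => by
    rw [nMat_pow_succ, nMat_mulVec, uSp_E_succ hj, sub_sub_cancel_left, Matrix.mulVec_neg, nMat_pow_u,
      nMat_pow_E (j := j) (by omega), smul_comm, uSp_E_zero, pow_succ, mul_smul, neg_one_smul, smul_neg]

theorem nMat_pow_Fv (i : ℕ) : ∀ {k : ℕ}, i + k < n →
    nMat ^ k *ᵥ (Fv i : Fin n ⊕ Fin n → R) = Fv (i + k)
  | 0, _ => by simp
  | k + 1, hk => by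
    rw [pow_succ', ← Matrix.mulVec_mulVec, nMat_pow_Fv i (k := k) (by omega), nMat_mulVec,
      uSp_Fv (by omega), add_sub_cancel_left, add_assoc]

theorem nMat_Fv_last (hn : 0 < n) :
    nMat *ᵥ (Fv (n - 1) : Fin n ⊕ Fin n → R) = (uSp : Matrix.symplecticGroup (Fin n) R) • E (n - 1) := by
  rw [nMat_mulVec, uSp_Fv_last hn, add_sub_cancel_left]

theorem nMat_pow_ne_zero [Nontrivial R] (hn : 0 < n) :
    (nMat : Matrix (Fin n ⊕ Fin n) (Fin n ⊕ Fin n) R) ^ (2 * n - 1) ≠ 0 := by
  intro h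
  have h1 : nMat ^ (2 * n - 1) *ᵥ (Fv 0 : Fin n ⊕ Fin n → R) = 0 := by rw [h, Matrix.zero_mulVec]
  rw [show 2 * n - 1 = (n - 1) + (1 + (n - 1)) by omega, pow_add, ← Matrix.mulVec_mulVec, pow_add,
    ← Matrix.mulVec_mulVec, nMat_pow_Fv 0 (k := n - 1) (by omega), pow_one, zero_add, nMat_Fv_last hn,
    nMat_pow_u, nMat_pow_E (by omega), smul_comm, uSp_E_zero] at h1
  have h2 := congrFun h1 (Sum.inl ⟨0, hn⟩)
  rw [Pi.smul_apply, E_inl, if_pos rfl, smul_eq_mul, mul_one, Pi.zero_apply] at h2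
  exact ((isUnit_one (M := R)).neg.pow (n - 1)).ne_zero h2

theorem nMat_nilpotent : IsNilpotent (nMat : Matrix (Fin n ⊕ Fin n) (Fin n ⊕ Fin n) R) := by
  refine ⟨2 * n, ?_⟩
  have hE : ∀ {j k : ℕ}, j < n → j < k → nMat ^ k *ᵥ (E j : Fin n ⊕ Fin n → R) = 0 := by
    intro j k hj hk
    rw [show k = (k - j - 1) + (1 + j) by omega, pow_add, ← Matrix.mulVec_mulVec, pow_add,
      ← Matrix.mulVec_mulVec, nMat_pow_E hj, pow_one, Matrix.mulVec_smul, nMat_mulVec, uSp_E_zero,
      sub_self, smul_zero, Matrix.mulVec_zero]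
  ext i j
  rw [Matrix.zero_apply]
  rcases j with j | j
  · have := congrFun (hE (k := 2 * n) j.isLt (by omega)) i
    rw [E, dif_pos j.isLt, Matrix.mulVec_single_one] at this
    simpa using this
  · have hjlt := j.isLt
    have hFj : nMat ^ (2 * n) *ᵥ (Fv j.val : Fin n ⊕ Fin n → R) = 0 := by
      rw [show 2 * n = (n + j.val) + (1 + (n - 1 - j.val)) by omega, pow_add, ← Matrix.mulVec_mulVec,
        pow_add (m := 1), ← Matrix.mulVec_mulVec, nMat_pow_Fv j.val (k := n - 1 - j.val) (by omega),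
        show j.val + (n - 1 - j.val) = n - 1 by omega, pow_one, nMat_Fv_last (n := n) (by omega), nMat_pow_u,
        hE (j := n - 1) (k := n + j.val) (by omega) (by omega), smul_zero]
    have := congrFun hFj i
    rw [Fv, dif_pos j.isLt, Matrix.mulVec_single_one] at this
    simpa using this

/-! ### Invariant additive subgroups -/

section finite

variable [Finite R] {S : AddSubgroup (Fin n ⊕ Fin n → R)}
  (hS : ∀ x ∈ S, (uSp : Matrix.symplecticGroup (Fin n) R) • x ∈ S)
include hS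

theorem mem_of_smul_mem {x : Fin n ⊕ Fin n → R}
    (h : (uSp : Matrix.symplecticGroup (Fin n) R) • x ∈ S) : x ∈ S := by
  haveI : Finite (Fin n ⊕ Fin n → R) := inferInstance
  let f : S → S := fun s => ⟨_, hS s.1 s.2⟩
  have hf : Function.Injective f := fun a b e =>
    Subtype.ext (MulAction.injective _ (congrArg Subtype.val e))
  obtain ⟨s, hs⟩ := (Finite.injective_iff_surjective.1 hf) ⟨_, h⟩
  rw [← MulAction.injective _ (congrArg Subtype.val hs)]
  exact s.2

theorem Fv_mem {i : ℕ} (h : (Fv i : Fin n ⊕ Fin n → R) ∈ S) : ∀ {k : ℕ}, i + k < n →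
    (Fv (i + k) : Fin n ⊕ Fin n → R) ∈ S
  | 0, _ => h
  | k + 1, hk => by
    have h1 := Fv_mem h (k := k) (by omega)
    have h2 := S.sub_mem (hS _ h1) h1
    rwa [uSp_Fv (by omega), add_sub_cancel_left] at h2

theorem E_mem {i : ℕ} (hi : i < n) (h : (Fv i : Fin n ⊕ Fin n → R) ∈ S) :
    ∀ {k : ℕ}, k < n → (E k : Fin n ⊕ Fin n → R) ∈ S := by
  have h0 : (Fv (n - 1) : Fin n ⊕ Fin n → R) ∈ S := by
    have := Fv_mem hS h (k := n - 1 - i) (by omega)
    rwa [show i + (n - 1 - i) = n - 1 by omega] at this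
  have h1 : (E (n - 1) : Fin n ⊕ Fin n → R) ∈ S := by
    refine mem_of_smul_mem hS ?_
    have := S.sub_mem (hS _ h0) h0
    rwa [uSp_Fv_last (by omega), add_sub_cancel_left] at this
  intro k hk
  obtain ⟨d, rfl⟩ : ∃ d, k = n - 1 - d := ⟨n - 1 - k, by omega⟩
  clear hk
  induction d with
  | zero => exact h1
  | succ d ih =>
    by_cases hd : d < n - 1
    · refine mem_of_smul_mem hS ?_
      have := S.sub_mem ih (hS _ ih)
      rw [show n - 1 - d = (n - 1 - (d + 1)) + 1 by omega, uSp_E_succ (by omega), sub_sub_cancel] at this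
      exact this
    · rwa [show n - 1 - (d + 1) = n - 1 - d by omega]

end finite

end CfsgLib.Geo.SpThree
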