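import Cfsg.Agent.Geo.SpThreeConjBasic
import Cfsg.Agent.Geo.SympLagrangianPair
import Cfsg.Agent.RegUnip.Finish
import Mathlib.Algebra.CharP.Two
import Mathlib.FieldTheory.Finite.Basic

/-!
A subgroup of the symplectic group with the regular unipotent element, the commutator moving the first
vector, and one suitable element of the radical of the stabiliser of that vector, is the whole group.
-/

set_option autoImplicit false
set_option linter.unusedSectionVars false

namespace CfsgLib.Geo.SpThree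

open Matrix Cfsg Cfsg.Geo CfsgLib.Geo.SpTv

variable {n : ℕ} {F : Type*} [Field F]

local notation "V" => Fin n ⊕ Fin n → F
local notation "fm" => CfsgLib.Symp.form (l := Fin n) (R := F)

/-! ### Short root elements with a common centre -/

theorem stv_zero (v : V) : stv v (0 : F) = 1 := gl_ext_mulVec fun x => by simp [stv_mulVec]

theorem stv2_mul {a X Y : V} (hX : fm a X = 0) (hY : fm a Y = 0) :
    stv2 a X * stv2 a Y = stv2 a (X + Y) * stv a (fm Y X) := by
  refine gl_ext_mulVec fun w => ?_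
  have hXY : fm a (X + Y) = 0 := by rw [CfsgLib.Symp.form_add_right, hX, hY, add_zero]
  simp only [mul_mulVec, stv2_mulVec hX, stv2_mulVec hY, stv2_mulVec hXY, stv_mulVec,
    CfsgLib.Symp.form_add_left, CfsgLib.Symp.form_add_right, CfsgLib.Symp.form_smul_left,
    CfsgLib.Symp.form_self, hX, hY, CfsgLib.Symp.form_swap X a, CfsgLib.Symp.form_swap Y a]
  module

theorem stv2_zero_right (a : V) : stv2 a (0 : V) = 1 := gl_ext_mulVec fun w => by
  rw [stv2_mulVec (CfsgLib.Symp.form_zero_right a), CfsgLib.Symp.form_zero_right]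
  simp

theorem stv2_inv {a X : V} (hX : fm a X = 0) : (stv2 a X)⁻¹ = stv2 a (-X) := by
  have hX' : fm a (-X) = 0 := by
    rw [← neg_one_smul F X, CfsgLib.Symp.form_smul_right, hX, mul_zero]
  rw [inv_eq_iff_mul_eq_one, stv2_mul hX hX', add_neg_cancel, stv2_zero_right, ← neg_one_smul F X,
    CfsgLib.Symp.form_smul_left, CfsgLib.Symp.form_self, mul_zero, stv_zero, one_mul]

theorem stv_inv (v : V) (c : F) : (stv v c)⁻¹ = stv v (-c) := by
  rw [inv_eq_iff_mul_eq_one, stv_add, add_neg_cancel, stv_zero]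

theorem stv2_add_smul {a X : V} (hX : fm a X = 0) (l : F) :
    stv2 a (X + l • a) = stv2 a X * stv a (2 * l) := by
  refine gl_ext_mulVec fun w => ?_
  have h' : fm a (X + l • a) = 0 := by
    rw [CfsgLib.Symp.form_add_right, CfsgLib.Symp.form_smul_right, CfsgLib.Symp.form_self, hX, mul_zero,
      add_zero]
  simp only [mul_mulVec, stv2_mulVec hX, stv2_mulVec h', stv_mulVec, CfsgLib.Symp.form_add_left,
    CfsgLib.Symp.form_add_right, CfsgLib.Symp.form_smul_left, CfsgLib.Symp.form_smul_right,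
    CfsgLib.Symp.form_self, hX]
  module

theorem stv_mul_stv2 {a X : V} (hX : fm a X = 0) (d : F) : stv a d * stv2 a X = stv2 a X * stv a d := by
  refine gl_ext_mulVec fun w => ?_
  simp only [mul_mulVec, stv2_mulVec hX, stv_mulVec, CfsgLib.Symp.form_add_left,
    CfsgLib.Symp.form_smul_left, CfsgLib.Symp.form_self, CfsgLib.Symp.form_swap X a, hX]
  module

/-- The transvection with centre `v + l a` over the one with centre `v`. -/
theorem stv_shift {a v : V} (hv : fm a v = 0) (l d : F) :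
    stv (v + l • a) d * (stv v d)⁻¹ = stv2 a ((l * d) • v) * stv a (l ^ 2 * d) := by
  rw [mul_inv_eq_iff_eq_mul]
  refine gl_ext_mulVec fun w => ?_
  have h' : fm a ((l * d) • v) = 0 := by rw [CfsgLib.Symp.form_smul_right, hv, mul_zero]
  simp only [mul_mulVec, stv2_mulVec h', stv_mulVec, CfsgLib.Symp.form_add_left,
    CfsgLib.Symp.form_add_right, CfsgLib.Symp.form_smul_left, CfsgLib.Symp.form_smul_right,
    CfsgLib.Symp.form_self, CfsgLib.Symp.form_swap v a, hv]
  module

/-! ### The data -/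

/-- The regular unipotent element. -/
noncomputable def uG : GL (Fin n ⊕ Fin n) F := toGLHom uSp

/-- The commutator of the transvection at the first vector of the second half with it. -/
noncomputable def yG : GL (Fin n ⊕ Fin n) F := stv (Fv 0) 1 * stv (Fv 0 + Fv 1) (-1)

theorem uG_mulVec (x : V) :
    ((uG : GL (Fin n ⊕ Fin n) F) : Matrix _ _ F) *ᵥ x = (uSp : Matrix.symplecticGroup (Fin n) F) • x := rfl

theorem uG_mem : (uG : GL (Fin n ⊕ Fin n) F) ∈ spGL n F := toGLHom_mem _

theorem yG_mem : (yG : GL (Fin n ⊕ Fin n) F) ∈ spGL n F := (spGL n F).mul_mem (stv_mem _ _) (stv_mem _ _)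

theorem yG_fix {x : V} (h0 : fm x (Fv 0) = 0) (h1 : fm x (Fv 1) = 0) :
    ((yG : GL (Fin n ⊕ Fin n) F) : Matrix _ _ F) *ᵥ x = x := by
  simp only [yG, mul_mulVec, stv_mulVec, CfsgLib.Symp.form_add_right, h0, h1]
  simp [h0, CfsgLib.Symp.form_add_left]

theorem yG_e (hn : 2 ≤ n) :
    ((yG : GL (Fin n ⊕ Fin n) F) : Matrix (Fin n ⊕ Fin n) (Fin n ⊕ Fin n) F) *ᵥ (E 0 : V) = E 0 + Fv 1 := by
  simp only [yG, mul_mulVec, stv_mulVec, CfsgLib.Symp.form_add_left, CfsgLib.Symp.form_add_right,
    CfsgLib.Symp.form_smul_left, form_EF, form_FF, true_and, if_pos (show 0 < n by omega),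
    if_neg (show ¬ ((1 : ℕ) = 0 ∧ 0 < n) by omega)]
  module

theorem yG_E_one (hn : 2 ≤ n) :
    ((yG : GL (Fin n ⊕ Fin n) F) : Matrix (Fin n ⊕ Fin n) (Fin n ⊕ Fin n) F) *ᵥ (E 1 : V) = E 1 + Fv 0 + Fv 1 := by
  simp only [yG, mul_mulVec, stv_mulVec, CfsgLib.Symp.form_add_left, CfsgLib.Symp.form_add_right,
    CfsgLib.Symp.form_smul_left, form_EF, form_FF, true_and, if_pos (show 1 < n by omega),
    if_neg (show ¬ ((0 : ℕ) = 1 ∧ 1 < n) by omega)]
  module

theorem form_e_Fv {j : ℕ} (hj : j ≠ 0) : fm (E 0) (Fv j) = 0 := by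
  rw [form_EF, if_neg (by omega), neg_zero]

theorem form_e_v (hn : 2 ≤ n) : fm (E 0) (E 0 + Fv 1) = 0 := by
  rw [CfsgLib.Symp.form_add_right, CfsgLib.Symp.form_self, form_e_Fv one_ne_zero, add_zero]

variable {M : Subgroup (GL (Fin n ⊕ Fin n) F)}

/-- The vectors `X` whose short root element at the first vector lies in `M` up to a long one. -/
noncomputable def slop (M : Subgroup (GL (Fin n ⊕ Fin n) F)) : AddSubgroup (Fin n ⊕ Fin n → F) where
  carrier := {X | fm (E 0) X = 0 ∧ ∃ d, stv2 (E 0) X * stv (E 0) d ∈ M}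
  zero_mem' := ⟨CfsgLib.Symp.form_zero_right _, 0, by rw [stv2_zero_right, stv_zero, mul_one]; exact M.one_mem⟩
  add_mem' {X Y} hX hY := by
    obtain ⟨hX, d, hd⟩ := hX
    obtain ⟨hY, d', hd'⟩ := hY
    refine ⟨by rw [CfsgLib.Symp.form_add_right, hX, hY, add_zero], fm Y X + (d + d'), ?_⟩
    have h := M.mul_mem hd hd'
    rwa [show stv2 (E 0) X * stv (E 0) d * (stv2 (E 0) Y * stv (E 0) d')
        = stv2 (E 0) (X + Y) * stv (E 0) (fm Y X + (d + d')) by
      rw [mul_assoc, ← mul_assoc (stv (E 0) d), stv_mul_stv2 hY, mul_assoc, ← mul_assoc, stv2_mul hX hY,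
        stv_add, mul_assoc, stv_add]] at h
  neg_mem' {X} hX := by
    obtain ⟨hX, d, hd⟩ := hX
    have hX' : fm (E 0) (-X) = 0 := by
      rw [← neg_one_smul F X, CfsgLib.Symp.form_smul_right, hX, mul_zero]
    refine ⟨hX', -d, ?_⟩
    have h := M.inv_mem hd
    rwa [_root_.mul_inv_rev, stv_inv, stv2_inv hX, stv_mul_stv2 hX'] at h

theorem mem_slop {X : V} : X ∈ slop M ↔ fm (E 0) X = 0 ∧ ∃ d, stv2 (E 0) X * stv (E 0) d ∈ M := Iff.rfl

theorem slop_form {X : V} (h : X ∈ slop M) : fm (E 0) X = 0 := h.1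

theorem slop_smul_uG (hu : uG ∈ M) {X : V} (h : X ∈ slop M) :
    (uSp : Matrix.symplecticGroup (Fin n) F) • X ∈ slop M := by
  obtain ⟨hX, d, hd⟩ := h
  refine ⟨?_, d, ?_⟩
  · conv_lhs => arg 1; rw [← uSp_E_zero]
    rw [CfsgLib.Symp.form_smul_smul, hX]
  · have h := M.mul_mem (M.mul_mem hu hd) (M.inv_mem hu)
    rwa [show uG * (stv2 (E 0) X * stv (E 0) d) * uG⁻¹
        = uG * stv2 (E 0) X * uG⁻¹ * (uG * stv (E 0) d * uG⁻¹) by group,
      stv2_conj uG_mem, stv_conj uG_mem, uG_mulVec, uG_mulVec, uSp_E_zero] at h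

/-- The multiples of the second vector inside. -/
noncomputable def coef (M : Subgroup (GL (Fin n ⊕ Fin n) F)) (X : V) : AddSubgroup F :=
  (slop M).comap ((LinearMap.toSpanSingleton F (Fin n ⊕ Fin n → F) X).toAddMonoidHom)

theorem mem_coef {X : V} {a : F} : a ∈ coef M X ↔ a • X ∈ slop M := Iff.rfl

section spread

variable [Finite F] (hu : uG ∈ M) (hn : 2 ≤ n)
include hu hn

/-- A multiple of `Fv i` brings the multiples of every later one and of all of the first half. -/
theorem slop_spread {a : F} {i : ℕ} (hi : i < n) (h : a • (Fv i : V) ∈ slop M) :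
    (∀ {k : ℕ}, i + k < n → a • (Fv (i + k) : V) ∈ slop M) ∧
      ∀ {k : ℕ}, k < n → a • (E k : V) ∈ slop M := by
  let S : AddSubgroup (Fin n ⊕ Fin n → F) := (slop M).comap (DistribSMul.toAddMonoidHom _ a)
  have hS : ∀ x ∈ S, (uSp : Matrix.symplecticGroup (Fin n) F) • x ∈ S := fun x hx => by
    change a • ((uSp : Matrix.symplecticGroup (Fin n) F) • x) ∈ slop M
    rw [← smul_comm]
    exact slop_smul_uG hu hx
  exact ⟨fun hk => Fv_mem (S := S) hS h hk, fun hk => E_mem (S := S) hS hi h hk⟩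

theorem slop_all (hP : ∀ a : F, a • (Fv 1 : V) ∈ slop M) {X : V} (hX : fm (E 0) X = 0) : X ∈ slop M := by
  classical
  rw [pi_eq_sum_univ' X]
  refine sum_mem fun k _ => ?_
  rcases k with k | k
  · have h := (slop_spread hu hn (show 1 < n by omega) (hP (X (Sum.inl k)))).2 k.isLt
    rwa [E, dif_pos k.isLt] at h
  · by_cases hk : k.val = 0
    · have h0 : fm (E 0) X = -X (Sum.inr k) := by
        rw [E, dif_pos (by omega), CfsgLib.Symp.form_single_inl, one_mul,
          show (⟨0, by omega⟩ : Fin n) = k from Fin.ext hk.symm]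
      rw [hX, zero_eq_neg] at h0
      rw [h0, zero_smul]
      exact zero_mem _
    · have h := (slop_spread hu hn (show 1 < n by omega) (hP (X (Sum.inr k)))).1 (k := k.val - 1)
        (by have := k.isLt; omega)
      rwa [show 1 + (k.val - 1) = k.val by omega, Fv, dif_pos k.isLt] at h

/-- Full centre at the first vector and the whole radical give everything. -/
theorem sp_le_of_radical (hMI : M ≤ spGL n F) (hy : yG ∈ M) (hT : ∀ d, stv (E 0 : V) d ∈ M)
    (hP : ∀ a : F, a • (Fv 1 : V) ∈ slop M) : spGL n F ≤ M := by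
  classical
  have hq : ∀ X : V, fm (E 0) X = 0 → stv2 (E 0) X ∈ M := fun X hX => by
    obtain ⟨-, d, hd⟩ := slop_all hu hn hP hX
    have := M.mul_mem hd (M.inv_mem (hT d))
    rwa [mul_inv_cancel_right] at this
  have hE1 : fm (E 0) (-(E 1) : V) = 0 := by
    rw [← neg_one_smul F (E 1 : V), CfsgLib.Symp.form_smul_right, form_EE, mul_zero]
  have hv : Full M (E 0 + Fv 1 : V) := by
    have := full_conj hMI (v := (E 0 : V)) (fun c => hT c) hy
    rwa [yG_e hn] at this
  have hp : Full M (Fv 1 : V) := by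
    have := full_conj hMI hv (hq _ hE1)
    rw [stv2_mulVec hE1] at this
    convert this using 1
    rw [← neg_one_smul F (E 1 : V)]
    simp only [CfsgLib.Symp.form_add_left, CfsgLib.Symp.form_smul_right, CfsgLib.Symp.form_self,
      form_EE, form_FE, true_and, if_pos (show 1 < n by omega), if_pos (show (1 : ℕ) = 1 ∧ 1 < n by omega),
      if_neg (show ¬ ((1 : ℕ) = 0 ∧ 0 < n) by omega)]
    module
  -- some full centre is not orthogonal to the first vector
  obtain ⟨w, hw, hwe⟩ : ∃ w : V, Full M w ∧ fm (E 0) w ≠ 0 := by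
    by_contra hcon
    push Not at hcon
    let S : AddSubgroup (Fin n ⊕ Fin n → F) :=
      { carrier := {x | ∀ k : ℕ, fm (E 0) (((yG * uG ^ k : GL (Fin n ⊕ Fin n) F) : Matrix _ _ F) *ᵥ x) = 0}
        zero_mem' := fun k => by rw [Matrix.mulVec_zero, CfsgLib.Symp.form_zero_right]
        add_mem' := fun {x z} hx hz k => by
          rw [Matrix.mulVec_add, CfsgLib.Symp.form_add_right, hx k, hz k, add_zero]
        neg_mem' := fun {x} hx k => by
          rw [Matrix.mulVec_neg, ← neg_one_smul F, CfsgLib.Symp.form_smul_right, hx k, mul_zero] }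
    have hS : ∀ x ∈ S, (uSp : Matrix.symplecticGroup (Fin n) F) • x ∈ S := fun x hx k => by
      have := hx (k + 1)
      rwa [pow_succ, ← mul_assoc, mul_mulVec (yG * uG ^ k), uG_mulVec] at this
    have hp1 : (Fv 1 : V) ∈ S := fun k =>
      hcon _ (full_conj hMI hp (M.mul_mem hy (pow_mem hu k)))
    have := E_mem (S := S) hS (show 1 < n by omega) hp1 (show 1 < n by omega) 0
    rw [pow_zero, mul_one, yG_E_one hn] at this
    simp [CfsgLib.Symp.form_add_right, form_EE, form_EF, show ¬ (1 : ℕ) = 0 from one_ne_zero,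
      show 0 < n by omega] at this
  have hfull : ∀ z : V, fm (E 0) z ≠ 0 → Full M z := by
    intro z hz
    set w' := (fm (E 0) z / fm (E 0) w) • w with hw'
    have hwz : fm (E 0) w' = fm (E 0) z := by
      rw [hw', CfsgLib.Symp.form_smul_right, div_mul_cancel₀ _ hwe]
    have hw'e : fm w' (E 0) ≠ 0 := by rw [CfsgLib.Symp.form_swap, hwz]; exact neg_ne_zero.2 hz
    set X := (fm w' (E 0))⁻¹ • (z - w') with hXdef
    have hX : fm (E 0) X = 0 := by
      rw [hXdef, CfsgLib.Symp.form_smul_right, CfsgLib.Symp.form_sub_right, hwz, sub_self, mul_zero]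
    have h := full_conj hMI (full_smul hw (fm (E 0) z / fm (E 0) w))
      (M.mul_mem (hT (-fm w' X / fm w' (E 0))) (hq X hX))
    rw [← hw', mul_mulVec, stv2_mulVec hX, stv_mulVec] at h
    convert h using 1
    simp only [CfsgLib.Symp.form_add_left, CfsgLib.Symp.form_smul_left, CfsgLib.Symp.form_self,
      CfsgLib.Symp.form_swap X (E 0), hX, neg_zero, mul_zero, add_zero, div_mul_cancel₀ _ hw'e]
    rw [hXdef, smul_smul, mul_inv_cancel₀ hw'e, one_smul]
    module
  refine spGL_le_of_full fun z => ?_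
  by_cases hz0 : z = 0
  · exact hz0 ▸ full_zero
  by_cases hze : fm (E 0) z = 0
  swap
  · exact hfull z hze
  have hF0 : fm (E 0) (Fv 0 : V) ≠ 0 := by
    rw [form_EF, if_pos ⟨rfl, by omega⟩]; exact neg_ne_zero.2 one_ne_zero
  obtain ⟨w'', h1, h2⟩ : ∃ w'' : V, fm (E 0) w'' ≠ 0 ∧ fm z w'' ≠ 0 := by
    by_cases h : fm z (Fv 0) = 0
    · obtain ⟨y, hy⟩ := CfsgLib.Symp.exists_form_ne_zero hz0
      by_cases h' : fm (E 0) y = 0
      · exact ⟨Fv 0 + y, by rwa [CfsgLib.Symp.form_add_right, h', add_zero],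
          by rwa [CfsgLib.Symp.form_add_right, h, zero_add]⟩
      · exact ⟨y, h', hy⟩
    · exact ⟨Fv 0, hF0, h⟩
  have h3 : Full M (z - w'') := hfull _ (by rwa [CfsgLib.Symp.form_sub_right, hze, zero_sub, neg_ne_zero])
  have := full_add hMI (hfull w'' h1) h3
    (by rwa [CfsgLib.Symp.form_sub_left, CfsgLib.Symp.form_self, sub_zero])
  rwa [sub_add_cancel] at this

end spread

end CfsgLib.Geo.SpThree
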