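import Cfsg.Agent.Geo.SpThreeConjCore

/-!
The bracket recursions: the parameters at the first vector fill the field.
-/

set_option autoImplicit false
set_option linter.unusedSectionVars false

namespace CfsgLib.Geo.SpThree

open Matrix Cfsg Cfsg.Geo CfsgLib.Geo.SpTv

variable {n : ℕ} {F : Type*} [Field F] [Finite F] {M : Subgroup (GL (Fin n ⊕ Fin n) F)}

local notation "V" => Fin n ⊕ Fin n → F
local notation "fm" => CfsgLib.Symp.form (l := Fin n) (R := F)
local notation "mat" => fun (g : GL (Fin n ⊕ Fin n) F) => (g : Matrix (Fin n ⊕ Fin n) (Fin n ⊕ Fin n) F)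

/-- In a finite field squares generate additively. -/
theorem forall_mem_of_sq {S : AddSubgroup F} {k : F} (hk : k ≠ 0) (h : ∀ x : F, x ^ 2 * k ∈ S) (y : F) :
    y ∈ S := by
  by_cases h2 : (2 : F) = 0
  · have hc : CharP F 2 := CharTwo.of_one_ne_zero_of_two_eq_zero one_ne_zero h2
    obtain ⟨x, hx⟩ := (Finite.injective_iff_surjective.1
      (CharTwo.sq_injective (R := F))) (y / k)
    have := h x
    rwa [show x ^ 2 = y / k from hx, div_mul_cancel₀ _ hk] at this
  · have hx : ∀ x : F, 2 * x * k ∈ S := fun x => by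
      have := S.sub_mem (S.sub_mem (h (x + 1)) (h x)) (h 1)
      rwa [show (x + 1) ^ 2 * k - x ^ 2 * k - 1 ^ 2 * k = 2 * x * k by ring] at this
    have := hx (y / (2 * k))
    rwa [show 2 * (y / (2 * k)) * k = y by field_simp] at this

theorem smul_form {c : F} {j : ℕ} : fm (E 0) (c • (E j : V)) = 0 := by
  rw [CfsgLib.Symp.form_smul_right, form_EE, mul_zero]

/-- The long root parameters at the first vector. -/
noncomputable def longSet (M : Subgroup (GL (Fin n ⊕ Fin n) F)) : AddSubgroup F where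
  carrier := {d | stv (E 0 : Fin n ⊕ Fin n → F) d ∈ M}
  zero_mem' := by
    change stv (E 0 : Fin n ⊕ Fin n → F) 0 ∈ M
    rw [stv_zero]; exact M.one_mem
  add_mem' {a b} ha hb := by
    change stv (E 0 : Fin n ⊕ Fin n → F) (a + b) ∈ M
    rw [← stv_add]; exact M.mul_mem ha hb
  neg_mem' {a} ha := by
    change stv (E 0 : Fin n ⊕ Fin n → F) (-a) ∈ M
    rw [← stv_inv]; exact M.inv_mem ha

section large

variable (hn : 3 ≤ n) (hu : uG ∈ M) (hy : yG ∈ M)
include hn hu hy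

/-- The bracket with the moved element. -/
theorem bracket {a c : F} (ha : a • (Fv 2 : V) ∈ slop M) (hc : c • (E 2 : V) ∈ slop M) :
    stv2 (E 0 : V) ((-(a * c)) • (E 0 + Fv 1)) ∈ M := by
  obtain ⟨hX, d, hd⟩ := ha
  obtain ⟨hW, d', hd'⟩ := hc
  have hv : fm (E 0) (E 0 + Fv 1) = 0 := form_e_v (by omega)
  set v : V := E 0 + Fv 1 with hvdef
  set X : V := a • Fv 2 with hXdef
  set W : V := c • E 2 with hWdef
  have hvW : fm v W = 0 := by
    rw [hvdef, hWdef, CfsgLib.Symp.form_smul_right, CfsgLib.Symp.form_add_left, form_EE, form_FE,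
      if_neg (by omega), add_zero, mul_zero]
  have hyW : mat yG *ᵥ W = W := by
    refine yG_fix ?_ ?_ <;>
      rw [hWdef, CfsgLib.Symp.form_smul_left, form_EF, if_neg (by omega), neg_zero, mul_zero]
  have h1 : stv2 v W * stv v d' ∈ M := by
    have h := M.mul_mem (M.mul_mem hy hd') (M.inv_mem hy)
    rwa [show yG * (stv2 (E 0) W * stv (E 0) d') * yG⁻¹
        = yG * stv2 (E 0) W * yG⁻¹ * (yG * stv (E 0) d' * yG⁻¹) by group,
      stv2_conj yG_mem, stv_conj yG_mem, yG_e (by omega), hyW] at h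
  set g := stv2 (E 0) X * stv (E 0) d with hg
  have hgI : g ∈ spGL n F := (spGL n F).mul_mem (stv2_mem _ _) (stv_mem _ _)
  have hve : fm v (E 0) = 0 := by rw [CfsgLib.Symp.form_swap, hv, neg_zero]
  have hWe : fm W (E 0) = 0 := by rw [CfsgLib.Symp.form_swap, hW, neg_zero]
  have hvX : fm v X = 0 := by
    rw [hvdef, hXdef, CfsgLib.Symp.form_smul_right, CfsgLib.Symp.form_add_left, form_e_Fv (by omega),
      form_FF, add_zero, mul_zero]
  have hWX : fm W X = -(a * c) := by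
    rw [hWdef, hXdef, CfsgLib.Symp.form_smul_left, CfsgLib.Symp.form_smul_right, form_EF,
      if_pos ⟨rfl, by omega⟩]
    ring
  have hgv : mat g *ᵥ v = v := by
    change (g : Matrix (Fin n ⊕ Fin n) (Fin n ⊕ Fin n) F) *ᵥ v = v
    rw [hg, mul_mulVec, stv_mulVec, stv2_mulVec hX]
    simp [hve, hvX]
  have hgW : mat g *ᵥ W = W + (-(a * c)) • E 0 := by
    change (g : Matrix (Fin n ⊕ Fin n) (Fin n ⊕ Fin n) F) *ᵥ W = _
    rw [hg, mul_mulVec, stv_mulVec, stv2_mulVec hX]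
    simp [hWe, hWX]
  have h2 := M.mul_mem (M.mul_mem (M.mul_mem hd h1) (M.inv_mem hd)) (M.inv_mem h1)
  rw [show g * (stv2 v W * stv v d') * g⁻¹ * (stv2 v W * stv v d')⁻¹
      = g * stv2 v W * g⁻¹ * (g * stv v d' * g⁻¹) * ((stv v d')⁻¹ * (stv2 v W)⁻¹) by group,
    stv2_conj hgI, stv_conj hgI, hgv, hgW, mul_assoc, ← mul_assoc (stv v d'), mul_inv_cancel, one_mul] at h2
  rwa [show stv2 v (W + (-(a * c)) • E 0) * (stv2 v W)⁻¹ = stv2 (E 0) ((-(a * c)) • v) by
    rw [mul_inv_eq_iff_eq_mul]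
    refine gl_ext_mulVec fun w => ?_
    have h3 : fm v (W + (-(a * c)) • E 0) = 0 := by
      rw [CfsgLib.Symp.form_add_right, hvW, CfsgLib.Symp.form_smul_right, hve, mul_zero, add_zero]
    have h4 : fm (E 0) ((-(a * c)) • v) = 0 := by rw [CfsgLib.Symp.form_smul_right, hv, mul_zero]
    rw [mul_mulVec, stv2_mulVec hvW, stv2_mulVec h3, stv2_mulVec h4]
    simp only [CfsgLib.Symp.form_add_left, CfsgLib.Symp.form_add_right, CfsgLib.Symp.form_smul_left,
      CfsgLib.Symp.form_smul_right, hve, hWe, hv, hW, hvW, CfsgLib.Symp.form_self, CfsgLib.Symp.form_swap W v]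
    module] at h2

/-- Dimension at least six. -/
theorem sp_le_large (hMI : M ≤ spGL n F) {c : F} (hc0 : c ≠ 0) (hgen : Subring.closure ({c} : Set F) = ⊤)
    (hx : stv (E 0 : V) 1 * stv2 (E 0) ((-c) • Fv 2) ∈ M) : spGL n F ≤ M := by
  have hR : c • (Fv 2 : V) ∈ slop M := by
    have hX : fm (E 0) ((-c) • (Fv 2 : V)) = 0 := by
      rw [CfsgLib.Symp.form_smul_right, form_e_Fv (by omega), mul_zero]
    have h : (-c) • (Fv 2 : V) ∈ slop M := ⟨hX, 1, by rwa [← stv_mul_stv2 hX]⟩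
    simpa using neg_mem h
  have hE2 : c • (E 2 : V) ∈ slop M := (slop_spread hu (by omega) (show 2 < n by omega) hR).2 (by omega)
  -- exact elements from the bracket
  have hbr : ∀ a : F, a • (Fv 2 : V) ∈ slop M →
      stv2 (E 0 : V) ((-(a * c)) • (E 0 + Fv 1)) ∈ M := fun a ha => bracket hn hu hy ha hE2
  have hcoef : ∀ a : F, a • (Fv 2 : V) ∈ slop M → a * c ∈ coef M (Fv 1) := by
    intro a ha
    have hv : fm (E 0) ((-(a * c)) • (Fv 1 : V)) = 0 := by
      rw [CfsgLib.Symp.form_smul_right, form_e_Fv one_ne_zero, mul_zero]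
    have h : (-(a * c)) • (Fv 1 : V) ∈ slop M := by
      refine ⟨hv, 2 * (-(a * c)), ?_⟩
      rw [← stv2_add_smul hv, add_comm, ← smul_add]
      exact hbr a ha
    rw [mem_coef]
    simpa using neg_mem h
  have hP : ∀ a : F, a • (Fv 1 : V) ∈ slop M := by
    refine fun a => mem_coef.1 (CfsgLib.RegUnip.forall_mem_of_generator (S := coef M (Fv 1)) hgen
      (hcoef c hR) (mul_ne_zero hc0 hc0) (fun x hx' => ?_) a)
    rw [mul_comm]
    exact hcoef x ((slop_spread hu (by omega) (show 1 < n by omega) (mem_coef.1 hx')).1 (k := 1) (by omega))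
  have hexact : ∀ l : F, stv2 (E 0 : V) (l • (E 0 + Fv 1)) ∈ M := fun l => by
    have := hbr (-l / c) ((slop_spread hu (by omega) (show 1 < n by omega) (hP _)).1 (k := 1) (by omega))
    rwa [div_mul_cancel₀ _ hc0, neg_neg] at this
  have hF2 : ∀ l : F, stv2 (E 0 : V) (l • (Fv 2 : V)) ∈ M := by
    intro l
    have h := M.mul_mem (M.mul_mem hu (hexact l)) (M.inv_mem hu)
    rw [stv2_conj uG_mem, uG_mulVec, uG_mulVec, uSp_E_zero, smul_comm, smul_add, uSp_E_zero,
      uSp_Fv (by omega), ← add_assoc, smul_add] at h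
    have hv : fm (E 0) (l • (E 0 + Fv 1 : V)) = 0 := by
      rw [CfsgLib.Symp.form_smul_right, form_e_v (by omega), mul_zero]
    have hF : fm (E 0) (l • (Fv 2 : V)) = 0 := by
      rw [CfsgLib.Symp.form_smul_right, form_e_Fv (by omega), mul_zero]
    have h0 : fm (l • (Fv 2 : V)) (l • (E 0 + Fv 1 : V)) = 0 := by
      simp [CfsgLib.Symp.form_smul_left, CfsgLib.Symp.form_smul_right, CfsgLib.Symp.form_add_right,
        form_FF, CfsgLib.Symp.form_swap (Fv 2 : V) (E 0), form_e_Fv (show (2 : ℕ) ≠ 0 by omega)]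
    have h1 := stv2_mul hv hF
    rw [h0, stv_zero, mul_one] at h1
    rw [← h1] at h
    exact (M.mul_mem_cancel_left (hexact l)).1 h
  have hd0 : (1 : F) ∈ longSet M := by
    show stv (E 0 : V) 1 ∈ M
    have := M.mul_mem hx (M.inv_mem (hF2 (-c)))
    rwa [mul_inv_cancel_right] at this
  refine sp_le_of_radical hu (by omega) hMI hy (fun d => ?_) hP
  refine forall_mem_of_sq (S := longSet M) one_ne_zero (fun l => ?_) d
  obtain ⟨hX, dd, hdd⟩ := slop_all hu (by omega) hP (smul_form (c := l) (j := 1))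
  have hv1 : stv (E 0 + Fv 1 : V) 1 ∈ M := by
    have h := M.mul_mem (M.mul_mem hy hd0) (M.inv_mem hy)
    rwa [stv_conj yG_mem, yG_e (by omega)] at h
  have h := M.mul_mem (M.mul_mem (M.mul_mem hdd hv1) (M.inv_mem hdd)) (M.inv_mem hv1)
  have hgI : stv2 (E 0) (l • (E 1 : V)) * stv (E 0) dd ∈ spGL n F :=
    (spGL n F).mul_mem (stv2_mem _ _) (stv_mem _ _)
  rw [stv_conj hgI] at h
  have hgv : ((stv2 (E 0) (l • (E 1 : V)) * stv (E 0) dd : GL (Fin n ⊕ Fin n) F) :
      Matrix (Fin n ⊕ Fin n) (Fin n ⊕ Fin n) F) *ᵥ (E 0 + Fv 1) = E 0 + Fv 1 + l • E 0 := by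
    rw [mul_mulVec, stv_mulVec, stv2_mulVec hX]
    simp [CfsgLib.Symp.form_add_left, CfsgLib.Symp.form_smul_right, CfsgLib.Symp.form_self, form_EE,
      form_FE, show 1 < n by omega]
  rw [hgv, stv_shift (form_e_v (by omega)), mul_one, mul_one] at h
  show stv (E 0 : V) (l ^ 2 * 1) ∈ M
  rw [mul_one]
  exact (M.mul_mem_cancel_left (hexact l)).1 h

end large

section two

variable (hn : n = 2) (hu : uG ∈ M) (hy : yG ∈ M)
include hn hu hy

theorem smul_e_one : (uSp : Matrix.symplecticGroup (Fin n) F) • (E 1 : V) = E 1 - E 0 := by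
  rw [show (1 : ℕ) = 0 + 1 from rfl, uSp_E_succ (by omega), uSp_E_zero]

theorem smul_p : (uSp : Matrix.symplecticGroup (Fin n) F) • (Fv 1 : V) = Fv 1 + E 1 - E 0 := by
  have h := uSp_Fv_last (R := F) (n := n) (by omega)
  rw [show n - 1 = 1 by omega, smul_e_one hn hu hy] at h
  rw [h, add_sub_assoc]

/-- Dimension four: all transvections at the second vector with parameter `c`. -/
theorem stv_p_mem {c : F} (hc : stv (E 0 : V) c ∈ M) : stv (Fv 1 : V) c ∈ M := by
  have hv : stv (E 0 + Fv 1 : V) c ∈ M := by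
    have h := M.mul_mem (M.mul_mem hy hc) (M.inv_mem hy)
    rwa [stv_conj yG_mem, yG_e (by omega)] at h
  by_cases h2 : (2 : F) = 0
  · have h := M.mul_mem (M.mul_mem (M.mul_mem hu hu) hv) (M.inv_mem (M.mul_mem hu hu))
    rw [stv_conj ((spGL n F).mul_mem uG_mem uG_mem), mul_mulVec, uG_mulVec, uG_mulVec, smul_add,
      uSp_E_zero, smul_p hn hu hy, smul_add, smul_sub, smul_add, uSp_E_zero, smul_p hn hu hy,
      smul_e_one hn hu hy] at h
    rwa [show (E 0 + (Fv 1 + E 1 - E 0 + (E 1 - E 0) - E 0) : V) = Fv 1 + ((2 : F) • E 1 - (2 : F) • E 0) by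
      module, h2, zero_smul, zero_smul, sub_zero, add_zero] at h
  · have hv2 : stv (E 0 + (2 : F) • Fv 1 : V) c ∈ M := by
      have h := M.mul_mem (M.mul_mem hy hv) (M.inv_mem hy)
      rw [stv_conj yG_mem, Matrix.mulVec_add, yG_e (by omega), yG_fix (form_FF 1 0) (form_FF 1 1)] at h
      rwa [show (E 0 + (2 : F) • Fv 1 : V) = E 0 + Fv 1 + Fv 1 by module]
    have hp2 : stv (Fv 1 : V) (2 * c) ∈ M := by
      have h := M.mul_mem (M.mul_mem hv2 (M.inv_mem (M.mul_mem hv hv))) hc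
      rwa [show stv (E 0 + (2 : F) • Fv 1 : V) c * (stv (E 0 + Fv 1) c * stv (E 0 + Fv 1) c)⁻¹ * stv (E 0) c
          = stv (Fv 1 : V) (2 * c) by
        rw [stv_add, stv_inv]
        refine gl_ext_mulVec fun w => ?_
        have e1 : fm (E 0) (Fv 1 : V) = 0 := form_e_Fv one_ne_zero
        simp only [mul_mulVec, stv_mulVec, CfsgLib.Symp.form_add_left, CfsgLib.Symp.form_add_right,
          CfsgLib.Symp.form_smul_left, CfsgLib.Symp.form_smul_right, CfsgLib.Symp.form_self, e1,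
          CfsgLib.Symp.form_swap (Fv 1 : V) (E 0)]
        module] at h
    obtain ⟨p, hp⟩ := CharP.exists F
    haveI := hp
    have hpp : p.Prime := CharP.char_is_prime F p
    have hodd : Odd p := hpp.odd_of_ne_two fun e => h2 (by
      subst e
      exact_mod_cast CharP.cast_eq_zero F 2)
    obtain ⟨k, hk⟩ := hodd
    let S : AddSubgroup F :=
      { carrier := {d | stv (Fv 1 : V) d ∈ M}
        zero_mem' := by
          change stv (Fv 1 : V) 0 ∈ M
          rw [stv_zero]; exact M.one_mem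
        add_mem' := fun {a b} ha hb => by
          change stv (Fv 1 : V) (a + b) ∈ M
          rw [← stv_add]; exact M.mul_mem ha hb
        neg_mem' := fun {a} ha => by
          change stv (Fv 1 : V) (-a) ∈ M
          rw [← stv_inv]; exact M.inv_mem ha }
    have hS := S.nsmul_mem (show 2 * c ∈ S from hp2) (k + 1)
    have hzero : ((p : ℕ) : F) = 0 := CharP.cast_eq_zero F p
    rw [hk] at hzero
    push_cast at hzero
    rwa [nsmul_eq_mul, show ((k + 1 : ℕ) : F) * (2 * c) = c by push_cast; linear_combination c * hzero] at hS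

/-- The two recursions in dimension four. -/
theorem shift_mem {a d : F} (hd : stv (Fv 1 : V) d ∈ M) (ha : a • (E 1 : V) ∈ slop M) :
    stv2 (E 0 : V) ((a * d) • Fv 1) * stv (E 0) (a ^ 2 * d) ∈ M := by
  obtain ⟨hX, dd, hdd⟩ := ha
  have h := M.mul_mem (M.mul_mem (M.mul_mem hdd hd) (M.inv_mem hdd)) (M.inv_mem hd)
  have hgI : stv2 (E 0) (a • (E 1 : V)) * stv (E 0) dd ∈ spGL n F :=
    (spGL n F).mul_mem (stv2_mem _ _) (stv_mem _ _)
  rw [stv_conj hgI] at h
  have hgp : ((stv2 (E 0) (a • (E 1 : V)) * stv (E 0) dd : GL (Fin n ⊕ Fin n) F) :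
      Matrix (Fin n ⊕ Fin n) (Fin n ⊕ Fin n) F) *ᵥ (Fv 1) = Fv 1 + a • E 0 := by
    rw [mul_mulVec, stv_mulVec, stv2_mulVec hX]
    simp [CfsgLib.Symp.form_smul_right, form_FE, show 1 < n by omega]
  rwa [hgp, stv_shift (form_e_Fv one_ne_zero)] at h

set_option maxHeartbeats 1000000 in
/-- Dimension four. -/
theorem sp_le_two (hMI : M ≤ spGL n F) {c : F} (hc0 : c ≠ 0) (hgen : Subring.closure ({c} : Set F) = ⊤)
    (hc : stv (E 0 : V) c ∈ M) (hq : ∃ a : F, a ≠ 0 ∧ a ≠ 1) : spGL n F ≤ M := by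
  have hpc := stv_p_mem hn hu hy hc
  have hv : stv (E 0 + Fv 1 : V) c ∈ M := by
    have h := M.mul_mem (M.mul_mem hy hc) (M.inv_mem hy)
    rwa [stv_conj yG_mem, yG_e (by omega)] at h
  have hp : fm (E 0) (Fv 1 : V) = 0 := form_e_Fv one_ne_zero
  have hcp : fm (E 0) (c • (Fv 1 : V)) = 0 := by rw [CfsgLib.Symp.form_smul_right, hp, mul_zero]
  have h0 : c ∈ coef M (Fv 1) := by
    rw [mem_coef, mem_slop]
    refine ⟨hcp, 0, ?_⟩
    show stv2 (E 0 : V) (c • Fv 1) * stv (E 0) 0 ∈ M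
    have h := M.mul_mem (M.mul_mem hv (M.inv_mem hc)) (M.inv_mem hpc)
    rwa [show stv (E 0 + Fv 1 : V) c * (stv (E 0) c)⁻¹ * (stv (Fv 1 : V) c)⁻¹
        = stv2 (E 0) (c • Fv 1) * stv (E 0) 0 by
      rw [stv_zero, mul_one, stv_inv, stv_inv]
      refine gl_ext_mulVec fun w => ?_
      simp only [mul_mulVec, stv_mulVec, stv2_mulVec hcp, CfsgLib.Symp.form_add_left,
        CfsgLib.Symp.form_add_right, CfsgLib.Symp.form_smul_left, CfsgLib.Symp.form_smul_right,
        CfsgLib.Symp.form_self, hp, CfsgLib.Symp.form_swap (Fv 1 : V) (E 0)]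
      module] at h
  have hE : ∀ a : F, a ∈ coef M (Fv 1) → a • (E 1 : V) ∈ slop M := fun a ha =>
    (slop_spread hu (by omega) (show 1 < n by omega) (mem_coef.1 ha)).2 (by omega)
  have hP : ∀ a : F, a • (Fv 1 : V) ∈ slop M := by
    refine fun a => mem_coef.1 (CfsgLib.RegUnip.forall_mem_of_generator (S := coef M (Fv 1)) hgen
      h0 hc0 (fun x hx => ?_) a)
    rw [mem_coef, mem_slop]
    exact ⟨by rw [CfsgLib.Symp.form_smul_right, hp, mul_zero],
      x ^ 2 * c, by rw [mul_comm c x]; exact shift_mem hn hu hy hpc (hE x hx)⟩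
  refine sp_le_of_radical hu (by omega) hMI hy (fun d => ?_) hP
  by_cases h2 : (2 : F) = 0
  swap
  · obtain ⟨hX, d₁, h₁⟩ := slop_all hu (by omega) hP (smul_form (c := (1 : F)) (j := 1))
    obtain ⟨hY, d₂, h₂⟩ := hP (d / 2)
    have h := M.mul_mem (M.mul_mem h₁ h₂) (M.inv_mem (M.mul_mem h₂ h₁))
    have key : ∀ {X Y : V} (a b : F), fm (E 0) X = 0 → fm (E 0) Y = 0 →
        stv2 (E 0) X * stv (E 0) a * (stv2 (E 0) Y * stv (E 0) b)
          = stv2 (E 0) (X + Y) * stv (E 0) (fm Y X + (a + b)) := fun {X Y} a b hX hY => by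
      rw [mul_assoc, ← mul_assoc (stv (E 0) a), stv_mul_stv2 hY, mul_assoc, ← mul_assoc,
        stv2_mul hX hY, stv_add, mul_assoc, stv_add]
    have hsum : fm (E 0) ((1 : F) • E 1 + (d / 2) • Fv 1 : V) = 0 := by
      rw [CfsgLib.Symp.form_add_right, hX, hY, add_zero]
    rw [key _ _ hX hY, key _ _ hY hX, add_comm ((d / 2) • (Fv 1 : V)), _root_.mul_inv_rev, stv_inv,
      mul_assoc, ← mul_assoc (stv (E 0) _) (stv (E 0) _), stv_add, ← mul_assoc (stv2 _ _),
      ← stv_mul_stv2 hsum, mul_assoc, mul_inv_cancel, mul_one] at h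
    convert h using 2
    simp only [CfsgLib.Symp.form_smul_left, CfsgLib.Symp.form_smul_right, form_FE, form_EF, true_and,
      if_pos (show 1 < n by omega)]
    field_simp
    ring
  haveI hchar : CharP F 2 := CharTwo.of_one_ne_zero_of_two_eq_zero one_ne_zero h2
  -- products of two long root elements
  have hA : ∀ δ : F, stv (E 0 + Fv 1 : V) δ * stv (E 0) δ ∈ M := by
    intro δ
    obtain ⟨μ, hμ⟩ := (Finite.injective_iff_surjective.1 (CharTwo.sq_injective (R := F))) (δ / c)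
    replace hμ : μ ^ 2 * c = δ := by rw [show μ ^ 2 = δ / c from hμ, div_mul_cancel₀ _ hc0]
    obtain ⟨hX, dd, hdd⟩ : (μ * c) • (Fv 1 : V) ∈ slop M ∧ ∃ dd, dd = δ ∧
        stv2 (E 0 : V) ((μ * c) • Fv 1) * stv (E 0) dd ∈ M :=
      ⟨hP _, δ, rfl, hμ ▸ shift_mem hn hu hy hpc (hE μ (mem_coef.2 (hP μ)))⟩
    obtain ⟨rfl, hdd⟩ := hdd
    have h := M.mul_mem (M.mul_mem hy hdd) (M.inv_mem hy)
    rw [show yG * (stv2 (E 0) ((μ * c) • Fv 1) * stv (E 0) dd) * yG⁻¹
        = yG * stv2 (E 0) ((μ * c) • Fv 1) * yG⁻¹ * (yG * stv (E 0) dd * yG⁻¹) by group,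
      stv2_conj yG_mem, stv_conj yG_mem, yG_e (by omega), Matrix.mulVec_smul,
      yG_fix (form_FF 1 0) (form_FF 1 1)] at h
    have h' := M.mul_mem h (M.inv_mem hdd)
    have hXf : fm (E 0) ((μ * c) • (Fv 1 : V)) = 0 := slop_form hX
    rwa [show stv2 (E 0 + Fv 1 : V) ((μ * c) • Fv 1) * stv (E 0 + Fv 1) dd
        * (stv2 (E 0) ((μ * c) • Fv 1) * stv (E 0) dd)⁻¹ = stv (E 0 + Fv 1) dd * stv (E 0) dd by
      rw [mul_inv_eq_iff_eq_mul]
      refine gl_ext_mulVec fun w => ?_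
      have e2 : fm (E 0 + Fv 1 : V) ((μ * c) • Fv 1) = 0 := by
        rw [CfsgLib.Symp.form_smul_right, CfsgLib.Symp.form_add_left, hp, CfsgLib.Symp.form_self, add_zero,
          mul_zero]
      simp only [mul_mulVec, stv2_mulVec hXf, stv2_mulVec e2, stv_mulVec, CfsgLib.Symp.form_add_left,
        CfsgLib.Symp.form_add_right, CfsgLib.Symp.form_smul_left, CfsgLib.Symp.form_smul_right,
        CfsgLib.Symp.form_self, hp, CfsgLib.Symp.form_swap (Fv 1 : V) (E 0)]
      match_scalars <;> (ring_nf; try simp [h2, show (3 : F) = 1 by linear_combination h2])] at h'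
  have hA' : ∀ δ : F, stv (Fv 1 : V) δ * stv (E 0) δ ∈ M := by
    intro δ
    have hu2 := M.mul_mem hu hu
    have h := M.mul_mem (M.mul_mem hu2 (hA δ)) (M.inv_mem hu2)
    rw [show uG * uG * (stv (E 0 + Fv 1) δ * stv (E 0) δ) * (uG * uG)⁻¹
        = uG * uG * stv (E 0 + Fv 1) δ * (uG * uG)⁻¹ * (uG * uG * stv (E 0) δ * (uG * uG)⁻¹) by group,
      stv_conj ((spGL n F).mul_mem uG_mem uG_mem), stv_conj ((spGL n F).mul_mem uG_mem uG_mem),
      mul_mulVec, mul_mulVec, uG_mulVec, uG_mulVec, uG_mulVec, uG_mulVec, uSp_E_zero, uSp_E_zero, smul_add,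
      uSp_E_zero, smul_p hn hu hy, smul_add, smul_sub, smul_add, uSp_E_zero, smul_p hn hu hy,
      smul_e_one hn hu hy] at h
    rwa [show (E 0 + (Fv 1 + E 1 - E 0 + (E 1 - E 0) - E 0) : V) = Fv 1 + ((2 : F) • E 1 - (2 : F) • E 0) by
      module, h2, zero_smul, zero_smul, sub_zero, add_zero] at h
  have hB : ∀ δ : F, stv2 (E 0 : V) (δ • Fv 1) * stv (E 0) δ ∈ M := by
    intro δ
    have h := M.mul_mem (hA δ) (hA' δ)
    have hf : fm (E 0) (δ • (Fv 1 : V)) = 0 := by rw [CfsgLib.Symp.form_smul_right, hp, mul_zero]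
    rwa [show stv (E 0 + Fv 1 : V) δ * stv (E 0) δ * (stv (Fv 1) δ * stv (E 0) δ)
        = stv2 (E 0) (δ • Fv 1) * stv (E 0) δ by
      refine gl_ext_mulVec fun w => ?_
      simp only [mul_mulVec, stv2_mulVec hf, stv_mulVec, CfsgLib.Symp.form_add_left,
        CfsgLib.Symp.form_add_right, CfsgLib.Symp.form_smul_left, CfsgLib.Symp.form_smul_right,
        CfsgLib.Symp.form_self, hp, CfsgLib.Symp.form_swap (Fv 1 : V) (E 0)]
      match_scalars <;> (ring_nf; try simp [h2, show (3 : F) = 1 by linear_combination h2])] at h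
  -- all long root elements
  obtain ⟨a, ha0, ha1⟩ := hq
  have hk : a ^ 2 + a ≠ 0 := fun e => by
    rcases mul_eq_zero.1 (show a * (a + 1) = 0 by linear_combination e) with h | h
    · exact ha0 h
    · exact ha1 (by linear_combination h - h2)
  have key : ∀ δ : F, δ * (a ^ 2 + a) ∈ longSet M := by
    intro δ
    have hg : stv (Fv 1 : V) δ * stv (E 0) δ ∈ M := hA' δ
    obtain ⟨hX, dd, hdd⟩ := hE a (mem_coef.2 (hP a))
    have h := M.mul_mem (M.mul_mem (M.mul_mem hdd hg) (M.inv_mem hdd)) (M.inv_mem hg)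
    have hgI : stv2 (E 0) (a • (E 1 : V)) * stv (E 0) dd ∈ spGL n F :=
      (spGL n F).mul_mem (stv2_mem _ _) (stv_mem _ _)
    set g := stv2 (E 0) (a • (E 1 : V)) * stv (E 0) dd with hgdef
    have hge : (g : Matrix (Fin n ⊕ Fin n) (Fin n ⊕ Fin n) F) *ᵥ (E 0) = E 0 := by
      rw [hgdef, mul_mulVec, stv_mulVec, stv2_mulVec hX]
      simp [CfsgLib.Symp.form_self, hX]
    have hgp : (g : Matrix (Fin n ⊕ Fin n) (Fin n ⊕ Fin n) F) *ᵥ (Fv 1) = Fv 1 + a • E 0 := by
      rw [hgdef, mul_mulVec, stv_mulVec, stv2_mulVec hX]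
      simp [CfsgLib.Symp.form_smul_right, form_FE, show 1 < n by omega]
    rw [show g * (stv (Fv 1 : V) δ * stv (E 0) δ) * g⁻¹ * (stv (Fv 1 : V) δ * stv (E 0) δ)⁻¹
        = g * stv (Fv 1 : V) δ * g⁻¹ * (g * stv (E 0) δ * g⁻¹) * ((stv (E 0) δ)⁻¹ * (stv (Fv 1 : V) δ)⁻¹)
        by group, stv_conj hgI, stv_conj hgI, hge, hgp, mul_assoc, ← mul_assoc (stv (E 0) δ), mul_inv_cancel,
      one_mul, stv_shift hp] at h
    have h' := M.mul_mem (M.inv_mem (hB (a * δ))) h
    rw [_root_.mul_inv_rev, mul_assoc, inv_mul_cancel_left, stv_inv, stv_add] at h'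
    show stv (E 0 : V) (δ * (a ^ 2 + a)) ∈ M
    convert h' using 2
    linear_combination a * δ * h2
  have := key (d / (a ^ 2 + a))
  rwa [div_mul_cancel₀ _ hk] at this

end two

end CfsgLib.Geo.SpThree
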