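/-
The tensor product subgroup inside `omegaGL`.
-/
import Cfsg.Agent.Geo.TensorOrthMaximal
import Cfsg.Agent.Geo.OrthTensorNonMax

set_option autoImplicit false

namespace CfsgLib.Geo.TensorO

open QuadraticMap CfsgLib.Forms CfsgLib.Quad CfsgLib.Geo.Tensor Matrix
open scoped Kronecker

variable {F : Type*} [Field F] {n n₁ n₂ : ℕ}

theorem even_card_of_symplectic {k : ℕ} {B : LinearMap.BilinForm F (Fin k → F)} (hB : B.Nondegenerate)
    (hA : B.IsAlt) : Even k := by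
  obtain ⟨m, r, bs, -, -, -, h4⟩ := exists_symplectic_basis _ (Fin k → F) B hA rfl
  have hr : r = 0 := by
    by_contra hr
    exact bs.ne_zero (Sum.inr ⟨0, by omega⟩) (hB.1 _ (h4 _))
  have h := Module.finrank_eq_card_basis bs
  simp [hr] at h
  exact ⟨m, by omega⟩

theorem nondeg_bilOfIs {k : ℕ} {f : (Fin k → F) → (Fin k → F) → F} (hf : Cfsg.Geo.IsSymplecticForm f)
    {c : F} (hc : c ≠ 0) : (c • CfsgLib.Geo.OS.bilOfIs hf.bilinear).Nondegenerate
      ∧ (c • CfsgLib.Geo.OS.bilOfIs hf.bilinear).IsAlt := by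
  refine ⟨⟨fun v hv => ?_, fun v hv => ?_⟩, fun v => ?_⟩
  · by_contra hv0
    obtain ⟨-, x, hx⟩ := hf.nondegenerate v hv0
    exact hx ((mul_eq_zero.1 (hv x)).resolve_left hc)
  · by_contra hv0
    obtain ⟨⟨x, hx⟩, -⟩ := hf.nondegenerate v hv0
    exact hx ((mul_eq_zero.1 (hv x)).resolve_left hc)
  · show c * f v v = 0
    rw [hf.alternating, mul_zero]

theorem formOfGram_ten {f₁ : (Fin n₁ → F) → (Fin n₁ → F) → F} {f₂ : (Fin n₂ → F) → (Fin n₂ → F) → F}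
    (hf₁ : Cfsg.Geo.IsBilinearForm f₁) (hf₂ : Cfsg.Geo.IsBilinearForm f₂)
    (u u' : Fin n₁ → F) (v v' : Fin n₂ → F) :
    Cfsg.Geo.formOfGram id (Cfsg.Geo.gramMatrix f₁ ⊗ₖ Cfsg.Geo.gramMatrix f₂) (ten u v) (ten u' v')
      = f₁ u u' * f₂ v v' := by
  rw [CfsgLib.Geo.OS.bilinearForm_eq_sum hf₁ u u', CfsgLib.Geo.OS.bilinearForm_eq_sum hf₂ v v', mul_comm]
  simp only [Cfsg.Geo.formOfGram, Matrix.kroneckerMap_apply, id_eq, ten, Fintype.sum_prod_type,
    Finset.sum_mul, Finset.mul_sum]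
  refine Finset.sum_congr rfl fun a _ => ?_
  rw [Finset.sum_comm]
  exact Finset.sum_congr rfl fun _ _ => Finset.sum_congr rfl fun _ _ =>
    Finset.sum_congr rfl fun _ _ => by ring

theorem tensor_symplectic_maximal [Finite F] (hn : 12 ≤ n) (Q : QuadraticForm F (Fin n → F))
    (h12 : n₁ < n₂) (hex : ¬ (Nat.card F = 2 ∧ n₁ = 2)) (e : Fin n ≃ Fin n₁ × Fin n₂)
    (P : GL (Fin n) F) {f₁ : (Fin n₁ → F) → (Fin n₁ → F) → F} {f₂ : (Fin n₂ → F) → (Fin n₂ → F) → F}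
    (hf₁ : Cfsg.Geo.IsSymplecticForm f₁) (hf₂ : Cfsg.Geo.IsSymplecticForm f₂)
    (hT : Cfsg.Geo.IsTensorFormStructure id (QuadraticMap.polar Q) f₁ f₂ e P)
    (hpure : ∀ (x₁ : Fin n₁ → F) (x₂ : Fin n₂ → F),
      Q ((P : Matrix (Fin n) (Fin n) F) *ᵥ ((fun a : Fin n₁ × Fin n₂ => x₁ a.1 * x₂ a.2) ∘ e)) = 0) :
    Cfsg.Geo.IsMaximalIn (Cfsg.Geo.omegaGL ⇑Q)
      (Cfsg.Geo.tensorProductSubgroup n₁ n₂ e P ⊓ Cfsg.Geo.omegaGL ⇑Q) := by
  classical
  obtain ⟨c, hc, hform⟩ := hT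
  let L : (Fin n₁ × Fin n₂ → F) ≃ₗ[F] (Fin n → F) :=
    (LinearEquiv.funCongrLeft F F e).trans (CfsgLib.Geo.glEquiv P)
  have hL : ∀ x, L x = (P : Matrix (Fin n) (Fin n) F) *ᵥ (x ∘ e) := fun x => CfsgLib.Geo.glEquiv_apply P (x ∘ e)
  let Q' : QuadraticForm F (Fin n₁ × Fin n₂ → F) := Q.comp (L : (Fin n₁ × Fin n₂ → F) →ₗ[F] (Fin n → F))
  obtain ⟨hbn, hba⟩ := nondeg_bilOfIs hf₁ hc
  obtain ⟨hon, hoa⟩ := nondeg_bilOfIs hf₂ (one_ne_zero (α := F))
  set b := c • CfsgLib.Geo.OS.bilOfIs hf₁.bilinear with hb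
  set om := (1 : F) • CfsgLib.Geo.OS.bilOfIs hf₂.bilinear with hom
  have hTQ : IsTQ Q' b om := by
    refine ⟨hbn, hba, hon, hoa, fun u v u' v' => ?_, fun u v => hpure u v⟩
    show Q (L (ten u v + ten u' v')) - Q (L (ten u v)) - Q (L (ten u' v')) = _
    rw [map_add]
    refine (hform (ten u v) (ten u' v')).trans ?_
    rw [formOfGram_ten hf₁.bilinear hf₂.bilinear]
    show _ = (c * f₁ u u') * (1 * f₂ v v')
    ring
  have hcard := Fintype.card_congr e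
  simp at hcard
  have he1 : Even n₁ := even_card_of_symplectic hbn hba
  have he2 : Even n₂ := even_card_of_symplectic hon hoa
  have h1 : 2 ≤ n₁ := by
    obtain ⟨k, rfl⟩ := he1
    rcases Nat.eq_zero_or_pos k with rfl | hk
    · simp at hcard; omega
    · omega
  have h12' : n₁ + 1 < n₂ := by
    obtain ⟨k, rfl⟩ := he1
    obtain ⟨l, rfl⟩ := he2
    omega
  have h6 : 6 ≤ n₂ := by
    by_contra h
    obtain ⟨l, rfl⟩ := he2
    have : n₁ * (l + l) ≤ 2 * 4 := Nat.mul_le_mul (by omega) (by omega)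
    omega
  have hmax := tensor_maximal hTQ (by simpa using h1) (by simpa using h6)
    (by simpa [and_comm] using hex) (by simpa using h12')
  let ψ : oGroup Q' →* GL (Fin n) F :=
    ((Cfsg.isometryGroup F ⇑Q).subtype.comp (isoGroupEquiv Q).symm.toMonoidHom).comp
      (oGroupCongr (Q := Q') (Q' := Q) L fun v => rfl).toMonoidHom
  have hψinj : Function.Injective ψ :=
    (Subtype.val_injective.comp (isoGroupEquiv Q).symm.injective).comp
      (oGroupCongr (Q := Q') (Q' := Q) L fun v => rfl).injective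
  have hψ : ∀ (g : oGroup Q') x, (ψ g : Matrix (Fin n) (Fin n) F) *ᵥ L x = L (g.1 x) := by
    intro g x
    set h := oGroupCongr (Q := Q') (Q' := Q) L (fun v => rfl) g with hh
    have h1 := (isoGroupEquiv_eq_iff Q ((isoGroupEquiv Q).symm h) h).1 ((isoGroupEquiv Q).apply_symm_apply h) (L x)
    refine h1.trans ?_
    show L (g.1 (L.symm (L x))) = _
    rw [L.symm_apply_apply]
  have hK : (commutator (oGroup Q')).map ψ = Cfsg.Geo.omegaGL ⇑Q := by
    rw [← Subgroup.map_map, commutator_def, Subgroup.map_commutator,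
      Subgroup.map_top_of_surjective _ (oGroupCongr (Q := Q') (Q' := Q) L fun v => rfl).surjective,
      ← Subgroup.map_map, Subgroup.map_commutator,
      Subgroup.map_top_of_surjective _ (isoGroupEquiv Q).symm.surjective]
    rfl
  have hKron : ∀ g : oGroup Q', g ∈ tenStab Q' ↔ ψ g ∈ Cfsg.Geo.tensorProductSubgroup n₁ n₂ e P := by
    intro g
    have hT' : Cfsg.Geo.tensorProductSubgroup n₁ n₂ e P
        = (Cfsg.Geo.kroneckerSubgroup n₁ n₂ F).map (glTransport e P).toMonoidHom := by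
      rw [Cfsg.Geo.tensorProductSubgroup, Subgroup.map_map]
      rfl
    have htr : ∀ (k : GL (Fin n₁ × Fin n₂) F) x, ((glTransport e P k : GL (Fin n) F) : Matrix (Fin n) (Fin n) F) *ᵥ L x
        = L ((k : Matrix (Fin n₁ × Fin n₂) (Fin n₁ × Fin n₂) F) *ᵥ x) := by
      intro k x
      show ((P * Cfsg.Geo.glReindex e.symm k * P⁻¹ : GL (Fin n) F) : Matrix (Fin n) (Fin n) F) *ᵥ L x = _
      rw [hL, hL, CfsgLib.Geo.mul_mulVec, CfsgLib.Geo.mul_mulVec, CfsgLib.Geo.inv_mulVec_mulVec]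
      congr 1
      show (Matrix.reindexAlgEquiv F F e.symm (k : Matrix (Fin n₁ × Fin n₂) (Fin n₁ × Fin n₂) F)) *ᵥ (x ∘ e) = _
      rw [Matrix.reindexAlgEquiv_apply, Matrix.reindex_apply, Matrix.submatrix_mulVec_equiv, Equiv.symm_symm]
      congr 1
      rw [Function.comp_assoc, Equiv.self_comp_symm, Function.comp_id]
    rw [hT']
    constructor
    · rintro ⟨a, d, hg⟩
      obtain ⟨a', ha'⟩ := exists_gl (a : (Fin n₁ → F) →ₗ[F] (Fin n₁ → F)) a.injective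
      obtain ⟨d', hd'⟩ := exists_gl (d : (Fin n₂ → F) →ₗ[F] (Fin n₂ → F)) d.injective
      refine ⟨kr a' d', kr_mem a' d', ?_⟩
      refine CfsgLib.Geo.gl_ext_mulVec fun y => ?_
      obtain ⟨x, rfl⟩ := L.surjective y
      show ((glTransport e P (kr a' d') : GL (Fin n) F) : Matrix (Fin n) (Fin n) F) *ᵥ L x = _
      rw [htr, hψ]
      congr 1
      exact LinearMap.congr_fun (map_ext (S := Matrix.mulVecLin (kr a' d' : Matrix (Fin n₁ × Fin n₂) (Fin n₁ × Fin n₂) F))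
        (T := (g.1 : (Fin n₁ × Fin n₂ → F) →ₗ[F] (Fin n₁ × Fin n₂ → F))) fun u v => by
          simp [kr_ten, ha', hd', hg]) x
    · rintro ⟨k, hk, hkg⟩
      obtain ⟨a, d, rfl⟩ := exists_kr hk
      refine ⟨CfsgLib.Geo.glEquiv a, CfsgLib.Geo.glEquiv d, fun u v => L.injective ?_⟩
      rw [← hψ, ← hkg]
      show ((glTransport e P (kr a d) : GL (Fin n) F) : Matrix (Fin n) (Fin n) F) *ᵥ L (ten u v) = _
      rw [htr, kr_ten, glEquiv_apply, glEquiv_apply]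
  have hH : (tenStab Q' ⊓ commutator (oGroup Q')).map ψ
      = Cfsg.Geo.tensorProductSubgroup n₁ n₂ e P ⊓ Cfsg.Geo.omegaGL ⇑Q := by
    rw [← hK]
    ext y
    constructor
    · rintro ⟨g, ⟨hg1, hg2⟩, rfl⟩
      exact ⟨(hKron g).1 hg1, g, hg2, rfl⟩
    · rintro ⟨hy, g, hg, rfl⟩
      exact ⟨g, ⟨(hKron g).2 hy, hg⟩, rfl⟩
  rw [← hH, ← hK]
  refine ⟨(Subgroup.map_lt_map_iff_of_injective hψinj).2 hmax.1, fun M hM hMK => ?_⟩
  have hM' : M = (M.comap ψ).map ψ := by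
    rw [Subgroup.map_comap_eq, inf_eq_right.2 (hMK.trans (Subgroup.map_le_range ψ _))]
  rw [hM'] at hM hMK ⊢
  rcases hmax.2 _ ((Subgroup.map_le_map_iff_of_injective hψinj).1 hM)
    ((Subgroup.map_le_map_iff_of_injective hψinj).1 hMK) with h' | h'
  · exact Or.inl (by rw [h'])
  · exact Or.inr (by rw [h'])

end CfsgLib.Geo.TensorO
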