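import Cfsg.Agent.Geo.SpinorWreathCore
import Cfsg.Agent.Geo.TensorOrthBridge

/-!
In characteristic two the stabiliser of a tensor power of symplectic planes, or four-spaces, in `Ω`
is not maximal.
-/

set_option autoImplicit false
set_option linter.unusedSectionVars false

namespace CfsgLib.Geo.SpinWreath

open Matrix CfsgLib.Aschbacher QuadraticMap
open scoped MatrixGroups

variable {F : Type*} [Field F] [CharP F 2]

theorem alternating_of_congr {κ : Type} [Fintype κ] [DecidableEq κ] {A B : Matrix κ κ F} (a : GL κ F)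
    (h : (a : Matrix κ κ F)ᵀ * A * (a : Matrix κ κ F) = B) (hs : Bᵀ = B) (hd : ∀ i, B i i = 0) :
    Aᵀ = A ∧ ∀ i, A i i = 0 := by
  have hA : A = ((a⁻¹ : GL κ F) : Matrix κ κ F)ᵀ * B * ((a⁻¹ : GL κ F) : Matrix κ κ F) := by
    rw [← h]
    simp only [mul_assoc, Units.mul_inv, mul_one]
    rw [← mul_assoc, ← Matrix.transpose_mul, Units.mul_inv, Matrix.transpose_one, one_mul]
  refine ⟨by rw [hA, Matrix.transpose_mul, Matrix.transpose_mul, hs, Matrix.transpose_transpose, mul_assoc],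
    fun i => ?_⟩
  set N := ((a⁻¹ : GL κ F) : Matrix κ κ F) with hN
  have : A i i = ∑ r, ∑ s, N r i * B r s * N s i := by
    rw [hA, Matrix.mul_apply, Finset.sum_comm]
    refine Finset.sum_congr rfl fun s _ => ?_
    rw [Matrix.mul_apply, Finset.sum_mul]
    rfl
  rw [this, ← Fintype.sum_prod_type' (f := fun r s => N r i * B r s * N s i)]
  refine Finset.sum_involution (fun p _ => (p.2, p.1)) (fun p _ => ?_) (fun p _ hp => ?_)
    (fun p _ => Finset.mem_univ _) (fun p _ => rfl)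
  · have : B p.2 p.1 = B p.1 p.2 := congrFun (congrFun hs p.1) p.2
    rw [this]
    linear_combination CharTwo.add_self_eq_zero (N p.1 i * B p.1 p.2 * N p.2 i)
  · intro he
    have : p.2 = p.1 := congrArg Prod.fst he
    rw [this, hd] at hp
    simp at hp

/-- The slot data of a symplectic plane. -/
def dataTwo : SlotData 2 F Unit where
  J := !![0, 1; 1, 0]
  u _ := !![0, 1; 0, 0]
  u' _ := !![0, 0; 1, 0]
  J_unit := IsUnit.of_mul_eq_one !![(0 : F), 1; 1, 0] (by simp [Matrix.one_fin_two])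
  J_symm := by ext i j; fin_cases i <;> fin_cases j <;> rfl
  J_diag := fun i => by fin_cases i <;> rfl
  u_sq _ := by ext i j; fin_cases i <;> fin_cases j <;> simp
  u'_sq _ := by ext i j; fin_cases i <;> fin_cases j <;> simp
  anti _ := by ext i j; fin_cases i <;> fin_cases j <;> simp
  comm_uu b c h := absurd rfl h
  comm_uu' b c h := absurd rfl h
  comm_u'u' b c h := absurd rfl h
  u_adj _ := by ext i j; fin_cases i <;> fin_cases j <;> simp [Matrix.mul_apply, Fin.sum_univ_two]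
  u'_adj _ := by ext i j; fin_cases i <;> fin_cases j <;> simp [Matrix.mul_apply, Fin.sum_univ_two]
  u_off _ := ⟨0, 1, by simp, by simp⟩
  conj a s _ _ m hm := by
    set M := (a : Matrix (Fin 2) (Fin 2) F) * m * ((a⁻¹ : GL (Fin 2) F) : Matrix (Fin 2) (Fin 2) F) with hM
    have htr : M.trace = 0 := by
      rw [hM, Matrix.trace_units_conj]
      rcases hm with ⟨b, rfl⟩ | ⟨b, rfl⟩ <;> simp [Matrix.trace_fin_two]
    rw [Matrix.trace_fin_two] at htr
    have h11 : M 1 1 = M 0 0 := by linear_combination htr - CharTwo.add_self_eq_zero (M 0 0)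
    have hMe : M = M 0 0 • (1 : Matrix (Fin 2) (Fin 2) F) + M 0 1 • !![0, 1; 0, 0] + M 1 0 • !![0, 0; 1, 0] := by
      ext i j; fin_cases i <;> fin_cases j <;> simp [h11]
    rw [hMe]
    exact add_mem (add_mem (Submodule.smul_mem _ _ (Submodule.subset_span (Or.inl rfl)))
      (Submodule.smul_mem _ _ (Submodule.subset_span (Or.inr (Or.inl ⟨(), rfl⟩)))))
      (Submodule.smul_mem _ _ (Submodule.subset_span (Or.inr (Or.inr ⟨(), rfl⟩))))

/-- The creation operators of a symplectic four-space. -/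
def uFour : Fin 2 → Matrix (Fin 4) (Fin 4) F :=
  ![!![0, 1, 0, 0; 0, 0, 0, 0; 0, 0, 0, 1; 0, 0, 0, 0],
    !![0, 0, 1, 0; 0, 0, 0, 1; 0, 0, 0, 0; 0, 0, 0, 0]]

/-- The annihilation operators of a symplectic four-space. -/
def uFour' : Fin 2 → Matrix (Fin 4) (Fin 4) F :=
  ![!![0, 0, 0, 0; 1, 0, 0, 0; 0, 0, 0, 0; 0, 0, 1, 0],
    !![0, 0, 0, 0; 0, 0, 0, 0; 1, 0, 0, 0; 0, 1, 0, 0]]

/-- The anti-diagonal Gram matrix. -/
def jFour : Matrix (Fin 4) (Fin 4) F :=
  !![0, 0, 0, 1; 0, 0, 1, 0; 0, 1, 0, 0; 1, 0, 0, 0]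

theorem four_form {M : Matrix (Fin 4) (Fin 4) F} (hsq : M * M = 0) (hs : (jFour * M)ᵀ = jFour * M)
    (hd : ∀ i, (jFour * M : Matrix (Fin 4) (Fin 4) F) i i = 0) :
    M ∈ Submodule.span F (insert 1 (Set.range uFour ∪ Set.range uFour')) := by
  have e : ∀ r c : Fin 4, (jFour * M : Matrix (Fin 4) (Fin 4) F) r c = M r.rev c := fun r c => by
    rw [Matrix.mul_apply, Fin.sum_univ_four]
    fin_cases r <;> simp [jFour, Fin.rev]
  have s : ∀ r c : Fin 4, M r.rev c = M c.rev r := fun r c => by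
    rw [← e, ← e]; conv_lhs => rw [← hs]
    rfl
  have d : ∀ r : Fin 4, M r.rev r = 0 := fun r => by rw [← e]; exact hd r
  have h30 : M 3 0 = 0 := d 0
  have h21 : M 2 1 = 0 := d 1
  have h12 : M 1 2 = 0 := d 2
  have h03 : M 0 3 = 0 := d 3
  have h31 : M 3 1 = M 2 0 := s 0 1
  have h32 : M 3 2 = M 1 0 := s 0 2
  have h33 : M 3 3 = M 0 0 := s 0 3
  have h22 : M 2 2 = M 1 1 := s 1 2
  have h23 : M 2 3 = M 0 1 := s 1 3
  have h13 : M 1 3 = M 0 2 := s 2 3
  have q0 := congrFun (congrFun hsq 0) 0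
  have q1 := congrFun (congrFun hsq 1) 1
  rw [Matrix.mul_apply, Fin.sum_univ_four, Matrix.zero_apply] at q0 q1
  rw [h03, zero_mul, add_zero] at q0
  rw [h12, h13, h31, zero_mul, add_zero] at q1
  have hpow : (M 0 0 + M 1 1) ^ 2 = 0 := by
    linear_combination q0 + q1 - CharTwo.add_self_eq_zero (M 0 1 * M 1 0 + M 0 2 * M 2 0) +
      CharTwo.add_self_eq_zero (M 0 0 * M 1 1)
  have h11 : M 1 1 = M 0 0 := by
    linear_combination (pow_eq_zero_iff two_ne_zero).1 hpow - CharTwo.add_self_eq_zero (M 0 0)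
  have hMe : M = M 0 0 • (1 : Matrix (Fin 4) (Fin 4) F) + M 0 1 • uFour 0 + M 0 2 • uFour 1 +
      M 1 0 • uFour' 0 + M 2 0 • uFour' 1 := by
    ext i j
    fin_cases i <;> fin_cases j <;>
      simp [uFour, uFour', h30, h21, h12, h03, h31, h32, h33, h22, h23, h13, h11]
  rw [hMe]
  have hu : ∀ b, uFour b ∈ Submodule.span F (insert 1 (Set.range (uFour (F := F)) ∪ Set.range uFour')) :=
    fun b => Submodule.subset_span (Or.inr (Or.inl ⟨b, rfl⟩))
  have hu' : ∀ b, uFour' b ∈ Submodule.span F (insert 1 (Set.range (uFour (F := F)) ∪ Set.range uFour')) :=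
    fun b => Submodule.subset_span (Or.inr (Or.inr ⟨b, rfl⟩))
  exact add_mem (add_mem (add_mem (add_mem (Submodule.smul_mem _ _ (Submodule.subset_span (Or.inl rfl)))
    (Submodule.smul_mem _ _ (hu 0))) (Submodule.smul_mem _ _ (hu 1))) (Submodule.smul_mem _ _ (hu' 0)))
    (Submodule.smul_mem _ _ (hu' 1))

set_option maxHeartbeats 1000000 in
/-- The slot data of a symplectic four-space. -/
def dataFour : SlotData 4 F (Fin 2) where
  J := jFour
  u := uFour
  u' := uFour'
  J_unit := IsUnit.of_mul_eq_one jFour (by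
    ext i j; fin_cases i <;> fin_cases j <;> simp [jFour, Matrix.mul_apply, Fin.sum_univ_four])
  J_symm := by ext i j; fin_cases i <;> fin_cases j <;> rfl
  J_diag := fun i => by fin_cases i <;> rfl
  u_sq b := by
    ext i j; fin_cases b <;> fin_cases i <;> fin_cases j <;> simp [uFour, Matrix.mul_apply, Fin.sum_univ_four]
  u'_sq b := by
    ext i j; fin_cases b <;> fin_cases i <;> fin_cases j <;> simp [uFour', Matrix.mul_apply, Fin.sum_univ_four]
  anti b := by
    ext i j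
    fin_cases b <;> fin_cases i <;> fin_cases j <;> simp [uFour, uFour', Matrix.mul_apply, Fin.sum_univ_four]
  comm_uu b c h := by
    ext i j
    fin_cases b <;> fin_cases c <;> fin_cases i <;> fin_cases j <;>
      simp [uFour, Matrix.mul_apply, Fin.sum_univ_four] at h ⊢
  comm_uu' b c h := by
    ext i j
    fin_cases b <;> fin_cases c <;> fin_cases i <;> fin_cases j <;>
      simp [uFour, uFour', Matrix.mul_apply, Fin.sum_univ_four] at h ⊢
  comm_u'u' b c h := by
    ext i j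
    fin_cases b <;> fin_cases c <;> fin_cases i <;> fin_cases j <;>
      simp [uFour', Matrix.mul_apply, Fin.sum_univ_four] at h ⊢
  u_adj b := by
    ext i j
    fin_cases b <;> fin_cases i <;> fin_cases j <;> simp [uFour, jFour, Matrix.mul_apply, Fin.sum_univ_four]
  u'_adj b := by
    ext i j
    fin_cases b <;> fin_cases i <;> fin_cases j <;> simp [uFour', jFour, Matrix.mul_apply, Fin.sum_univ_four]
  u_off b := by
    fin_cases b
    · exact ⟨0, 1, by decide, by simp [uFour]⟩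
    · exact ⟨0, 2, by decide, by simp [uFour]⟩
  conj a s hs ha m hm := by
    have hm2 : m * m = 0 ∧ (jFour * m)ᵀ = jFour * m ∧
        ∀ i, (jFour * m : Matrix (Fin 4) (Fin 4) F) i i = 0 := by
      rcases hm with ⟨b, rfl⟩ | ⟨b, rfl⟩ <;> refine ⟨?_, ?_, fun i => ?_⟩
      all_goals try ext i j
      all_goals fin_cases b <;> fin_cases i
      all_goals try fin_cases j
      all_goals simp [uFour, uFour', jFour, Matrix.mul_apply, Fin.sum_univ_four]
    obtain ⟨h0, h1, h2⟩ := hm2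
    set M := (a : Matrix (Fin 4) (Fin 4) F) * m * ((a⁻¹ : GL (Fin 4) F) : Matrix (Fin 4) (Fin 4) F) with hM
    have hsq : M * M = 0 := by
      calc M * M = (a : Matrix (Fin 4) (Fin 4) F) * (m * m) * ((a⁻¹ : GL (Fin 4) F) : Matrix (Fin 4) (Fin 4) F) := by
            rw [hM]; simp only [mul_assoc]; rw [← mul_assoc _ (a : Matrix (Fin 4) (Fin 4) F), Units.inv_mul, one_mul]
        _ = 0 := by rw [h0, mul_zero, zero_mul]
    obtain ⟨hsym, hdiag⟩ := alternating_of_congr (A := jFour * M) (B := s • (jFour * m)) a (by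
      calc (a : Matrix (Fin 4) (Fin 4) F)ᵀ * (jFour * M) * (a : Matrix (Fin 4) (Fin 4) F)
          = (a : Matrix (Fin 4) (Fin 4) F)ᵀ * jFour * (a : Matrix (Fin 4) (Fin 4) F) * m := by
            simp only [hM, mul_assoc, Units.inv_mul, mul_one]
        _ = s • (jFour * m) := by rw [ha, smul_mul_assoc])
      (by rw [Matrix.transpose_smul, h1]) (fun i => by rw [Matrix.smul_apply, h2, smul_zero])
    exact four_form hsq hsym hdiag

variable {ι : Type} [Fintype ι] [DecidableEq ι]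

theorem tensorWreath_mul_right {t k : ℕ} (e : ι ≃ (Fin t → Fin k)) (P : GL ι F)
    {R : GL (Fin t → Fin k) F} (hR : R ∈ Cfsg.Geo.tensorWreathStandard k t F) :
    Cfsg.Geo.tensorWreathSubgroup k t e (P * Cfsg.Geo.glReindex e.symm R) =
      Cfsg.Geo.tensorWreathSubgroup k t e P := by
  ext h
  simp only [Cfsg.Geo.tensorWreathSubgroup, Subgroup.mem_map]
  constructor
  · rintro ⟨_, ⟨s, hs, rfl⟩, rfl⟩
    refine ⟨_, ⟨R * s * R⁻¹, mul_mem (mul_mem hR hs) (inv_mem hR), rfl⟩, ?_⟩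
    simp [map_mul, mul_assoc, MulAut.conj_apply]
  · rintro ⟨_, ⟨s, hs, rfl⟩, rfl⟩
    refine ⟨_, ⟨R⁻¹ * s * R, mul_mem (mul_mem (inv_mem hR) hs) hR, rfl⟩, ?_⟩
    simp [map_mul, mul_assoc, MulAut.conj_apply]

theorem exists_std_basis {k m : ℕ} {f : (Fin k → F) → (Fin k → F) → F}
    (hf : Cfsg.Geo.IsSymplecticForm f) (hk : k = m + m) (σ : Fin k ≃ Fin m ⊕ Fin m) :
    ∃ C : GL (Fin k) F, (C : Matrix (Fin k) (Fin k) F)ᵀ * Cfsg.Geo.gramMatrix f * (C : Matrix (Fin k) (Fin k) F) =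
      Matrix.of fun r s => match σ r, σ s with
        | Sum.inl i, Sum.inr j => if i = j then 1 else 0
        | Sum.inr i, Sum.inl j => if j = i then 1 else 0
        | _, _ => 0 := by
  classical
  let Bf := CfsgLib.Geo.OS.bilOfIs hf.bilinear
  obtain ⟨hnd, halt⟩ := CfsgLib.Geo.TensorO.nondeg_bilOfIs hf (one_ne_zero (α := F))
  rw [one_smul] at hnd halt
  obtain ⟨m', r, bs, h1, h2, h3, h4⟩ := CfsgLib.Forms.exists_symplectic_basis _ (Fin k → F) Bf halt rfl
  have hr : r = 0 := by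
    by_contra hr
    exact bs.ne_zero (Sum.inr ⟨0, Nat.pos_of_ne_zero hr⟩) (hnd.1 _ (h4 _))
  subst hr
  have hmm : m' = m := by
    have h := Module.finrank_eq_card_basis bs
    simp at h
    omega
  subst hmm
  let b : Module.Basis (Fin k) F (Fin k → F) :=
    bs.reindex ((Equiv.sumEmpty (Fin m' ⊕ Fin m') (Fin 0)).trans σ.symm)
  let C : Matrix (Fin k) (Fin k) F := (Pi.basisFun F (Fin k)).toMatrix b
  have hC : IsUnit C := IsUnit.of_mul_eq_one (b.toMatrix (Pi.basisFun F (Fin k)))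
    (Module.Basis.toMatrix_mul_toMatrix_flip _ _)
  refine ⟨hC.unit, ?_⟩
  rw [IsUnit.unit_spec]
  have hcol : ∀ r, C *ᵥ Pi.single r 1 = b r := fun r => by
    rw [mulVec_single_one]; funext i; simp [C, Module.Basis.toMatrix_apply]
  ext r s
  have hentry : (Cᵀ * Cfsg.Geo.gramMatrix f * C) r s = f (b r) (b s) := by
    rw [CfsgLib.Geo.OS.bilinearForm_eq_sum hf.bilinear, ← hcol, ← hcol]
    simp only [mulVec_single_one, Matrix.col_apply, Matrix.mul_apply, Matrix.transpose_apply,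
      Finset.sum_mul]
    exact Finset.sum_comm
  rw [hentry, Matrix.of_apply]
  have hb : ∀ r, b r = bs (Sum.inl (σ r)) := fun r => by simp [b]
  rw [hb, hb]
  rcases σ r with i | i <;> rcases σ s with j | j
  · exact h2 i j
  · exact h1 i j
  · show Bf (bs (Sum.inl (Sum.inr i))) (bs (Sum.inl (Sum.inl j))) = _
    rw [← halt.neg_eq, CharTwo.neg_eq, h1]
  · exact h3 i j

theorem nonmax [Finite F] {n : ℕ} (hn : 13 ≤ n) (Q : (Fin n → F) → F)
    (hQ : Cfsg.Geo.IsNondegenerateQuadraticForm Q) (k t : ℕ) (ht : 2 ≤ t) (hk : k ≤ 4)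
    (e : Fin n ≃ (Fin t → Fin k)) (P : GL (Fin n) F) (f₁ : (Fin k → F) → (Fin k → F) → F)
    (hf₁ : Cfsg.Geo.IsSymplecticForm f₁)
    (hT : Cfsg.Geo.IsTensorPowerFormStructure id (QuadraticMap.polar Q) f₁ e P)
    (hpure : ∀ xs : Fin t → (Fin k → F),
      Q (Matrix.mulVec (P : Matrix (Fin n) (Fin n) F) ((fun a : Fin t → Fin k => ∏ i, xs i (a i)) ∘ e)) = 0) :
    ∃ K : Subgroup (GL (Fin n) F),
      Cfsg.Geo.tensorWreathSubgroup k t e P ⊓ Cfsg.Geo.omegaGL Q < K ∧ K < Cfsg.Geo.omegaGL Q := by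
  classical
  obtain ⟨c, hc, hT⟩ := hT
  have hcard : n = k ^ t := by simpa using Fintype.card_congr e
  have hkeven : Even k := by
    obtain ⟨hnd, halt⟩ := CfsgLib.Geo.TensorO.nondeg_bilOfIs hf₁ (one_ne_zero (α := F))
    exact CfsgLib.Geo.TensorO.even_card_of_symplectic hnd halt
  -- changing the basis of the factor
  suffices key : ∀ (C : GL (Fin k) F) {B : Type} (D : SlotData k F B),
      (C : Matrix (Fin k) (Fin k) F)ᵀ * Cfsg.Geo.gramMatrix f₁ * (C : Matrix (Fin k) (Fin k) F) = D.J →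
      ∀ (p₁ p₂ p₃ p₄ : Fin t × B), p₃.1 ≠ p₁.1 → p₄.1 ≠ p₁.1 → p₃.1 ≠ p₂.1 → p₁ ≠ p₂ → p₂ ≠ p₄ → p₃ ≠ p₄ →
      (p₂.1 = p₁.1 → ∀ x, (D.J * D.u' p₂.2) x x = 0) →
      ∃ K : Subgroup (GL (Fin n) F),
        Cfsg.Geo.tensorWreathSubgroup k t e P ⊓ Cfsg.Geo.omegaGL Q < K ∧ K < Cfsg.Geo.omegaGL Q by
    obtain ⟨m, rfl⟩ := hkeven
    have hm : m = 1 ∨ m = 2 := by
      rcases Nat.eq_zero_or_pos m with rfl | hm
      · rw [zero_add, zero_pow (by omega)] at hcard; omega
      · omega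
    rcases hm with rfl | rfl
    · have ht4 : 4 ≤ t := by
        by_contra h
        have : (1 + 1) ^ t ≤ 2 ^ 3 := Nat.pow_le_pow_right (by norm_num) (by omega)
        omega
      obtain ⟨C, hC⟩ := exists_std_basis hf₁ rfl (finSumFinEquiv (m := 1) (n := 1)).symm
      refine key C dataTwo (hC.trans ?_) (⟨0, by omega⟩, ()) (⟨1, by omega⟩, ()) (⟨2, by omega⟩, ())
        (⟨3, by omega⟩, ()) (by simp) (by simp) (by simp) (by simp) (by simp) (by simp)
        (fun h => absurd h (by simp))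
      ext r s; fin_cases r <;> fin_cases s <;> simp [dataTwo, finSumFinEquiv, Fin.addCases]
    · obtain ⟨C, hC⟩ := exists_std_basis hf₁ rfl
        ((Equiv.swap (2 : Fin (2 + 2)) 3).trans (finSumFinEquiv (m := 2) (n := 2)).symm)
      refine key C dataFour (hC.trans ?_) (⟨0, by omega⟩, 0) (⟨0, by omega⟩, 1) (⟨1, by omega⟩, 0)
        (⟨1, by omega⟩, 1) (by simp) (by simp) (by simp) (by simp) (by simp) (by simp) fun _ x => ?_
      · ext r s; fin_cases r <;> fin_cases s <;>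
          simp [dataFour, jFour, finSumFinEquiv, Fin.addCases, Equiv.swap_apply_def]
      · fin_cases x <;> simp [dataFour, jFour, uFour', Matrix.mul_apply, Fin.sum_univ_four]
  intro C B D hC p₁ p₂ p₃ p₄ h31 h41 h32 h12 h24 h34 hdY
  set R : GL (Fin t → Fin k) F := tensUnit fun _ => C with hR
  have hRS : R ∈ Cfsg.Geo.tensorWreathStandard k t F :=
    Subgroup.subset_closure (Or.inl ⟨fun _ => C, fun _ _ => rfl⟩)
  rw [← tensorWreath_mul_right e P hRS]
  set P' := P * Cfsg.Geo.glReindex e.symm R with hP'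
  have hact : ∀ x : (Fin t → Fin k) → F, (P' : Matrix (Fin n) (Fin n) F) *ᵥ (x ∘ e) =
      (P : Matrix (Fin n) (Fin n) F) *ᵥ (((R : Matrix (Fin t → Fin k) (Fin t → Fin k) F) *ᵥ x) ∘ e) := fun x => by
    have h : (P' : Matrix (Fin n) (Fin n) F) = (P : Matrix (Fin n) (Fin n) F) *
        Matrix.reindex e.symm e.symm (R : Matrix (Fin t → Fin k) (Fin t → Fin k) F) := rfl
    rw [h, ← mulVec_mulVec, Matrix.reindex_apply, Equiv.symm_symm, Matrix.submatrix_mulVec_equiv]
    simp [Function.comp_assoc]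
  refine D.main Q e P' hc (fun x y => ?_) hQ.smul (fun xs => ?_) p₁ p₂ p₃ p₄ h31 h41 h32 h12 h24 h34 hdY
  · rw [hact x, hact y, hact (x + y), mulVec_add]
    set x' := (R : Matrix (Fin t → Fin k) (Fin t → Fin k) F) *ᵥ x with hx'
    set y' := (R : Matrix (Fin t → Fin k) (Fin t → Fin k) F) *ᵥ y with hy'
    have h := hT x' y'
    rw [QuadraticMap.polar] at h
    rw [show (x' + y') ∘ e = x' ∘ e + y' ∘ e from rfl, mulVec_add]
    have hsum : ∑ a, ∑ b, x' a * (∏ i, Cfsg.Geo.gramMatrix f₁ (a i) (b i)) * id (y' b) =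
        x' ⬝ᵥ tens (fun _ => Cfsg.Geo.gramMatrix f₁) *ᵥ y' := by
      simp [dotProduct, mulVec, tens, Finset.mul_sum, mul_assoc]
    rw [hsum] at h
    have hJ : x' ⬝ᵥ tens (fun _ => Cfsg.Geo.gramMatrix f₁) *ᵥ y' = x ⬝ᵥ tens (fun _ => D.J) *ᵥ y := by
      rw [hx', hy', mulVec_mulVec, ← vecMul_transpose (R : Matrix (Fin t → Fin k) (Fin t → Fin k) F), ← dotProduct_mulVec,
        mulVec_mulVec, ← mul_assoc]
      rw [show (R : Matrix (Fin t → Fin k) (Fin t → Fin k) F) = tens fun _ => (C : Matrix (Fin k) (Fin k) F) from rfl,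
        tens_transpose, tens_mul, tens_mul, hC]
    rw [← hJ]
    linear_combination h
  · rw [hact]
    have : (R : Matrix (Fin t → Fin k) (Fin t → Fin k) F) *ᵥ (fun a : Fin t → Fin k => ∏ i, xs i (a i)) =
        fun a => ∏ i, ((C : Matrix (Fin k) (Fin k) F) *ᵥ xs i) (a i) := by
      funext a
      simp only [mulVec, dotProduct]
      rw [Fintype.prod_sum]
      refine Finset.sum_congr rfl fun b _ => ?_
      show (∏ i, (C : Matrix (Fin k) (Fin k) F) (a i) (b i)) * _ = _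
      rw [Finset.prod_mul_distrib]
    rw [this]
    exact hpure _

end CfsgLib.Geo.SpinWreath
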