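import Cfsg.Agent.Aschbacher.Form.Members

/-!
Clifford generators on a tensor power of a symplectic plane (or four-space) in characteristic two:
unipotent elements built from products of slot operators.
-/

set_option autoImplicit false
set_option linter.unusedSectionVars false

namespace CfsgLib.Geo.SpinWreath

open Matrix CfsgLib.Aschbacher
open scoped MatrixGroups commutatorElement

variable {F : Type*} [Field F] [CharP F 2] {κ : Type} [Fintype κ] [DecidableEq κ]

theorem mat_add_self (M : Matrix κ κ F) : M + M = 0 :=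
  Matrix.ext fun i j => by rw [Matrix.add_apply, Matrix.zero_apply, CharTwo.add_self_eq_zero]

/-- The unit `1 + N` for `N` of square zero. -/
def unip (N : Matrix κ κ F) (h : N * N = 0) : GL κ F :=
  have hmul : (1 + N) * (1 + N) = 1 := by
    rw [add_mul, one_mul, mul_add, mul_one, h, add_zero, add_assoc, mat_add_self, add_zero]
  ⟨1 + N, 1 + N, hmul, hmul⟩

@[simp] theorem unip_val (N : Matrix κ κ F) (h : N * N = 0) :
    (unip N h : Matrix κ κ F) = 1 + N := rfl

@[simp] theorem unip_inv_val (N : Matrix κ κ F) (h : N * N = 0) :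
    (((unip N h)⁻¹ : GL κ F) : Matrix κ κ F) = 1 + N := rfl

/-- The commutator of two such units. -/
theorem commutator_unip {X Y : Matrix κ κ F} (hX : X * X = 0) (hY : Y * Y = 0) (hXYX : X * Y * X = 0)
    (hYXY : Y * X * Y = 0) :
    ((⁅unip X hX, unip Y hY⁆ : GL κ F) : Matrix κ κ F) = 1 + (X * Y + Y * X) := by
  have h1 : (1 + X) * (1 + Y) = 1 + (X + Y + X * Y) := by noncomm_ring
  have h2 : (X + Y + X * Y) * (X + Y + X * Y) = X * Y + Y * X := by
    calc (X + Y + X * Y) * (X + Y + X * Y)
        = X * X + X * Y + X * X * Y + (Y * X + Y * Y + Y * X * Y) +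
          (X * Y * X + X * (Y * Y) + X * Y * X * Y) := by noncomm_ring
      _ = X * Y + Y * X := by rw [hX, hY, hXYX, hYXY]; simp
  rw [commutatorElement_def, Units.val_mul, Units.val_mul, Units.val_mul, unip_inv_val, unip_inv_val,
    unip_val, unip_val, mul_assoc ((1 + X) * (1 + Y)), h1]
  calc (1 + (X + Y + X * Y)) * (1 + (X + Y + X * Y))
      = 1 + ((X + Y + X * Y) + (X + Y + X * Y)) + (X + Y + X * Y) * (X + Y + X * Y) := by noncomm_ring
    _ = _ := by rw [mat_add_self, add_zero, h2]

/-- A unit `1 + N`, with `N` self-adjoint and of square zero, preserves a quadratic form killing the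
basis vectors if it kills their images. -/
theorem unip_isometry {q : (κ → F) → F} {Γ : Matrix κ κ F} {c : F}
    (hadd : ∀ x y, q (x + y) = q x + q y + c * (x ⬝ᵥ Γ *ᵥ y))
    (hsmul : ∀ (a : F) (x : κ → F), q (a • x) = a ^ 2 * q x)
    (hΓ : Γᵀ = Γ) {N : Matrix κ κ F} (hN : N * N = 0) (hsa : Nᵀ * Γ = Γ * N)
    (hcol : ∀ s, q (N *ᵥ Pi.single s 1) = 0) (hdiag : ∀ s, (Γ * N) s s = 0)
    (x : κ → F) : q ((1 + N) *ᵥ x) = q x := by
  let D : (κ → F) → F := fun x => q (N *ᵥ x) + c * (x ⬝ᵥ (Γ * N) *ᵥ x)
  have hD : ∀ x, q ((1 + N) *ᵥ x) = q x + D x := fun x => by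
    rw [Matrix.add_mulVec, Matrix.one_mulVec, hadd, mulVec_mulVec, add_assoc]
  have hsym : (Γ * N)ᵀ = Γ * N := by rw [Matrix.transpose_mul, hΓ, hsa]
  have hswap : ∀ a b : κ → F, a ⬝ᵥ (Γ * N) *ᵥ b = b ⬝ᵥ (Γ * N) *ᵥ a := fun a b => by
    rw [dotProduct_mulVec, dotProduct_comm, ← mulVec_transpose, hsym]
  have hDadd : ∀ a b, D (a + b) = D a + D b := fun a b => by
    have hz : (N *ᵥ a) ⬝ᵥ Γ *ᵥ (N *ᵥ b) = 0 := by
      rw [mulVec_mulVec, ← vecMul_transpose N, ← dotProduct_mulVec, mulVec_mulVec, ← mul_assoc,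
        hsa, mul_assoc, hN, mul_zero, zero_mulVec, dotProduct_zero]
    simp only [D]
    rw [mulVec_add, hadd, hz, mulVec_add, dotProduct_add, add_dotProduct, add_dotProduct, hswap b a]
    linear_combination c * CharTwo.add_self_eq_zero (a ⬝ᵥ (Γ * N) *ᵥ b)
  have hDsingle : ∀ s a, D (Pi.single s a) = 0 := fun s a => by
    rw [show (Pi.single s a : κ → F) = a • Pi.single s 1 by
      rw [← Pi.single_smul, smul_eq_mul, mul_one]]
    simp only [D]
    rw [mulVec_smul, hsmul, hcol, mulVec_smul, dotProduct_smul, smul_dotProduct, single_dotProduct,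
      mulVec_single_one, Matrix.col_apply, hdiag]
    simp
  have hD0 : D 0 = 0 := by
    have h := hDadd 0 0
    rw [add_zero, CharTwo.add_self_eq_zero] at h
    exact h
  rw [hD, ← Finset.univ_sum_single x]
  have : ∀ T : Finset κ, D (∑ i ∈ T, Pi.single i (x i)) = 0 := fun T => by
    induction T using Finset.induction_on with
    | empty => rw [Finset.sum_empty, hD0]
    | insert i T hi ih => rw [Finset.sum_insert hi, hDadd, hDsingle, ih, add_zero]
  rw [this, add_zero]

/-- The units mapping a space of matrices into itself by conjugation. -/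
def conjStab [Finite F] (W : Submodule F (Matrix κ κ F)) : Subgroup (GL κ F) :=
  let S : Submonoid (GL κ F) :=
    { carrier := {g | ∀ w ∈ W, (g : Matrix κ κ F) * w * ((g⁻¹ : GL κ F) : Matrix κ κ F) ∈ W}
      one_mem' := fun w hw => by simpa using hw
      mul_mem' := fun {g g'} hg hg' w hw => by
        have h := hg _ (hg' w hw)
        simpa [mul_assoc] using h }
  { S with
    inv_mem' := fun {a} ha => by
      obtain ⟨m, hm⟩ : ∃ m : ℕ, a⁻¹ = a ^ m := ⟨orderOf a - 1, by
        have : 0 < orderOf a := orderOf_pos a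
        rw [inv_eq_iff_mul_eq_one, ← pow_succ', Nat.sub_add_cancel this, pow_orderOf_eq_one]⟩
      rw [hm]
      exact S.pow_mem ha m }

theorem mem_conjStab [Finite F] {W : Submodule F (Matrix κ κ F)} {g : GL κ F} :
    g ∈ conjStab W ↔ ∀ w ∈ W, (g : Matrix κ κ F) * w * ((g⁻¹ : GL κ F) : Matrix κ κ F) ∈ W := Iff.rfl

theorem mem_conjStab_span [Finite F] {S : Set (Matrix κ κ F)} {g : GL κ F}
    (h : ∀ w ∈ S, (g : Matrix κ κ F) * w * ((g⁻¹ : GL κ F) : Matrix κ κ F) ∈ Submodule.span F S) :
    g ∈ conjStab (Submodule.span F S) := by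
  intro w hw
  induction hw using Submodule.span_induction with
  | mem x hx => exact h x hx
  | zero => simp
  | add x y _ _ hx hy => simpa [mul_add, add_mul] using add_mem hx hy
  | smul a x _ hx => simpa using Submodule.smul_mem _ a hx

/-- Conjugation by `1 + N` when `N` commutes with `w`. -/
theorem conj_unip_comm {N w : Matrix κ κ F} (hN : N * N = 0) (h : N * w = w * N) :
    (1 + N) * w * (1 + N) = w := by
  calc (1 + N) * w * (1 + N) = w + (N * w + w * N) + N * w * N := by noncomm_ring
    _ = w := by rw [h, mat_add_self, mul_assoc, hN, mul_zero, add_zero, add_zero]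

/-- Conjugation by `1 + a b` of a partner `a'` of `a` that commutes with `b`. -/
theorem conj_unip_pair {a a' b : Matrix κ κ F} (hb : b * b = 0) (hab : a * b = b * a)
    (hab' : a' * b = b * a') (haa : a * a' + a' * a = 1) :
    (1 + a * b) * a' * (1 + a * b) = a' + b := by
  have h1 : a * b * a' + a' * (a * b) = b := by
    rw [mul_assoc, ← hab', ← mul_assoc, ← mul_assoc, ← add_mul, haa, one_mul]
  have h2 : a * b * a' * (a * b) = 0 := by
    calc a * b * a' * (a * b) = a * (b * a') * (a * b) := by noncomm_ring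
      _ = a * a' * ((b * a) * b) := by rw [← hab']; noncomm_ring
      _ = 0 := by rw [← hab, mul_assoc a b b, hb, mul_zero, mul_zero]
  calc (1 + a * b) * a' * (1 + a * b) = a' + (a * b * a' + a' * (a * b)) + a * b * a' * (a * b) := by
        noncomm_ring
    _ = _ := by rw [h1, h2, add_zero]

variable {t k : ℕ}

theorem slot_add (i : Fin t) (M M' : Matrix (Fin k) (Fin k) F) :
    slot i (M + M') = slot i M + slot i M' := by
  ext x y
  simp only [Matrix.add_apply, slot_apply]
  split_ifs <;> simp

theorem slot_smul (i : Fin t) (a : F) (M : Matrix (Fin k) (Fin k) F) :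
    slot i (a • M) = a • slot i M := by
  ext x y
  simp only [Matrix.smul_apply, slot_apply]
  split_ifs <;> simp

theorem slot_zero (i : Fin t) : slot i (0 : Matrix (Fin k) (Fin k) F) = 0 := by
  ext x y
  simp [slot_apply]

theorem slot_mul_comm {i j : Fin t} (h : i ≠ j) (M M' : Matrix (Fin k) (Fin k) F) :
    slot i M * slot j M' = slot j M' * slot i M := by
  rw [slot, slot, tens_mul, tens_mul]
  congr 1
  funext l
  rcases eq_or_ne l i with rfl | hi
  · simp [Function.update_of_ne h]
  · simp [Function.update_of_ne hi]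

theorem tens_mulVec_single (a : Fin t → Matrix (Fin k) (Fin k) F) (s : Fin t → Fin k) :
    tens a *ᵥ Pi.single s 1 = fun x => ∏ i, (fun p => a i p (s i)) (x i) := by
  rw [mulVec_single_one]; rfl

theorem slot_two_apply {i j : Fin t} (h : i ≠ j) (M M' : Matrix (Fin k) (Fin k) F) (x y : Fin t → Fin k)
    (hrest : ∀ l, l ≠ i → l ≠ j → x l = y l) :
    (slot i M * slot j M') x y = M (x i) (y i) * M' (x j) (y j) := by
  rw [slot, slot, tens_mul]
  simp only [tens, Matrix.of_apply]
  rw [← Finset.mul_prod_erase _ _ (Finset.mem_univ i),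
    ← Finset.mul_prod_erase _ _ (Finset.mem_erase.2 ⟨h.symm, Finset.mem_univ j⟩),
    Finset.prod_eq_one fun l hl => ?_, mul_one, Function.update_self, Function.update_self,
    Function.update_of_ne h, Function.update_of_ne h.symm, mul_one, one_mul]
  have hlj := Finset.ne_of_mem_erase hl
  have hli := Finset.ne_of_mem_erase (Finset.mem_of_mem_erase hl)
  rw [Function.update_of_ne hli, Function.update_of_ne hlj, one_mul, hrest l hli hlj, Matrix.one_apply_eq]

end CfsgLib.Geo.SpinWreath
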