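import Cfsg.Agent.Geo.SpinorWreathAlgebra
import Cfsg.Agent.Aschbacher.Form.Power

/-!
The stabiliser of a tensor power of a symplectic space in characteristic two lies strictly inside the
normaliser, in `Ω`, of the space of Clifford generators.
-/

set_option autoImplicit false
set_option linter.unusedSectionVars false

namespace CfsgLib.Geo.SpinWreath

open Matrix CfsgLib.Aschbacher
open scoped MatrixGroups commutatorElement

variable {F : Type*} [Field F] [CharP F 2]

section ring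

variable {κ : Type} [Fintype κ] [DecidableEq κ]

theorem mul_sq_zero {a b : Matrix κ κ F} (hab : a * b = b * a) (ha : a * a = 0) :
    a * b * (a * b) = 0 := by
  calc a * b * (a * b) = a * (b * a) * b := by noncomm_ring
    _ = a * a * (b * b) := by rw [← hab]; noncomm_ring
    _ = 0 := by rw [ha, zero_mul]

theorem selfAdj_mul {Γ a b : Matrix κ κ F} (hab : a * b = b * a) (ha : aᵀ * Γ = Γ * a)
    (hb : bᵀ * Γ = Γ * b) : (a * b)ᵀ * Γ = Γ * (a * b) := by
  rw [Matrix.transpose_mul, mul_assoc, ha, ← mul_assoc, hb, mul_assoc, hab]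

theorem conj_unip_partner {a a' b : Matrix κ κ F} (hN : a * b * (a * b) = 0) (hb : b * b = 0)
    (hab : a * b = b * a) (hab' : a' * b = b * a') (haa : a * a' + a' * a = 1) :
    (unip (a * b) hN : Matrix κ κ F) * a' * (((unip (a * b) hN)⁻¹ : GL κ F) : Matrix κ κ F) = a' + b := by
  rw [unip_val, unip_inv_val, conj_unip_pair hb hab hab' haa]

/-- `[1 + a b, 1 + b' z] = 1 + a z`. -/
theorem commutator_pairs {a b b' z : Matrix κ κ F} (ha : a * a = 0) (hz : z * z = 0)
    (hbb : b * b' + b' * b = 1) (hab : a * b = b * a) (hab' : a * b' = b' * a) (haz : a * z = z * a)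
    (hzb : z * b = b * z) (hzb' : z * b' = b' * z)
    (hX : a * b * (a * b) = 0) (hY : b' * z * (b' * z) = 0) :
    ((⁅unip (a * b) hX, unip (b' * z) hY⁆ : GL κ F) : Matrix κ κ F) = 1 + a * z := by
  have h1 : a * b * (b' * z) * (a * b) = 0 := by
    have hc : a * (b * (b' * z)) = b * (b' * z) * a := by
      rw [← mul_assoc, hab, mul_assoc, ← mul_assoc a b', hab', mul_assoc b', haz]
      noncomm_ring
    calc a * b * (b' * z) * (a * b) = a * (b * (b' * z) * a) * b := by noncomm_ring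
      _ = a * a * (b * (b' * z) * b) := by rw [← hc]; noncomm_ring
      _ = 0 := by rw [ha, zero_mul]
  have h2 : b' * z * (a * b) * (b' * z) = 0 := by
    have hc : z * (a * b * b') = a * b * b' * z := by
      rw [← mul_assoc, ← mul_assoc, ← haz, mul_assoc a z, hzb, mul_assoc a (b * z), mul_assoc b z, hzb']
      noncomm_ring
    calc b' * z * (a * b) * (b' * z) = b' * (z * (a * b * b')) * z := by noncomm_ring
      _ = b' * (a * b * b') * (z * z) := by rw [hc]; noncomm_ring
      _ = 0 := by rw [hz, mul_zero]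
  rw [commutator_unip hX hY h1 h2]
  congr 1
  calc a * b * (b' * z) + b' * z * (a * b)
      = a * (b * b') * z + b' * (z * a) * b := by noncomm_ring
    _ = a * (b * b') * z + (b' * a) * (z * b) := by rw [← haz]; noncomm_ring
    _ = a * (b * b') * z + a * (b' * b) * z := by rw [← hab', hzb]; noncomm_ring
    _ = a * (b * b' + b' * b) * z := by noncomm_ring
    _ = a * z := by rw [hbb, mul_one]

end ring

variable {ι : Type} [Fintype ι] [DecidableEq ι] {t k : ℕ}

/-- The change of coordinates of a tensor decomposition, on matrices. -/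
noncomputable def phi (e : ι ≃ (Fin t → Fin k)) (P : GL ι F) : GL (Fin t → Fin k) F ≃* GL ι F :=
  (Cfsg.Geo.glReindex e.symm).trans (MulAut.conj P)

theorem map_phi (e : ι ≃ (Fin t → Fin k)) (P : GL ι F) :
    Cfsg.Geo.tensorWreathSubgroup k t e P =
      (Cfsg.Geo.tensorWreathStandard k t F).map (phi e P).toMonoidHom := by
  rw [Cfsg.Geo.tensorWreathSubgroup, Subgroup.map_map]
  rfl

theorem phi_mulVec (e : ι ≃ (Fin t → Fin k)) (P : GL ι F) (X : GL (Fin t → Fin k) F)
    (x : (Fin t → Fin k) → F) :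
    (phi e P X : Matrix ι ι F) *ᵥ ((P : Matrix ι ι F) *ᵥ (x ∘ e)) =
      (P : Matrix ι ι F) *ᵥ (((X : Matrix _ _ F) *ᵥ x) ∘ e) := by
  have h : (phi e P X : Matrix ι ι F) = (P : Matrix ι ι F) *
      Matrix.reindex e.symm e.symm (X : Matrix _ _ F) * ((P⁻¹ : GL ι F) : Matrix ι ι F) := rfl
  rw [h, mulVec_mulVec, mul_assoc, ← Units.val_mul, inv_mul_cancel, Units.val_one, mul_one,
    ← mulVec_mulVec, Matrix.reindex_apply, Equiv.symm_symm, Matrix.submatrix_mulVec_equiv]
  simp [Function.comp_assoc]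

theorem mem_isometry_phi (Q : (ι → F) → F) (e : ι ≃ (Fin t → Fin k)) (P : GL ι F)
    (X : GL (Fin t → Fin k) F) :
    phi e P X ∈ Cfsg.isometryGroup F Q ↔ ∀ x,
      Q ((P : Matrix ι ι F) *ᵥ (((X : Matrix _ _ F) *ᵥ x) ∘ e)) = Q ((P : Matrix ι ι F) *ᵥ (x ∘ e)) := by
  constructor
  · intro h x
    rw [← phi_mulVec]
    exact h _ 0
  · intro h w _
    have hw : w = (P : Matrix ι ι F) *ᵥ (((((P⁻¹ : GL ι F) : Matrix ι ι F) *ᵥ w) ∘ e.symm) ∘ e) := by
      rw [Function.comp_assoc, Equiv.symm_comp_self, Function.comp_id, mulVec_mulVec, ← Units.val_mul,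
        mul_inv_cancel, Units.val_one, one_mulVec]
    change Q ((phi e P X : Matrix ι ι F) *ᵥ w) = Q w
    rw [hw, phi_mulVec, h]

theorem tens_diag_zero (J : Matrix (Fin k) (Fin k) F) (a : Fin t → Matrix (Fin k) (Fin k) F) (l : Fin t)
    (h : ∀ x, (J * a l) x x = 0) (s : Fin t → Fin k) : (tens (fun _ : Fin t => J) * tens a : Matrix (Fin t → Fin k) (Fin t → Fin k) F) s s = 0 := by
  rw [tens_mul]
  exact Finset.prod_eq_zero (Finset.mem_univ l) (h _)

theorem slot_selfAdj {J m : Matrix (Fin k) (Fin k) F} (h : mᵀ * J = J * m) (i : Fin t) :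
    (slot i m)ᵀ * tens (fun _ => J) = tens (fun _ => J) * slot i m := by
  rw [slot, tens_transpose, tens_mul, tens_mul]
  congr 1
  funext l
  rcases eq_or_ne l i with rfl | hl
  · simpa using h
  · simp [Function.update_of_ne hl]

/-- Slot data: the matrices acting on a single factor. -/
structure SlotData (k : ℕ) (F : Type*) [Field F] (B : Type) where
  /-- Gram matrix of one factor. -/
  J : Matrix (Fin k) (Fin k) F
  /-- Creation operators. -/
  u : B → Matrix (Fin k) (Fin k) F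
  /-- Annihilation operators. -/
  u' : B → Matrix (Fin k) (Fin k) F
  J_unit : IsUnit J
  J_symm : Jᵀ = J
  J_diag : ∀ x, J x x = 0
  u_sq : ∀ b, u b * u b = 0
  u'_sq : ∀ b, u' b * u' b = 0
  anti : ∀ b, u b * u' b + u' b * u b = 1
  comm_uu : ∀ b c, b ≠ c → u b * u c = u c * u b
  comm_uu' : ∀ b c, b ≠ c → u b * u' c = u' c * u b
  comm_u'u' : ∀ b c, b ≠ c → u' b * u' c = u' c * u' b
  u_adj : ∀ b, (u b)ᵀ * J = J * u b
  u'_adj : ∀ b, (u' b)ᵀ * J = J * u' b
  u_off : ∀ b, ∃ x y, x ≠ y ∧ u b x y ≠ 0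
  conj : ∀ (a : GL (Fin k) F) (s : F), s ≠ 0 →
    (a : Matrix (Fin k) (Fin k) F)ᵀ * J * (a : Matrix (Fin k) (Fin k) F) = s • J →
    ∀ m ∈ Set.range u ∪ Set.range u',
      (a : Matrix (Fin k) (Fin k) F) * m * ((a⁻¹ : GL (Fin k) F) : Matrix (Fin k) (Fin k) F) ∈
        Submodule.span F (insert 1 (Set.range u ∪ Set.range u'))

namespace SlotData

variable {B : Type} (D : SlotData k F B)

/-- A creation operator acting on one factor. -/
def A (p : Fin t × B) : Matrix (Fin t → Fin k) (Fin t → Fin k) F := slot p.1 (D.u p.2)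

/-- An annihilation operator acting on one factor. -/
def A' (p : Fin t × B) : Matrix (Fin t → Fin k) (Fin t → Fin k) F := slot p.1 (D.u' p.2)

/-- The generating set of the space of Clifford generators. -/
def gens : Set (Matrix (Fin t → Fin k) (Fin t → Fin k) F) :=
  insert 1 (Set.range (D.A (t := t)) ∪ Set.range (D.A' (t := t)))

theorem A_sq (p : Fin t × B) : D.A p * D.A p = 0 := by rw [A, slot_mul, D.u_sq, slot_zero]

theorem A'_sq (p : Fin t × B) : D.A' p * D.A' p = 0 := by rw [A', slot_mul, D.u'_sq, slot_zero]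

theorem A_anti (p : Fin t × B) : D.A p * D.A' p + D.A' p * D.A p = 1 := by
  rw [A, A', slot_mul, slot_mul, ← slot_add, D.anti, slot_one]

theorem AA {p q : Fin t × B} (h : p ≠ q) : D.A p * D.A q = D.A q * D.A p := by
  rcases eq_or_ne p.1 q.1 with h1 | h1
  · rw [A, A, h1, slot_mul, slot_mul, D.comm_uu _ _ fun h2 => h (Prod.ext h1 h2)]
  · exact slot_mul_comm h1 _ _

theorem AA' {p q : Fin t × B} (h : p ≠ q) : D.A p * D.A' q = D.A' q * D.A p := by
  rcases eq_or_ne p.1 q.1 with h1 | h1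
  · rw [A, A', h1, slot_mul, slot_mul, D.comm_uu' _ _ fun h2 => h (Prod.ext h1 h2)]
  · exact slot_mul_comm h1 _ _

theorem A_adj (p : Fin t × B) : (D.A p)ᵀ * tens (fun _ => D.J) = tens (fun _ => D.J) * D.A p :=
  slot_selfAdj (D.u_adj _) _

theorem A'_adj (p : Fin t × B) : (D.A' p)ᵀ * tens (fun _ => D.J) = tens (fun _ => D.J) * D.A' p :=
  slot_selfAdj (D.u'_adj _) _

theorem slot_mem_span (i : Fin t) {m : Matrix (Fin k) (Fin k) F}
    (hm : m ∈ Submodule.span F (insert 1 (Set.range D.u ∪ Set.range D.u'))) :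
    slot i m ∈ Submodule.span F (D.gens (t := t)) := by
  induction hm using Submodule.span_induction with
  | mem x hx =>
    refine Submodule.subset_span ?_
    rcases hx with rfl | ⟨b, rfl⟩ | ⟨b, rfl⟩
    · exact Or.inl (slot_one i)
    · exact Or.inr (Or.inl ⟨(i, b), rfl⟩)
    · exact Or.inr (Or.inr ⟨(i, b), rfl⟩)
  | zero => rw [slot_zero]; exact Submodule.zero_mem _
  | add x y _ _ hx hy => rw [slot_add]; exact add_mem hx hy
  | smul a x _ hx => rw [slot_smul]; exact Submodule.smul_mem _ a hx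

theorem span_entry_zero {w : Matrix (Fin t → Fin k) (Fin t → Fin k) F}
    (hw : w ∈ Submodule.span F (D.gens (t := t))) {i j : Fin t} (hij : i ≠ j)
    {x y : Fin t → Fin k} (hi : x i ≠ y i) (hj : x j ≠ y j) : w x y = 0 := by
  induction hw using Submodule.span_induction with
  | mem w hw =>
    have hs : ∀ (l : Fin t) (m : Matrix (Fin k) (Fin k) F), slot l m x y = 0 := fun l m => by
      rw [slot_apply, if_neg]
      intro h
      rcases eq_or_ne i l with rfl | hl
      · exact hj (h j hij.symm)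
      · exact hi (h i hl)
    rcases hw with rfl | ⟨p, rfl⟩ | ⟨p, rfl⟩
    · exact Matrix.one_apply_ne fun h => hi (congrFun h i)
    · exact hs _ _
    · exact hs _ _
  | zero => rfl
  | add a b _ _ ha hb => rw [Matrix.add_apply, ha, hb, add_zero]
  | smul a m _ hm => rw [Matrix.smul_apply, hm, smul_zero]

theorem main [Finite F] (Q : (ι → F) → F) (e : ι ≃ (Fin t → Fin k)) (P : GL ι F) {c : F} (hc : c ≠ 0)
    (hadd : ∀ x y, Q ((P : Matrix ι ι F) *ᵥ ((x + y) ∘ e)) =
      Q ((P : Matrix ι ι F) *ᵥ (x ∘ e)) + Q ((P : Matrix ι ι F) *ᵥ (y ∘ e)) +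
        c * (x ⬝ᵥ tens (fun _ => D.J) *ᵥ y))
    (hsmul : ∀ (a : F) (v : ι → F), Q (a • v) = a ^ 2 * Q v)
    (hpure : ∀ xs : Fin t → (Fin k → F),
      Q ((P : Matrix ι ι F) *ᵥ ((fun a : Fin t → Fin k => ∏ i, xs i (a i)) ∘ e)) = 0)
    (p₁ p₂ p₃ p₄ : Fin t × B) (h31 : p₃.1 ≠ p₁.1) (h41 : p₄.1 ≠ p₁.1) (h32 : p₃.1 ≠ p₂.1)
    (h12 : p₁ ≠ p₂) (h24 : p₂ ≠ p₄) (h34 : p₃ ≠ p₄)
    (hdY : p₂.1 = p₁.1 → ∀ x, (D.J * D.u' p₂.2) x x = 0) :
    ∃ K : Subgroup (GL ι F), Cfsg.Geo.tensorWreathSubgroup k t e P ⊓ Cfsg.Geo.omegaGL Q < K ∧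
      K < Cfsg.Geo.omegaGL Q := by
  classical
  haveI := Fintype.ofFinite F
  set Γ : Matrix (Fin t → Fin k) (Fin t → Fin k) F := tens (fun _ => D.J) with hΓdef
  have hΓ : Γᵀ = Γ := by rw [hΓdef, tens_transpose, D.J_symm]
  let q : ((Fin t → Fin k) → F) → F := fun x => Q ((P : Matrix ι ι F) *ᵥ (x ∘ e))
  have hqsmul : ∀ (a : F) x, q (a • x) = a ^ 2 * q x := fun a x => by
    simp only [q]
    rw [← hsmul, ← mulVec_smul]
    rfl
  have hne31 : p₃ ≠ p₁ := fun h => h31 (congrArg Prod.fst h)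
  have hne41 : p₄ ≠ p₁ := fun h => h41 (congrArg Prod.fst h)
  have hne32 : p₃ ≠ p₂ := fun h => h32 (congrArg Prod.fst h)
  -- isometries
  have hiso : ∀ (N : Matrix _ _ F) (hN : N * N = 0), Nᵀ * Γ = Γ * N →
      ∀ a, N = tens a → ∀ l, (∀ x, (D.J * a l) x x = 0) →
      phi e P (unip N hN) ∈ Cfsg.isometryGroup F Q := by
    intro N hN hsa a ha l hl
    refine (mem_isometry_phi Q e P _).2 fun x => ?_
    exact unip_isometry (q := q) hadd hqsmul hΓ hN hsa
      (fun s => by rw [ha, tens_mulVec_single]; exact hpure fun i p => a i p (s i))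
      (fun s => by rw [ha]; exact tens_diag_zero D.J a l hl s) x
  have hXsq : D.A p₁ * D.A p₂ * (D.A p₁ * D.A p₂) = 0 := mul_sq_zero (D.AA h12) (D.A_sq _)
  have hY3sq : D.A' p₂ * D.A p₃ * (D.A' p₂ * D.A p₃) = 0 :=
    mul_sq_zero (D.AA' hne32).symm (D.A'_sq _)
  have h34c := D.AA h34
  have hz4 : D.A p₃ * D.A p₄ * (D.A p₃ * D.A p₄) = 0 := mul_sq_zero h34c (D.A_sq _)
  have hc2 : D.A' p₂ * (D.A p₃ * D.A p₄) = D.A p₃ * D.A p₄ * D.A' p₂ := by
    rw [← mul_assoc, ← D.AA' hne32, mul_assoc, ← D.AA' h24.symm, mul_assoc]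
  have hY4sq : D.A' p₂ * (D.A p₃ * D.A p₄) * (D.A' p₂ * (D.A p₃ * D.A p₄)) = 0 :=
    mul_sq_zero hc2 (D.A'_sq _)
  have hX : phi e P (unip _ hXsq) ∈ Cfsg.isometryGroup F Q := by
    refine hiso _ hXsq (selfAdj_mul (D.AA h12) (D.A_adj _) (D.A_adj _)) _
      (by rw [A, A, slot, slot, tens_mul]) p₃.1 fun x => ?_
    simp [Function.update_of_ne h31, Function.update_of_ne h32, D.J_diag]
  have hdiag2 : ∀ x, (D.J * Function.update (fun _ => (1 : Matrix (Fin k) (Fin k) F)) p₂.1
      (D.u' p₂.2) p₁.1) x x = 0 := fun x => by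
    rcases eq_or_ne p₁.1 p₂.1 with h | h
    · rw [h, Function.update_self, hdY h.symm]
    · rw [Function.update_of_ne h, mul_one, D.J_diag]
  have hY3 : phi e P (unip _ hY3sq) ∈ Cfsg.isometryGroup F Q := by
    refine hiso _ hY3sq (selfAdj_mul (D.AA' hne32).symm (D.A'_adj _) (D.A_adj _)) _
      (by rw [A', A, slot, slot, tens_mul]) p₁.1 fun x => ?_
    simp only [Function.update_of_ne h31.symm, mul_one]
    exact hdiag2 x
  have hY4 : phi e P (unip _ hY4sq) ∈ Cfsg.isometryGroup F Q := by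
    refine hiso _ hY4sq (selfAdj_mul hc2 (D.A'_adj _) (selfAdj_mul h34c (D.A_adj _) (D.A_adj _))) _
      (by rw [A', A, A, slot, slot, slot, tens_mul, tens_mul]) p₁.1 fun x => ?_
    simp only [Function.update_of_ne h31.symm, Function.update_of_ne h41.symm, mul_one]
    exact hdiag2 x
  have homega : ∀ {X Y : GL (Fin t → Fin k) F}, phi e P X ∈ Cfsg.isometryGroup F Q →
      phi e P Y ∈ Cfsg.isometryGroup F Q → phi e P ⁅X, Y⁆ ∈ Cfsg.Geo.omegaGL Q := by
    intro X Y hX hY
    refine ⟨⁅(⟨_, hX⟩ : Cfsg.isometryGroup F Q), ⟨_, hY⟩⁆,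
      Subgroup.commutator_mem_commutator (Subgroup.mem_top _) (Subgroup.mem_top _), ?_⟩
    rw [map_commutatorElement, map_commutatorElement]
    rfl
  have hgv := commutator_pairs (z := D.A p₃) (D.A_sq p₁) (D.A_sq _) (D.A_anti p₂) (D.AA h12) (D.AA' h12)
    (D.AA hne31.symm) (D.AA hne32) (D.AA' hne32) hXsq hY3sq
  have hA14 : D.A p₁ * (D.A p₃ * D.A p₄) = D.A p₃ * D.A p₄ * D.A p₁ := by
    rw [← mul_assoc, D.AA hne31.symm, mul_assoc, D.AA hne41.symm, mul_assoc]
  have hz2 : D.A p₃ * D.A p₄ * D.A p₂ = D.A p₂ * (D.A p₃ * D.A p₄) := by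
    rw [mul_assoc, D.AA h24.symm, ← mul_assoc, D.AA hne32, mul_assoc]
  have hhv := commutator_pairs (z := D.A p₃ * D.A p₄) (D.A_sq p₁) hz4 (D.A_anti p₂) (D.AA h12) (D.AA' h12)
    hA14 hz2 hc2.symm hXsq hY4sq
  set g : GL (Fin t → Fin k) F := ⁅unip _ hXsq, unip _ hY3sq⁆
  set h : GL (Fin t → Fin k) F := ⁅unip _ hXsq, unip _ hY4sq⁆
  have hgsq : D.A p₁ * D.A p₃ * (D.A p₁ * D.A p₃) = 0 := mul_sq_zero (D.AA hne31.symm) (D.A_sq _)
  have hg : g = unip _ hgsq := Units.ext hgv
  set W : Submodule F (Matrix (Fin t → Fin k) (Fin t → Fin k) F) := Submodule.span F D.gens with hW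
  -- the element `g` normalises the generators
  have hgW : g ∈ conjStab W := by
    refine mem_conjStab_span fun w hw => ?_
    have hwW : w ∈ Submodule.span F (D.gens (t := t)) := Submodule.subset_span hw
    have hA : ∀ p, D.A p ∈ Submodule.span F (D.gens (t := t)) := fun p =>
      Submodule.subset_span (Or.inr (Or.inl ⟨p, rfl⟩))
    rw [hg]
    have hcomm : ∀ w, D.A p₁ * w = w * D.A p₁ → D.A p₃ * w = w * D.A p₃ →
        (unip _ hgsq : Matrix _ _ F) * w * (((unip _ hgsq)⁻¹ : GL _ F) : Matrix _ _ F) = w := by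
      intro w h1 h3
      rw [unip_val, unip_inv_val]
      refine conj_unip_comm hgsq ?_
      rw [mul_assoc, h3, ← mul_assoc, h1, mul_assoc]
    rcases hw with rfl | ⟨p, rfl⟩ | ⟨p, rfl⟩
    · rw [hcomm 1 (by simp) (by simp)]
      exact hwW
    · rw [hcomm _ ?_ ?_]
      · exact hwW
      · rcases eq_or_ne p₁ p with rfl | hp
        · rfl
        · exact D.AA hp
      · rcases eq_or_ne p₃ p with rfl | hp
        · rfl
        · exact D.AA hp
    · rcases eq_or_ne p₁ p with rfl | hp1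
      · rw [conj_unip_partner hgsq (D.A_sq _) (D.AA hne31.symm) (D.AA' hne31).symm (D.A_anti _)]
        exact add_mem hwW (hA _)
      rcases eq_or_ne p₃ p with rfl | hp3
      · rw [unip_val, unip_inv_val, D.AA hne31.symm,
          conj_unip_pair (D.A_sq _) (D.AA hne31) (D.AA' hne31.symm).symm (D.A_anti _)]
        exact add_mem hwW (hA _)
      · rw [hcomm _ (D.AA' hp1) (D.AA' hp3)]
        exact hwW
  -- the element `h` does not
  have hhW : h ∉ conjStab W := by
    intro hmem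
    have hsq : D.A p₃ * (D.A p₁ * D.A p₄) * (D.A p₃ * (D.A p₁ * D.A p₄)) = 0 :=
      mul_sq_zero (by rw [← mul_assoc, D.AA hne31, mul_assoc, h34c, mul_assoc]) (D.A_sq _)
    have hh : h = unip _ hsq := by
      refine Units.ext (hhv.trans ?_)
      rw [unip_val, ← mul_assoc, D.AA hne31.symm, mul_assoc]
    have hA' : D.A' p₃ ∈ Submodule.span F (D.gens (t := t)) :=
      Submodule.subset_span (Or.inr (Or.inr ⟨p₃, rfl⟩))
    have h2 : D.A' p₃ * (D.A p₁ * D.A p₄) = D.A p₁ * D.A p₄ * D.A' p₃ := by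
      rw [← mul_assoc, ← D.AA' hne31.symm, mul_assoc, ← D.AA' h34.symm, mul_assoc]
    have h3 := mem_conjStab.1 hmem _ hA'
    rw [hh, conj_unip_partner hsq (mul_sq_zero (D.AA hne41.symm) (D.A_sq _))
      (by rw [← mul_assoc, D.AA hne31, mul_assoc, h34c, mul_assoc]) h2 (D.A_anti _)] at h3
    have h4 := (Submodule.add_mem_iff_right _ hA').1 h3
    obtain ⟨a, a', haa, hua⟩ := D.u_off p₁.2
    obtain ⟨b, b', hbb, hub⟩ := D.u_off p₄.2
    let x : Fin t → Fin k := Function.update (Function.update (fun _ => a) p₁.1 a) p₄.1 b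
    let y : Fin t → Fin k := Function.update (Function.update (fun _ => a) p₁.1 a') p₄.1 b'
    have hz := D.span_entry_zero h4 h41.symm (x := x) (y := y)
      (by simp [x, y, Function.update_of_ne h41.symm, haa]) (by simp [x, y, hbb])
    rw [A, A, slot_two_apply h41.symm _ _ x y fun l h1 h4 => by
      simp [x, y, Function.update_of_ne h4, Function.update_of_ne h1]] at hz
    simp only [x, y, Function.update_of_ne h41.symm, Function.update_self] at hz
    exact mul_ne_zero hua hub hz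
  -- the element `g` is not a tensor
  have hgS : phi e P g ∉ Cfsg.Geo.tensorWreathSubgroup k t e P := by
    rw [map_phi]
    rintro ⟨X, hX, hXg⟩
    obtain rfl : X = g := (phi e P).injective hXg
    obtain ⟨m, σ, hm⟩ := exists_tens_perm (F := F) (by
      exact hX)
    obtain ⟨a, a', haa, hua⟩ := D.u_off p₁.2
    obtain ⟨b, b', hbb, hub⟩ := D.u_off p₃.2
    set i := p₁.1 with hi
    set j := p₃.1 with hj
    let x : Fin t → Fin k := Function.update (Function.update (fun _ => a) i a) j b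
    let y : Fin k → Fin k → Fin t → Fin k := fun r s => Function.update (Function.update (fun _ => a) i r) j s
    have hent : ∀ r s, (g : Matrix _ _ F) x (y r s) =
        ∏ l, (m l : Matrix (Fin k) (Fin k) F) (x l) (y r s (σ.symm l)) := fun r s => by
      rw [hm, mul_permMat_apply]; rfl
    have hident : (g : Matrix _ _ F) x (y a b) * (g : Matrix _ _ F) x (y a' b') =
        (g : Matrix _ _ F) x (y a' b) * (g : Matrix _ _ F) x (y a b') := by
      simp only [hent, ← Finset.prod_mul_distrib]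
      refine Finset.prod_congr rfl fun l _ => ?_
      rcases eq_or_ne (σ.symm l) j with hl | hl
      · simp [y, hl]
      · simp only [y, Function.update_of_ne hl]
        rcases eq_or_ne (σ.symm l) i with hl' | hl'
        · simp only [hl', Function.update_self]; ring
        · simp only [Function.update_of_ne hl']
    have hval : ∀ r s, (g : Matrix _ _ F) x (y r s) =
        (if r = a ∧ s = b then 1 else 0) + D.u p₁.2 a r * D.u p₃.2 b s := fun r s => by
      have hne : i ≠ j := h31.symm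
      rw [hg, unip_val, Matrix.add_apply, A, A, slot_two_apply h31.symm _ _ x (y r s) fun l h1 h3 => by
        simp [x, y, Function.update_of_ne h3, Function.update_of_ne h1, i, j]]
      simp only [x, y, Function.update_of_ne hne, Function.update_self, Matrix.one_apply]
      congr 1
      refine if_congr ⟨fun h => ⟨?_, ?_⟩, ?_⟩ rfl rfl
      · simpa [Function.update_of_ne hne] using (congrFun h i).symm
      · simpa using (congrFun h j).symm
      · rintro ⟨rfl, rfl⟩; rfl
    rw [hval, hval, hval, hval] at hident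
    simp only [haa.symm, hbb.symm, and_false, false_and, and_self, if_true, if_false, zero_add] at hident
    refine mul_ne_zero hua hub ?_
    linear_combination hident
  -- stabiliser normalises the generators
  have hS : ∀ X ∈ Cfsg.Geo.tensorWreathStandard k t F, phi e P X ∈ Cfsg.isometryGroup F Q →
      X ∈ conjStab W := by
    intro X hX hiX
    obtain ⟨m, σ, hm⟩ := exists_tens_perm hX
    have hpres : (X : Matrix _ _ F)ᵀ * Γ * (X : Matrix _ _ F) = Γ := by
      ext r s
      have hq := (mem_isometry_phi Q e P X).1 hiX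
      have h1 := hq (Pi.single r 1 + Pi.single s 1)
      rw [mulVec_add, hadd, hadd, hq, hq, add_right_inj, mul_right_inj' hc, mulVec_mulVec,
        ← vecMul_transpose, ← dotProduct_mulVec, mulVec_mulVec, ← mul_assoc] at h1
      simpa [single_dotProduct, mulVec_single_one] using h1
    have hperm : (permMat k σ : Matrix _ _ F)ᵀ * permMat k σ = 1 := by
      rw [permMat_transpose]; simpa using permMat_mul_inv (m := k) (F := F) σ.symm
    have hten : tens (fun i => (m i : Matrix (Fin k) (Fin k) F)ᵀ * D.J * (m i : Matrix (Fin k) (Fin k) F))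
        = (1 : F) • Γ := by
      rw [one_smul, ← tens_mul, ← tens_mul, ← tens_transpose]
      set T := tens (fun i => (m i : Matrix (Fin k) (Fin k) F))
      have hΓperm : (permMat k σ : Matrix _ _ F) * Γ = Γ * permMat k σ := by rw [hΓdef, permMat_mul_tens]
      have hinv := mul_eq_one_comm.1 hperm
      rw [hm, Matrix.transpose_mul] at hpres
      calc Tᵀ * Γ * T = (permMat k σ * (permMat k σ)ᵀ) * (Tᵀ * Γ * T) * (permMat k σ * (permMat k σ)ᵀ) := by
            rw [hinv, one_mul, mul_one]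
        _ = permMat k σ * ((permMat k σ)ᵀ * Tᵀ * Γ * (T * permMat k σ)) * (permMat k σ)ᵀ := by noncomm_ring
        _ = Γ * (permMat k σ * (permMat k σ)ᵀ) := by rw [hpres, hΓperm, mul_assoc]
        _ = Γ := by rw [hinv, mul_one]
    refine mem_conjStab_span fun w hw => ?_
    rcases hw with rfl | hw
    · rw [mul_one, Units.mul_inv]
      exact Submodule.subset_span (Or.inl rfl)
    obtain ⟨i, M, hM, rfl⟩ : ∃ (i : Fin t) (M : Matrix (Fin k) (Fin k) F),
        M ∈ Set.range D.u ∪ Set.range D.u' ∧ w = slot i M := by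
      rcases hw with ⟨p, rfl⟩ | ⟨p, rfl⟩
      · exact ⟨p.1, _, Or.inl ⟨p.2, rfl⟩, rfl⟩
      · exact ⟨p.1, _, Or.inr ⟨p.2, rfl⟩, rfl⟩
    have hk : 0 < k := by
      obtain ⟨x, -, -⟩ := D.u_off p₁.2
      exact Fin.pos x
    obtain ⟨s, hs, hs'⟩ := tens_factor (fun l => ((Matrix.isUnit_transpose _).2 (m l).isUnit |>.mul D.J_unit).mul
      (m l).isUnit) hten hk (σ i)
    have hmem := D.conj (m (σ i)) s hs hs' M hM
    set M' := (m (σ i) : Matrix (Fin k) (Fin k) F) * M * (((m (σ i))⁻¹ : GL _ F) : Matrix (Fin k) (Fin k) F)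
    have hXs : (X : Matrix _ _ F) * slot i M = slot (σ i) M' * (X : Matrix _ _ F) := by
      rw [hm, mul_assoc, permMat_mul_slot, ← mul_assoc,
        tens_mul_slot (fun l => (m l : Matrix (Fin k) (Fin k) F)) (σ i) (M := M') ?_, mul_assoc]
      simp only [M', mul_assoc, Units.inv_mul, mul_one]
    rw [hXs, mul_assoc, Units.mul_inv, mul_one]
    exact D.slot_mem_span _ hmem
  refine ⟨(conjStab W).map (phi e P).toMonoidHom ⊓ Cfsg.Geo.omegaGL Q,
    SetLike.lt_iff_le_and_exists.2 ⟨?_, phi e P g, ⟨⟨g, hgW, rfl⟩, homega hX hY3⟩, fun h => hgS h.1⟩,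
    SetLike.lt_iff_le_and_exists.2 ⟨inf_le_right, phi e P h, homega hX hY4, ?_⟩⟩
  · rw [map_phi]
    rintro _ ⟨⟨X, hX, rfl⟩, hΩ⟩
    refine ⟨⟨X, hS X hX ?_, rfl⟩, hΩ⟩
    obtain ⟨z, -, hz⟩ := hΩ
    exact hz ▸ z.2
  · rintro ⟨⟨X, hX, hXh⟩, -⟩
    exact hhW ((phi e P).injective hXh ▸ hX)

end SlotData

end CfsgLib.Geo.SpinWreath
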