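/-
Stabilisers of decompositions into isometric orthogonal non-degenerate subspaces in the symplectic group.
-/
import Cfsg.Agent.Geo.SympLagrangianPair
import Cfsg.Agent.Forms.OfBilin

set_option autoImplicit false

namespace CfsgLib.Geo.SpTv

open Matrix Cfsg Cfsg.Geo CfsgLib.Symp

variable {m : ℕ} {F : Type*} [Field F]

local notation "E" => Fin m ⊕ Fin m → F

/-- A subspace is carried into another of at least its dimension by transvections centred in a container. -/
lemma exists_map_le : ∀ (n : ℕ) (A B W : Submodule F (Fin m ⊕ Fin m → F)),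
    Module.finrank F A = n → A ≤ W → B ≤ W →
    IsNondegenerateOn (Cfsg.sympForm m F) A → IsNondegenerateOn (Cfsg.sympForm m F) B →
    n ≤ Module.finrank F B → ∃ g ∈ tvGroup W, ∀ a ∈ A, g • a ∈ B := by
  intro n
  induction n using Nat.strong_induction_on with
  | _ n ih =>
    intro A B W hn hAW hBW hA hB hle
    rcases eq_or_ne A ⊥ with rfl | hA0
    · refine ⟨1, one_mem _, fun a ha => ?_⟩
      rw [Submodule.mem_bot] at ha
      subst ha
      rw [one_smul]; exact B.zero_mem
    have hB0 : B ≠ ⊥ := fun e => hA0 (Submodule.finrank_eq_zero.1 (by rw [e, finrank_bot] at hle; omega))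
    have hpair : ∀ S : Submodule F E, IsNondegenerateOn (Cfsg.sympForm m F) S → S ≠ ⊥ →
        ∃ u ∈ S, ∃ v ∈ S, form u v = 1 := by
      intro S hS h0
      obtain ⟨u, hu, hu0⟩ := (Submodule.ne_bot_iff _).1 h0
      obtain ⟨v, hv, huv⟩ := nondeg_partner hS hu hu0
      exact ⟨u, hu, (form u v)⁻¹ • v, S.smul_mem _ hv, by rw [form_smul_right, inv_mul_cancel₀ huv]⟩
    obtain ⟨u, hu, v, hv, huv⟩ := hpair A hA hA0
    obtain ⟨u', hu', v', hv', huv'⟩ := hpair B hB hB0
    have hred : ∀ (S : Submodule F E) (p r : E), p ∈ S → r ∈ S → form p r = 1 →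
        IsNondegenerateOn (Cfsg.sympForm m F) S →
        IsNondegenerateOn (Cfsg.sympForm m F) (S ⊓ perp (Submodule.span F {p, r})) ∧
          Module.finrank F ↥(S ⊓ perp (Submodule.span F {p, r})) + 2 = Module.finrank F S ∧
          ∀ a ∈ S, a - form a r • p + form a p • r ∈ S ⊓ perp (Submodule.span F {p, r}) := by
      intro S p r hp hr hpr hS
      have hrp : form r p = -1 := by rw [form_swap, hpr]
      have hmem : ∀ a, a ∈ perp (Submodule.span F {p, r}) ↔ form p a = 0 ∧ form r a = 0 := by
        intro a
        refine ⟨fun h => ⟨h p (Submodule.subset_span (by simp)), h r (Submodule.subset_span (by simp))⟩,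
          fun h z hz => ?_⟩
        obtain ⟨c, d, rfl⟩ := Submodule.mem_span_pair.1 hz
        rw [form_add_left, form_smul_left, form_smul_left, h.1, h.2, mul_zero, mul_zero, add_zero]
      have hproj : ∀ a ∈ S, a - form a r • p + form a p • r ∈ S ⊓ perp (Submodule.span F {p, r}) := by
        intro a ha
        refine ⟨S.add_mem (S.sub_mem ha (S.smul_mem _ hp)) (S.smul_mem _ hr), (hmem _).2 ⟨?_, ?_⟩⟩
        · rw [form_add_right, form_sub_right, form_smul_right, form_smul_right, form_self, hpr,
            form_swap a p]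
          ring
        · rw [form_add_right, form_sub_right, form_smul_right, form_smul_right, form_self, hrp,
            form_swap a r]
          ring
      refine ⟨fun a ha ha0 => ?_, ?_, hproj⟩
      · obtain ⟨x, hx, hax⟩ := nondeg_partner hS ha.1 ha0
        obtain ⟨h1, h2⟩ := (hmem a).1 ha.2
        have e : form a (x - form x r • p + form x p • r) = form a x := by
          rw [form_add_right, form_sub_right, form_smul_right, form_smul_right, form_swap a p, h1,
            form_swap a r, h2]
          ring
        refine ⟨⟨_, hproj x hx, ?_⟩, ⟨_, hproj x hx, ?_⟩⟩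
        · show form _ a ≠ 0
          rw [form_swap, e, neg_ne_zero]; exact hax
        · show form a _ ≠ 0
          rw [e]; exact hax
      · let L : S →ₗ[F] F × F :=
          { toFun := fun y => (form p (y : E), form r (y : E))
            map_add' := fun y z => Prod.ext (form_add_right p (y : E) (z : E)) (form_add_right r (y : E) (z : E))
            map_smul' := fun c y => Prod.ext (form_smul_right c p (y : E)) (form_smul_right c r (y : E)) }
        have hker : (LinearMap.ker L).map S.subtype = S ⊓ perp (Submodule.span F {p, r}) := by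
          ext x
          constructor
          · rintro ⟨y, hy, rfl⟩
            exact ⟨y.2, (hmem _).2 ⟨congrArg Prod.fst (LinearMap.mem_ker.1 hy),
              congrArg Prod.snd (LinearMap.mem_ker.1 hy)⟩⟩
          · rintro ⟨hx1, hx2⟩
            exact ⟨⟨x, hx1⟩, LinearMap.mem_ker.2 (Prod.ext ((hmem x).1 hx2).1 ((hmem x).1 hx2).2), rfl⟩
        have hsurj : Function.Surjective L := fun z =>
          ⟨⟨z.1 • r - z.2 • p, S.sub_mem (S.smul_mem _ hr) (S.smul_mem _ hp)⟩, by
            refine Prod.ext ?_ ?_
            · change form p (z.1 • r - z.2 • p) = z.1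
              rw [form_sub_right, form_smul_right, form_smul_right, form_self, hpr]; ring
            · change form r (z.1 • r - z.2 • p) = z.2
              rw [form_sub_right, form_smul_right, form_smul_right, form_self, hrp]; ring⟩
        have h1 := CfsgLib.Forms.finrank_ker_add L hsurj
        rw [Module.finrank_prod, Module.finrank_self] at h1
        rw [← hker, Submodule.finrank_map_subtype_eq]
        omega
    obtain ⟨hA1, hA2, hA3⟩ := hred A u v hu hv huv hA
    obtain ⟨hB1, hB2, -⟩ := hred B u' v' hu' hv' huv' hB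
    obtain ⟨g1, hg1, e1, e2⟩ := exists_tvGroup_smul_pair (hAW hu) (hAW hv) (hBW hu') (hBW hv') huv huv'
    let A1 : Submodule F E := (A ⊓ perp (Submodule.span F {u, v})).map (glEquiv (toGLHom g1)).toLinearMap
    let B1 : Submodule F E := B ⊓ perp (Submodule.span F {u', v'})
    let W1 : Submodule F E := W ⊓ perp (Submodule.span F {u', v'})
    have hA1W : A1 ≤ W1 := by
      rintro _ ⟨a, ha, rfl⟩
      rw [LinearEquiv.coe_coe, glEquiv_apply, toGLHom_mulVec]
      refine ⟨?_, fun z hz => ?_⟩
      · have := W.add_mem (tvGroup_sub_mem hg1 a) (hAW ha.1)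
        rwa [sub_add_cancel] at this
      · obtain ⟨c, d, rfl⟩ := Submodule.mem_span_pair.1 hz
        rw [← e1, ← e2, form_add_left, form_smul_left, form_smul_left, form_smul_smul, form_smul_smul,
          ha.2 u (Submodule.subset_span (by simp)), ha.2 v (Submodule.subset_span (by simp))]
        ring
    have hA1n : IsNondegenerateOn (Cfsg.sympForm m F) A1 := by
      rintro _ ⟨a, ha, rfl⟩ h0
      have ha0 : a ≠ 0 := fun e => h0 (by rw [e, map_zero])
      obtain ⟨⟨x, hx, hxa⟩, ⟨y, hy, hay⟩⟩ := hA1 a ha ha0
      refine ⟨⟨_, ⟨x, hx, rfl⟩, ?_⟩, ⟨_, ⟨y, hy, rfl⟩, ?_⟩⟩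
      · show form _ _ ≠ 0
        rw [LinearEquiv.coe_coe, glEquiv_apply, glEquiv_apply, toGLHom_mulVec, toGLHom_mulVec, form_smul_smul]
        exact hxa
      · show form _ _ ≠ 0
        rw [LinearEquiv.coe_coe, glEquiv_apply, glEquiv_apply, toGLHom_mulVec, toGLHom_mulVec, form_smul_smul]
        exact hay
    have hd : Module.finrank F A1 = Module.finrank F ↥(A ⊓ perp (Submodule.span F {u, v})) :=
      LinearEquiv.finrank_map_eq _ _
    obtain ⟨g2, hg2, hg2A⟩ := ih (Module.finrank F A1) (by omega) A1 B1 W1 rfl hA1W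
      (inf_le_inf_right _ hBW) hA1n hB1 (by
        show Module.finrank F A1 ≤ Module.finrank F ↥(B ⊓ perp (Submodule.span F {u', v'}))
        omega)
    refine ⟨g2 * g1, mul_mem (tvGroup_mono inf_le_left hg2) hg1, fun a ha => ?_⟩
    have hmem : (a - form a v • u + form a u • v) ∈ A ⊓ perp (Submodule.span F {u, v}) := hA3 a ha
    have h1 := hg2A _ ⟨_, hmem, rfl⟩
    rw [LinearEquiv.coe_coe, glEquiv_apply, toGLHom_mulVec] at h1
    have hfix : ∀ z, z ∈ Submodule.span F ({u', v'} : Set E) → g2 • z = z := fun z hz =>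
      tvGroup_fix hg2 fun w hw => hw.2 z hz
    have key : (g2 * g1) • a =
        g2 • (g1 • (a - form a v • u + form a u • v)) + form a v • u' - form a u • v' := by
      have e : a = (a - form a v • u + form a u • v) + form a v • u - form a u • v := by abel
      conv_lhs => rw [e]
      have hl : ∀ (g : Matrix.symplecticGroup (Fin m) F) (c : F) (x : E), g • (c • x) = c • (g • x) :=
        fun g c x => Matrix.mulVec_smul _ c x
      rw [mul_smul, smul_sub, smul_add, hl g1, hl g1, e1, e2, smul_sub, smul_add,
        hl g2, hl g2, hfix u' (Submodule.subset_span (by simp)),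
        hfix v' (Submodule.subset_span (by simp))]
    rw [key]
    exact B.sub_mem (B.add_mem h1.1 (B.smul_mem _ hu')) (B.smul_mem _ hv')

variable {t k : ℕ} {D : Fin t → Submodule F (Fin m ⊕ Fin m → F)}
  (hD : IsNondegenerateMDecomposition (Cfsg.sympForm m F) k D)

/-- The component of a vector in a member of an orthogonal decomposition. -/
noncomputable def comp (i : Fin t) (x : Fin m ⊕ Fin m → F) : Fin m ⊕ Fin m → F :=
  (exists_split (hD.nondegenerate i) x).choose

include hD

lemma comp_mem (i : Fin t) (x : E) : comp hD i x ∈ D i :=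
  (exists_split (hD.nondegenerate i) x).choose_spec.1

lemma sub_comp_mem (i : Fin t) (x : E) : x - comp hD i x ∈ perp (D i) :=
  (exists_split (hD.nondegenerate i) x).choose_spec.2

lemma comp_eq {i : Fin t} {x a : E} (ha : a ∈ D i) (h : x - a ∈ perp (D i)) : comp hD i x = a := by
  refine sub_eq_zero.1 (eq_zero_of_mem_perp (hD.nondegenerate i) ((D i).sub_mem (comp_mem hD i x) ha) ?_)
  have := (perp (D i)).sub_mem h (sub_comp_mem hD i x)
  rwa [sub_sub_sub_cancel_left] at this

lemma comp_add (i : Fin t) (x y : E) : comp hD i (x + y) = comp hD i x + comp hD i y :=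
  comp_eq hD ((D i).add_mem (comp_mem hD i x) (comp_mem hD i y)) (by
    rw [add_sub_add_comm]; exact (perp (D i)).add_mem (sub_comp_mem hD i x) (sub_comp_mem hD i y))

lemma comp_smul (i : Fin t) (c : F) (x : E) : comp hD i (c • x) = c • comp hD i x :=
  comp_eq hD ((D i).smul_mem _ (comp_mem hD i x)) (by
    rw [← smul_sub]; exact (perp (D i)).smul_mem _ (sub_comp_mem hD i x))

lemma comp_of_mem {i : Fin t} {x : E} (hx : x ∈ D i) : comp hD i x = x :=
  comp_eq hD hx (by simp)

lemma comp_of_mem_ne {i j : Fin t} (hij : i ≠ j) {x : E} (hx : x ∈ D j) : comp hD i x = 0 :=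
  comp_eq hD (D i).zero_mem (by rw [sub_zero]; exact fun w hw => hD.orthogonal i j hij w hw x hx)

lemma comp_sum (i : Fin t) (s : Finset (Fin t)) (y : Fin t → E) :
    comp hD i (∑ j ∈ s, y j) = ∑ j ∈ s, comp hD i (y j) := by
  let φ : E →+ E := AddMonoidHom.mk' (comp hD i) (comp_add hD i)
  exact map_sum φ y s

lemma comp_sum_family {y : Fin t → E} (hy : ∀ j, y j ∈ D j) (i : Fin t) : comp hD i (∑ j, y j) = y i := by
  rw [comp_sum, Finset.sum_eq_single i (fun j _ hj => comp_of_mem_ne hD (Ne.symm hj) (hy j))
    (fun h => absurd (Finset.mem_univ i) h), comp_of_mem hD (hy i)]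

lemma sum_comp (x : E) : ∑ i, comp hD i x = x := by
  refine sub_eq_zero.1 (eq_zero_of_form_eq_zero fun u => ?_)
  have hall : ∀ u : E, u ∈ perp (F ∙ (∑ i, comp hD i x - x)) := by
    intro u
    have hle : iSup D ≤ perp (F ∙ (∑ i, comp hD i x - x)) := iSup_le fun i d hd w hw => by
      obtain ⟨c, rfl⟩ := Submodule.mem_span_singleton.1 hw
      have h1 : comp hD i (∑ j, comp hD j x - x) = 0 := by
        rw [show (∑ j, comp hD j x - x) = ∑ j, comp hD j x + (-1 : F) • x by module, comp_add, comp_smul,
          comp_sum_family hD (fun j => comp_mem hD j x)]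
        simp
      have h2 := sub_comp_mem hD i (∑ j, comp hD j x - x)
      rw [h1, sub_zero] at h2
      rw [form_smul_left, form_perp h2 hd, mul_zero]
    exact hle (hD.decomp.iSup_eq_top ▸ Submodule.mem_top)
  rw [form_swap, hall u _ (Submodule.mem_span_singleton_self _), neg_zero]

lemma form_eq_sum (x y : E) : form x y = ∑ i, form (comp hD i x) (comp hD i y) := by
  have hsum : ∀ (a : E) (b : Fin t → E), form a (∑ i, b i) = ∑ i, form a (b i) := fun a b => by
    let φ : E →+ F := AddMonoidHom.mk' (form a) (form_add_right a)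
    exact map_sum φ b _
  conv_lhs => rw [← sum_comp hD y, hsum]
  refine Finset.sum_congr rfl fun i _ => ?_
  have := form_perp (sub_comp_mem hD i x) (comp_mem hD i y)
  rwa [form_sub_left, sub_eq_zero] at this

/-- A member is moved to another by an element of the decomposition stabiliser fixing the rest. -/
lemma exists_swap_members (i j : Fin t) (hij : i ≠ j) :
    ∃ g ∈ decompositionStabilizer D ⊓ spGL m F, (∀ v ∈ D i, (g : Matrix _ _ F) *ᵥ v ∈ D j) ∧
      ∀ l, l ≠ i → l ≠ j → ∀ v ∈ D l, (g : Matrix _ _ F) *ᵥ v = v := by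
  obtain ⟨g, hg, hgA⟩ := exists_map_le (Module.finrank F (D i)) (D i) (D j) (D i ⊔ D j) rfl le_sup_left
    le_sup_right (hD.nondegenerate i) (hD.nondegenerate j)
    (by rw [hD.decomp.finrank_eq, hD.decomp.finrank_eq])
  have hfix : ∀ l, l ≠ i → l ≠ j → ∀ v ∈ D l, g • v = v := fun l hli hlj v hv => tvGroup_fix hg fun w hw => by
    obtain ⟨a, ha, b, hb, rfl⟩ := Submodule.mem_sup.1 hw
    rw [form_add_right, show form v a = 0 from hD.orthogonal l i hli v hv a ha,
      show form v b = 0 from hD.orthogonal l j hlj v hv b hb, add_zero]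
  have hji : ∀ d ∈ D j, g • d ∈ D i := by
    intro d hd
    have hW := tvGroup_sub_mem hg d
    have hmem : g • d ∈ D i ⊔ D j := by
      have := (D i ⊔ D j).add_mem hW (Submodule.mem_sup_right hd)
      rwa [sub_add_cancel] at this
    obtain ⟨a, ha, b, hb, hab⟩ := Submodule.mem_sup.1 hmem
    suffices b = 0 by rw [← hab, this, add_zero]; exact ha
    have heq : (D i).map (glEquiv (toGLHom g)).toLinearMap = D j := by
      refine Submodule.eq_of_le_of_finrank_le ?_ ?_
      · rintro _ ⟨v, hv, rfl⟩
        rw [LinearEquiv.coe_coe, glEquiv_apply, toGLHom_mulVec]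
        exact hgA v hv
      · rw [LinearEquiv.finrank_map_eq, hD.decomp.finrank_eq, hD.decomp.finrank_eq]
    refine eq_zero_of_mem_perp (hD.nondegenerate j) hb fun w hw => ?_
    rw [← heq] at hw
    obtain ⟨v, hv, rfl⟩ := hw
    rw [LinearEquiv.coe_coe, glEquiv_apply, toGLHom_mulVec]
    have h1 : form (g • v) (g • d) = 0 := by
      rw [form_smul_smul]; exact hD.orthogonal i j hij v hv d hd
    rw [← hab, form_add_right, show form (g • v) a = 0 from hD.orthogonal j i (Ne.symm hij) _ (hgA v hv) a ha,
      zero_add] at h1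
    exact h1
  refine ⟨toGLHom g, ⟨mem_decompositionStabilizer_of hD.decomp (Equiv.swap i j) fun l v hv => ?_,
    toGLHom_mem g⟩, hgA, hfix⟩
  rw [toGLHom_mulVec]
  rcases eq_or_ne l i with rfl | hli
  · rw [Equiv.swap_apply_left]; exact hgA v hv
  rcases eq_or_ne l j with rfl | hlj
  · rw [Equiv.swap_apply_right]; exact hji v hv
  rw [Equiv.swap_apply_of_ne_of_ne hli hlj, hfix l hli hlj v hv]
  exact hv

variable {M : Subgroup (GL (Fin m ⊕ Fin m) F)}

lemma full_member (hM : decompositionStabilizer D ⊓ spGL m F ≤ M) {i : Fin t} {v : E} (hv : v ∈ D i) :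
    Full M v := fun c => hM ⟨mem_decompositionStabilizer_of hD.decomp 1 fun l x hx => by
    rw [stv_mulVec, Equiv.Perm.one_apply]
    rcases eq_or_ne l i with rfl | hli
    · exact (D l).add_mem hx ((D l).smul_mem _ hv)
    · rwa [show form x v = 0 from hD.orthogonal l i hli x hx v hv, mul_zero, zero_smul, add_zero], stv_mem v c⟩

omit hD in
lemma full_zero' : Full M (0 : E) := full_zero

/-- All vectors with the given support are full centres. -/
def HasSupp (M : Subgroup (GL (Fin m ⊕ Fin m) F)) (S : Finset (Fin t)) : Prop :=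
  ∀ v : E, (∀ i, comp hD i v ≠ 0 ↔ i ∈ S) → Full M v

/-- One full centre gives all centres of the same support. -/
lemma hasSupp_of_full (hM : decompositionStabilizer D ⊓ spGL m F ≤ M) (hMI : M ≤ spGL m F) {v : E}
    (hv : Full M v) {S : Finset (Fin t)} (hS : ∀ i, comp hD i v ≠ 0 ↔ i ∈ S) : HasSupp hD M S := by
  classical
  intro y hy
  have key : ∀ T : Finset (Fin t), ∃ z, Full M z ∧
      ∀ i, comp hD i z = if i ∈ T then comp hD i y else comp hD i v := by
    intro T
    induction T using Finset.induction_on with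
    | empty => exact ⟨v, hv, fun i => by simp⟩
    | insert a T ha ih =>
      obtain ⟨z, hzF, hz⟩ := ih
      by_cases haS : a ∈ S
      · have hza : comp hD a z = comp hD a v := by rw [hz, if_neg ha]
        have h1 : comp hD a v ≠ 0 := (hS a).2 haS
        have h2 : comp hD a y ≠ 0 := (hy a).2 haS
        obtain ⟨g, hg, e, hfix⟩ := exists_move (M := M) (W := D a) (fun w hw => full_member hD hM hw)
          (comp_mem hD a z) (comp_mem hD a y) (nondeg_partner (hD.nondegenerate a) (comp_mem hD a z) (hza ▸ h1))
          (nondeg_partner (hD.nondegenerate a) (comp_mem hD a y) h2)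
        refine ⟨_, full_conj hMI hzF hg, fun i => ?_⟩
        have hrest : (g : Matrix _ _ F) *ᵥ (z - comp hD a z) = z - comp hD a z :=
          hfix _ fun w hw => form_perp (sub_comp_mem hD a z) hw
        have hgz : (g : Matrix _ _ F) *ᵥ z = comp hD a y + (z - comp hD a z) := by
          conv_lhs => rw [show z = comp hD a z + (z - comp hD a z) by abel]
          rw [Matrix.mulVec_add, e, hrest]
        rw [hgz, comp_add]
        rcases eq_or_ne i a with rfl | hia
        · rw [if_pos (Finset.mem_insert_self _ _), comp_of_mem hD (comp_mem hD i y),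
            comp_eq hD (D i).zero_mem (a := 0) (x := z - comp hD i z)
              (by rw [sub_zero]; exact sub_comp_mem hD i z), add_zero]
        · rw [comp_of_mem_ne hD hia (comp_mem hD a y), zero_add,
            show z - comp hD a z = z + (-1 : F) • comp hD a z by module, comp_add, comp_smul,
            comp_of_mem_ne hD hia (comp_mem hD a z), smul_zero, add_zero, hz]
          simp [hia]
      · refine ⟨z, hzF, fun i => ?_⟩
        rw [hz]
        rcases eq_or_ne i a with rfl | hia
        · rw [if_neg ha, if_pos (Finset.mem_insert_self _ _),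
            not_ne_iff.1 (mt (hS i).1 haS), not_ne_iff.1 (mt (hy i).1 haS)]
        · simp [hia]
  obtain ⟨z, hzF, hz⟩ := key Finset.univ
  have : z = y := by
    rw [← sum_comp hD z, ← sum_comp hD y]
    exact Finset.sum_congr rfl fun i _ => by simp [hz]
  exact this ▸ hzF

theorem orthDecomp_key (hex : ∀ (l : Fin t) (a : E), a ∈ D l → a ≠ 0 →
      ∃ b ∈ D l, b ≠ 0 ∧ b ≠ a ∧ form a b = 0)
    (hM : decompositionStabilizer D ⊓ spGL m F ≤ M) (hMI : M ≤ spGL m F)
    (hMX : ¬ M ≤ decompositionStabilizer D) : spGL m F ≤ M := by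
  classical
  obtain ⟨g, hgM, hgX⟩ := SetLike.not_le_iff_exists.1 hMX
  have hne : ∀ l, ∃ a ∈ D l, a ≠ 0 := fun l => (Submodule.ne_bot_iff _).1 fun e => by
    have := hD.decomp.finrank_eq l
    rw [e, finrank_bot] at this
    exact absurd hD.decomp.pos (by omega)
  choose a0 ha0 ha00 using hne
  -- a full centre with two components
  obtain ⟨v, hvF, i1, i2, hi12, hv1, hv2⟩ : ∃ v, Full M v ∧ ∃ i1 i2, i1 ≠ i2 ∧
      comp hD i1 v ≠ 0 ∧ comp hD i2 v ≠ 0 := by
    by_contra hcon
    push Not at hcon
    have hone : ∀ i, ∀ x ∈ D i, ∀ j j', j ≠ j' → comp hD j ((g : Matrix _ _ F) *ᵥ x) ≠ 0 →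
        comp hD j' ((g : Matrix _ _ F) *ᵥ x) = 0 := fun i x hx j j' hjj h =>
      hcon _ (full_conj hMI (full_member hD hM hx) hgM) j j' hjj h
    have himg : ∀ i, ∃ j, ∀ x ∈ D i, (g : Matrix _ _ F) *ᵥ x ∈ D j := by
      intro i
      obtain ⟨j, hj⟩ : ∃ j, comp hD j ((g : Matrix _ _ F) *ᵥ a0 i) ≠ 0 := by
        by_contra hall
        push Not at hall
        apply ha00 i
        rw [← inv_mulVec_mulVec g (a0 i), ← sum_comp hD ((g : Matrix _ _ F) *ᵥ a0 i),
          Finset.sum_eq_zero fun j _ => hall j, Matrix.mulVec_zero]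
      refine ⟨j, fun x hx => ?_⟩
      rw [← sum_comp hD ((g : Matrix _ _ F) *ᵥ x)]
      refine (D j).sum_mem fun l _ => ?_
      rcases eq_or_ne l j with rfl | hlj
      · exact comp_mem hD l _
      suffices comp hD l ((g : Matrix _ _ F) *ᵥ x) = 0 by rw [this]; exact (D j).zero_mem
      by_contra hl
      have hj0 := hone i x hx l j hlj hl
      have hl0 := hone i (a0 i) (ha0 i) j l (Ne.symm hlj) hj
      have := hone i (x + a0 i) ((D i).add_mem hx (ha0 i)) l j hlj (by
        rw [Matrix.mulVec_add, comp_add, hl0, add_zero]; exact hl)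
      rw [Matrix.mulVec_add, comp_add, hj0, zero_add] at this
      exact hj this
    choose σ hσ using himg
    have hinj : Function.Injective σ := by
      intro i i' he
      by_contra hne
      have hsub : ∀ l, (D l).map (glEquiv g).toLinearMap = D (σ l) := fun l => by
        refine Submodule.eq_of_le_of_finrank_le ?_ ?_
        · rintro _ ⟨x, hx, rfl⟩
          simpa using hσ l x hx
        · rw [LinearEquiv.finrank_map_eq, hD.decomp.finrank_eq, hD.decomp.finrank_eq]
      have h1 : (g : Matrix _ _ F) *ᵥ a0 i ∈ (D i').map (glEquiv g).toLinearMap := by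
        rw [hsub, ← he]; exact hσ i _ (ha0 i)
      obtain ⟨x, hx, hxe⟩ := h1
      have : x = a0 i := (glEquiv g).injective (by simpa using hxe)
      subst this
      exact ha00 i (Submodule.disjoint_def.1 (hD.decomp.indep.pairwiseDisjoint hne) _ (ha0 i) hx)
    exact hgX (mem_decompositionStabilizer_of hD.decomp
      (Equiv.ofBijective σ (Finite.injective_iff_bijective.1 hinj)) hσ)
  -- removing one member from a support
  have hdown : ∀ (S : Finset (Fin t)) (i j : Fin t), i ∈ S → j ∈ S → i ≠ j → HasSupp hD M S →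
      HasSupp hD M (S.erase i) := by
    intro S i j hi hj hij hS
    have hb : ∀ l, ∃ b ∈ D l, (l = i → b = a0 l) ∧ (l ∉ S → b = 0) ∧
        (l = j → form (a0 l) b ≠ 0) ∧ (l ≠ i → l ≠ j → l ∈ S → b ≠ 0 ∧ b ≠ a0 l ∧ form (a0 l) b = 0) := by
      intro l
      rcases eq_or_ne l i with rfl | hli
      · exact ⟨a0 l, ha0 l, fun _ => rfl, fun h => absurd hi h, fun h => absurd h hij, fun h => absurd rfl h⟩
      rcases eq_or_ne l j with rfl | hlj
      · obtain ⟨b, hb, hab⟩ := nondeg_partner (hD.nondegenerate l) (ha0 l) (ha00 l)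
        exact ⟨b, hb, fun h => absurd h hli, fun h => absurd hj h, fun _ => hab, fun _ h => absurd rfl h⟩
      by_cases hlS : l ∈ S
      · obtain ⟨b, hb, h1, h2, h3⟩ := hex l (a0 l) (ha0 l) (ha00 l)
        exact ⟨b, hb, fun h => absurd h hli, fun h => absurd hlS h, fun h => absurd h hlj, fun _ _ _ => ⟨h1, h2, h3⟩⟩
      · exact ⟨0, (D l).zero_mem, fun h => absurd h hli, fun _ => rfl, fun h => absurd h hlj, fun _ _ h => absurd h hlS⟩
    choose b hb hbi hb0 hbj hbo using hb
    let a : Fin t → E := fun l => if l ∈ S then a0 l else 0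
    have ha : ∀ l, a l ∈ D l := fun l => by
      by_cases h : l ∈ S <;> simp [a, h, ha0 l]
    have hca := comp_sum_family hD ha
    have hcb := comp_sum_family hD hb
    have hbj0 : b j ≠ 0 := fun e => hbj j rfl (by rw [e, form_zero_right])
    have h1 : Full M (∑ l, a l) := hS _ fun l => by
      rw [hca]
      by_cases h : l ∈ S <;> simp [a, h, ha00 l]
    have h2 : Full M (∑ l, b l) := hS _ fun l => by
      rw [hcb]
      refine ⟨fun h => by_contra fun hn => h (hb0 l hn), fun h => ?_⟩
      rcases eq_or_ne l i with rfl | hli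
      · rw [hbi l rfl]; exact ha00 l
      rcases eq_or_ne l j with rfl | hlj
      · exact hbj0
      exact (hbo l hli hlj h).1
    have hf : form (∑ l, a l) (∑ l, b l) = form (a0 j) (b j) := by
      rw [form_eq_sum hD]
      simp only [hca, hcb]
      rw [Finset.sum_eq_single j]
      · simp [a, hj]
      · intro l _ hlj
        by_cases h : l ∈ S
        · rcases eq_or_ne l i with rfl | hli
          · rw [hbi l rfl]; simp [a, h, form_self]
          · simp [a, h, (hbo l hli hlj h).2.2]
        · simp [a, h, form_zero_left]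
      · simp
    have h3 := full_add_smul hMI h2 h1 (by rw [hf]; exact hbj j rfl) (-1)
    refine hasSupp_of_full hD hM hMI h3 fun l => ?_
    rw [comp_add, comp_smul, hca, hcb, Finset.mem_erase]
    rw [show a l + (-1 : F) • b l = a l - b l by module, sub_ne_zero]
    rcases eq_or_ne l i with rfl | hli
    · simp [a, hi, hbi l rfl]
    by_cases h : l ∈ S
    · simp only [a, h, if_true, ne_eq, hli, not_false_eq_true, and_self, iff_true]
      rcases eq_or_ne l j with rfl | hlj
      · intro e
        exact hbj l rfl (by rw [← e, form_self])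
      · exact Ne.symm (hbo l hli hlj h).2.1
    · simp [a, h, hb0 l h]
  -- one pair
  have hpair0 : ∀ S : Finset (Fin t), i1 ∈ S → i2 ∈ S → HasSupp hD M S → HasSupp hD M {i1, i2} := by
    intro S
    induction S using Finset.strongInduction with
    | H S ih =>
      intro h1 h2 hS
      by_cases hex' : ∃ i ∈ S, i ≠ i1 ∧ i ≠ i2
      · obtain ⟨i, hi, hn1, hn2⟩ := hex'
        exact ih _ (Finset.erase_ssubset hi) (Finset.mem_erase.2 ⟨Ne.symm hn1, h1⟩)
          (Finset.mem_erase.2 ⟨Ne.symm hn2, h2⟩) (hdown S i i1 hi h1 hn1 hS)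
      · push Not at hex'
        have : S = {i1, i2} := by
          ext x
          simp only [Finset.mem_insert, Finset.mem_singleton]
          exact ⟨fun hx => by
            by_cases hx1 : x = i1
            · exact Or.inl hx1
            · exact Or.inr (hex' x hx hx1), fun hx => hx.elim (· ▸ h1) (· ▸ h2)⟩
        exact this ▸ hS
  have hp12 : HasSupp hD M {i1, i2} :=
    hpair0 (Finset.univ.filter fun i => comp hD i v ≠ 0) (by simpa using hv1) (by simpa using hv2)
      (hasSupp_of_full hD hM hMI hvF fun i => by simp)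
  -- all pairs
  have htransport : ∀ i j l, i ≠ j → l ≠ i → l ≠ j → HasSupp hD M {i, j} → HasSupp hD M {l, j} := by
    intro i j l hij hli hlj hS
    obtain ⟨s, hs, hsA, hsfix⟩ := exists_swap_members hD i l (Ne.symm hli)
    have h1 : Full M (a0 i + a0 j) := hS _ fun x => by
      rw [comp_add]
      rcases eq_or_ne x i with rfl | hxi
      · simp [comp_of_mem hD (ha0 x), comp_of_mem_ne hD hij (ha0 j), ha00 x]
      rcases eq_or_ne x j with rfl | hxj
      · simp [comp_of_mem hD (ha0 x), comp_of_mem_ne hD hxi (ha0 i), ha00 x]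
      · simp [comp_of_mem_ne hD hxi (ha0 i), comp_of_mem_ne hD hxj (ha0 j), hxi, hxj]
    have h2 := full_conj hMI h1 (hM hs)
    rw [Matrix.mulVec_add, hsfix j (Ne.symm hij) (Ne.symm hlj) (a0 j) (ha0 j)] at h2
    have hn : (s : Matrix (Fin m ⊕ Fin m) (Fin m ⊕ Fin m) F) *ᵥ a0 i ≠ 0 := fun e => ha00 i (by
      rw [← inv_mulVec_mulVec s (a0 i), e, Matrix.mulVec_zero])
    refine hasSupp_of_full hD hM hMI h2 fun x => ?_
    rw [comp_add]
    rcases eq_or_ne x l with rfl | hxl
    · simp [comp_of_mem hD (hsA _ (ha0 i)), comp_of_mem_ne hD hlj (ha0 j), hn]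
    rcases eq_or_ne x j with rfl | hxj
    · simp [comp_of_mem hD (ha0 x), comp_of_mem_ne hD hxl (hsA _ (ha0 i)), ha00 x]
    · simp [comp_of_mem_ne hD hxl (hsA _ (ha0 i)), comp_of_mem_ne hD hxj (ha0 j), hxl, hxj]
  have hpairs : ∀ i j, i ≠ j → HasSupp hD M {i, j} := by
    -- pairs containing i1
    have h1 : ∀ j, j ≠ i1 → HasSupp hD M {i1, j} := by
      intro j hj
      rcases eq_or_ne j i2 with rfl | hj2
      · exact hp12
      · rw [Finset.pair_comm]
        exact htransport i2 i1 j (Ne.symm hi12) hj2 hj (Finset.pair_comm i1 i2 ▸ hp12)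
    intro i j hij
    rcases eq_or_ne i i1 with rfl | hi
    · exact h1 j (Ne.symm hij)
    rcases eq_or_ne j i1 with rfl | hj
    · rw [Finset.pair_comm]; exact h1 i hij
    exact htransport i1 j i (Ne.symm hj) hi hij (h1 j hj)
  -- all supports
  have hall : ∀ S : Finset (Fin t), HasSupp hD M S := by
    intro S
    induction S using Finset.induction_on with
    | empty =>
      intro w hw
      have : w = 0 := by
        rw [← sum_comp hD w]
        exact Finset.sum_eq_zero fun i _ => by_contra fun h => by simpa using (hw i).1 h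
      exact this ▸ full_zero
    | insert l S hl ih =>
      rcases S.eq_empty_or_nonempty with rfl | ⟨j, hj⟩
      · intro w hw
        refine full_member hD hM (i := l) ?_
        rw [← sum_comp hD w]
        refine (D l).sum_mem fun i _ => ?_
        rcases eq_or_ne i l with rfl | hil
        · exact comp_mem hD i w
        · rw [not_ne_iff.1 (fun h : comp hD i w ≠ 0 => hil (by simpa using (hw i).1 h))]
          exact (D l).zero_mem
      have hjl : j ≠ l := fun e => hl (e ▸ hj)
      obtain ⟨b, hb, hab⟩ := nondeg_partner (hD.nondegenerate j) (ha0 j) (ha00 j)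
      let a : Fin t → E := fun i => if i ∈ S then a0 i else 0
      have ha : ∀ i, a i ∈ D i := fun i => by
        by_cases h : i ∈ S <;> simp [a, h, ha0 i]
      have hca := comp_sum_family hD ha
      have h1 : Full M (∑ i, a i) := ih _ fun i => by
        rw [hca]
        by_cases h : i ∈ S <;> simp [a, h, ha00 i]
      have hb0 : b ≠ 0 := fun e => hab (by rw [e, form_zero_right])
      have hcb : ∀ i, comp hD i (b + a0 l) = if i = j then b else if i = l then a0 l else 0 := fun i => by
        rw [comp_add]
        rcases eq_or_ne i j with rfl | hij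
        · simp [comp_of_mem hD hb, comp_of_mem_ne hD hjl (ha0 l)]
        rcases eq_or_ne i l with rfl | hil
        · simp [comp_of_mem hD (ha0 i), comp_of_mem_ne hD hij hb, hij]
        · simp [comp_of_mem_ne hD hij hb, comp_of_mem_ne hD hil (ha0 l), hij, hil]
      have h2 : Full M (b + a0 l) := hpairs j l hjl _ fun i => by
        rw [hcb]
        rcases eq_or_ne i j with rfl | hij
        · simp [hb0]
        rcases eq_or_ne i l with rfl | hil
        · simp [hij, ha00 i]
        · simp [hij, hil]
      have hf : form (∑ i, a i) (b + a0 l) = form (a0 j) b := by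
        rw [form_eq_sum hD]
        simp only [hca, hcb]
        rw [Finset.sum_eq_single j]
        · simp [a, hj]
        · intro i _ hij
          by_cases h : i ∈ S
          · have hil : i ≠ l := fun e => hl (e ▸ h)
            simp [hij, hil, form_zero_right]
          · simp [a, h, form_zero_left]
        · simp
      have h3 := full_add hMI h2 h1 (by rw [hf]; exact hab)
      refine hasSupp_of_full hD hM hMI h3 fun i => ?_
      rw [comp_add, hca, hcb, Finset.mem_insert]
      rcases eq_or_ne i j with rfl | hij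
      · simp only [a, hj, if_true, or_true, iff_true]
        intro e
        refine hab ?_
        have : b = (-1 : F) • a0 i := by rw [eq_neg_of_add_eq_zero_right e]; module
        rw [this, form_smul_right, form_self, mul_zero]
      rcases eq_or_ne i l with rfl | hil
      · simp [a, hl, hij, ha00 i]
      · by_cases h : i ∈ S <;> simp [a, h, hij, hil, ha00 i]
  refine spGL_le_of_full fun w => ?_
  exact hall (Finset.univ.filter fun i => comp hD i w ≠ 0) w fun i => by simp

theorem orthDecomp_proper : ¬ spGL m F ≤ decompositionStabilizer D := by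
  intro h
  have h2 := hD.decomp.two_le
  let i : Fin t := ⟨0, by omega⟩
  let j : Fin t := ⟨1, by omega⟩
  have hij : i ≠ j := by simp [i, j]
  have hne : ∀ l, ∃ a ∈ D l, a ≠ 0 := fun l => (Submodule.ne_bot_iff _).1 fun e => by
    have := hD.decomp.finrank_eq l
    rw [e, finrank_bot] at this
    exact absurd hD.decomp.pos (by omega)
  obtain ⟨a, ha, ha0⟩ := hne i
  obtain ⟨b, hb, hb0⟩ := hne j
  obtain ⟨x, hx, hax⟩ := nondeg_partner (hD.nondegenerate i) ha ha0
  obtain ⟨σ, hσ⟩ := exists_perm_of_mem (h (stv_mem (a + b) 1))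
  have hxa : form x (a + b) ≠ 0 := by
    rw [form_add_right, show form x b = 0 from hD.orthogonal i j hij x hx b hb, add_zero, form_swap,
      neg_ne_zero]
    exact hax
  have h1 := hσ i x hx
  rw [stv_mulVec, one_mul] at h1
  have hci : comp hD i (x + form x (a + b) • (a + b)) = x + form x (a + b) • a := by
    rw [comp_add, comp_smul, comp_add, comp_of_mem hD hx, comp_of_mem hD ha, comp_of_mem_ne hD hij hb, add_zero]
  have hcj : comp hD j (x + form x (a + b) • (a + b)) = form x (a + b) • b := by
    rw [comp_add, comp_smul, comp_add, comp_of_mem_ne hD (Ne.symm hij) hx, comp_of_mem hD hb,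
      comp_of_mem_ne hD (Ne.symm hij) ha, zero_add, zero_add]
  rcases eq_or_ne (σ i) i with he | he
  · rw [he] at h1
    rw [comp_of_mem_ne hD (Ne.symm hij) h1] at hcj
    exact smul_ne_zero hxa hb0 hcj.symm
  · rw [comp_of_mem_ne hD (Ne.symm he) h1] at hci
    refine hax ?_
    rw [eq_neg_of_add_eq_zero_left hci.symm, ← neg_smul, form_smul_right, form_self, mul_zero]

end CfsgLib.Geo.SpTv
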