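/-
In characteristic two the isometry group of a quadratic form polarising to the symplectic form is maximal.
-/
import Cfsg.Agent.Geo.SympTv

set_option autoImplicit false

namespace CfsgLib.Geo.SpTv

open Matrix Cfsg Cfsg.Geo CfsgLib.Symp

variable {m : ℕ} {F : Type*} [Field F]

local notation "E" => Fin m ⊕ Fin m → F

variable {Q : (Fin m ⊕ Fin m → F) → F} (h2 : (2 : F) = 0) (hm : 3 ≤ m)
  (hQs : ∀ (c : F) (v : Fin m ⊕ Fin m → F), Q (c • v) = c ^ 2 * Q v)
  (hQa : ∀ u v : Fin m ⊕ Fin m → F, Q (u + v) = Q u + Q v + form u v)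
  (hsq : ∀ a : F, ∃ t, t ^ 2 = a)
include h2 hm hQs hQa hsq

lemma add_self_eq_zero' (a : F) : a + a = 0 := by rw [← two_mul, h2, zero_mul]

lemma stv_mem_quad (v : E) (hv : Q v ≠ 0) : stv v (Q v)⁻¹ ∈ quadSimilarityGroup Q ⊓ spGL m F := by
  refine ⟨⟨1, fun x => ?_⟩, stv_mem _ _⟩
  rw [stv_mulVec, hQa, hQs, form_smul_right, Units.val_one, one_mul]
  field_simp
  linear_combination (form x v ^ 2) * h2

/-- A subspace of small dimension has an orthogonal on which `Q` takes every value. -/
lemma exists_perp_value (S : Submodule F E) (hS : Module.finrank F S ≤ 3)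
    (hS' : Module.finrank F S ≤ 2 ∨ ∃ a ∈ S, ∃ b ∈ S, form a b ≠ 0) (s : F) :
    ∃ y ∈ perp S, Q y = s := by
  obtain ⟨y1, hy1, hy1S⟩ : ∃ y ∈ perp S, y ∉ S := by
    by_contra hcon
    push Not at hcon
    let L : E →ₗ[F] Module.Dual F S :=
      { toFun := fun x =>
          { toFun := fun w => form (w : E) x
            map_add' := fun _ _ => form_add_left _ _ _
            map_smul' := fun _ _ => form_smul_left _ _ _ }
        map_add' := fun x y => LinearMap.ext fun w => form_add_right (w : E) x y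
        map_smul' := fun c x => LinearMap.ext fun w => form_smul_right c (w : E) x }
    have hker : LinearMap.ker L ≤ S := fun x hx =>
      hcon x fun w hw => DFunLike.congr_fun (LinearMap.mem_ker.1 hx) ⟨w, hw⟩
    have h1 := L.finrank_range_add_finrank_ker
    have h3 := Submodule.finrank_le (LinearMap.range L)
    rw [Subspace.dual_finrank_eq] at h3
    have h4 := Submodule.finrank_mono hker
    rw [Module.finrank_fintype_fun_eq_card, Fintype.card_sum, Fintype.card_fin] at h1
    rcases hS' with hS2 | ⟨a, ha, b, hb, hab⟩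
    · omega
    · have hlt : LinearMap.ker L < S := lt_of_le_of_ne hker fun e => by
        have hbk : b ∈ LinearMap.ker L := by rw [e]; exact hb
        exact hab (DFunLike.congr_fun (LinearMap.mem_ker.1 hbk) ⟨a, ha⟩)
      have := Submodule.finrank_lt_finrank_of_lt hlt
      omega
  obtain ⟨y2, hy2, hy12⟩ := exists_form_of_notMem S hy1S
  obtain ⟨y0, hy0, hQ0⟩ : ∃ y0 ∈ perp S, Q y0 ≠ 0 := by
    by_cases h1 : Q y1 = 0
    · by_cases h3 : Q y2 = 0
      · exact ⟨y1 + y2, (perp S).add_mem hy1 hy2, by rw [hQa, h1, h3, hy12]; simp⟩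
      · exact ⟨y2, hy2, h3⟩
    · exact ⟨y1, hy1, h1⟩
  obtain ⟨t, ht⟩ := hsq (s / Q y0)
  exact ⟨t • y0, (perp S).smul_mem _ hy0, by rw [hQs, ht, div_mul_cancel₀ s hQ0]⟩

variable {M : Subgroup (GL (Fin m ⊕ Fin m) F)}

lemma quad_move_step (hM : quadSimilarityGroup Q ⊓ spGL m F ≤ M) {u v : E} (hQ : Q u = Q v)
    (h : form u v ≠ 0) : ∃ g ∈ M, (g : Matrix _ _ F) *ᵥ u = v := by
  have hd : Q (u + v) = form u v := by
    rw [hQa, hQ, add_self_eq_zero' h2 hm hQs hQa hsq, zero_add]
  refine ⟨_, hM (stv_mem_quad h2 hm hQs hQa hsq (u + v) (by rwa [hd])), ?_⟩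
  rw [stv_mulVec, hd, form_add_right, form_self, zero_add, inv_mul_cancel₀ h, one_smul, ← add_assoc,
    show u + u = (0 : E) from funext fun i => add_self_eq_zero' h2 hm hQs hQa hsq (u i), zero_add]

/-- Non-zero vectors with the same value of `Q` are conjugate inside `M`. -/
lemma quad_move (hM : quadSimilarityGroup Q ⊓ spGL m F ≤ M) {u v : E} (hu : u ≠ 0) (hv : v ≠ 0)
    (hQ : Q u = Q v) : ∃ g ∈ M, (g : Matrix _ _ F) *ᵥ u = v := by
  by_cases h : form u v = 0
  · obtain ⟨x, hx1, hx2⟩ : ∃ x, form u x ≠ 0 ∧ form v x ≠ 0 := by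
      obtain ⟨a, ha⟩ := exists_form_ne_zero hu
      obtain ⟨b, hb⟩ := exists_form_ne_zero hv
      by_cases ha2 : form v a = 0
      · by_cases hb2 : form u b = 0
        · exact ⟨a + b, by rwa [form_add_right, hb2, add_zero], by rwa [form_add_right, ha2, zero_add]⟩
        · exact ⟨b, hb2, hb⟩
      · exact ⟨a, ha, ha2⟩
    classical
    obtain ⟨y, hy, hQy⟩ := exists_perp_value h2 hm hQs hQa hsq (Submodule.span F (({u, v, x} : Finset E) : Set E))
      ((finrank_span_finset_le_card _).trans Finset.card_le_three)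
      (Or.inr ⟨u, Submodule.subset_span (by simp), x, Submodule.subset_span (by simp), hx1⟩) (Q x + form u x)
    have hyu : form u y = 0 := hy u (Submodule.subset_span (by simp))
    have hyv : form v y = 0 := hy v (Submodule.subset_span (by simp))
    have hyx : form x y = 0 := hy x (Submodule.subset_span (by simp))
    have hQz : Q (u + (x + y)) = Q u := by
      rw [hQa, hQa, hQy, hyx, form_add_right, hyu]
      linear_combination (Q x + form u x) * h2
    obtain ⟨g1, hg1, e1⟩ := quad_move_step h2 hm hQs hQa hsq hM hQz.symm (v := u + (x + y)) (by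
      rw [form_add_right, form_self, form_add_right, hyu, zero_add, add_zero]; exact hx1)
    obtain ⟨g2, hg2, e2⟩ := quad_move_step h2 hm hQs hQa hsq hM (hQz.trans hQ) (by
      rw [form_swap, neg_ne_zero, form_add_right, form_add_right, hyv, form_swap v u, h, neg_zero,
        zero_add, add_zero]
      exact hx2)
    exact ⟨g2 * g1, M.mul_mem hg2 hg1, by rw [mul_mulVec, e1, e2]⟩
  · exact quad_move_step h2 hm hQs hQa hsq hM hQ h

theorem quad_key (hM : quadSimilarityGroup Q ⊓ spGL m F ≤ M) (hMI : M ≤ spGL m F)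
    (hMX : ¬ M ≤ quadSimilarityGroup Q) : spGL m F ≤ M := by
  obtain ⟨g, hgM, hgQ⟩ := SetLike.not_le_iff_exists.1 hMX
  obtain ⟨g, hgM, w, hw, hgw⟩ : ∃ g ∈ M, ∃ w, Q w ≠ 0 ∧ Q ((g : Matrix _ _ F) *ᵥ w) ≠ Q w := by
    by_contra hcon
    push Not at hcon
    refine hgQ ⟨1, fun v => ?_⟩
    rw [Units.val_one, one_mul]
    by_cases hv : Q v = 0
    · by_contra hne
      rw [hv] at hne
      have := hcon g⁻¹ (M.inv_mem hgM) _ hne
      rw [inv_mulVec_mulVec, hv] at this
      exact hne this.symm
    · exact hcon g hgM v hv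
  set u := (g : Matrix (Fin m ⊕ Fin m) (Fin m ⊕ Fin m) F) *ᵥ w with hu
  have hw0 : w ≠ 0 := by
    intro h0
    apply hw
    rw [h0, ← zero_smul F (0 : E), hQs]
    ring
  have hu0 : u ≠ 0 := fun h0 => hw0 (by
    rw [← inv_mulVec_mulVec g w, ← hu, h0, Matrix.mulVec_zero])
  have hcM : stv u (Q w)⁻¹ ∈ M := by
    rw [hu, ← stv_conj (hMI hgM)]
    exact M.mul_mem (M.mul_mem hgM (hM (stv_mem_quad h2 hm hQs hQa hsq w hw))) (M.inv_mem hgM)
  set c := (Q w)⁻¹ with hc
  have he : c ^ 2 * Q u + c ≠ 0 := by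
    have : c ^ 2 * Q u + c = c ^ 2 * (Q u + Q w) := by
      rw [hc]; field_simp
    rw [this]
    refine mul_ne_zero (pow_ne_zero _ (inv_ne_zero hw)) fun h0 => hgw ?_
    linear_combination h0 - (Q w) * h2
  have hone : ∀ v : E, v ≠ 0 → stv v 1 ∈ M := by
    intro v hv
    by_cases hv1 : Q v = 1
    · simpa [hv1] using hM (stv_mem_quad h2 hm hQs hQa hsq v (by simp [hv1]))
    obtain ⟨β, hβ⟩ := hsq ((Q v + 1) / (c ^ 2 * Q u + c))
    have hβ0 : β ≠ 0 := by
      rintro rfl
      rw [zero_pow (by norm_num), eq_comm, div_eq_zero_iff] at hβ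
      exact hv1 (by linear_combination (hβ.resolve_right he) - h2)
    obtain ⟨x, hx⟩ := exists_form_eq_one hu0
    classical
    obtain ⟨y, hy, hQy⟩ := exists_perp_value h2 hm hQs hQa hsq
      (Submodule.span F (({u, β • x} : Finset E) : Set E))
      ((finrank_span_finset_le_card _).trans (Finset.card_le_two.trans (by norm_num)))
      (Or.inl ((finrank_span_finset_le_card _).trans Finset.card_le_two)) (Q (β • x) + 1)
    have hyu : form u y = 0 := hy u (Submodule.subset_span (by simp))
    have hyx : form (β • x) y = 0 := hy _ (Submodule.subset_span (by simp))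
    have hQw' : Q (β • x + y) = 1 := by
      rw [hQa, hyx, hQy]
      linear_combination Q (β • x) * h2
    have hf : form (β • x + y) u = -β := by
      rw [form_swap, form_add_right, form_smul_right, hx, hyu, mul_one, add_zero]
    have h1 : stv (β • x + y) 1 ∈ M := by
      simpa [hQw'] using hM (stv_mem_quad h2 hm hQs hQa hsq (β • x + y) (by simp [hQw']))
    have h3 := M.mul_mem (M.mul_mem hcM h1) (M.inv_mem hcM)
    rw [stv_conj (stv_mem _ _), stv_mulVec, hf] at h3
    set z := β • x + y + (c * -β) • u with hz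
    have hz0 : z ≠ 0 := by
      intro h0
      have := congrArg (fun t => form u t) h0
      simp only [hz, form_add_right, form_smul_right, form_self, hx, hyu, form_zero_right, mul_zero,
        add_zero, mul_one] at this
      exact hβ0 this
    have hQz : Q z = Q v := by
      rw [hz, hQa, hQw', hQs, form_smul_right, hf]
      have : β ^ 2 * (c ^ 2 * Q u + c) = Q v + 1 := by rw [hβ, div_mul_cancel₀ _ he]
      linear_combination this + h2
    obtain ⟨h, hhM, hh⟩ := quad_move h2 hm hQs hQa hsq hM hz0 hv hQz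
    have := M.mul_mem (M.mul_mem hhM h3) (M.inv_mem hhM)
    rwa [stv_conj (hMI hhM), hh] at this
  refine spGL_le_of_full fun v a => ?_
  rcases eq_or_ne v 0 with rfl | hv
  · rw [stv_zero_left]; exact M.one_mem
  rcases eq_or_ne a 0 with rfl | ha
  · rw [show stv v (0 : F) = 1 from gl_ext_mulVec fun x => by simp [stv_mulVec]]
    exact M.one_mem
  obtain ⟨t, ht⟩ := hsq a
  have ht0 : t ≠ 0 := fun h0 => ha (by rw [← ht, h0]; ring)
  have := hone (t • v) (smul_ne_zero ht0 hv)
  rwa [stv_smul, mul_one, ht] at this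

theorem quad_proper : ¬ spGL m F ≤ quadSimilarityGroup Q := by
  intro h
  obtain ⟨v, hv, hQv⟩ : ∃ v : E, v ≠ 0 ∧ Q v = 0 := by
    obtain ⟨i⟩ : Nonempty (Fin m) := ⟨⟨0, by omega⟩⟩
    set u : E := Pi.single (Sum.inl i) 1 with hu
    have hu0 : u ≠ 0 := by simp [hu]
    by_cases hQu : Q u = 0
    · exact ⟨u, hu0, hQu⟩
    obtain ⟨x, hx⟩ := exists_form_eq_one hu0
    classical
    obtain ⟨y, hy, hQy⟩ := exists_perp_value h2 hm hQs hQa hsq (Submodule.span F (({u, x} : Finset E) : Set E))
      ((finrank_span_finset_le_card _).trans (Finset.card_le_two.trans (by norm_num)))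
      (Or.inl ((finrank_span_finset_le_card _).trans Finset.card_le_two)) (Q u)
    refine ⟨u + y, fun h0 => ?_, ?_⟩
    · have h1 := congrArg (fun t => form x t) h0
      simp only [form_add_right, hy x (Submodule.subset_span (by simp)), form_swap x u, hx, form_zero_right,
        add_zero] at h1
      simp at h1
    · rw [hQa, hQy, hy u (Submodule.subset_span (by simp))]
      linear_combination Q u * h2
  obtain ⟨x, hx⟩ := exists_form_eq_one hv
  obtain ⟨c, hc⟩ := h (stv_mem v 1)
  have hc1 : (c : F) = 1 := by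
    have h1 := hc (v + x)
    rw [Matrix.mulVec_add, hQa, hQa, hc, hc, form_mulVec (stv_mem v 1), hx] at h1
    linear_combination -h1
  have h3 := hc x
  rw [hc1, one_mul, stv_mulVec, hQa, hQs, hQv, form_smul_right, form_swap x v, hx] at h3
  exact one_ne_zero (α := F) (by linear_combination h3)

end CfsgLib.Geo.SpTv
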