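import Cfsg.Agent.Geo.SympUnitaryOvergroup

/-!
A quadratic subfield of the matrix algebra, closed under adjoints without being self-adjoint, is a
unitary structure of the symplectic space; its normaliser in `Sp` is maximal.
-/

set_option autoImplicit false
set_option linter.unusedSectionVars false
set_option linter.style.haveILetI false

namespace CfsgLib.Geo.SpTv

open Matrix Cfsg Cfsg.Geo CfsgLib.Symp

variable {m : ℕ} {F : Type*} [Field F] [Finite F]

local notation "E" => Fin m ⊕ Fin m → F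
local notation "fm" => CfsgLib.Symp.form (l := Fin m) (R := F)

/-- Maximality of the normaliser in `Sp` of a quadratic subfield inducing a unitary structure. -/
theorem unitary_normalizer_maximal (h2 : (2 : F) ≠ 0) (hm : 3 ≤ m)
    {K : Subalgebra F (Matrix (Fin m ⊕ Fin m) (Fin m ⊕ Fin m) F)}
    (hK : Cfsg.Geo.IsFieldSubalgebra 2 K) (hac : Cfsg.Geo.IsAdjointClosedFor (Cfsg.sympForm m F) K)
    (hnsa : ¬ Cfsg.Geo.IsSelfAdjointFor (Cfsg.sympForm m F) K) :
    Cfsg.Geo.IsMaximalIn (Cfsg.spGL m F) (Cfsg.Geo.subalgebraNormalizer K ⊓ Cfsg.spGL m F) := by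
  classical
  haveI : Nonempty (Fin m) := ⟨⟨0, by omega⟩⟩
  have hscal : ∀ s : F, s • (1 : Matrix (Fin m ⊕ Fin m) (Fin m ⊕ Fin m) F) ∈ K :=
    fun s => K.smul_mem (one_mem K) s
  -- a generator
  obtain ⟨j₀, hj₀, hjn⟩ : ∃ j ∈ K, ∀ s : F, j ≠ s • (1 : Matrix (Fin m ⊕ Fin m) (Fin m ⊕ Fin m) F) := by
    by_contra h
    push Not at h
    have hle : Subalgebra.toSubmodule K ≤
        Submodule.span F {(1 : Matrix (Fin m ⊕ Fin m) (Fin m ⊕ Fin m) F)} := fun x hx => by
      obtain ⟨s, rfl⟩ := h x hx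
      exact Submodule.smul_mem _ _ (Submodule.mem_span_singleton_self _)
    have h1 := (Submodule.finrank_mono hle).trans (finrank_span_le_card _)
    rw [Subalgebra.finrank_toSubmodule, hK.finrank_eq] at h1
    simp at h1
  have hirr : ∀ j ∈ K, (∀ s : F, j ≠ s • (1 : Matrix (Fin m ⊕ Fin m) (Fin m ⊕ Fin m) F)) →
      ∀ (v : E) (s t : F), v ≠ 0 → s • v + t • (j *ᵥ v) = 0 → s = 0 ∧ t = 0 := by
    intro j hj hjn v s t hv h
    by_cases hk : s • (1 : Matrix (Fin m ⊕ Fin m) (Fin m ⊕ Fin m) F) + t • j = 0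
    · by_cases ht : t = 0
      · subst ht
        rw [zero_smul, add_zero, smul_eq_zero] at h
        exact ⟨h.resolve_right hv, rfl⟩
      · exfalso
        refine hjn (-(t⁻¹ * s)) ?_
        have h' := congrArg (t⁻¹ • ·) hk
        simp only [smul_add, smul_smul, inv_mul_cancel₀ ht, one_smul, smul_zero] at h'
        rw [neg_smul]
        exact eq_neg_of_add_eq_zero_right h'
    · exfalso
      obtain ⟨y, hy, hky⟩ := hK.inv _ (K.add_mem (hscal s) (K.smul_mem hj t)) hk
      have hyk : y * (s • 1 + t • j) = 1 :=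
        (hK.comm _ hy _ (K.add_mem (hscal s) (K.smul_mem hj t))).trans hky
      refine hv ?_
      have h' := congrArg (fun M : Matrix (Fin m ⊕ Fin m) (Fin m ⊕ Fin m) F => M *ᵥ v) hyk
      simp only [← Matrix.mulVec_mulVec, Matrix.add_mulVec, Matrix.smul_mulVec, Matrix.one_mulVec,
        h, Matrix.mulVec_zero] at h'
      exact h'.symm
  obtain ⟨v₀, hv₀⟩ := exists_ne (0 : E)
  -- the whole of `K` in terms of any non-scalar element
  have hspan : ∀ j ∈ K, (∀ s : F, j ≠ s • (1 : Matrix (Fin m ⊕ Fin m) (Fin m ⊕ Fin m) F)) →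
      ∀ k ∈ K, ∃ s t : F, k = s • (1 : Matrix (Fin m ⊕ Fin m) (Fin m ⊕ Fin m) F) + t • j := by
    intro j hj hjn k hk
    have hle : Submodule.span F (Set.range ![(1 : Matrix (Fin m ⊕ Fin m) (Fin m ⊕ Fin m) F), j]) ≤
        Subalgebra.toSubmodule K := by
      rw [Submodule.span_le]
      rintro _ ⟨i, rfl⟩
      fin_cases i
      exacts [one_mem K, hj]
    have hli : LinearIndependent F ![(1 : Matrix (Fin m ⊕ Fin m) (Fin m ⊕ Fin m) F), j] := by
      rw [LinearIndependent.pair_iff]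
      intro s t h
      refine hirr j hj hjn v₀ s t hv₀ ?_
      have h' := congrArg (fun M : Matrix (Fin m ⊕ Fin m) (Fin m ⊕ Fin m) F => M *ᵥ v₀) h
      simpa [Matrix.add_mulVec, Matrix.smul_mulVec] using h'
    have heq := Submodule.eq_of_le_of_finrank_eq hle (by
      rw [finrank_span_eq_card hli, Subalgebra.finrank_toSubmodule, hK.finrank_eq]; rfl)
    obtain ⟨c, hc⟩ := (Submodule.mem_span_range_iff_exists_fun F).1
      (heq ▸ hk : k ∈ Submodule.span F (Set.range ![(1 : Matrix (Fin m ⊕ Fin m) (Fin m ⊕ Fin m) F), j]))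
    exact ⟨c 0, c 1, by rw [← hc, Fin.sum_univ_two]; rfl⟩
  -- a skew generator
  obtain ⟨j, hj, hjn', hskew⟩ : ∃ j ∈ K, (∀ s : F, j ≠ s • (1 : Matrix (Fin m ⊕ Fin m) (Fin m ⊕ Fin m) F)) ∧
      ∀ u v : E, fm (j *ᵥ u) v = -fm u (j *ᵥ v) := by
    obtain ⟨j', hj', hjj⟩ := hac j₀ hj₀
    obtain ⟨a, b, rfl⟩ := hspan j₀ hj₀ hjn j' hj'
    have h1 : ∀ u v, fm (j₀ *ᵥ u) v = a * fm u v + b * fm u (j₀ *ᵥ v) := fun u v => by
      rw [show fm (j₀ *ᵥ u) v = _ from hjj u v]
      change fm u _ = _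
      rw [Matrix.add_mulVec, Matrix.smul_mulVec, Matrix.smul_mulVec, Matrix.one_mulVec,
        form_add_right, form_smul_right, form_smul_right]
    have h3 : (1 - b * b) = 0 ∧ a * (1 + b) = 0 := by
      have h0 : (1 - b * b) • (j₀ *ᵥ v₀) - (a * (1 + b)) • v₀ = 0 := by
        by_contra hne
        obtain ⟨w, hw⟩ := exists_form_ne_zero hne
        refine hw ?_
        rw [form_sub_left, form_smul_left, form_smul_left]
        have e1 := h1 v₀ w
        have e2 := h1 w v₀
        rw [form_swap (j₀ *ᵥ w) v₀, form_swap w v₀, form_swap w (j₀ *ᵥ v₀)] at e2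
        linear_combination e1 - b * e2
      obtain ⟨h4, h5⟩ := hirr j₀ hj₀ hjn v₀ (-(a * (1 + b))) (1 - b * b) hv₀ (by rw [← h0]; module)
      exact ⟨h5, neg_eq_zero.1 h4⟩
    have hb : b = -1 := by
      rcases mul_eq_zero.1 (show (1 - b) * (1 + b) = 0 by linear_combination h3.1) with h | h
      · exfalso
        have hb1 : b = 1 := (sub_eq_zero.1 h).symm
        have ha : a = 0 := by
          have h' := h3.2
          rw [hb1, show (1 : F) + 1 = 2 by norm_num] at h'
          exact (mul_eq_zero.1 h').resolve_right h2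
        refine hnsa fun k hk u v => ?_
        obtain ⟨s, t, rfl⟩ := hspan j₀ hj₀ hjn k hk
        change fm _ v = fm u _
        rw [Matrix.add_mulVec, Matrix.smul_mulVec, Matrix.smul_mulVec, Matrix.one_mulVec,
          Matrix.add_mulVec, Matrix.smul_mulVec, Matrix.smul_mulVec, Matrix.one_mulVec,
          form_add_left, form_add_right, form_smul_left, form_smul_left, form_smul_right,
          form_smul_right, h1 u v, ha, hb1, zero_mul, zero_add, one_mul]
      · linear_combination h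
    refine ⟨j₀ - (a / 2) • 1, K.sub_mem hj₀ (hscal _), fun s hs => hjn (s + a / 2) ?_, fun u v => ?_⟩
    · rw [add_smul, ← hs, sub_add_cancel]
    · rw [Matrix.sub_mulVec, Matrix.sub_mulVec, Matrix.smul_mulVec, Matrix.smul_mulVec,
        Matrix.one_mulVec, Matrix.one_mulVec, form_sub_left, form_sub_right, form_smul_left,
        form_smul_right, h1, hb]
      field_simp
      ring
  set J : E →ₗ[F] E := Matrix.mulVecLin j with hJdef
  have hJa : ∀ v, J v = j *ᵥ v := fun _ => rfl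
  have hcomb : ∀ (s t : F) (v : E),
      (s • (1 : Matrix (Fin m ⊕ Fin m) (Fin m ⊕ Fin m) F) + t • j) *ᵥ v = s • v + t • J v :=
    fun s t v => by
      rw [Matrix.add_mulVec, Matrix.smul_mulVec, Matrix.smul_mulVec, Matrix.one_mulVec, hJa]
  obtain ⟨N, hsq⟩ : ∃ N : F, ∀ v, J (J v) = -(N • v) := by
    obtain ⟨s, t, hst⟩ := hspan j hj hjn' (j * j) (K.mul_mem hj hj)
    refine ⟨-s, fun v => ?_⟩
    have hjj : ∀ v, J (J v) = s • v + t • J v := fun v => by
      rw [hJa, hJa, Matrix.mulVec_mulVec, hst, hcomb, hJa]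
    have ht : t = 0 := by
      by_contra ht
      -- `t j` is skew and self-adjoint
      obtain ⟨w, hw⟩ := exists_form_ne_zero (show J v₀ ≠ 0 from fun e =>
        one_ne_zero (hirr j hj hjn' v₀ 0 1 hv₀ (by rw [← hJa, e, zero_smul, smul_zero, add_zero])).2)
      refine mul_ne_zero (mul_ne_zero h2 ht) hw ?_
      have e1 : fm (J (J v₀)) w = fm v₀ (J (J w)) := by
        rw [hJa (J v₀), hskew, hJa v₀, hskew, neg_neg]; rfl
      rw [hjj, hjj, form_add_left, form_add_right, form_smul_left, form_smul_left, form_smul_right,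
        form_smul_right, show fm v₀ (J w) = -fm (J v₀) w by rw [hJa v₀, hskew]; simp [hJa]] at e1
      linear_combination e1
    rw [hjj, ht, zero_smul, add_zero, neg_smul, neg_neg]
  have hJ : SUStr J N := ⟨fun u v => hskew u v, hsq, fun v => hirr j hj hjn' v⟩
  refine hJ.maximal h2 hm ?_ ?_ ?_
  · intro g hg k
    have hcomm : ∀ k ∈ K, (g : Matrix (Fin m ⊕ Fin m) (Fin m ⊕ Fin m) F) * k = k * (g : Matrix (Fin m ⊕ Fin m) (Fin m ⊕ Fin m) F) := by
      intro k hk
      obtain ⟨s, t, rfl⟩ := hspan j hj hjn' k hk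
      refine Matrix.ext_of_mulVec_single fun i => ?_
      rw [← Matrix.mulVec_mulVec, ← Matrix.mulVec_mulVec, hcomb, hcomb, Matrix.mulVec_add,
        Matrix.mulVec_smul, Matrix.mulVec_smul, hg]
    refine ⟨fun hk => ?_, fun hk => ?_⟩
    · rw [hcomm k hk, Units.mul_inv_cancel_right]; exact hk
    · have h := hcomm _ hk
      rw [Units.inv_mul_cancel_right] at h
      rw [← (Units.mul_right_inj g).1 h]
      exact hk
  · rintro g ⟨a, b, hg⟩
    set G : Matrix (Fin m ⊕ Fin m) (Fin m ⊕ Fin m) F := (g : Matrix (Fin m ⊕ Fin m) (Fin m ⊕ Fin m) F)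
    set G' : Matrix (Fin m ⊕ Fin m) (Fin m ⊕ Fin m) F :=
      ((g⁻¹ : GL (Fin m ⊕ Fin m) F) : Matrix (Fin m ⊕ Fin m) (Fin m ⊕ Fin m) F)
    have hGj : G * j = (a • (1 : Matrix (Fin m ⊕ Fin m) (Fin m ⊕ Fin m) F) + b • j) * G := by
      refine Matrix.ext_of_mulVec_single fun i => ?_
      rw [← Matrix.mulVec_mulVec, ← Matrix.mulVec_mulVec, hcomb]
      exact hg _
    have hmap : ∀ k ∈ K, G * k * G' ∈ K := by
      intro k hk
      obtain ⟨s, t, rfl⟩ := hspan j hj hjn' k hk
      have : G * (s • (1 : Matrix (Fin m ⊕ Fin m) (Fin m ⊕ Fin m) F) + t • j) * G' =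
          s • (1 : Matrix (Fin m ⊕ Fin m) (Fin m ⊕ Fin m) F) +
            t • (a • (1 : Matrix (Fin m ⊕ Fin m) (Fin m ⊕ Fin m) F) + b • j) := by
        rw [mul_add, Matrix.mul_smul, Matrix.mul_smul, mul_one, hGj, add_mul, Matrix.smul_mul,
          Matrix.smul_mul, Units.mul_inv_cancel_right, Units.mul_inv]
      rw [this]
      exact K.add_mem (hscal s) (K.smul_mem (K.add_mem (hscal a) (K.smul_mem hj b)) t)
    intro k
    refine ⟨hmap k, fun hk => ?_⟩
    haveI : Finite K := inferInstance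
    let φ : K → K := fun x => ⟨G * x.1 * G', hmap x.1 x.2⟩
    have hφ : Function.Injective φ := fun x y e => Subtype.ext
      ((Units.mul_right_inj g).1 ((Units.mul_left_inj g⁻¹).1 (congrArg Subtype.val e)))
    obtain ⟨x, hx⟩ := Finite.surjective_of_injective hφ ⟨_, hk⟩
    rw [← (Units.mul_right_inj g).1 ((Units.mul_left_inj g⁻¹).1 (congrArg Subtype.val hx))]
    exact x.2
  · intro g hg x
    obtain ⟨s, t, hst⟩ := hspan j hj hjn' _ ((hg j).1 hj)
    have h : (g : Matrix (Fin m ⊕ Fin m) (Fin m ⊕ Fin m) F) * j =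
        (s • (1 : Matrix (Fin m ⊕ Fin m) (Fin m ⊕ Fin m) F) + t • j) * (g : Matrix (Fin m ⊕ Fin m) (Fin m ⊕ Fin m) F) := by
      rw [← hst, Units.inv_mul_cancel_right]
    have h' := congrArg (fun M : Matrix (Fin m ⊕ Fin m) (Fin m ⊕ Fin m) F => M *ᵥ x) h
    simp only [← Matrix.mulVec_mulVec, hcomb] at h'
    refine (Submodule.mem_span_range_iff_exists_fun F).2 ⟨![s, t], ?_⟩
    rw [Fin.sum_univ_two]
    exact h'.symm

end CfsgLib.Geo.SpTv
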