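/-
The geometric maximality theorems for `spGL m F`, `m ≥ 5`, in the shape used by the low-dimensional rows.
-/
import Cfsg.Agent.Geo.TensorSym.Bridge
import Cfsg.Agent.Geo.SympSubspace
import Cfsg.Agent.Geo.SympOrthDecomp
import Cfsg.Agent.Geo.SympLagrangianPair
import Cfsg.Agent.Geo.SympQuadOvergroup
import Cfsg.Agent.Geo.SympSubfieldOvergroup
import Cfsg.Agent.Geo.SympUnitaryAlgebra
import Cfsg.Agent.Aschbacher.FieldMax.SympBridge

set_option autoImplicit false

namespace CfsgLib.Geo.SympAll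

open Cfsg

variable {F : Type*} [Field F] [Fintype F] {m : ℕ}

theorem two_ne (hodd : Odd (Fintype.card F)) : (2 : F) ≠ 0 := fun h => by
  haveI : CharP F 2 := CharTwo.of_one_ne_zero_of_two_eq_zero one_ne_zero h
  have := FiniteField.even_card_of_char_two (F := F) (ringChar.eq F 2)
  rw [Nat.odd_iff] at hodd
  omega

theorem decomp (hm : 3 ≤ m) {t : ℕ} (k : ℕ) (D : Fin t → Submodule F (Fin m ⊕ Fin m → F))
    (hD : Cfsg.Geo.IsNondegenerateMDecomposition (Cfsg.sympForm m F) k D) (hex : ¬ (k = 2 ∧ Fintype.card F = 2)) :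
    Cfsg.Geo.IsMaximalIn (Cfsg.spGL m F) (Cfsg.Geo.decompositionStabilizer D ⊓ Cfsg.spGL m F) := by
  classical
  refine CfsgLib.Geo.isMaximalIn_of_key (CfsgLib.Geo.SpTv.orthDecomp_proper hD)
    fun M h1 h2 h3 => CfsgLib.Geo.SpTv.orthDecomp_key hD ?_ h1 h2 h3
  intro l a ha ha0
  by_cases hq : Fintype.card F = 2
  · have hk2 : k ≠ 2 := fun e => hex ⟨e, hq⟩
    obtain ⟨x, hx, hax⟩ := CfsgLib.Geo.SpTv.nondeg_partner (hD.nondegenerate l) ha ha0
    have hindep : LinearIndependent F ![a, x] := by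
      refine LinearIndependent.pair_iff.2 fun c d hcd => ?_
      have := congrArg (CfsgLib.Symp.form a) hcd
      rw [CfsgLib.Symp.form_add_right, CfsgLib.Symp.form_smul_right, CfsgLib.Symp.form_smul_right,
        CfsgLib.Symp.form_self, CfsgLib.Symp.form_zero_right, mul_zero, zero_add] at this
      have hd := (mul_eq_zero.1 this).resolve_right hax
      rw [hd, zero_smul, add_zero] at hcd
      exact ⟨(smul_eq_zero.1 hcd).resolve_right ha0, hd⟩
    have hk : 2 ≤ k := by
      have hsub : Submodule.span F (Set.range ![a, x]) ≤ D l := by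
        rw [Submodule.span_le]
        rintro _ ⟨i, rfl⟩
        fin_cases i
        · exact ha
        · exact hx
      have := Submodule.finrank_mono hsub
      rw [finrank_span_eq_card hindep, hD.decomp.finrank_eq, Fintype.card_fin] at this
      exact this
    let L : D l →ₗ[F] F :=
      { toFun := fun y => CfsgLib.Symp.form a (y : Fin m ⊕ Fin m → F)
        map_add' := fun y z => CfsgLib.Symp.form_add_right a (y : Fin m ⊕ Fin m → F) (z : Fin m ⊕ Fin m → F)
        map_smul' := fun c y => CfsgLib.Symp.form_smul_right c a (y : Fin m ⊕ Fin m → F) }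
    by_contra hcon
    push Not at hcon
    have hker : (LinearMap.ker L).map (D l).subtype ≤ F ∙ a := by
      rintro _ ⟨y, hy, rfl⟩
      rcases eq_or_ne (y : Fin m ⊕ Fin m → F) 0 with h0 | h0
      · rw [show (D l).subtype y = 0 from h0]
        exact Submodule.zero_mem _
      by_cases hya : (y : Fin m ⊕ Fin m → F) = a
      · rw [show (D l).subtype y = a from hya]
        exact Submodule.mem_span_singleton_self a
      · exact absurd (LinearMap.mem_ker.1 hy) (hcon _ y.2 h0 hya)
    have h4 := L.finrank_range_add_finrank_ker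
    have h5 := Submodule.finrank_le (LinearMap.range L)
    have h6 := Submodule.finrank_mono hker
    rw [Submodule.finrank_map_subtype_eq, finrank_span_singleton ha0] at h6
    rw [Module.finrank_self] at h5
    rw [hD.decomp.finrank_eq] at h4
    omega
  · obtain ⟨c, hc0, hc1⟩ : ∃ c : F, c ≠ 0 ∧ c ≠ 1 := by
      by_contra hcon
      push Not at hcon
      refine hq ?_
      have : (Finset.univ : Finset F) = {0, 1} := by
        ext x
        simpa using (em (x = 0)).imp_right (hcon x)
      rw [← Finset.card_univ, this]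
      simp
    refine ⟨c • a, (D l).smul_mem c ha, smul_ne_zero hc0 ha0, fun e => hc1 ?_, ?_⟩
    · have h4 : (c - 1) • a = 0 := by rw [sub_smul, e, one_smul, sub_self]
      exact sub_eq_zero.1 ((smul_eq_zero.1 h4).resolve_right ha0)
    · rw [CfsgLib.Symp.form_smul_right, CfsgLib.Symp.form_self, mul_zero]

theorem lagrangian (hm : 3 ≤ m) (hodd : Odd (Fintype.card F)) (D : Fin 2 → Submodule F (Fin m ⊕ Fin m → F))
    (hD : Cfsg.Geo.IsMDecomposition m D) (hts : ∀ i, Cfsg.Geo.IsTotallySingularFor (Cfsg.sympForm m F) (D i)) :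
    Cfsg.Geo.IsMaximalIn (Cfsg.spGL m F) (Cfsg.Geo.decompositionStabilizer D ⊓ Cfsg.spGL m F) := by
  have h2 : (2 : F) ≠ 0 := by
    refine Ring.two_ne_zero fun h => ?_
    rw [FiniteField.even_card_iff_char_two] at h
    exact Nat.not_even_iff_odd.2 hodd (Nat.even_iff.2 h)
  have h : CfsgLib.Geo.SpTv.LagPair (D 0) (D 1) :=
    { singW := hts 0
      singU := hts 1
      split := fun x => by
        have hx : x ∈ D 0 ⊔ D 1 := by
          have e : iSup D ≤ D 0 ⊔ D 1 := iSup_le fun i => by
            fin_cases i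
            · exact le_sup_left
            · exact le_sup_right
          exact e (hD.iSup_eq_top ▸ Submodule.mem_top)
        obtain ⟨w, hw, u, hu, e⟩ := Submodule.mem_sup.1 hx
        exact ⟨w, hw, u, hu, e.symm⟩
      disj := fun x hx hx' => Submodule.disjoint_def.1 (hD.indep.pairwiseDisjoint (by decide : (0 : Fin 2) ≠ 1)) x hx hx'
      dimW := hD.finrank_eq 0
      dimU := hD.finrank_eq 1 }
  exact CfsgLib.Geo.isMaximalIn_of_key (CfsgLib.Geo.SpTv.lagPair_proper D h (by omega))
    fun M h1 h3 h4 => CfsgLib.Geo.SpTv.lagPair_key D hD h (by omega) h2 h1 h3 h4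

theorem subfield (hm : 3 ≤ m) (F₀ : Subfield F) (r : ℕ) (hr : r.Prime) (hcard : Fintype.card F = Nat.card F₀ ^ r)
    (P : Matrix.GeneralLinearGroup (Fin m ⊕ Fin m) F) (ζ : F) (hζ : ζ ≠ 0)
    (hP : Cfsg.Geo.IsFormRationalStructure (Cfsg.sympForm m F) F₀ ζ P) :
    Cfsg.Geo.IsMaximalIn (Cfsg.spGL m F) (Cfsg.Geo.subfieldSubgroup F₀ P ⊓ Cfsg.spGL m F) := by
  have hcard' : Nat.card F = Nat.card F₀ ^ r := by rw [Nat.card_eq_fintype_card, hcard]
  have hS : CfsgLib.Geo.SpTv.SpSub m F F₀ P ζ := ⟨hζ, hP⟩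
  exact CfsgLib.Geo.isMaximalIn_of_key (CfsgLib.Geo.SpTv.spSub_proper hS (by omega) hr hcard')
    fun M h1 h2 h3 => CfsgLib.Geo.SpTv.spSub_key hS (by omega) hr hcard' h1 h2 h3

theorem quad (hm : 3 ≤ m) (heven : ¬ Odd (Fintype.card F)) (Q : (Fin m ⊕ Fin m → F) → F)
    (hQ : Cfsg.Geo.IsNondegenerateQuadraticForm Q) (hpol : ∀ u v, QuadraticMap.polar Q u v = Cfsg.sympForm m F u v) :
    Cfsg.Geo.IsMaximalIn (Cfsg.spGL m F) (Cfsg.Geo.quadSimilarityGroup Q ⊓ Cfsg.spGL m F) := by
  have hF2 : ringChar F = 2 := by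
    rw [FiniteField.even_card_iff_char_two]
    exact Nat.even_iff.1 (Nat.not_odd_iff_even.1 heven)
  haveI : CharP F 2 := ringChar.of_eq hF2
  refine CfsgLib.Geo.isMaximalIn_of_key ?_ fun M h1 h2 h3 => ?_
  · exact CfsgLib.Geo.SpTv.quad_proper (CharP.cast_eq_zero F 2) (by omega) hQ.smul
      (fun u v => by rw [← show QuadraticMap.polar Q u v = CfsgLib.Symp.form u v from hpol u v,
        QuadraticMap.polar]; ring)
      (fun a => (FiniteField.isSquare_of_char_two hF2 a).imp fun t ht => by rw [pow_two, ht])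
  · exact CfsgLib.Geo.SpTv.quad_key (CharP.cast_eq_zero F 2) (by omega) hQ.smul
      (fun u v => by rw [← show QuadraticMap.polar Q u v = CfsgLib.Symp.form u v from hpol u v,
        QuadraticMap.polar]; ring)
      (fun a => (FiniteField.isSquare_of_char_two hF2 a).imp fun t ht => by rw [pow_two, ht]) h1 h2 h3

end CfsgLib.Geo.SympAll
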