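import Cfsg.Agent.Geo.OrthUnitaryOvergroup
import Cfsg.Agent.Geo.SympLagrangianPair

/-!
In odd characteristic the normaliser in `Sp_2m` of a unitary structure `J` is maximal, `m ≥ 3`.

The points `w` with `f(w, J w) = 0` are the singular points of the quadratic form `x ↦ f(x, J x)`,
so the tools of the orthogonal case apply. An overgroup with a two-term tensor `p p + r r`, `r` off
`⟨p, J p⟩`, gets a tensor `a b` with unitarily orthogonal `a, b` by a reflection, and a transvection
by a rotation fixing one of them.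
-/

set_option autoImplicit false
set_option linter.unusedSectionVars false
set_option linter.style.haveILetI false

namespace CfsgLib.Geo.SpTv

open Matrix Cfsg Cfsg.Geo CfsgLib.Symp CfsgLib.Quad CfsgLib.Geo.OS
open QuadraticMap (polar polarBilin polar_self)

variable {m : ℕ} {F : Type*} [Field F]

local notation "E" => Fin m ⊕ Fin m → F
local notation "fm" => CfsgLib.Symp.form (l := Fin m) (R := F)

/-- A skew unitary structure: `J² = -N`, skew for the symplectic form, without eigenvectors. -/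
structure SUStr (J : (Fin m ⊕ Fin m → F) →ₗ[F] (Fin m ⊕ Fin m → F)) (N : F) : Prop where
  adj : ∀ u v, fm (J u) v = -fm u (J v)
  sq : ∀ v, J (J v) = -(N • v)
  irr : ∀ (v : E) (s t : F), v ≠ 0 → s • v + t • J v = 0 → s = 0 ∧ t = 0

variable {J : (Fin m ⊕ Fin m → F) →ₗ[F] (Fin m ⊕ Fin m → F)} {N : F} (hJ : SUStr J N)

include hJ

theorem SUStr.nrm (u v : E) : fm (J u) (J v) = N * fm u v := by
  rw [hJ.adj, hJ.sq, ← neg_smul, form_smul_right]; ring

theorem SUStr.symm (u v : E) : fm u (J v) = fm v (J u) := by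
  rw [form_swap, hJ.adj, neg_neg]

/-- The unitary transvection. -/
noncomputable def ustv (J : (Fin m ⊕ Fin m → F) →ₗ[F] (Fin m ⊕ Fin m → F)) (N : F)
    (w : Fin m ⊕ Fin m → F) (c : F) : GL (Fin m ⊕ Fin m) F := stv w (c * N) * stv (J w) c

theorem SUStr.ustv_mulVec {w : E} (hw : fm w (J w) = 0) (c : F) (x : E) :
    (ustv J N w c : Matrix _ _ F) *ᵥ x =
      x + c • ((N * fm x w) • w + fm x (J w) • J w) := by
  rw [ustv, mul_mulVec, stv_mulVec, stv_mulVec, form_add_left, form_smul_left,
    show fm (J w) w = 0 by rw [form_swap, hw, neg_zero]]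
  module

theorem SUStr.ustv_comm {w : E} (hw : fm w (J w) = 0) (c : F) (x : E) :
    (ustv J N w c : Matrix _ _ F) *ᵥ J x = J ((ustv J N w c : Matrix _ _ F) *ᵥ x) := by
  rw [hJ.ustv_mulVec hw, hJ.ustv_mulVec hw, hJ.adj, hJ.nrm]
  simp only [map_add, map_smul, hJ.sq]
  module

/-- The quadratic form `x ↦ f(x, J x)`. -/
noncomputable def uForm (J : (Fin m ⊕ Fin m → F) →ₗ[F] (Fin m ⊕ Fin m → F)) :
    QuadraticForm F (Fin m ⊕ Fin m → F) :=
  LinearMap.BilinMap.toQuadraticMap (LinearMap.mk₂ F (fun x y => CfsgLib.Symp.form x (J y))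
    (fun x x' y => form_add_left x x' (J y)) (fun c x y => form_smul_left c x (J y))
    (fun x y y' => by rw [map_add, form_add_right])
    (fun c x y => by rw [map_smul, form_smul_right, smul_eq_mul]))

omit hJ in
theorem uForm_apply (x : E) : uForm J x = fm x (J x) := rfl

theorem SUStr.polar_uForm (x y : E) : polar (uForm J) x y = 2 * fm x (J y) := by
  simp only [polar, uForm_apply, map_add, form_add_left, form_add_right, hJ.symm y x]
  ring

theorem SUStr.ustr : UStr (uForm J) J 0 N := by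
  refine ⟨fun u v => ?_, fun u v => ?_, fun v => ?_, fun v => ?_, fun v _ => ?_, hJ.irr⟩
  · rw [hJ.polar_uForm, hJ.polar_uForm, hJ.polar_uForm, hJ.nrm, hJ.sq v, ← neg_smul, form_smul_right]
    ring
  · rw [hJ.polar_uForm, hJ.polar_uForm, hJ.nrm]; ring
  · rw [uForm_apply, uForm_apply, hJ.nrm]
  · rw [hJ.sq]; module
  · rw [hJ.polar_uForm, hJ.sq, ← neg_smul, form_smul_right, form_self, mul_zero, mul_zero]

variable (h2 : (2 : F) ≠ 0) (hm : 3 ≤ m)

include h2 hm

theorem SUStr.N_ne : N ≠ 0 := fun e => by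
  haveI : Nonempty (Fin m) := ⟨⟨0, by omega⟩⟩
  exact hJ.ustr.norm_ne (a := 1) (b := 0) (Or.inl one_ne_zero) (by rw [e]; ring)

theorem SUStr.polar_eq_zero_iff (x y : E) : polar (uForm J) x y = 0 ↔ fm x (J y) = 0 := by
  rw [hJ.polar_uForm, mul_eq_zero, or_iff_right h2]

theorem SUStr.polar_J_eq_zero_iff (x y : E) : polar (uForm J) (J x) y = 0 ↔ fm x y = 0 := by
  rw [hJ.polar_eq_zero_iff h2 hm, hJ.nrm, mul_eq_zero, or_iff_right (hJ.N_ne h2 hm)]

theorem SUStr.uForm_nondeg : (polarBilin (uForm J)).Nondegenerate := by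
  have key : ∀ x, (∀ y, polar (uForm J) x y = 0) → x = 0 := fun x hx => by
    by_contra hx0
    obtain ⟨w, hw⟩ := exists_form_ne_zero hx0
    refine mul_ne_zero (hJ.N_ne h2 hm) hw ?_
    have h := (hJ.polar_eq_zero_iff h2 hm x _).1 (hx (J w))
    rw [hJ.sq, ← neg_smul, form_smul_right] at h
    linear_combination -h
  exact ⟨key, fun x hx => key x fun y => (QuadraticMap.polar_comm _ x y).trans (hx y)⟩

omit h2 in
theorem SUStr.norm_pos {a b : F} (h : a ≠ 0 ∨ b ≠ 0) : N * a * a + b * b ≠ 0 := by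
  haveI : Nonempty (Fin m) := ⟨⟨0, by omega⟩⟩
  have := hJ.ustr.norm_ne h
  rwa [zero_mul, zero_mul, sub_zero, add_comm] at this

theorem SUStr.mem_kperp {p x : E} :
    x ∈ perpS (uForm J) (Submodule.span F (Set.range ![p, J p])) ↔ fm p (J x) = 0 ∧ fm p x = 0 := by
  rw [mem_perp_range, Fin.forall_fin_two, Matrix.cons_val_zero, Matrix.cons_val_one, Matrix.cons_val_zero,
    hJ.polar_eq_zero_iff h2 hm, hJ.polar_J_eq_zero_iff h2 hm]

theorem SUStr.kperp_J {p x : E}
    (hx : x ∈ perpS (uForm J) (Submodule.span F (Set.range ![p, J p]))) :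
    J x ∈ perpS (uForm J) (Submodule.span F (Set.range ![p, J p])) := by
  rw [hJ.mem_kperp h2 hm] at hx ⊢
  exact ⟨by rw [hJ.sq, ← neg_smul, form_smul_right, hx.2, mul_zero], hx.1⟩

variable [Finite F]

theorem SUStr.exists_norm (c : F) : ∃ a b : F, a * a + N * (b * b) = c := by
  haveI := Fintype.ofFinite F
  have hchar : ringChar F ≠ 2 := fun h => h2 (by
    have := ringChar.Nat.cast_ringChar (R := F)
    rw [h] at this
    exact_mod_cast this)
  obtain ⟨a, b, h⟩ := FiniteField.exists_root_sum_quadratic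
    (f := Polynomial.X ^ 2 - Polynomial.C c) (g := Polynomial.C N * Polynomial.X ^ 2)
    (by rw [Polynomial.degree_X_pow_sub_C (by norm_num)]; rfl)
    (by rw [Polynomial.degree_C_mul_X_pow 2 (hJ.N_ne h2 hm)]; rfl)
    (FiniteField.odd_card_of_char_ne_two hchar)
  simp only [Polynomial.eval_sub, Polynomial.eval_pow, Polynomial.eval_X, Polynomial.eval_C,
    Polynomial.eval_mul] at h
  exact ⟨a, b, by linear_combination h⟩

omit h2 hm [Finite F] in
theorem SUStr.uForm_comb (x : E) (a b : F) :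
    uForm J (a • x + b • J x) = (a * a + N * (b * b)) * uForm J x := by
  simp only [uForm_apply, map_add, map_smul, hJ.sq, ← neg_smul, form_add_left, form_add_right,
    form_smul_left, form_smul_right, hJ.nrm, form_self, form_swap (J x) x]
  ring

/-- An anisotropic line carries every value. -/
theorem SUStr.exists_fill {T : Submodule F (Fin m ⊕ Fin m → F)} (hT : ∀ x ∈ T, J x ∈ T)
    (hx : ∃ x ∈ T, uForm J x ≠ 0) (c : F) : ∃ e ∈ T, uForm J e = c := by
  obtain ⟨x, hxT, hQx⟩ := hx
  obtain ⟨a, b, hab⟩ := hJ.exists_norm h2 hm (c / uForm J x)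
  exact ⟨a • x + b • J x, T.add_mem (T.smul_mem _ hxT) (T.smul_mem _ (hT x hxT)), by
    rw [hJ.uForm_comb, hab, div_mul_cancel₀ _ hQx]⟩

/-- A subspace of more than half the dimension is not totally singular. -/
theorem SUStr.exists_aniso_of_lt {T : Submodule F (Fin m ⊕ Fin m → F)}
    (hT : m < Module.finrank F T) : ∃ x ∈ T, uForm J x ≠ 0 := by
  by_contra h
  push Not at h
  have hle : T ≤ perpS (uForm J) T := fun x hx y hy => by
    rw [QuadraticMap.polar, h _ (T.add_mem hy hx), h _ hy, h _ hx, sub_zero, sub_zero]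
  have h1 := finrank_perpS (hJ.uForm_nondeg h2 hm) T
  have h3 := Submodule.finrank_mono hle
  rw [Module.finrank_fintype_fun_eq_card, Fintype.card_sum, Fintype.card_fin] at h1
  omega

omit [Finite F] in
theorem SUStr.finrank_line {p : E} (hp : p ≠ 0) :
    Module.finrank F ↥(Submodule.span F (Set.range ![p, J p])) = 2 := by
  rw [finrank_span_eq_card (LinearIndependent.pair_iff.2 fun s t h => hJ.irr p s t hp h),
    Fintype.card_fin]

theorem SUStr.kperp_dim (p : E) : 2 * m ≤
    Module.finrank F ↥(perpS (uForm J) (Submodule.span F (Set.range ![p, J p]))) + 2 := by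
  have h1 := finrank_perpS (hJ.uForm_nondeg h2 hm) (Submodule.span F (Set.range ![p, J p]))
  have h3 : Module.finrank F ↥(Submodule.span F (Set.range ![p, J p])) ≤ 2 :=
    (finrank_range_le_card _).trans (by simp)
  rw [Module.finrank_fintype_fun_eq_card, Fintype.card_sum, Fintype.card_fin] at h1
  omega

/-- Every value is taken orthogonally to a line. -/
theorem SUStr.exists_kperp (p : E) (c : F) : ∃ e, fm p (J e) = 0 ∧ fm p e = 0 ∧ uForm J e = c := by
  obtain ⟨e, he, hQe⟩ := hJ.exists_fill h2 hm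
    (T := perpS (uForm J) (Submodule.span F (Set.range ![p, J p])))
    (fun x hx => hJ.kperp_J h2 hm hx)
    (hJ.exists_aniso_of_lt h2 hm (by have := hJ.kperp_dim h2 hm p; omega)) c
  rw [hJ.mem_kperp h2 hm] at he
  exact ⟨e, he.1, he.2, hQe⟩

/-- An anisotropic vector is a sum of two isotropic ones with non-zero product. -/
theorem SUStr.exists_split_iso {y : E} (hy : uForm J y ≠ 0) :
    ∃ x, uForm J x = 0 ∧ uForm J (y - x) = 0 ∧ fm y x ≠ 0 := by
  obtain ⟨e, he1, he2, hQe⟩ := hJ.exists_kperp h2 hm y (-(uForm J y * (1 / 4 + N)))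
  have e3 : fm e y = 0 := by rw [form_swap, he2, neg_zero]
  have e4 : fm e (J y) = 0 := by rw [hJ.symm]; exact he1
  have h4 : (4 : F) ≠ 0 := by rw [show (4 : F) = 2 * 2 by norm_num]; exact mul_ne_zero h2 h2
  refine ⟨(1 / 2 : F) • y + J y + e, ?_, ?_, ?_⟩
  · rw [uForm_apply] at hQe ⊢
    simp only [map_add, map_smul, hJ.sq, ← neg_smul, form_add_left, form_add_right, form_smul_left,
      form_smul_right, hJ.nrm, form_self, form_swap (J y) y, hJ.adj y e, he1, he2, e3, e4, hQe,
      uForm_apply]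
    field_simp
    ring
  · rw [uForm_apply] at hQe ⊢
    simp only [map_add, map_sub, map_smul, hJ.sq, ← neg_smul, form_add_left, form_add_right,
      form_sub_left, form_sub_right, form_smul_left,
      form_smul_right, hJ.nrm, form_self, form_swap (J y) y, hJ.adj y e, he1, he2, e3, e4, hQe,
      uForm_apply]
    field_simp
    ring
  · rw [form_add_right, form_add_right, form_smul_right, form_self, he2]
    simpa [uForm_apply] using hy

/-- An isotropic vector has an isotropic partner. -/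
theorem SUStr.exists_iso_partner {v : E} (hv0 : v ≠ 0) (hv : fm v (J v) = 0) :
    ∃ w, fm w (J w) = 0 ∧ fm v (J w) ≠ 0 := by
  obtain ⟨y, hy⟩ := exists_form_ne_zero hv0
  have hy' : fm v (J (J y)) ≠ 0 := by
    rw [hJ.sq, ← neg_smul, form_smul_right]
    exact mul_ne_zero (neg_ne_zero.2 (hJ.N_ne h2 hm)) hy
  refine ⟨J y + (-(fm (J y) (J (J y))) / (2 * fm v (J (J y)))) • v, ?_, ?_⟩
  · simp only [map_add, map_smul, form_add_left, form_add_right, form_smul_left, form_smul_right, hv,
      hJ.symm (J y) v]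
    field_simp
    ring
  · rwa [map_add, map_smul, form_add_right, form_smul_right, hv, mul_zero, add_zero]

/-- Two orthogonal isotropic lines have a common partner. -/
theorem SUStr.exists_common_partner {u v : E} (hu0 : u ≠ 0) (hv0 : v ≠ 0) (hu : fm u (J u) = 0)
    (hv : fm v (J v) = 0) (huv : fm u (J v) = 0) :
    ∃ w, fm w (J w) = 0 ∧ fm u (J w) ≠ 0 ∧ fm v (J w) ≠ 0 := by
  obtain ⟨a, ha, hua⟩ := hJ.exists_iso_partner h2 hm hu0 hu
  obtain ⟨b, hb, hvb⟩ := hJ.exists_iso_partner h2 hm hv0 hv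
  by_cases hva : fm v (J a) = 0
  swap
  · exact ⟨a, ha, hua, hva⟩
  by_cases hub : fm u (J b) = 0
  swap
  · exact ⟨b, hb, hub, hvb⟩
  refine ⟨a + b + (-(fm (a + b) (J (a + b))) / (2 * fm u (J a))) • u, ?_, ?_, ?_⟩
  · simp only [map_add, map_smul, form_add_left, form_add_right, form_smul_left, form_smul_right, hu,
      hJ.symm a u, hJ.symm b u, hub]
    field_simp
    ring
  · simp only [map_add, map_smul, form_add_right, form_smul_right, hu, hub, mul_zero, add_zero]
    exact hua
  · simp only [map_add, map_smul, form_add_right, form_smul_right, hva, hJ.symm v u, huv, mul_zero,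
      zero_add, add_zero]
    exact hvb

/-- A link between two isotropic lines which are not orthogonal. -/
theorem SUStr.exists_link {u v : E} (hu : fm u (J u) = 0) (hv : fm v (J v) = 0)
    (huv : fm u v ≠ 0 ∨ fm u (J v) ≠ 0) :
    ∃ z, fm z (J z) = 0 ∧ fm u (J z) = 0 ∧ fm u z ≠ 0 ∧ fm v (J z) = 0 ∧ fm v z ≠ 0 := by
  set ρ := fm u (J v) with hρ
  set σ := fm u v with hσ
  have hD := hJ.norm_pos hm huv
  have hvJu : fm v (J u) = ρ := hJ.symm v u
  have hvu : fm v u = -σ := form_swap v u
  set U := Submodule.span F (Set.range ![u, J u, v, J v]) with hU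
  have hmem : ∀ x, x ∈ perpS (uForm J) U ↔
      fm u (J x) = 0 ∧ fm u x = 0 ∧ fm v (J x) = 0 ∧ fm v x = 0 := fun x => by
    rw [hU, mem_perp_range]
    simp [Fin.forall_fin_succ, hJ.polar_eq_zero_iff h2 hm, hJ.nrm, hJ.N_ne h2 hm]
  obtain ⟨e, he, hQe⟩ := hJ.exists_fill h2 hm (T := perpS (uForm J) U)
    (fun x hx => by
      rw [hmem] at hx ⊢
      simp only [hJ.sq, ← neg_smul, form_smul_right]
      exact ⟨by rw [hx.2.1, mul_zero], hx.1, by rw [hx.2.2.2, mul_zero], hx.2.2.1⟩)
    (by
      by_contra h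
      push Not at h
      have hnd := hJ.uForm_nondeg h2 hm
      have hle : perpS (uForm J) U ≤ U := fun x hx => by
        rw [← perpS_perpS hnd U]
        intro y hy
        rw [QuadraticMap.polar, h _ (Submodule.add_mem _ hy hx), h _ hy, h _ hx, sub_zero, sub_zero]
      have hbot : perpS (uForm J) U = ⊥ := eq_bot_iff.2 fun x hx => by
        obtain ⟨c, rfl⟩ := (Submodule.mem_span_range_iff_exists_fun F).1 (hle hx)
        have h' := (hmem _).1 hx
        simp only [Fin.sum_univ_four, Matrix.cons_val, map_add, map_smul, hJ.sq, ← neg_smul,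
          form_add_right, form_smul_right, hu, hv, form_self, hvJu, hvu, ← hρ, ← hσ] at h'
        obtain ⟨q1, q2, q3, q4⟩ := h'
        have c2 : c 2 = 0 := (mul_eq_zero.1 (show c 2 * (N * σ * σ + ρ * ρ) = 0 by
          linear_combination ρ * q1 + N * σ * q2)).resolve_right hD
        have c3 : c 3 = 0 := (mul_eq_zero.1 (show c 3 * (N * σ * σ + ρ * ρ) = 0 by
          linear_combination ρ * q2 - σ * q1)).resolve_right hD
        have c0 : c 0 = 0 := (mul_eq_zero.1 (show c 0 * (N * σ * σ + ρ * ρ) = 0 by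
          linear_combination ρ * q3 - N * σ * q4)).resolve_right hD
        have c1 : c 1 = 0 := (mul_eq_zero.1 (show c 1 * (N * σ * σ + ρ * ρ) = 0 by
          linear_combination σ * q3 + ρ * q4)).resolve_right hD
        simp [Fin.sum_univ_four, c0, c1, c2, c3]
      have h1 := finrank_perpS hnd U
      have h3 : Module.finrank F U ≤ 4 := (finrank_range_le_card _).trans (by simp)
      rw [hbot, finrank_bot, Module.finrank_fintype_fun_eq_card, Fintype.card_sum,
        Fintype.card_fin] at h1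
      omega)
    (-(uForm J ((N * σ) • u + (-ρ) • J u + ((N * σ) • v + ρ • J v))))
  obtain ⟨q1, q2, q3, q4⟩ := (hmem e).1 he
  set z0 := (N * σ) • u + (-ρ) • J u + ((N * σ) • v + ρ • J v) with hz0
  have a1 : fm u (J z0) = 0 := by
    simp only [z0, map_add, map_smul, hJ.sq, ← neg_smul, form_add_right, form_smul_right, hu,
      form_self, ← hρ, ← hσ]
    ring
  have a2 : fm u z0 = N * σ * σ + ρ * ρ := by
    simp only [z0, form_add_right, form_smul_right, hu, form_self, ← hρ, ← hσ]
    ring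
  have a3 : fm v (J z0) = 0 := by
    simp only [z0, map_add, map_smul, hJ.sq, ← neg_smul, form_add_right, form_smul_right, hv,
      form_self, hvJu, hvu]
    ring
  have a4 : fm v z0 = -(N * σ * σ + ρ * ρ) := by
    simp only [z0, form_add_right, form_smul_right, hv, form_self, hvJu, hvu]
    ring
  have hze : fm z0 (J e) = 0 := by
    simp only [z0, form_add_left, form_smul_left, hJ.nrm, q1, q2, q3, q4, mul_zero, add_zero]
  refine ⟨z0 + e, ?_, ?_, ?_, ?_, ?_⟩
  · rw [uForm_apply, uForm_apply] at hQe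
    rw [map_add, form_add_left, form_add_right, form_add_right, hze, hJ.symm e z0, hze, hQe]
    ring
  · rw [map_add, form_add_right, a1, q1, add_zero]
  · rwa [form_add_right, a2, q2, add_zero]
  · rw [map_add, form_add_right, a3, q3, add_zero]
  · rw [form_add_right, a4, q4, add_zero, neg_ne_zero]; exact hD

/-- The graph of linked isotropic points is connected. -/
theorem SUStr.spread (P : E → Prop)
    (step : ∀ u z, u ≠ 0 → fm u (J u) = 0 → fm z (J z) = 0 → fm u (J z) = 0 → fm u z ≠ 0 → P u → P z)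
    {p : E} (hp0 : p ≠ 0) (hp : fm p (J p) = 0) (hP : P p) {x : E} (hx0 : x ≠ 0)
    (hx : fm x (J x) = 0) : P x := by
  have hnear : ∀ u v, fm u (J u) = 0 → fm v (J v) = 0 → (fm u v ≠ 0 ∨ fm u (J v) ≠ 0) → P u → P v := by
    intro u v hu hv huv hPu
    obtain ⟨z, hz, q1, q2, q3, q4⟩ := hJ.exists_link h2 hm hu hv huv
    have hu0 : u ≠ 0 := fun e => q2 (by rw [e, form_zero_left])
    have hz0 : z ≠ 0 := fun e => q2 (by rw [e, form_zero_right])
    exact step z v hz0 hz hv (by rw [hJ.symm]; exact q3) (by rw [form_swap, neg_ne_zero]; exact q4)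
      (step u z hu0 hu hz q1 q2 hPu)
  by_cases h : fm p x = 0 ∧ fm p (J x) = 0
  · obtain ⟨w, hw, h1, h3⟩ := hJ.exists_common_partner h2 hm hp0 hx0 hp hx h.2
    exact hnear w x hw hx (Or.inr (by rwa [hJ.symm])) (hnear p w hp hw (Or.inr h1) hP)
  · exact hnear p x hp hx (not_and_or.1 h) hP

/-- A map sending isotropic vectors into their lines is a scalar of the structure. -/
theorem SUStr.semilinear_lines (X : E →ₗ[F] E)
    (hex : ∀ u, uForm J u = 0 → ∃ ab : F × F, X u = ab.1 • u + ab.2 • J u) :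
    ∃ a b : F, ∀ u, X u = a • u + b • J u := by
  obtain ⟨p, -, hp0, hQp⟩ := exists_singular_of_three (Q := uForm J)
    (⊤ : Submodule F (Fin m ⊕ Fin m → F))
    (by rw [finrank_top, Module.finrank_fintype_fun_eq_card, Fintype.card_sum, Fintype.card_fin]; omega)
  obtain ⟨⟨a, b⟩, hab⟩ := hex p hQp
  have hall : ∀ x, uForm J x = 0 → X x = a • x + b • J x := by
    intro x hx
    rcases eq_or_ne x 0 with rfl | hx0
    · simp
    refine hJ.spread h2 hm (fun x => X x = a • x + b • J x) (fun u z hu0 hu hz huz hne hP => ?_)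
      hp0 hQp hab hx0 hx
    obtain ⟨⟨c, d⟩, hcd⟩ := hex z hz
    obtain ⟨⟨e, f⟩, hef⟩ := hex (u + z) (by
      rw [uForm_apply, map_add, form_add_left, form_add_right, form_add_right, hu, huz, hJ.symm z u,
        huz, hz]
      ring)
    rw [map_add, hP, hcd, map_add] at hef
    have hrel : (a - e) • u + (b - f) • J u = (e - c) • z + (f - d) • J z := by
      linear_combination (norm := module) hef
    have e1 := congrArg (fun t => fm u t) hrel
    have e2 := congrArg (fun t => fm u (J t)) hrel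
    simp only [map_add, map_smul, hJ.sq, ← neg_smul, form_add_right, form_smul_right, hu, huz,
      form_self, mul_zero, zero_add, add_zero] at e1 e2
    have hc : e = c := sub_eq_zero.1 ((mul_eq_zero.1 e1.symm).resolve_right hne)
    have hd : f = d := sub_eq_zero.1 ((mul_eq_zero.1 e2.symm).resolve_right
      (mul_ne_zero (neg_ne_zero.2 (hJ.N_ne h2 hm)) hne))
    rw [hc, hd, sub_self, sub_self, zero_smul, zero_smul, add_zero] at hrel
    obtain ⟨h1, h3⟩ := hJ.irr u _ _ hu0 hrel
    rw [hcd, ← sub_eq_zero.1 h1, ← sub_eq_zero.1 h3]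
  refine ⟨a, b, fun y => ?_⟩
  by_cases hy : uForm J y = 0
  · exact hall y hy
  obtain ⟨x, hx, hyx, -⟩ := hJ.exists_split_iso h2 hm hy
  calc X y = X (y - x) + X x := by rw [← map_add, sub_add_cancel]
    _ = a • y + b • J y := by rw [hall _ hyx, hall _ hx, map_sub]; module

/-- Transvections spoil the structure. -/
theorem SUStr.proper {L : Subgroup (GL (Fin m ⊕ Fin m) F)}
    (hL : ∀ g ∈ L, ∀ x, (g : Matrix _ _ F) *ᵥ J x ∈
      Submodule.span F (Set.range ![(g : Matrix _ _ F) *ᵥ x, J ((g : Matrix _ _ F) *ᵥ x)])) :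
    L ⊓ spGL m F ≠ spGL m F := by
  intro e
  obtain ⟨q, -, hq0, hQq⟩ := exists_singular_of_three (Q := uForm J)
    (⊤ : Submodule F (Fin m ⊕ Fin m → F))
    (by rw [finrank_top, Module.finrank_fintype_fun_eq_card, Fintype.card_sum, Fintype.card_fin]; omega)
  have hq : fm q (J q) = 0 := hQq
  obtain ⟨w, hw, hqw⟩ := hJ.exists_iso_partner h2 hm hq0 hq
  set ρ := fm q (J w) with hρ
  set σ := fm q w with hσ
  have hD := hJ.norm_pos hm (a := σ) (Or.inr hqw)
  set x := ρ • w + (-σ) • J w with hx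
  have hqx : fm q x = 0 := by
    simp only [x, form_add_right, form_smul_right, ← hρ, ← hσ]; ring
  have hqJx : fm q (J x) = N * σ * σ + ρ * ρ := by
    simp only [x, map_add, map_smul, hJ.sq, ← neg_smul, form_add_right, form_smul_right, ← hρ, ← hσ]
    ring
  have hvL : stv q 1 ∈ L ⊓ spGL m F := by rw [e]; exact stv_mem q 1
  have himg := hL _ hvL.1 x
  rw [stv_mulVec, stv_mulVec, form_swap x q, hqx, form_swap (J x) q, hqJx, neg_zero, mul_zero,
    zero_smul, add_zero, one_mul] at himg
  obtain ⟨c, hc⟩ := (Submodule.mem_span_range_iff_exists_fun F).1 himg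
  simp only [Fin.sum_univ_two, Matrix.cons_val] at hc
  set D := N * σ * σ + ρ * ρ with hDdef
  have e1 : c 1 = 1 := by
    have := congrArg (fun t => fm q t) hc
    simp only [form_add_right, form_smul_right, form_self, hqx, hqJx, mul_zero, zero_add, add_zero] at this
    exact mul_right_cancel₀ hD (by linear_combination this)
  rw [e1] at hc
  have hqc : -D • q = c 0 • x := by linear_combination (norm := module) -hc
  have := congrArg (fun t => fm t (J x)) hqc
  have hQx : fm x (J x) = 0 := by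
    simp only [x, map_add, map_smul, hJ.sq, ← neg_smul, form_add_left, form_add_right, form_smul_left,
      form_smul_right, hJ.nrm, hw, form_self, form_swap (J w) w]
    ring
  simp only [form_smul_left, hqJx, hQx, mul_zero] at this
  exact mul_ne_zero (neg_ne_zero.2 hD) hD this

variable {M : Subgroup (GL (Fin m ⊕ Fin m) F)}
  (hM : ∀ g ∈ spGL m F, (∀ x, (g : Matrix _ _ F) *ᵥ J x = J ((g : Matrix _ _ F) *ᵥ x)) → g ∈ M)
  (hMI : M ≤ spGL m F)

include hM hMI

theorem SUStr.ustv_mem {w : E} (hw : fm w (J w) = 0) (c : F) : ustv J N w c ∈ M :=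
  hM _ ((spGL m F).mul_mem (stv_mem _ _) (stv_mem _ _)) (hJ.ustv_comm hw c)

/-- Full centres spread along unitary transvections. -/
theorem SUStr.full_step {v u : E} (hv : Full M v) (hu : fm u (J u) = 0) (h0 : fm v (J u) = 0)
    (h1 : fm v u ≠ 0) : Full M u := by
  have hv' := full_conj hMI hv (hJ.ustv_mem h2 hm hM hMI hu 1)
  rw [hJ.ustv_mulVec hu, h0, zero_smul, add_zero, one_smul] at hv'
  have hne : N * fm v u ≠ 0 := mul_ne_zero (hJ.N_ne h2 hm) h1
  have h := full_add_smul hMI hv hv' (by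
    rw [form_add_left, form_self, zero_add, form_smul_left, form_swap u v, mul_neg, neg_ne_zero]
    exact mul_ne_zero hne h1) (-1)
  have e : v + (N * fm v u) • u + (-1 : F) • v = (N * fm v u) • u := by module
  rw [e] at h
  have h' := full_smul h (N * fm v u)⁻¹
  rwa [smul_smul, inv_mul_cancel₀ hne, one_smul] at h'

/-- One full centre makes `M` everything. -/
theorem SUStr.le_of_full {v : E} (hv0 : v ≠ 0) (hF : Full M v) : spGL m F ≤ M := by
  obtain ⟨u, hu0, hu, hFu⟩ : ∃ u, u ≠ 0 ∧ fm u (J u) = 0 ∧ Full M u := by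
    by_cases hv : fm v (J v) = 0
    · exact ⟨v, hv0, hv, hF⟩
    obtain ⟨e, he1, he2, hQe⟩ := hJ.exists_kperp h2 hm v (-(N * fm v (J v)))
    have h1 : fm v (J v + e) ≠ 0 := by rwa [form_add_right, he2, add_zero]
    have h3 : fm (J v + e) (J (J v + e)) = 0 := by
      rw [uForm_apply] at hQe
      rw [map_add, form_add_left, form_add_right, form_add_right, hJ.nrm, hJ.nrm, he2, hJ.sq,
        ← neg_smul, form_smul_right, form_swap e v, he2, hQe]
      ring
    refine ⟨J v + e, fun h => h1 (by rw [h, form_zero_right]), h3,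
      hJ.full_step h2 hm hM hMI hF h3 ?_ h1⟩
    rw [map_add, form_add_right, hJ.sq, ← neg_smul, form_smul_right, form_self, he1, mul_zero, add_zero]
  have hiso : ∀ x, fm x (J x) = 0 → Full M x := fun x hx => by
    rcases eq_or_ne x 0 with rfl | hx0
    · exact full_zero
    exact hJ.spread h2 hm (Full M)
      (fun a z _ _ hz h0 h1 ha => hJ.full_step h2 hm hM hMI ha hz h0 h1) hu0 hu hFu hx0 hx
  refine spGL_le_of_full fun y => ?_
  by_cases hy : uForm J y = 0
  · exact hiso y hy
  obtain ⟨x, hx, hyx, hfyx⟩ := hJ.exists_split_iso h2 hm hy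
  have := full_add hMI (hiso (y - x) hyx) (hiso x hx) (by
    rw [form_sub_right, form_self, sub_zero, form_swap]; exact neg_ne_zero.2 hfyx)
  rwa [add_sub_cancel] at this

omit hMI in
/-- The pseudo-reflections lie in `M`. -/
theorem SUStr.exists_rot {b : E} (hb : fm b (J b) ≠ 0) {s t : F} (hst : s * s + N * (t * t) = 1) :
    ∃ g ∈ M, g ∈ spGL m F ∧ (∀ x, (g : Matrix _ _ F) *ᵥ J x = J ((g : Matrix _ _ F) *ᵥ x)) ∧
      ∀ x, (g : Matrix _ _ F) *ᵥ x = x
        + (((s - 1) * fm x (J b) + t * N * fm x b) * (fm b (J b))⁻¹) • b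
        + ((t * fm x (J b) - (s - 1) * fm x b) * (fm b (J b))⁻¹) • J b := by
  set i := (fm b (J b))⁻¹ with hi'
  have hi : fm b (J b) * i = 1 := mul_inv_cancel₀ hb
  let f : E →ₗ[F] E :=
    { toFun := fun x => x + (((s - 1) * fm x (J b) + t * N * fm x b) * i) • b
        + ((t * fm x (J b) - (s - 1) * fm x b) * i) • J b
      map_add' := fun x y => by simp only [form_add_left]; module
      map_smul' := fun c x => by simp only [form_smul_left, RingHom.id_apply]; module }
  have hf : ∀ x, f x = x + (((s - 1) * fm x (J b) + t * N * fm x b) * i) • b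
        + ((t * fm x (J b) - (s - 1) * fm x b) * i) • J b := fun x => rfl
  have hiso : ∀ x y, fm (f x) (f y) = fm x y := fun x y => by
    simp only [hf, form_add_left, form_add_right, form_smul_left, form_smul_right, form_self,
      form_swap (J b) b, form_swap b y, form_swap (J b) y]
    linear_combination (fm x b * fm y (J b) - fm y b * fm x (J b)) * i * hst
      + (fm x b * fm y (J b) - fm y b * fm x (J b)) * i * ((s - 1) * (s - 1) + N * (t * t)) * hi
  have hinj : Function.Injective f := (injective_iff_map_eq_zero f).2 fun x hx => by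
    by_contra hx0
    obtain ⟨y, hy⟩ := exists_form_ne_zero hx0
    exact hy (by rw [← hiso, hx, form_zero_left])
  have hu : IsUnit (LinearMap.toMatrix' f) :=
    Matrix.mulVec_injective_iff_isUnit.1 fun x y h => hinj (by
      simpa [LinearMap.toMatrix'_mulVec] using h)
  obtain ⟨g, hg⟩ : ∃ g : GL (Fin m ⊕ Fin m) F, ∀ x, (g : Matrix _ _ F) *ᵥ x = f x :=
    ⟨hu.unit, fun x => by rw [IsUnit.unit_spec, LinearMap.toMatrix'_mulVec]⟩
  have hgS : g ∈ spGL m F := mem_spGL.2 fun x y => by rw [hg, hg, hiso]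
  have hgJ : ∀ x, (g : Matrix _ _ F) *ᵥ J x = J ((g : Matrix _ _ F) *ᵥ x) := fun x => by
    simp only [hg, hf, map_add, map_smul, hJ.sq, hJ.adj x b, hJ.nrm]
    module
  exact ⟨g, hM g hgS hgJ, hgS, hgJ, fun x => by rw [hg, hf]⟩

/-- A line of tensors `a b`, with `a` orthogonal to the line of an anisotropic `b`, fills the centre `a`. -/
theorem SUStr.full_of_tensor {a b : E} (hab : fm a b = 0) (habJ : fm a (J b) = 0)
    (hb : fm b (J b) ≠ 0) (h : ∀ c : F, stv2 a (c • b) ∈ M) : Full M a := by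
  have hN1 : (1 : F) + N ≠ 0 := by
    simpa [add_comm] using hJ.norm_pos hm (a := 1) (b := 1) (Or.inl one_ne_zero)
  obtain ⟨g, hgM, hgS, -, hg⟩ := hJ.exists_rot h2 hm hM hb
    (s := (1 - N) / (1 + N)) (t := 2 / (1 + N)) (by field_simp; ring)
  set s := (1 - N) / (1 + N)
  set t := 2 / (1 + N) with ht
  have ht0 : t ≠ 0 := div_ne_zero h2 hN1
  have hga : (g : Matrix _ _ F) *ᵥ a = a := by rw [hg, hab, habJ]; simp
  have hgb : (g : Matrix _ _ F) *ᵥ b = s • b + t • J b := by
    rw [hg, form_self]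
    match_scalars <;> field_simp <;> ring
  intro c
  set μ := -c / (2 * (t * fm b (J b)))
  set b'' := μ • (s • b + t • J b)
  have hconj : stv2 a b'' ∈ M := by
    have h1 := M.mul_mem (M.mul_mem hgM (h μ)) (M.inv_mem hgM)
    rwa [stv2_conj hgS, Matrix.mulVec_smul, hga, hgb] at h1
  have hb1 : stv2 a b ∈ M := by simpa using h 1
  have hab'' : fm a b'' = 0 := by
    simp only [b'', form_smul_right, form_add_right, hab, habJ, mul_zero, add_zero]
  have hba : fm b a = 0 := by rw [form_swap, hab, neg_zero]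
  have hb''a : fm b'' a = 0 := by rw [form_swap, hab'', neg_zero]
  have hbb : fm b b'' = μ * (t * fm b (J b)) := by
    simp only [b'', form_smul_right, form_add_right, form_self, mul_zero, zero_add]
  have hb''b : fm b'' b = -(μ * (t * fm b (J b))) := by rw [form_swap, hbb]
  have h1 := M.mul_mem (M.mul_mem hb1 hconj) (M.inv_mem (M.mul_mem hconj hb1))
  suffices stv2 a b * stv2 a b'' * (stv2 a b'' * stv2 a b)⁻¹ = stv a c by rwa [this] at h1
  rw [mul_inv_eq_iff_eq_mul]
  refine gl_ext_mulVec fun z => ?_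
  have hc : c = -(μ * (t * fm b (J b))) * 2 := by
    simp only [μ]; field_simp
  simp only [mul_mulVec, stv2_mulVec hab, stv2_mulVec hab'', stv_mulVec, form_add_left, form_smul_left,
    form_self, hab, hba, hab'', hb''a, hbb, hb''b, mul_zero, add_zero]
  rw [hc]
  module

/-- A tensor of rank two off the unitary lines makes `M` everything. -/
theorem SUStr.le_of_pair {p r : E} (hp : p ≠ 0) (hpr : fm p r = 0)
    (hA : ∀ c, stv p (c * N) * stv r c ∈ M)
    (hoff : r ∉ Submodule.span F (Set.range ![p, J p])) : spGL m F ≤ M := by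
  have hnd := hJ.uForm_nondeg h2 hm
  have hr0 : r ≠ 0 := fun e => hoff (e ▸ Submodule.zero_mem _)
  haveI : Nonempty (Fin m) := ⟨⟨0, by omega⟩⟩
  haveI := Fintype.ofFinite F
  set W := perpS (uForm J) (Submodule.span F (Set.range ![p, J p]))
  set R := Submodule.span F (Set.range ![r, J r])
  set U := Submodule.span F (Set.range ![p, J p]) ⊔ R with hU
  -- the dimension of the orthogonal of the two lines
  have hUd : Module.finrank F U = 4 := by
    have hinf : Submodule.span F (Set.range ![p, J p]) ⊓ R = ⊥ := eq_bot_iff.2 fun x hx => by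
      obtain ⟨c, hc⟩ := (Submodule.mem_span_range_iff_exists_fun F).1 hx.1
      obtain ⟨d, hd⟩ := (Submodule.mem_span_range_iff_exists_fun F).1 hx.2
      simp only [Fin.sum_univ_two, Matrix.cons_val] at hc hd
      by_contra hx0
      have hne : d 1 ≠ 0 ∨ d 0 ≠ 0 := by
        by_contra h
        push Not at h
        exact hx0 (by simp [← hd, h.1, h.2])
      refine hoff ((Submodule.smul_mem_iff _ (hJ.norm_pos hm hne)).1 ?_)
      refine (Submodule.mem_span_range_iff_exists_fun F).2
        ⟨![d 0 * c 0 + N * d 1 * c 1, d 0 * c 1 - d 1 * c 0], ?_⟩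
      simp only [Fin.sum_univ_two, Matrix.cons_val]
      have hcd := hc.trans hd.symm
      have hcd' := congrArg J hcd
      simp only [map_add, map_smul, hJ.sq] at hcd'
      linear_combination (norm := module) (d 0) • hcd - (d 1) • hcd'
    have h1 := Submodule.finrank_sup_add_finrank_inf_eq (Submodule.span F (Set.range ![p, J p])) R
    rw [hinf, finrank_bot, hJ.finrank_line h2 hm hp, hJ.finrank_line h2 hm hr0] at h1
    omega
  have hL : Module.finrank F ↥(perpS (uForm J) U) = 2 * m - 4 := by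
    have h1 := finrank_perpS hnd U
    rw [hUd, Module.finrank_fintype_fun_eq_card, Fintype.card_sum, Fintype.card_fin] at h1
    omega
  obtain ⟨v0, hv0W, hv0⟩ := hJ.exists_aniso_of_lt h2 hm (T := W)
    (by have := hJ.kperp_dim h2 hm p; simp only [W] at *; omega)
  -- a mirror
  obtain ⟨v, hvW, hQv, hvL, hvR⟩ : ∃ v ∈ W, uForm J v ≠ 0 ∧ v ∉ perpS (uForm J) U ∧ v ∉ R := by
    by_contra hcon
    push Not at hcon
    set S : Set (Fin m ⊕ Fin m → F) := (perpS (uForm J) U : Set _) ∪ (R : Set _) with hS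
    have hbad : (W : Set (Fin m ⊕ Fin m → F)) ⊆ S ∪ ((· - v0) '' S ∪ (· + v0) '' S) := by
      intro x hx
      by_contra h
      simp only [Set.mem_union, Set.mem_image, not_or, not_exists, not_and] at h
      obtain ⟨n0, n1, n2⟩ := h
      have q0 : uForm J x = 0 := by
        by_contra q
        exact n0 (or_iff_not_imp_left.2 (hcon x hx q))
      have q1 : uForm J (x + v0) = 0 := by
        by_contra q
        exact n1 _ (or_iff_not_imp_left.2 (hcon _ (W.add_mem hx hv0W) q)) (add_sub_cancel_right _ _)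
      have q2 : uForm J (x - v0) = 0 := by
        by_contra q
        exact n2 _ (or_iff_not_imp_left.2 (hcon _ (W.sub_mem hx hv0W) q)) (sub_add_cancel _ _)
      refine hv0 ?_
      rw [sub_eq_add_neg, CfsgLib.Forms.quad_add, QuadraticMap.map_neg, QuadraticMap.polar_neg_right,
        q0] at q2
      rw [CfsgLib.Forms.quad_add, q0] at q1
      exact (mul_eq_zero.1 (show uForm J v0 * 2 = 0 by linear_combination q1 + q2)).resolve_right h2
    have hcard : ∀ A : Submodule F (Fin m ⊕ Fin m → F), (A : Set (Fin m ⊕ Fin m → F)).ncard =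
        Fintype.card F ^ Module.finrank F A := fun A => by
      rw [← Nat.card_coe_set_eq, ← Nat.card_eq_fintype_card]
      show Nat.card A = _
      exact Module.natCard_eq_pow_finrank (K := F) (V := A)
    have k1 := (Set.ncard_le_ncard hbad (Set.toFinite _)).trans
      ((Set.ncard_union_le _ _).trans (Nat.add_le_add_left (Set.ncard_union_le _ _) _))
    have k2 := Set.ncard_image_le (f := fun x : Fin m ⊕ Fin m → F => x - v0) (Set.toFinite S)
    have k3 := Set.ncard_image_le (f := fun x : Fin m ⊕ Fin m → F => x + v0) (Set.toFinite S)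
    have k4 : S.ncard ≤ _ + _ := Set.ncard_union_le _ _
    rw [hcard, hcard, hL, hJ.finrank_line h2 hm hr0] at k4
    rw [hcard] at k1
    have hq : 3 ≤ Fintype.card F := by
      have hchar : ringChar F ≠ 2 := fun h => h2 (by
        have := ringChar.Nat.cast_ringChar (R := F)
        rw [h] at this
        exact_mod_cast this)
      have := FiniteField.odd_card_of_char_ne_two hchar
      have := Fintype.one_lt_card (α := F)
      omega
    have hpow : Fintype.card F ^ 2 ≤ Fintype.card F ^ (2 * m - 4) :=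
      Nat.pow_le_pow_right (by omega) (by omega)
    have hpow' : Fintype.card F ^ (2 * m - 4) * 9 ≤ Fintype.card F ^ Module.finrank F W :=
      calc Fintype.card F ^ (2 * m - 4) * 9 ≤ Fintype.card F ^ (2 * m - 4) * Fintype.card F ^ 2 :=
            Nat.mul_le_mul_left _ (by
              have := Nat.pow_le_pow_left hq 2
              omega)
        _ = Fintype.card F ^ (2 * m - 4 + 2) := (pow_add _ _ _).symm
        _ ≤ _ := Nat.pow_le_pow_right (by omega) (by
              have := hJ.kperp_dim h2 hm p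
              simp only [W] at *
              omega)
    have : 0 < Fintype.card F ^ (2 * m - 4) := pow_pos (by omega) _
    omega
  rw [hJ.mem_kperp h2 hm] at hvW
  have hv' : fm v (J v) ≠ 0 := hQv
  have hrv : fm r v ≠ 0 ∨ fm r (J v) ≠ 0 := by
    by_contra h
    push Not at h
    refine hvL fun y hy => ?_
    obtain ⟨y1, hy1, y2, hy2, rfl⟩ := Submodule.mem_sup.1 hy
    have h3 : v ∈ perpS (uForm J) R := (hJ.mem_kperp h2 hm).2 ⟨h.2, h.1⟩
    have h4 : v ∈ perpS (uForm J) (Submodule.span F (Set.range ![p, J p])) :=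
      (hJ.mem_kperp h2 hm).2 hvW
    rw [QuadraticMap.polar_add_left, h4 y1 hy1, h3 y2 hy2, add_zero]
  obtain ⟨g, hgM, hgS, hgJ, hg⟩ := hJ.exists_rot h2 hm hM hv' (s := -1) (t := 0) (by ring)
  set i := (fm v (J v))⁻¹ with hi'
  have hi : i ≠ 0 := inv_ne_zero hv'
  have hgp : (g : Matrix _ _ F) *ᵥ p = p := by rw [hg, hvW.1, hvW.2]; simp
  set r' := (g : Matrix (Fin m ⊕ Fin m) (Fin m ⊕ Fin m) F) *ᵥ r with hr'
  have hgr : r' = r + (-2 * fm r (J v) * i) • v + (2 * fm r v * i) • J v := by
    rw [hr', hg]; module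
  have hrr' : fm r r' = 0 := by
    simp only [hgr, form_add_right, form_smul_right, form_self]; ring
  have hpr' : fm p r' = 0 := by rw [hr', ← hgp, form_mulVec hgS, hpr]
  have hQr' : fm r' (J r') = fm r (J r) := by rw [hr', ← hgJ, form_mulVec hgS]
  have hr'r : fm r' r = 0 := by rw [form_swap, hrr', neg_zero]
  have hrp : fm r p = 0 := by rw [form_swap, hpr, neg_zero]
  have hr'p : fm r' p = 0 := by rw [form_swap, hpr', neg_zero]
  have hba : fm (r + r') (r - r') = 0 := by
    simp only [form_add_left, form_sub_right, form_self, hrr', hr'r]; ring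
  have hbaJ : fm (r + r') (J (r - r')) = 0 := by
    simp only [map_sub, form_add_left, form_sub_right, hQr', hJ.symm r' r]; ring
  have hQa : fm (r - r') (J (r - r')) ≠ 0 := by
    have he : r - r' = (2 * fm r (J v) * i) • v + (-(2 * fm r v * i)) • J v := by rw [hgr]; module
    rw [he, ← uForm_apply (J := J), hJ.uForm_comb]
    refine mul_ne_zero ?_ hQv
    have := hJ.norm_pos hm hrv
    rw [show 2 * fm r (J v) * i * (2 * fm r (J v) * i) +
      N * (-(2 * fm r v * i) * -(2 * fm r v * i)) =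
      (2 * i) * (2 * i) * (N * fm r v * fm r v + fm r (J v) * fm r (J v)) by ring]
    exact mul_ne_zero (mul_ne_zero (mul_ne_zero h2 hi) (mul_ne_zero h2 hi)) this
  have hb0 : r + r' ≠ 0 := fun e => by
    have h1 : (2 : F) • r = (2 * fm r (J v) * i) • v + (-(2 * fm r v * i)) • J v := by
      rw [hgr] at e
      linear_combination (norm := module) e
    have h3 : v ∈ R := by
      have hne : -(fm r v) ≠ 0 ∨ fm r (J v) ≠ 0 := hrv.imp neg_ne_zero.2 id
      refine (Submodule.smul_mem_iff _ (mul_ne_zero hi (hJ.norm_pos hm hne))).1 ?_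
      refine (Submodule.mem_span_range_iff_exists_fun F).2 ⟨![fm r (J v), fm r v], ?_⟩
      simp only [Fin.sum_univ_two, Matrix.cons_val]
      have h1' := congrArg J h1
      simp only [map_add, map_smul, hJ.sq] at h1'
      apply smul_right_injective _ h2
      linear_combination (norm := module) (fm r (J v)) • h1 + (fm r v) • h1'
    exact hvR h3
  refine hJ.le_of_full h2 hm hM hMI hb0 (hJ.full_of_tensor h2 hm hM hMI hba hbaJ hQa fun c => ?_)
  have h1 := M.mul_mem (M.mul_mem hgM (hA (2 * c))) (M.inv_mem hgM)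
  rw [show g * (stv p (2 * c * N) * stv r (2 * c)) * g⁻¹ =
    (g * stv p (2 * c * N) * g⁻¹) * (g * stv r (2 * c) * g⁻¹) by group,
    stv_conj hgS, stv_conj hgS, hgp, ← hr'] at h1
  have h3 := M.mul_mem (hA (2 * c)) (M.inv_mem h1)
  suffices stv p (2 * c * N) * stv r (2 * c) * (stv p (2 * c * N) * stv r' (2 * c))⁻¹ =
      stv2 (r + r') (c • (r - r')) by rwa [this] at h3
  rw [mul_inv_eq_iff_eq_mul]
  refine gl_ext_mulVec fun z => ?_
  have hba' : fm (r + r') (c • (r - r')) = 0 := by rw [form_smul_right, hba, mul_zero]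
  simp only [mul_mulVec, stv_mulVec, stv2_mulVec hba', form_add_left, form_smul_left, form_add_right,
    form_smul_right, form_sub_right, form_self, hpr, hrp, hpr', hr'p, hrr', hr'r, mul_zero, add_zero]
  module


omit hM hMI in
/-- Maximality of the normaliser of a unitary structure in the symplectic group. -/
theorem SUStr.maximal {L : Subgroup (GL (Fin m ⊕ Fin m) F)}
    (hc : ∀ g : GL (Fin m ⊕ Fin m) F,
      (∀ x, (g : Matrix _ _ F) *ᵥ J x = J ((g : Matrix _ _ F) *ᵥ x)) → g ∈ L)
    (hsl : ∀ g : GL (Fin m ⊕ Fin m) F, (∃ a b : F, ∀ x, (g : Matrix _ _ F) *ᵥ J x =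
      a • ((g : Matrix _ _ F) *ᵥ x) + b • J ((g : Matrix _ _ F) *ᵥ x)) → g ∈ L)
    (hL : ∀ g ∈ L, ∀ x, (g : Matrix _ _ F) *ᵥ J x ∈
      Submodule.span F (Set.range ![(g : Matrix _ _ F) *ᵥ x, J ((g : Matrix _ _ F) *ᵥ x)])) :
    Cfsg.Geo.IsMaximalIn (spGL m F) (L ⊓ spGL m F) := by
  have hnd := hJ.uForm_nondeg h2 hm
  constructor
  · exact lt_of_le_of_ne inf_le_right (hJ.proper h2 hm hL)
  intro M hM hMK
  by_cases h : M ≤ L
  · exact Or.inl (le_antisymm (le_inf h hMK) hM)
  refine Or.inr (le_antisymm hMK ?_)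
  obtain ⟨g, hg, hgL⟩ := SetLike.not_le_iff_exists.1 h
  have hM' : ∀ g ∈ spGL m F, (∀ x, (g : Matrix _ _ F) *ᵥ J x = J ((g : Matrix _ _ F) *ᵥ x)) → g ∈ M :=
    fun g hg hgJ => hM ⟨hc g hgJ, hg⟩
  by_cases hline : ∃ w, w ≠ 0 ∧ fm w (J w) = 0 ∧ (g : Matrix _ _ F) *ᵥ J w ∉
      Submodule.span F (Set.range ![(g : Matrix _ _ F) *ᵥ w, J ((g : Matrix _ _ F) *ᵥ w)])
  · obtain ⟨w, hw0, hw, hoff⟩ := hline
    refine hJ.le_of_pair h2 hm hM' hMK (fun e => hw0 ?_)
      (by rw [form_mulVec (hMK hg), hw]) (fun c => ?_) hoff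
    · rw [← inv_mulVec_mulVec g w, e, Matrix.mulVec_zero]
    · have hmem := M.mul_mem (M.mul_mem hg (hJ.ustv_mem h2 hm hM' hMK hw c)) (M.inv_mem hg)
      rw [show g * ustv J N w c * g⁻¹ = (g * stv w (c * N) * g⁻¹) * (g * stv (J w) c * g⁻¹) by
        rw [ustv]; group, stv_conj (hMK hg), stv_conj (hMK hg)] at hmem
      exact hmem
  push Not at hline
  exfalso
  obtain ⟨a, b, hab⟩ := hJ.semilinear_lines h2 hm
    ((Matrix.mulVecLin ((g⁻¹ : GL (Fin m ⊕ Fin m) F) : Matrix _ _ F)) ∘ₗ J ∘ₗ
      (Matrix.mulVecLin (g : Matrix _ _ F))) fun w hw => by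
    rcases eq_or_ne w 0 with rfl | hw0
    · exact ⟨(0, 0), by simp⟩
    obtain ⟨c, hc'⟩ := (Submodule.mem_span_range_iff_exists_fun F).1 (hline w hw0 hw)
    simp only [Fin.sum_univ_two, Matrix.cons_val] at hc'
    have hc1 : c 1 ≠ 0 := fun e => by
      rw [e, zero_smul, add_zero, ← Matrix.mulVec_smul] at hc'
      have h1 := congrArg (fun t : E => ((g⁻¹ : GL (Fin m ⊕ Fin m) F) : Matrix (Fin m ⊕ Fin m) (Fin m ⊕ Fin m) F) *ᵥ t) hc'
      simp only [inv_mulVec_mulVec] at h1
      exact one_ne_zero (hJ.irr w (-c 0) 1 hw0 (by rw [one_smul, ← h1]; module)).2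
    refine ⟨(-(c 0 / c 1), (c 1)⁻¹), ?_⟩
    simp only [LinearMap.comp_apply, Matrix.mulVecLin_apply]
    have h1 : J ((g : Matrix _ _ F) *ᵥ w) = (g : Matrix _ _ F) *ᵥ (-(c 0 / c 1) • w + (c 1)⁻¹ • J w) := by
      rw [Matrix.mulVec_add, Matrix.mulVec_smul, Matrix.mulVec_smul, ← hc']
      match_scalars <;> field_simp
      ring
    rw [h1, inv_mulVec_mulVec]
  have key : ∀ x, J ((g : Matrix _ _ F) *ᵥ x) = (g : Matrix _ _ F) *ᵥ (a • x + b • J x) := fun x => by
    rw [← hab x]
    simp only [LinearMap.comp_apply, Matrix.mulVecLin_apply, mulVec_inv_mulVec]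
  have hb : b ≠ 0 := fun e => by
    haveI : Nonempty (Fin m) := ⟨⟨0, by omega⟩⟩
    obtain ⟨x, hx⟩ := exists_ne (0 : E)
    have h1 := key x
    rw [e, zero_smul, add_zero, Matrix.mulVec_smul] at h1
    refine one_ne_zero (hJ.irr ((g : Matrix _ _ F) *ᵥ x) (-a) 1 (fun e' => hx ?_)
      (by rw [one_smul, h1]; module)).2
    rw [← inv_mulVec_mulVec g x, e', Matrix.mulVec_zero]
  refine hgL (hsl g ⟨-(a / b), b⁻¹, fun x => ?_⟩)
  rw [key, Matrix.mulVec_add, Matrix.mulVec_smul, Matrix.mulVec_smul]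
  match_scalars <;> field_simp
  ring

end CfsgLib.Geo.SpTv
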