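/-
The hermitian space `F^a ⊗ F^b` inside `F^n`: contractions, factor groups and elementary elements.
-/
import Cfsg.Agent.Geo.TensorUnitSpace
import Cfsg.Agent.Geo.TensorLinearMaximal

set_option autoImplicit false

namespace CfsgLib.Geo.TensorU

open Matrix Cfsg Cfsg.Geo CfsgLib.Geo CfsgLib.Geo.UTv

variable {n a b q : ℕ} {F : Type*} [Field F] (e : Fin n ≃ Fin a × Fin b)

local notation "⟪" x ", " y "⟫" => Cfsg.hermForm _ F q x y

/-- A pure tensor. -/
def T (u : Fin a → F) (w : Fin b → F) : Fin n → F := Tensor.ten u w ∘ e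

lemma T_add_left (u u' : Fin a → F) (w : Fin b → F) : T e (u + u') w = T e u w + T e u' w := by
  simp [T, Tensor.ten_add_left]; rfl

lemma T_add_right (u : Fin a → F) (w w' : Fin b → F) : T e u (w + w') = T e u w + T e u w' := by
  simp [T, Tensor.ten_add_right]; rfl

lemma T_smul_left (c : F) (u : Fin a → F) (w : Fin b → F) : T e (c • u) w = c • T e u w := by
  simp [T, Tensor.ten_smul_left]; rfl

lemma T_smul_right (c : F) (u : Fin a → F) (w : Fin b → F) : T e u (c • w) = c • T e u w := by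
  simp [T, Tensor.ten_smul_right]; rfl

/-- `u ↦ u ⊗ w`. -/
def TL (w : Fin b → F) : (Fin a → F) →ₗ[F] (Fin n → F) where
  toFun u := T e u w
  map_add' u u' := T_add_left e u u' w
  map_smul' c u := T_smul_left e c u w

/-- `w ↦ u ⊗ w`. -/
def TR (u : Fin a → F) : (Fin b → F) →ₗ[F] (Fin n → F) where
  toFun w := T e u w
  map_add' := T_add_right e u
  map_smul' c w := T_smul_right e c u w

lemma TL_apply (w : Fin b → F) (u : Fin a → F) : TL e w u = T e u w := rfl

lemma TR_apply (u : Fin a → F) (w : Fin b → F) : TR e u w = T e u w := rfl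

lemma T_zero_left (w : Fin b → F) : T e (0 : Fin a → F) w = 0 := (TL e w).map_zero

lemma T_zero_right (u : Fin a → F) : T e u (0 : Fin b → F) = 0 := (TR e u).map_zero

lemma T_neg_left (u : Fin a → F) (w : Fin b → F) : T e (-u) w = -T e u w := (TL e w).map_neg u

lemma T_sub_left (u u' : Fin a → F) (w : Fin b → F) : T e (u - u') w = T e u w - T e u' w :=
  (TL e w).map_sub u u'

lemma T_sub_right (u : Fin a → F) (w w' : Fin b → F) : T e u (w - w') = T e u w - T e u w' :=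
  (TR e u).map_sub w w'

lemma T_eq_zero {u : Fin a → F} {w : Fin b → F} (h : T e u w = 0) (hw : w ≠ 0) : u = 0 := by
  refine Tensor.ten_eq_zero (funext fun p => ?_) hw
  have := congrFun h (e.symm p)
  simpa [T] using this

lemma T_eq_zero' {u : Fin a → F} {w : Fin b → F} (h : T e u w = 0) (hu : u ≠ 0) : w = 0 := by
  by_contra hw
  exact hu (T_eq_zero e h hw)

lemma T_inj {u u' : Fin a → F} {w : Fin b → F} (hw : w ≠ 0) (h : T e u w = T e u' w) : u = u' :=
  sub_eq_zero.1 (T_eq_zero e (by rw [T_sub_left, h, sub_self]) hw)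

lemma lin_ext {N : Type*} [AddCommGroup N] [Module F N] {S S' : (Fin n → F) →ₗ[F] N}
    (h : ∀ u w, S (T e u w) = S' (T e u w)) : S = S' := by
  have := Tensor.map_ext (S := S ∘ₗ (LinearMap.funLeft F F e)) (T := S' ∘ₗ (LinearMap.funLeft F F e)) h
  refine LinearMap.ext fun x => ?_
  have h1 := LinearMap.congr_fun this (x ∘ e.symm)
  have hx : (LinearMap.funLeft F F e) (x ∘ e.symm) = x := by ext i; simp [LinearMap.funLeft]
  rwa [LinearMap.comp_apply, LinearMap.comp_apply, hx] at h1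

/-- Contraction of the second factor against `v`. -/
def cW (q : ℕ) (v : Fin b → F) : (Fin n → F) →ₗ[F] (Fin a → F) where
  toFun x j := ∑ k, x (e.symm (j, k)) * v k ^ q
  map_add' x y := by funext j; simp [add_mul, Finset.sum_add_distrib]
  map_smul' c x := by funext j; simp [Finset.mul_sum, mul_assoc]

/-- The Kronecker products inside `GL(F^n)`. -/
def kron (F : Type*) [Field F] {n a b : ℕ} (e : Fin n ≃ Fin a × Fin b) : Subgroup (GL (Fin n) F) :=
  (kroneckerSubgroup a b F).map (glReindex e.symm).toMonoidHom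

/-- A Kronecker product. -/
def kk (α : GL (Fin a) F) (β : GL (Fin b) F) : GL (Fin n) F := glReindex e.symm (Tensor.kr α β)

lemma glReindex_mulVec (g : GL (Fin a × Fin b) F) (x : Fin a × Fin b → F) :
    (glReindex e.symm g : Matrix (Fin n) (Fin n) F) *ᵥ (x ∘ e)
      = ((g : Matrix (Fin a × Fin b) (Fin a × Fin b) F) *ᵥ x) ∘ e := by
  show (Matrix.reindexAlgEquiv F F e.symm (g : Matrix (Fin a × Fin b) (Fin a × Fin b) F)) *ᵥ (x ∘ e) = _
  rw [Matrix.reindexAlgEquiv_apply, Matrix.reindex_apply, Matrix.submatrix_mulVec_equiv]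
  simp only [Equiv.symm_symm, Function.comp_assoc, Equiv.self_comp_symm, Function.comp_id]

lemma kk_T (α : GL (Fin a) F) (β : GL (Fin b) F) (u : Fin a → F) (w : Fin b → F) :
    (kk e α β : Matrix (Fin n) (Fin n) F) *ᵥ T e u w
      = T e ((α : Matrix (Fin a) (Fin a) F) *ᵥ u) ((β : Matrix (Fin b) (Fin b) F) *ᵥ w) := by
  rw [kk, T, glReindex_mulVec, Tensor.kr_ten]; rfl

lemma gl_ext {g g' : GL (Fin n) F}
    (h : ∀ u w, (g : Matrix (Fin n) (Fin n) F) *ᵥ T e u w = (g' : Matrix (Fin n) (Fin n) F) *ᵥ T e u w) : g = g' :=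
  gl_ext_mulVec fun x => LinearMap.congr_fun (lin_ext e (S := Matrix.mulVecLin (g : Matrix (Fin n) (Fin n) F))
    (S' := Matrix.mulVecLin (g' : Matrix (Fin n) (Fin n) F)) h) x

lemma kk_mem (α : GL (Fin a) F) (β : GL (Fin b) F) : kk e α β ∈ kron F e :=
  ⟨_, Tensor.kr_mem α β, rfl⟩

lemma kk_mul (α α' : GL (Fin a) F) (β β' : GL (Fin b) F) : kk e α β * kk e α' β' = kk e (α * α') (β * β') := by
  rw [kk, kk, kk, ← map_mul, Tensor.kr_mul]

lemma kk_one : kk e (1 : GL (Fin a) F) 1 = 1 := by rw [kk, Tensor.kr_one, map_one]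

lemma exists_kk {g : GL (Fin n) F} (h : g ∈ kron F e) : ∃ α β, g = kk e α β := by
  obtain ⟨k, hk, rfl⟩ := h
  obtain ⟨α, β, rfl⟩ := Tensor.exists_kr hk
  exact ⟨α, β, rfl⟩

lemma mem_kron_iff {g : GL (Fin n) F} : g ∈ kron F e ↔ ∃ (α : GL (Fin a) F) (β : GL (Fin b) F), ∀ u w,
    (g : Matrix (Fin n) (Fin n) F) *ᵥ T e u w
      = T e ((α : Matrix (Fin a) (Fin a) F) *ᵥ u) ((β : Matrix (Fin b) (Fin b) F) *ᵥ w) := by
  constructor
  · intro h
    obtain ⟨α, β, rfl⟩ := exists_kk e h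
    exact ⟨α, β, kk_T e α β⟩
  · rintro ⟨α, β, h⟩
    have he : g = kk e α β := gl_ext e fun u w => by rw [h, kk_T]
    rw [he]
    exact kk_mem e α β

variable [Finite F] (hF : Nat.card F = q ^ 2)
include hF

lemma herm_T (u u' : Fin a → F) (w w' : Fin b → F) : ⟪T e u w, T e u' w'⟫ = ⟪u, u'⟫ * ⟪w, w'⟫ := by
  rw [UFrame.herm_apply hF, UFrame.herm_apply hF u u', UFrame.herm_apply hF w w', Finset.sum_mul_sum,
    ← Fintype.sum_prod_type', ← Equiv.sum_comp e]
  exact Finset.sum_congr rfl fun i _ => by simp only [T, Tensor.ten, Function.comp_apply, mul_pow]; ring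

lemma cW_T (v w : Fin b → F) (u : Fin a → F) : cW e q v (T e u w) = ⟪w, v⟫ • u := by
  funext j
  rw [UFrame.herm_apply hF, Pi.smul_apply, smul_eq_mul, Finset.sum_mul]
  show ∑ k, T e u w (e.symm (j, k)) * v k ^ q = _
  refine Finset.sum_congr rfl fun k _ => ?_
  simp only [T, Tensor.ten, Function.comp_apply, Equiv.apply_symm_apply]
  ring

lemma herm_T_right (x : Fin n → F) (u : Fin a → F) (w : Fin b → F) : ⟪x, T e u w⟫ = ⟪cW e q w x, u⟫ := by
  have := lin_ext e (S := (Unit.linLeft (isUnitaryForm hF (n := n))).toLin (T e u w))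
    (S' := ((Unit.linLeft (isUnitaryForm hF (n := a))).toLin u) ∘ₗ cW e q w) fun u' w' => by
      show ⟪T e u' w', T e u w⟫ = ⟪cW e q w (T e u' w'), u⟫
      rw [herm_T e hF, cW_T e hF, smul_l, mul_comm]
  exact LinearMap.congr_fun this x

lemma herm_T_left (x : Fin n → F) (u : Fin a → F) (w : Fin b → F) : ⟪T e u w, x⟫ = ⟪u, cW e q w x⟫ := by
  rw [swap hF x, herm_T_right e hF, swap hF u, CfsgLib.Forms.pow_q_q hF]

lemma cW_add (v v' : Fin b → F) (x : Fin n → F) : cW e q (v + v') x = cW e q v x + cW e q v' x := by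
  funext j
  simp only [cW, LinearMap.coe_mk, AddHom.coe_mk, Pi.add_apply, pow_add hF, mul_add, Finset.sum_add_distrib]

omit hF [Finite F] in
lemma cW_smul (c : F) (v : Fin b → F) (x : Fin n → F) : cW e q (c • v) x = c ^ q • cW e q v x := by
  funext j
  simp only [cW, LinearMap.coe_mk, AddHom.coe_mk, Pi.smul_apply, smul_eq_mul, mul_pow, Finset.mul_sum]
  exact Finset.sum_congr rfl fun k _ => by ring

lemma cW_T0 {v w : Fin b → F} (h : ⟪w, v⟫ = 0) (u : Fin a → F) : cW e q v (T e u w) = 0 := by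
  rw [cW_T e hF, h, zero_smul]

/-- The coordinates of a tensor in the standard basis of the second factor. -/
lemma T_decomp (x : Fin n → F) : ∑ k, T e (cW e q (Pi.single k (1 : F)) x) (Pi.single k (1 : F)) = x := by
  have := lin_ext e (S := ∑ k, (TL e (Pi.single k (1 : F))) ∘ₗ cW e q (Pi.single k (1 : F))) (S' := LinearMap.id)
    fun u w => by
      simp only [LinearMap.sum_apply, LinearMap.comp_apply, TL_apply, LinearMap.id_apply, cW_T e hF]
      have h1 : ∀ k, T e (⟪w, Pi.single k (1 : F)⟫ • u) (Pi.single k (1 : F)) = TR e u (w k • Pi.single k (1 : F)) := fun k => by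
        rw [UFrame.herm_single_right hF, TR_apply, T_smul_left, T_smul_right]
      rw [Finset.sum_congr rfl fun k _ => h1 k, ← map_sum, ← pi_eq_sum_univ' w, TR_apply]
  simpa [LinearMap.sum_apply, TL_apply] using LinearMap.congr_fun this x

lemma eq_zero_of_cW {x : Fin n → F} (h : ∀ v, cW e q v x = 0) : x = 0 := by
  rw [← T_decomp e hF x]
  exact Finset.sum_eq_zero fun k _ => by rw [h, T_zero_left]

/-- Isometry is checked on pure tensors. -/
lemma mem_GU_of_T {g : GL (Fin n) F}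
    (h : ∀ u w u' w', ⟪(g : Matrix (Fin n) (Fin n) F) *ᵥ T e u w, (g : Matrix (Fin n) (Fin n) F) *ᵥ T e u' w'⟫
      = ⟪T e u w, T e u' w'⟫) : g ∈ Cfsg.GU n F q := by
  have hl := Unit.linLeft (isUnitaryForm hF (n := n))
  have h1 : ∀ x u' w', ⟪(g : Matrix (Fin n) (Fin n) F) *ᵥ x, (g : Matrix (Fin n) (Fin n) F) *ᵥ T e u' w'⟫
      = ⟪x, T e u' w'⟫ := fun x u' w' => LinearMap.congr_fun (lin_ext e
        (S := (hl.toLin ((g : Matrix (Fin n) (Fin n) F) *ᵥ T e u' w')) ∘ₗ Matrix.mulVecLin (g : Matrix (Fin n) (Fin n) F))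
        (S' := hl.toLin (T e u' w')) fun u w => h u w u' w') x
  rw [mem_GU]
  intro x y
  have h2 := LinearMap.congr_fun (lin_ext e
    (S := (hl.toLin ((g : Matrix (Fin n) (Fin n) F) *ᵥ x)) ∘ₗ Matrix.mulVecLin (g : Matrix (Fin n) (Fin n) F))
    (S' := hl.toLin x) fun u' w' => by
      show ⟪(g : Matrix (Fin n) (Fin n) F) *ᵥ T e u' w', (g : Matrix (Fin n) (Fin n) F) *ᵥ x⟫ = ⟪T e u' w', x⟫
      rw [swap hF ((g : Matrix (Fin n) (Fin n) F) *ᵥ x), h1, ← swap hF]) y
  change ⟪(g : Matrix (Fin n) (Fin n) F) *ᵥ y, (g : Matrix (Fin n) (Fin n) F) *ᵥ x⟫ = ⟪y, x⟫ at h2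
  rw [swap hF ((g : Matrix (Fin n) (Fin n) F) *ᵥ y), h2, ← swap hF]

lemma kk_mem_GU {α : GL (Fin a) F} (hα : α ∈ Cfsg.GU a F q) {β : GL (Fin b) F} (hβ : β ∈ Cfsg.GU b F q) :
    kk e α β ∈ Cfsg.GU n F q :=
  mem_GU_of_T e hF fun u w u' w' => by
    rw [kk_T, kk_T, herm_T e hF, herm_T e hF, mem_GU.1 hα, mem_GU.1 hβ]

lemma kk_mem_su {α : GL (Fin a) F} (hα : α ∈ suGL a F q) {β : GL (Fin b) F} (hβ : β ∈ suGL b F q) :
    kk e α β ∈ kron F e ⊓ suGL n F q := by
  refine ⟨kk_mem e α β, kk_mem_GU e hF hα.1 hβ.1, mem_specialLinear.2 ?_⟩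
  show (Matrix.reindexAlgEquiv F F e.symm ((Tensor.kr α β : GL _ F) : Matrix (Fin a × Fin b) (Fin a × Fin b) F)).det = 1
  rw [Matrix.reindexAlgEquiv_apply, Matrix.det_reindex_self]
  exact mem_specialLinear.1 (Tensor.kr_det α β hα.2 hβ.2)

lemma cW_mulVec {β : GL (Fin b) F} (hβ : β ∈ Cfsg.GU b F q) (α : GL (Fin a) F) (v : Fin b → F) (x : Fin n → F) :
    cW e q ((β : Matrix (Fin b) (Fin b) F) *ᵥ v) ((kk e α β : Matrix (Fin n) (Fin n) F) *ᵥ x)
      = (α : Matrix (Fin a) (Fin a) F) *ᵥ cW e q v x :=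
  LinearMap.congr_fun (lin_ext e
    (S := cW e q ((β : Matrix (Fin b) (Fin b) F) *ᵥ v) ∘ₗ Matrix.mulVecLin (kk e α β : Matrix (Fin n) (Fin n) F))
    (S' := Matrix.mulVecLin (α : Matrix (Fin a) (Fin a) F) ∘ₗ cW e q v) fun u w => by
      simp only [LinearMap.comp_apply, Matrix.mulVecLin_apply, kk_T, cW_T e hF, mem_GU.1 hβ, Matrix.mulVec_smul]) x

/-- The transvection `t_{w,c}` of the second factor. -/
lemma exists_tv {w : Fin b → F} (hw : ⟪w, w⟫ = 0) {c : F} (hc : c + c ^ q = 0) :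
    ∃ t ∈ kron F e ⊓ suGL n F q, ∀ x, (t : Matrix (Fin n) (Fin n) F) *ᵥ x = x + c • T e (cW e q w x) w := by
  set β := tvec w (uax q w c) (uax_dot_self hw c) with hβ
  refine ⟨kk e 1 β, kk_mem_su e hF (one_mem _) (utv_mem hF hw hc), fun x => ?_⟩
  exact LinearMap.congr_fun (lin_ext e (S := Matrix.mulVecLin (kk e 1 β : Matrix (Fin n) (Fin n) F))
    (S' := LinearMap.id + c • (TL e w ∘ₗ cW e q w)) fun u v => by
      simp only [Matrix.mulVecLin_apply, kk_T, hβ, Units.val_one, Matrix.one_mulVec, utv_mulVec hF hw,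
        LinearMap.add_apply, LinearMap.id_apply, LinearMap.smul_apply, LinearMap.comp_apply, TL_apply,
        cW_T e hF, T_add_right, T_smul_right, T_smul_left, smul_smul]) x

/-- Isometries move contractions. -/
lemma cW_eq_of_map {g : GL (Fin n) F} (hg : g ∈ Cfsg.GU n F q) {w w' : Fin b → F} {f : Fin a → F} {f' : Fin a → F}
    (h : (g : Matrix (Fin n) (Fin n) F) *ᵥ T e f w = T e f' w') (x : Fin n → F) :
    ⟪cW e q w (((g⁻¹ : GL (Fin n) F) : Matrix (Fin n) (Fin n) F) *ᵥ x), f⟫ = ⟪cW e q w' x, f'⟫ := by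
  rw [← herm_T_right e hF, ← herm_T_right e hF, ← mem_GU.1 hg, mulVec_inv_mulVec, h]

end CfsgLib.Geo.TensorU
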