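/-
Overgroups of the tensor stabiliser: root groups at a tensor line and the residue of a twisted transvection.
-/
import Cfsg.Agent.Geo.TensorUnitBasic
import Cfsg.Agent.Geo.UnitPhase

set_option autoImplicit false

namespace CfsgLib.Geo.TensorU

open Matrix Cfsg Cfsg.Geo CfsgLib.Geo CfsgLib.Geo.UTv CfsgLib.Geo.UFrame

variable {n a b q : ℕ} {F : Type*} [Field F] {e : Fin n ≃ Fin a × Fin b} {M : Subgroup (GL (Fin n) F)}

local notation "⟪" x ", " y "⟫" => Cfsg.hermForm _ F q x y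

/-- A subgroup of the special unitary group containing the stabiliser of the decomposition. -/
structure Over (q : ℕ) (e : Fin n ≃ Fin a × Fin b) (M : Subgroup (GL (Fin n) F)) : Prop where
  two : 2 ≤ a
  lt : a < b
  four : 4 ≤ b
  exc : 3 ≤ a ∨ 3 ≤ q
  le : kron F e ⊓ suGL n F q ≤ M
  sub : M ≤ suGL n F q

/-- Isometries carrying the special part of the stabiliser into `M`. -/
def IsExt (q : ℕ) (e : Fin n ≃ Fin a × Fin b) (M : Subgroup (GL (Fin n) F)) (g : GL (Fin n) F) : Prop :=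
  g ∈ Cfsg.GU n F q ∧ ∀ t ∈ kron F e ⊓ suGL n F q, g * t * g⁻¹ ∈ M

/-- `M` contains `x ↦ x + Γ(cW_w x) ⊗ w`. -/
def InR (q : ℕ) (e : Fin n ≃ Fin a × Fin b) (M : Subgroup (GL (Fin n) F)) (w : Fin b → F)
    (Γ : Module.End F (Fin a → F)) : Prop :=
  ∃ g ∈ M, ∀ x, (g : Matrix (Fin n) (Fin n) F) *ᵥ x = x + T e (Γ (cW e q w x)) w

lemma InR.congr {w : Fin b → F} {Γ Γ' : Module.End F (Fin a → F)} (h : InR q e M w Γ) (he : ∀ x, Γ x = Γ' x) :
    InR q e M w Γ' := by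
  rwa [← LinearMap.ext he]

variable [Finite F] (hF : Nat.card F = q ^ 2)
include hF

lemma InR.add {w : Fin b → F} (hw : ⟪w, w⟫ = 0) {Γ Γ' : Module.End F (Fin a → F)} (h : InR q e M w Γ)
    (h' : InR q e M w Γ') : InR q e M w (Γ + Γ') := by
  obtain ⟨g, hg, hgx⟩ := h
  obtain ⟨g', hg', hgx'⟩ := h'
  refine ⟨g * g', M.mul_mem hg hg', fun x => ?_⟩
  rw [mul_mulVec, hgx', hgx, map_add, cW_T0 e hF hw, add_zero, LinearMap.add_apply, T_add_left]
  abel

lemma InR.neg {w : Fin b → F} (hw : ⟪w, w⟫ = 0) {Γ : Module.End F (Fin a → F)} (h : InR q e M w Γ) :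
    InR q e M w (-Γ) := by
  obtain ⟨g, hg, hgx⟩ := h
  refine ⟨g⁻¹, M.inv_mem hg, fun x => ?_⟩
  have h1 : (g : Matrix (Fin n) (Fin n) F) *ᵥ (x + T e (-Γ (cW e q w x)) w) = x := by
    rw [hgx, map_add, cW_T0 e hF hw, add_zero, T_neg_left]
    abel
  conv_lhs => rw [← h1]
  rw [inv_mulVec_mulVec, LinearMap.neg_apply]

lemma InR.sub {w : Fin b → F} (hw : ⟪w, w⟫ = 0) {Γ Γ' : Module.End F (Fin a → F)} (h : InR q e M w Γ)
    (h' : InR q e M w Γ') : InR q e M w (Γ - Γ') := by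
  rw [sub_eq_add_neg]; exact h.add hF hw (h'.neg hF hw)

lemma Over.scalar (hS : Over q e M) {w : Fin b → F} (hw : ⟪w, w⟫ = 0) {c : F} (hc : c + c ^ q = 0) :
    InR q e M w (c • LinearMap.id) := by
  obtain ⟨t, ht, htx⟩ := exists_tv e hF hw hc
  exact ⟨t, hS.le ht, fun x => by rw [htx, LinearMap.smul_apply, LinearMap.id_apply, T_smul_left]⟩

lemma Over.isExt (hS : Over q e M) {g : GL (Fin n) F} (hg : g ∈ M) : IsExt q e M g :=
  ⟨(hS.sub hg).1, fun _ ht => M.mul_mem (M.mul_mem hg (hS.le ht)) (M.inv_mem hg)⟩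

omit hF [Finite F] in
lemma IsExt.mul_left {g k : GL (Fin n) F} (hMI : M ≤ suGL n F q) (hk : k ∈ M) (hg : IsExt q e M g) :
    IsExt q e M (k * g) := by
  refine ⟨(Cfsg.GU n F q).mul_mem (hMI hk).1 hg.1, fun t ht => ?_⟩
  rw [show k * g * t * (k * g)⁻¹ = k * (g * t * g⁻¹) * k⁻¹ by group]
  exact M.mul_mem (M.mul_mem hk (hg.2 t ht)) (M.inv_mem hk)

lemma det_conj_GU {k t : GL (Fin n) F} (hk : k ∈ Cfsg.GU n F q) (ht : t ∈ suGL n F q) : k * t * k⁻¹ ∈ suGL n F q := by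
  refine ⟨(Cfsg.GU n F q).mul_mem ((Cfsg.GU n F q).mul_mem hk ht.1) ((Cfsg.GU n F q).inv_mem hk), ?_⟩
  exact (inferInstance : (Matrix.GeneralLinearGroup.det (n := Fin n) (R := F)).ker.Normal).conj_mem t ht.2 k

lemma IsExt.mul_right {g k : GL (Fin n) F} (hk : k ∈ kron F e) (hkU : k ∈ Cfsg.GU n F q) (hg : IsExt q e M g) :
    IsExt q e M (g * k) := by
  refine ⟨(Cfsg.GU n F q).mul_mem hg.1 hkU, fun t ht => ?_⟩
  rw [show g * k * t * (g * k)⁻¹ = g * (k * t * k⁻¹) * g⁻¹ by group]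
  exact hg.2 _ ⟨(kron F e).mul_mem ((kron F e).mul_mem hk ht.1) ((kron F e).inv_mem hk), det_conj_GU hF hkU ht.2⟩

/-! ### The residue -/

/-- The unsymmetrised residue. -/
lemma res_R (hS : Over q e M) {r : GL (Fin n) F} (hr : IsExt q e M r) {s v w : Fin b → F} (hs : ⟪s, s⟫ = 0)
    (hv : ⟪v, v⟫ = 0) (hw : ⟪w, w⟫ = 0) (hvw : ⟪v, w⟫ = 0) (hn : v ∉ F ∙ w) (hn' : w ∉ F ∙ v)
    (Z : Module.End F (Fin a → F))
    (hrs : ∀ f, (r : Matrix (Fin n) (Fin n) F) *ᵥ T e f s = T e f v + T e (Z f) w) {c : F} (hc : c + c ^ q = 0) :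
    InR q e M w (c • (Z ∘ₗ adj hF Z)) := by
  classical
  haveI := Fintype.ofFinite F
  obtain ⟨t, ht, htx⟩ := exists_tv e hF hs hc
  obtain ⟨tv', htv', htvx⟩ := exists_tv e hF hv (c := -c) (by rw [pow_neg hF]; linear_combination -hc)
  have hA : ∀ x, cW e q s (((r⁻¹ : GL (Fin n) F) : Matrix (Fin n) (Fin n) F) *ᵥ x)
      = cW e q v x + adj hF Z (cW e q w x) := fun x => eq_of_forall hF fun f => by
    rw [← herm_T_right e hF, ← mem_GU.1 hr.1, mulVec_inv_mulVec, hrs, add_r hF, herm_T_right e hF,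
      herm_T_right e hF, add_l, adj_spec]
  have hvA : ∀ u u', cW e q v (T e u v + T e u' w) = 0 := fun u u' => by
    rw [map_add, cW_T0 e hF hv, cW_T0 e hF (swap0 hF hvw), add_zero]
  have hwA : ∀ u u', cW e q w (T e u v + T e u' w) = 0 := fun u u' => by
    rw [map_add, cW_T0 e hF hvw, cW_T0 e hF hw, add_zero]
  set G1 := r * t * r⁻¹ * tv' with hG1
  have hG1M : G1 ∈ M := M.mul_mem (hr.2 t ht) (hS.le htv')
  let N : F → F → F → (Fin n → F) → (Fin n → F) := fun i j k x =>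
    i • T e (adj hF Z (cW e q w x)) v + j • T e (Z (cW e q v x)) w + k • T e (Z (adj hF Z (cW e q w x))) w
  have hN : ∀ i j k x, ∃ u u', N i j k x = T e u v + T e u' w := fun i j k x =>
    ⟨i • adj hF Z (cW e q w x), j • Z (cW e q v x) + k • Z (adj hF Z (cW e q w x)), by
      simp only [N, T_add_left, T_smul_left]; abel⟩
  have hG1x : ∀ x, (G1 : Matrix (Fin n) (Fin n) F) *ᵥ x = x + N c c c x := by
    intro x
    have h1 : cW e q v (T e (cW e q v x) v) = 0 := cW_T0 e hF hv _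
    have h2 : cW e q w (T e (cW e q v x) v) = 0 := cW_T0 e hF hvw _
    rw [hG1, mul_mulVec, htvx, mul_mulVec, mul_mulVec, htx, Matrix.mulVec_add, mulVec_inv_mulVec,
      Matrix.mulVec_smul, hrs, hA, map_add, map_add, map_smul, map_smul, h1, h2, smul_zero, add_zero, add_zero]
    simp only [N, map_add, T_add_left]
    module
  have key : ∀ S : Finset F, (∀ l ∈ S, IsPhase q l) → ∃ g ∈ M, ∀ x, (g : Matrix (Fin n) (Fin n) F) *ᵥ x
      = x + N (c * ∑ l ∈ S, l * l) (c * ∑ l ∈ S, l⁻¹ * l⁻¹) (c * (S.card : F)) x := by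
    intro S
    induction S using Finset.induction_on with
    | empty => exact fun _ => ⟨1, M.one_mem, fun x => by simp [N]⟩
    | insert l S hl ih =>
      intro hph
      obtain ⟨g, hg, hgx⟩ := ih fun x hx => hph x (Finset.mem_insert_of_mem hx)
      have hlp : IsPhase q l := hph l (Finset.mem_insert_self l S)
      have hlq : l ^ q = l⁻¹ := eq_inv_of_mul_eq_one_right hlp
      obtain ⟨β, hβ, hβv, hβw⟩ := exists_diag hF hv hw hvw hn hn' hlp.ne_zero
      have hk := kk_mem_su e hF (one_mem (suGL a F q)) hβ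
      set k := kk e (1 : GL (Fin a) F) β with hkdef
      have hkA : ∀ x, cW e q v (((k⁻¹ : GL (Fin n) F) : Matrix (Fin n) (Fin n) F) *ᵥ x) = l⁻¹ • cW e q v x := by
        intro x
        have := cW_mulVec e hF hβ.1 (1 : GL (Fin a) F) v (((k⁻¹ : GL (Fin n) F) : Matrix (Fin n) (Fin n) F) *ᵥ x)
        rw [← hkdef, mulVec_inv_mulVec, Units.val_one, Matrix.one_mulVec, hβv, cW_smul, hlq] at this
        exact this.symm
      have hkB : ∀ x, cW e q w (((k⁻¹ : GL (Fin n) F) : Matrix (Fin n) (Fin n) F) *ᵥ x) = l • cW e q w x := by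
        intro x
        have := cW_mulVec e hF hβ.1 (1 : GL (Fin a) F) w (((k⁻¹ : GL (Fin n) F) : Matrix (Fin n) (Fin n) F) *ᵥ x)
        rw [← hkdef, mulVec_inv_mulVec, Units.val_one, Matrix.one_mulVec, hβw, cW_smul, inv_pow, hlq, inv_inv] at this
        exact this.symm
      refine ⟨k * G1 * k⁻¹ * g, M.mul_mem (M.mul_mem (M.mul_mem (hS.le hk) hG1M) (M.inv_mem (hS.le hk))) hg,
        fun x => ?_⟩
      set y := x + N (c * ∑ i ∈ S, i * i) (c * ∑ i ∈ S, i⁻¹ * i⁻¹) (c * (S.card : F)) x with hy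
      have hyA : cW e q v y = cW e q v x ∧ cW e q w y = cW e q w x := by
        obtain ⟨u, u', hu⟩ := hN (c * ∑ i ∈ S, i * i) (c * ∑ i ∈ S, i⁻¹ * i⁻¹) (c * (S.card : F)) x
        rw [hy, hu, map_add, map_add (cW e q w), hvA, hwA, add_zero, add_zero]
        exact ⟨rfl, rfl⟩
      rw [mul_mulVec, hgx, ← hy, mul_mulVec, mul_mulVec, hG1x, Matrix.mulVec_add, mulVec_inv_mulVec]
      simp only [N, hkA, hkB]
      rw [hyA.1, hyA.2]
      simp only [hkdef, map_smul, Matrix.mulVec_add, Matrix.mulVec_smul, kk_T, Units.val_one, Matrix.one_mulVec, hβv,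
        hβw, T_smul_left, T_smul_right, smul_smul]
      rw [hy, Finset.sum_insert hl, Finset.sum_insert hl, Finset.card_insert_of_notMem hl, Nat.cast_add, Nat.cast_one]
      simp only [N]
      match_scalars <;> field_simp [hlp.ne_zero] <;> ring
  set Φ := Finset.univ.filter fun l : F => l * l ^ q = 1 with hΦ
  have hΦm : ∀ l, l ∈ Φ ↔ IsPhase q l := fun l => by simp [hΦ, IsPhase]
  obtain ⟨μ, hμ, hμ1, hμ2⟩ := exists_phase_avoid hF 1 (-1)
  have hμμ : μ * μ ≠ 1 := fun h => by rcases mul_self_eq_one_iff.1 h with h | h <;> contradiction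
  have hbij : ∀ φ : F → F, ∑ l ∈ Φ, φ (μ * l) = ∑ l ∈ Φ, φ l := fun φ =>
    Finset.sum_nbij' (fun l => μ * l) (fun l => μ⁻¹ * l) (fun l hl => (hΦm _).2 (hμ.mul ((hΦm l).1 hl)))
      (fun l hl => (hΦm _).2 (hμ.inv.mul ((hΦm l).1 hl)))
      (fun l _ => inv_mul_cancel_left₀ hμ.ne_zero l) (fun l _ => mul_inv_cancel_left₀ hμ.ne_zero l) (fun l _ => rfl)
  have hs1 : ∑ l ∈ Φ, l * l = 0 := by
    have h1 := hbij fun l => l * l
    simp only [mul_mul_mul_comm μ, ← Finset.mul_sum] at h1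
    by_contra h0
    exact hμμ (mul_right_cancel₀ h0 (by rw [h1, one_mul]))
  have hs2 : ∑ l ∈ Φ, l⁻¹ * l⁻¹ = 0 := by
    have h1 := hbij fun l => l⁻¹ * l⁻¹
    simp only [mul_inv, mul_mul_mul_comm μ⁻¹, ← Finset.mul_sum] at h1
    by_contra h0
    have := mul_right_cancel₀ h0 (h1.trans (one_mul _).symm)
    rw [← mul_inv, inv_eq_one] at this
    exact hμμ this
  have hcard : (Φ.card : F) = 1 := by
    have hq0 : ((q : F)) = 0 := by
      have := Nat.cast_card_eq_zero F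
      rw [← Nat.card_eq_fintype_card, hF, Nat.cast_pow] at this
      exact eq_zero_of_pow_eq_zero this
    rw [hΦ, card_phase hF, Nat.cast_add, Nat.cast_one, hq0, zero_add]
  obtain ⟨g, hg, hgx⟩ := key Φ fun l hl => (hΦm l).1 hl
  refine ⟨g, hg, fun x => ?_⟩
  rw [hgx]
  simp only [N, hs1, hs2, hcard, mul_zero, mul_one, zero_smul, zero_add, LinearMap.smul_apply,
    LinearMap.comp_apply, T_smul_left]

/-- The symmetrised residue. -/
lemma res_sym (hS : Over q e M) {r : GL (Fin n) F} (hr : IsExt q e M r) {s v w : Fin b → F} (hs : ⟪s, s⟫ = 0)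
    (hv : ⟪v, v⟫ = 0) (hw : ⟪w, w⟫ = 0) (hvw : ⟪v, w⟫ = 0) (hn : v ∉ F ∙ w) (hn' : w ∉ F ∙ v)
    (Z : Module.End F (Fin a → F))
    (hrs : ∀ f, (r : Matrix (Fin n) (Fin n) F) *ᵥ T e f s = T e f v + T e (Z f) w) {c : F} (hc : c + c ^ q = 0)
    (ξ : F) : InR q e M w (c • (ξ ^ q • Z + ξ • adj hF Z)) := by
  obtain ⟨β, hβ, hβv, hβw⟩ := exists_shear hF hw hvw hn ξ
  have hk := kk_mem_su e hF (one_mem (suGL a F q)) hβ
  have h0 := res_R hF hS hr hs hv hw hvw hn hn' Z hrs hc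
  have h1 := res_R hF hS (hr.mul_left hS.sub (hS.le hk)) hs hv hw hvw hn hn' (Z + ξ • LinearMap.id) (fun f => by
    rw [mul_mulVec, hrs, Matrix.mulVec_add, kk_T, kk_T, Units.val_one, Matrix.one_mulVec, Matrix.one_mulVec, hβv,
      hβw, T_add_right, T_smul_right, LinearMap.add_apply, LinearMap.smul_apply, LinearMap.id_apply, T_add_left,
      T_smul_left]
    abel) hc
  have h2 := hS.scalar hF hw (c := c * (ξ * ξ ^ q)) (by
    rw [mul_pow, mul_pow ξ, CfsgLib.Forms.pow_q_q hF]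
    linear_combination (ξ * ξ ^ q) * hc)
  refine ((h1.sub hF hw h0).sub hF hw h2).congr fun x => ?_
  have hadj : ∀ y, adj hF (Z + ξ • LinearMap.id) y = adj hF Z y + ξ ^ q • y := fun y => eq_of_forall hF fun z => by
    rw [adj_spec, add_l, smul_l, adj_spec, LinearMap.add_apply, LinearMap.smul_apply, LinearMap.id_apply,
      add_r hF, smul_r hF]
  simp only [LinearMap.sub_apply, LinearMap.smul_apply, LinearMap.comp_apply, hadj, LinearMap.add_apply,
    LinearMap.id_apply, map_add, map_smul]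
  module

/-- Every root group at a tensor line is scalar. -/
def OnlyScalar (q : ℕ) (e : Fin n ≃ Fin a × Fin b) (M : Subgroup (GL (Fin n) F)) : Prop :=
  ∀ w : Fin b → F, w ≠ 0 → Cfsg.hermForm b F q w w = 0 → ∀ Γ, InR q e M w Γ → ∃ σ : F, ∀ x, Γ x = σ • x

lemma res_scalar (hS : Over q e M) (hOS : OnlyScalar q e M) {r : GL (Fin n) F} (hr : IsExt q e M r)
    {s v w : Fin b → F} (hs : ⟪s, s⟫ = 0) (hv : ⟪v, v⟫ = 0) (hw : ⟪w, w⟫ = 0) (hvw : ⟪v, w⟫ = 0)
    (hn : v ∉ F ∙ w) (hn' : w ∉ F ∙ v) (Z : Module.End F (Fin a → F))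
    (hrs : ∀ f, (r : Matrix (Fin n) (Fin n) F) *ᵥ T e f s = T e f v + T e (Z f) w) :
    ∃ σ : F, ∀ x, Z x = σ • x := by
  obtain ⟨c, hc0, hc⟩ := skew_exists hF
  refine scalar_of_sym hF Z fun ξ => ?_
  obtain ⟨σ, hσ⟩ := hOS w (fun h => hn' (h ▸ Submodule.zero_mem _)) hw _
    (res_sym hF hS hr hs hv hw hvw hn hn' Z hrs hc ξ)
  refine ⟨c⁻¹ * σ, fun x => ?_⟩
  rw [mul_smul, ← hσ x]
  simp only [LinearMap.smul_apply, LinearMap.add_apply, inv_smul_smul₀ hc0]

end CfsgLib.Geo.TensorU
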