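/-
Overgroups of the tensor stabiliser with a non-scalar root group at a tensor line are everything.
-/
import Cfsg.Agent.Geo.TensorUnitRes

set_option autoImplicit false

namespace CfsgLib.Geo.TensorU

open Matrix Cfsg Cfsg.Geo CfsgLib.Geo CfsgLib.Geo.UTv CfsgLib.Geo.UFrame

variable {n a b q : ℕ} {F : Type*} [Field F] {e : Fin n ≃ Fin a × Fin b} {M : Subgroup (GL (Fin n) F)}

local notation "⟪" x ", " y "⟫" => Cfsg.hermForm _ F q x y

variable [Finite F] (hF : Nat.card F = q ^ 2)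
include hF

/-- `x ↦ ⟪x, u⟫ v`. -/
noncomputable def dy (u v : Fin a → F) : Module.End F (Fin a → F) :=
  ((Unit.linLeft (isUnitaryForm hF (n := a))).toLin u).smulRight v

lemma dy_apply (u v x : Fin a → F) : dy hF u v x = ⟪x, u⟫ • v := rfl

lemma InR.skew (hsub : M ≤ suGL n F q) {w : Fin b → F} (hw0 : w ≠ 0) (hw : ⟪w, w⟫ = 0) {Γ : Module.End F (Fin a → F)}
    (h : InR q e M w Γ) (x y : Fin a → F) : ⟪Γ x, y⟫ + ⟪x, Γ y⟫ = 0 := by
  obtain ⟨g, hg, hgx⟩ := h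
  obtain ⟨v, h1, h2, h3⟩ := exists_hyp hF hw0 hw
  have := mem_GU.1 (hsub hg).1 (T e x v) (T e y v)
  rw [hgx, hgx, cW_T e hF, cW_T e hF, h2, one_smul, one_smul, add_l, add_r hF, add_r hF, herm_T e hF, herm_T e hF,
    herm_T e hF, herm_T e hF, h1, h2, h3, hw] at this
  linear_combination this

lemma InR.conj (hle : kron F e ⊓ suGL n F q ≤ M) {w : Fin b → F} {Γ Γ' : Module.End F (Fin a → F)} (h : InR q e M w Γ)
    {α : GL (Fin a) F} (hα : α ∈ suGL a F q) {β : GL (Fin b) F} (hβ : β ∈ suGL b F q)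
    (he : ∀ x, Γ' ((α : Matrix (Fin a) (Fin a) F) *ᵥ x) = (α : Matrix (Fin a) (Fin a) F) *ᵥ Γ x) :
    InR q e M ((β : Matrix (Fin b) (Fin b) F) *ᵥ w) Γ' := by
  obtain ⟨g, hg, hgx⟩ := h
  have hk := hle (kk_mem_su e hF hα hβ)
  refine ⟨kk e α β * g * (kk e α β)⁻¹, M.mul_mem (M.mul_mem hk hg) (M.inv_mem hk), fun x => ?_⟩
  set y := (((kk e α β)⁻¹ : GL (Fin n) F) : Matrix (Fin n) (Fin n) F) *ᵥ x with hy
  have hx : (kk e α β : Matrix (Fin n) (Fin n) F) *ᵥ y = x := by rw [hy, mulVec_inv_mulVec]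
  rw [mul_mulVec, mul_mulVec, ← hy, hgx, Matrix.mulVec_add, hx, kk_T, ← he, ← cW_mulVec e hF hβ.1, hx]

lemma InR.scale (hS : Over q e M) {w : Fin b → F} (hw0 : w ≠ 0) (hw : ⟪w, w⟫ = 0) {Γ : Module.End F (Fin a → F)}
    (h : InR q e M w Γ) {μ : F} (hμ : μ ^ q = μ) : InR q e M w (μ • Γ) := by
  rcases eq_or_ne μ 0 with rfl | hμ0
  · exact ⟨1, M.one_mem, fun x => by simp [T_zero_left]⟩
  obtain ⟨s, hs⟩ := norm_exists hF hμ
  have hs0 : s ≠ 0 := fun h0 => hμ0 (by rw [← hs, h0, zero_mul])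
  obtain ⟨β, hβ, hβw⟩ := exists_map_iso hF hS.four hw0 hw (p' := s • w) (smul_ne_zero hs0 hw0)
    (by rw [smul_l, smul_r hF, hw, mul_zero, mul_zero])
  obtain ⟨g, hg, hgx⟩ := h.conj hF hS.le (one_mem (suGL a F q)) hβ (Γ' := Γ) (fun x => by simp)
  refine ⟨g, hg, fun x => ?_⟩
  rw [hgx, hβw, cW_smul, map_smul, T_smul_left, T_smul_right, smul_smul, LinearMap.smul_apply, T_smul_left,
    mul_comm (s ^ q), hs]

omit hF [Finite F] in
/-- What the search for a full centre in a non-scalar root group needs. -/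
structure Base (q : ℕ) (e : Fin n ≃ Fin a × Fin b) (M : Subgroup (GL (Fin n) F)) : Prop where
  two : 2 ≤ a
  exc : 3 ≤ a ∨ 3 ≤ q
  le : kron F e ⊓ suGL n F q ≤ M
  sub : M ≤ suGL n F q
  scale : ∀ {w : Fin b → F}, w ≠ 0 → Cfsg.hermForm b F q w w = 0 → ∀ {Γ : Module.End F (Fin a → F)},
    InR q e M w Γ → ∀ {μ : F}, μ ^ q = μ → InR q e M w (μ • Γ)

lemma Over.base (hS : Over q e M) : Base q e M :=
  ⟨hS.two, hS.exc, hS.le, hS.sub, fun hw0 hw _ h _ hμ => h.scale hF hS hw0 hw hμ⟩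

lemma full_of_rank_one (hS : Base q e M) {w : Fin b → F} (hw0 : w ≠ 0) (hw : ⟪w, w⟫ = 0) {p : Fin a → F}
    (hp0 : p ≠ 0) {l : F} (hl : l ≠ 0) (h : InR q e M w (l • dy hF p p)) : Full q M (T e p w) := by
  obtain ⟨y, hy⟩ := exists_one hF hp0
  have hsk := h.skew hF hS.sub hw0 hw y y
  simp only [LinearMap.smul_apply, dy_apply, smul_l, smul_r hF, hy, swap hF p y, one_pow, mul_one, one_mul] at hsk
  have hi : ⟪T e p w, T e p w⟫ = 0 := by rw [herm_T e hF, hw, mul_zero]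
  refine full_of_mem hF hi fun c hc => ?_
  obtain ⟨g, hg, hgx⟩ := hS.scale hw0 hw h (μ := c / l) (by
    rw [div_pow, eq_neg_of_add_eq_zero_right hc, eq_neg_of_add_eq_zero_right hsk, neg_div_neg_eq])
  have he : tvec (T e p w) (uax q (T e p w) c) (uax_dot_self hi c) = g := gl_ext_mulVec fun x => by
    rw [utv_mulVec hF hi, hgx, herm_T_right e hF, LinearMap.smul_apply, LinearMap.smul_apply, dy_apply, smul_smul,
      smul_smul, T_smul_left, div_mul_cancel₀ c hl]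
  rw [he]; exact hg

/-- The move by an Eichler element. -/
lemma sstep (hS : Base q e M) {w : Fin b → F} (hw : ⟪w, w⟫ = 0) {p y : Fin a → F} (hp : ⟪p, p⟫ = 0) {c δ : F}
    (h : InR q e M w (c • (dy hF y p + dy hF p y) + δ • dy hF p p)) {e₁ : Fin a → F} (he₁ : ⟪e₁, p⟫ = 0) :
    ∃ s : F, InR q e M w (c • (dy hF (⟪y, p⟫ • e₁ + (s * ⟪y, p⟫ - ⟪y, e₁⟫) • p) p
      + dy hF p (⟪y, p⟫ • e₁ + (s * ⟪y, p⟫ - ⟪y, e₁⟫) • p))) := by
  obtain ⟨s, hs⟩ := trace_exists hF (t := -⟪e₁, e₁⟫) (by rw [pow_neg hF, self_pow hF])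
  obtain ⟨A, hA, hAx⟩ := exists_eich hF hp he₁ (s := s) (by linear_combination hs)
  refine ⟨s, ?_⟩
  have hAp : (A : Matrix (Fin a) (Fin a) F) *ᵥ p = p := by rw [hAx, hp, swap0 hF he₁]; module
  set y' := (A : Matrix (Fin a) (Fin a) F) *ᵥ y with hy'
  have hxp : ∀ x, ⟪(A : Matrix (Fin a) (Fin a) F) *ᵥ x, p⟫ = ⟪x, p⟫ := fun x => by
    conv_lhs => rw [← hAp]
    exact herm_mulVec hA x p
  have hw' := h.conj hF hS.le hA (one_mem (suGL b F q))
    (Γ' := c • (dy hF y' p + dy hF p y') + δ • dy hF p p) fun x => by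
      simp only [LinearMap.add_apply, LinearMap.smul_apply, dy_apply, hy', herm_mulVec hA, hxp, Matrix.mulVec_add,
        Matrix.mulVec_smul, hAp]
  rw [Units.val_one, Matrix.one_mulVec] at hw'
  have hd : y' = y + (⟪y, p⟫ • e₁ + (s * ⟪y, p⟫ - ⟪y, e₁⟫) • p) := by rw [hy', hAx, add_assoc]
  refine (hw'.sub hF hw h).congr fun x => ?_
  rw [hd]
  simp only [LinearMap.sub_apply, LinearMap.add_apply, LinearMap.smul_apply, dy_apply, add_r hF]
  module

lemma rank_one_perp (hS : Base q e M) {w : Fin b → F} (hw : ⟪w, w⟫ = 0) {p y : Fin a → F} (hp : ⟪p, p⟫ = 0)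
    {c δ : F} (hc : c ≠ 0) (hy : y ∉ F ∙ p) (hyp : ⟪y, p⟫ = 0)
    (h : InR q e M w (c • (dy hF y p + dy hF p y) + δ • dy hF p p)) :
    ∃ l : F, l ≠ 0 ∧ InR q e M w (l • dy hF p p) := by
  obtain ⟨y0, hy0, hyy0⟩ := exists_form_of_notMem hF (F ∙ p) hy
  obtain ⟨t, ht⟩ := trace_exists hF (t := (1 : F)) (one_pow q)
  obtain ⟨s, hs⟩ := sstep hF hS hw hp h (e₁ := t ^ q • y0)
    (by rw [smul_l, hy0 p (Submodule.mem_span_singleton_self p), mul_zero])
  refine ⟨-c, neg_ne_zero.2 hc, hs.congr fun x => ?_⟩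
  simp only [LinearMap.add_apply, LinearMap.smul_apply, dy_apply, hyp, smul_r hF, hyy0, CfsgLib.Forms.pow_q_q hF,
    mul_zero, zero_sub, zero_smul, zero_add, pow_neg hF, mul_one]
  match_scalars
  linear_combination (-c * ⟪x, p⟫) * ht

/-- A non-scalar root group gives a full pure centre. -/
lemma full_of_nonscalar (hS : Base q e M) {w : Fin b → F} (hw0 : w ≠ 0) (hw : ⟪w, w⟫ = 0)
    {Γ : Module.End F (Fin a → F)} (h : InR q e M w Γ) (hΓ : ¬ ∃ c : F, ∀ x, Γ x = c • x) :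
    ∃ p : Fin a → F, p ≠ 0 ∧ ⟪p, p⟫ = 0 ∧ Full q M (T e p w) := by
  classical
  haveI := Fintype.ofFinite F
  obtain ⟨p, hp, hy⟩ : ∃ p, ⟪p, p⟫ = 0 ∧ Γ p ∉ F ∙ p := by
    by_contra hc
    push Not at hc
    exact hΓ (scalar_of_iso_eigen hF hS.two Γ hc)
  have hp0 : p ≠ 0 := fun h0 => hy (by rw [h0, map_zero]; exact Submodule.zero_mem _)
  refine ⟨p, hp0, hp, ?_⟩
  set y := Γ p with hy'
  have hS1 : ∀ d : F, d + d ^ q = 0 →
      InR q e M w ((-d) • (dy hF y p + dy hF p y) + (d * d * ⟪p, y⟫) • dy hF p p) := by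
    intro d hd
    have h1 := h.conj hF hS.le (utv_mem hF hp hd) (one_mem (suGL b F q))
      (Γ' := Γ + ((-d) • (dy hF y p + dy hF p y) + (d * d * ⟪p, y⟫) • dy hF p p)) fun x => by
        rw [utv_mulVec hF hp, utv_mulVec hF hp,
          show ⟪Γ x, p⟫ = -⟪x, y⟫ from eq_neg_of_add_eq_zero_left (h.skew hF hS.sub hw0 hw x p)]
        simp only [LinearMap.add_apply, LinearMap.smul_apply, dy_apply, map_add, map_smul, ← hy', add_l, smul_l, hp]
        module
    rw [Units.val_one, Matrix.one_mulVec] at h1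
    exact (h1.sub hF hw h).congr fun x => by simp
  obtain ⟨d, hd0, hd⟩ := skew_exists hF
  by_cases hyp : ⟪y, p⟫ = 0
  · obtain ⟨l, hl, hlR⟩ := rank_one_perp hF hS hw hp (neg_ne_zero.2 hd0) hy hyp (hS1 d hd)
    exact full_of_rank_one hF hS hw0 hw hp0 hl hlR
  rcases hS.exc with h3 | h3
  · obtain ⟨e₁, he₁, he₁n⟩ : ∃ e₁ ∈ perp q (F ∙ p), e₁ ∉ F ∙ p := by
      by_contra hc
      push Not at hc
      have h1 := Submodule.finrank_mono (show perp q (F ∙ p) ≤ F ∙ p from hc)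
      have h2 := finrank_perp hF (F ∙ p)
      rw [finrank_span_singleton hp0] at h1 h2
      omega
    obtain ⟨s, hs⟩ := sstep hF hS hw hp (hS1 d hd) (e₁ := e₁) (he₁ p (Submodule.mem_span_singleton_self p))
    set y1 := ⟪y, p⟫ • e₁ + (s * ⟪y, p⟫ - ⟪y, e₁⟫) • p with hy1
    have hy1n : y1 ∉ F ∙ p := fun hm => he₁n (by
      have h4 := Submodule.smul_mem _ (⟪y, p⟫)⁻¹
        (Submodule.sub_mem _ hm (Submodule.smul_mem _ (s * ⟪y, p⟫ - ⟪y, e₁⟫) (Submodule.mem_span_singleton_self p)))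
      rwa [hy1, add_sub_cancel_right, smul_smul, inv_mul_cancel₀ hyp, one_smul] at h4)
    have hy1p : ⟪y1, p⟫ = 0 := by
      rw [hy1, add_l, smul_l, smul_l, he₁ p (Submodule.mem_span_singleton_self p), hp, mul_zero, mul_zero, add_zero]
    obtain ⟨l, hl, hlR⟩ := rank_one_perp hF hS hw hp (neg_ne_zero.2 hd0) hy1n hy1p (δ := 0) (by
      rw [zero_smul, add_zero]; exact hs)
    exact full_of_rank_one hF hS hw0 hw hp0 hl hlR
  · obtain ⟨z, hz0, hz1⟩ : ∃ z : F, z ≠ 0 ∧ z * z ^ q ≠ 1 := by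
      by_contra hc
      push Not at hc
      have h1 : (Finset.univ : Finset F).erase 0 ⊆ Finset.univ.filter fun t => t * t ^ q = 1 := fun t ht =>
        Finset.mem_filter.2 ⟨Finset.mem_univ t, hc t (Finset.ne_of_mem_erase ht)⟩
      have h2 := Finset.card_le_card h1
      rw [Finset.card_erase_of_mem (Finset.mem_univ _), Finset.card_univ, card_phase hF,
        ← Nat.card_eq_fintype_card, hF] at h2
      have : 3 * q ≤ q ^ 2 := by rw [sq]; exact Nat.mul_le_mul_right q h3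
      omega
    set N := z * z ^ q with hN
    have hN0 : N ≠ 0 := mul_ne_zero hz0 (pow_ne_zero _ hz0)
    have hNq : N ^ q = N := norm_fix hF z
    have hdN : d * N + (d * N) ^ q = 0 := by rw [mul_pow, hNq]; linear_combination N * hd
    have hpy : ⟪p, y⟫ ≠ 0 := fun h0 => hyp (swap0 hF h0)
    refine full_of_rank_one hF hS hw0 hw hp0 (l := d * d * ⟪p, y⟫ * (N * (N - 1))) ?_
      (((hS1 (d * N) hdN).sub hF hw (hS.scale hw0 hw (hS1 d hd) hNq)).congr fun x => ?_)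
    · exact mul_ne_zero (mul_ne_zero (mul_ne_zero hd0 hd0) hpy) (mul_ne_zero hN0 (sub_ne_zero.2 hz1))
    · simp only [LinearMap.sub_apply, LinearMap.add_apply, LinearMap.smul_apply, dy_apply]
      module

/-! ### Generation -/

section gen

variable (hS : Over q e M) {p₀ : Fin a → F} {w₀ : Fin b → F} (hp₀0 : p₀ ≠ 0) (hp₀ : Cfsg.hermForm a F q p₀ p₀ = 0)
  (hw₀0 : w₀ ≠ 0) (hw₀ : Cfsg.hermForm b F q w₀ w₀ = 0) (h₀ : Full q M (T e p₀ w₀))
include hS hp₀0 hp₀ hw₀0 hw₀ h₀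

lemma full_pure_iso {p : Fin a → F} (hp : ⟪p, p⟫ = 0) {w : Fin b → F} (hw : ⟪w, w⟫ = 0) : Full q M (T e p w) := by
  rcases eq_or_ne p 0 with rfl | hp0
  · rw [T_zero_left]; exact full_zero
  rcases eq_or_ne w 0 with rfl | hw0
  · rw [T_zero_right]; exact full_zero
  obtain ⟨α, hα, l, hl, hαp⟩ := exists_line hF hp₀0 hp₀ hp0 hp
  obtain ⟨β, hβ, hβw⟩ := exists_map_iso hF hS.four hw₀0 hw₀ hw0 hw
  have h1 := full_smul hF (full_conj hF hS.sub h₀ (hS.le (kk_mem_su e hF hα hβ))) l⁻¹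
  rwa [kk_T, hαp, hβw, T_smul_left, smul_smul, inv_mul_cancel₀ hl, one_smul] at h1

lemma full_pure_all (f : Fin a → F) {w : Fin b → F} (hw : ⟪w, w⟫ = 0) : Full q M (T e f w) := by
  rcases eq_or_ne w 0 with rfl | hw0
  · rw [T_zero_right]; exact full_zero
  by_cases hff : ⟪f, f⟫ = 0
  · exact full_pure_iso hF hS hp₀0 hp₀ hw₀0 hw₀ h₀ hff hw
  obtain ⟨p, hp, hpf⟩ : ∃ p, ⟪p, p⟫ = 0 ∧ ⟪p, f⟫ ≠ 0 := by
    by_contra hc
    push Not at hc
    exact hff (swap0 hF (swap0 hF (LinearMap.mem_ker.1 (mem_of_iso hF hS.two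
      (LinearMap.ker ((Unit.linLeft (isUnitaryForm hF (n := a))).toLin f)) (fun z hz => LinearMap.mem_ker.2 (hc z hz)) f))))
  obtain ⟨t, ht⟩ := trace_exists hF (t := ⟪f, f⟫) (self_pow hF f)
  set t' := t / ⟪p, f⟫ with ht'
  set p₂ := f - t' • p with hp₂
  have hp₂i : ⟪p₂, p₂⟫ = 0 := by
    rw [hp₂, sub_l hF, sub_r hF, sub_r hF, smul_r hF, smul_r hF, smul_l, smul_l, hp, swap hF p f, ← mul_pow, ht',
      div_mul_cancel₀ _ hpf]
    linear_combination -ht
  have hpp₂ : ⟪p, p₂⟫ ≠ 0 := by rwa [hp₂, sub_r hF, smul_r hF, hp, mul_zero, sub_zero]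
  obtain ⟨k, hk0, hk⟩ := skew_exists hF
  set p' := (k / ⟪p, p₂⟫) ^ q • p₂ with hp'
  have hp'i : ⟪p', p'⟫ = 0 := by rw [hp', smul_l, smul_r hF, hp₂i, mul_zero, mul_zero]
  have hκ : ⟪p, p'⟫ = k := by rw [hp', smul_r hF, CfsgLib.Forms.pow_q_q hF, div_mul_cancel₀ _ hpp₂]
  have hκ' : ⟪p', p⟫ = -k := by rw [swap hF p p', hκ, eq_neg_of_add_eq_zero_right hk]
  obtain ⟨v, hwv, hvw, hv⟩ := exists_hyp hF hw0 hw
  obtain ⟨z, hz0, hz, hzw, hzv⟩ := exists_iso_perp hF hS.four w v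
  have hP := fun {f₁ : Fin a → F} {w₁ : Fin b → F} (h₁ : ⟪f₁, f₁⟫ = 0) (h₂ : ⟪w₁, w₁⟫ = 0) =>
    full_pure_iso hF hS hp₀0 hp₀ hw₀0 hw₀ h₀ h₁ h₂
  have hX := full_add_smul hF hS.sub (hP hp hw) (hP hp'i hv)
    (by rw [herm_T e hF, hκ', hvw, mul_one]; exact neg_ne_zero.2 hk0) 1 (by
      simp only [one_smul, add_l, add_r hF, herm_T e hF, hκ, hκ', hv, hw, hp, hp'i, hvw, hwv]
      ring)
  rw [one_smul] at hX
  obtain ⟨z', hz'H, -, hz'z, hz'i⟩ := CfsgLib.Unitary.exists_partner hF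
    (H := Submodule.span F ({w, v} : Set (Fin b → F))) (x := z) (fun hm => by
      obtain ⟨α', β', rfl⟩ := Submodule.mem_span_pair.1 hm
      rw [add_l, smul_l, smul_l, hw, hvw] at hzw
      rw [add_l, smul_l, smul_l, hwv, hv] at hzv
      exact hz0 (by
        rw [show α' = 0 by linear_combination hzv, show β' = 0 by linear_combination hzw, zero_smul, zero_smul,
          add_zero]))
    hz (fun u hu => by
      obtain ⟨α', β', rfl⟩ := Submodule.mem_span_pair.1 hu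
      rw [add_l, smul_l, smul_l, swap0 hF hzw, swap0 hF hzv, mul_zero, mul_zero, add_zero])
  have hzz' : ⟪z, z'⟫ = 1 := by rw [swap hF z' z, hz'z, one_pow]
  set s := w + z with hs
  have hsi : ⟪s, s⟫ = 0 := by rw [hs, add_l, add_r hF, add_r hF, hw, hz, hzw, swap0 hF hzw]; ring
  have hvs : ⟪v, s⟫ = 1 := by rw [hs, add_r hF, hvw, swap0 hF hzv, add_zero]
  have hws : ⟪w, s⟫ = 0 := by rw [hs, add_r hF, hw, swap0 hF hzw, add_zero]
  have hk1 : k⁻¹ + (k⁻¹) ^ q = 0 := by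
    rw [inv_pow, eq_neg_of_add_eq_zero_right hk, inv_neg, add_neg_cancel]
  obtain ⟨hd, hm⟩ := (hP hp hsi).2 _ hk1
  have hY := full_conj hF hS.sub hX hm
  rw [utv_mulVec hF (hP hp hsi).1, add_l, herm_T e hF, herm_T e hF, hp, hκ', hvs, hws] at hY
  rw [show T e p' v + T e p w + (k⁻¹ * (-k * 1 + 0 * 0)) • T e p s = T e p' v + T e p (-z) by
    rw [show k⁻¹ * (-k * 1 + 0 * 0) = -1 by field_simp; ring, hs, T_add_right,
      show T e p (-z) = -T e p z from (TR e p).map_neg z]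
    module] at hY
  set w' := -z with hw'
  have hw'i : ⟪w', w'⟫ = 0 := by rw [hw', ← neg_one_smul F z, smul_l, smul_r hF, hz, mul_zero, mul_zero]
  have hw'v : ⟪w', v⟫ = 0 := by rw [hw', ← neg_one_smul F z, smul_l, hzv, mul_zero]
  have hxy : ⟪T e p w', T e p' v⟫ = 0 := by rw [herm_T e hF, hw'v, mul_zero]
  -- a cross residue at `w'`
  obtain ⟨hd1, hm1⟩ := hY.2 k hk
  obtain ⟨hd2, hm2⟩ := (hP hp hw'i).2 (-k) (by rw [pow_neg hF]; linear_combination -hk)
  obtain ⟨hd3, hm3⟩ := (hP hp'i hv).2 (-k) (by rw [pow_neg hF]; linear_combination -hk)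
  set r := tvec _ _ hd1 * tvec _ _ hd2 * tvec _ _ hd3 with hr
  set u := w - z' with hu
  have hz'w : ⟪z', w⟫ = 0 := swap0 hF (hz'H w (Submodule.subset_span (by simp)))
  have hz'v : ⟪z', v⟫ = 0 := swap0 hF (hz'H v (Submodule.subset_span (by simp)))
  -- s₁ is isotropic, orthogonal to w' and meets v in one
  have hwz : ⟪w, z⟫ = 0 := swap0 hF hzw
  obtain ⟨hwi, huv, huw'⟩ : ⟪w, w⟫ = 0 ∧ ⟪w, v⟫ = 1 ∧ ⟪w, w'⟫ = 0 :=
    ⟨hw, hwv, by rw [hw', ← neg_one_smul F z, smul_r hF, hwz, mul_zero]⟩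
  have hrx : ∀ f, (r : Matrix (Fin n) (Fin n) F) *ᵥ T e f w = T e f w + T e ((k • dy hF p' p) f) w' := by
    intro f
    have h1 : ⟪T e f w, T e p w'⟫ = 0 := by rw [herm_T e hF, huw', mul_zero]
    have h2 : ⟪T e f w, T e p' v⟫ = ⟪f, p'⟫ := by rw [herm_T e hF, huv, mul_one]
    have h3 : ⟪T e p' v, T e p w'⟫ = 0 := swap0 hF hxy
    simp only [hr, mul_mulVec, utv_mulVec hF (hP hp hw'i).1, utv_mulVec hF (hP hp'i hv).1, utv_mulVec hF hY.1,
      add_l, add_r hF, smul_l, h1, h2, h3, hxy, (hP hp hw'i).1, (hP hp'i hv).1, LinearMap.smul_apply, dy_apply,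
      T_smul_left]
    module
  have hrM : r ∈ M := M.mul_mem (M.mul_mem hm1 hm2) hm3
  have hn : w ∉ F ∙ w' := fun hm => by
    obtain ⟨c, hc⟩ := Submodule.mem_span_singleton.1 hm
    rw [← hc, smul_l, hw'v, mul_zero] at huv
    exact zero_ne_one huv
  have hn' : w' ∉ F ∙ w := fun hm => by
    obtain ⟨c, hc⟩ := Submodule.mem_span_singleton.1 hm
    have h1 : ⟪c • w, z'⟫ = ⟪w', z'⟫ := by rw [hc]
    rw [smul_l, swap0 hF hz'w, mul_zero, hw', ← neg_one_smul F z, smul_l, hzz'] at h1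
    exact one_ne_zero (by linear_combination h1)
  have hadj : ∀ x, adj hF (k • dy hF p' p) x = (k ^ q * ⟪x, p⟫) • p' := fun x => eq_of_forall hF fun y => by
    rw [adj_spec, LinearMap.smul_apply, dy_apply, smul_r hF, smul_r hF, smul_l, ← swap hF y p']
    ring
  -- all pure centres at `w'`
  have hw'0 : w' ≠ 0 := fun h => hz0 (neg_eq_zero.1 (hw' ▸ h))
  obtain ⟨μ, ν, hμν⟩ : ∃ μ ν : F, f = μ • p + ν • p' := by
    refine ⟨t', ((k / ⟪p, p₂⟫) ^ q)⁻¹, ?_⟩
    rw [hp', smul_smul, inv_mul_cancel₀ (pow_ne_zero _ (div_ne_zero hk0 hpp₂)), one_smul, hp₂]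
    abel
  have hf0 : f ≠ 0 := fun h => hff (by rw [h]; exact zero_l hF _)
  -- the two diagonal root groups
  have hdiag : ∀ {p₁ : Fin a → F}, ⟪p₁, p₁⟫ = 0 → ∀ c : F, c + c ^ q = 0 → InR q e M w' (c • dy hF p₁ p₁) := by
    intro p₁ h₁ c hc
    obtain ⟨hd4, hm4⟩ := (hP h₁ hw'i).2 c hc
    exact ⟨_, hm4, fun x => by
      rw [utv_mulVec hF (hP h₁ hw'i).1, herm_T_right e hF, LinearMap.smul_apply, dy_apply, T_smul_left,
        T_smul_left, smul_smul]⟩
  have hfix : ∀ x : F, (x * x ^ q) ^ q = x * x ^ q := fun x => by rw [mul_pow, CfsgLib.Forms.pow_q_q hF]; ring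
  have hcross := res_sym hF hS (hS.isExt hF hrM) hw hw hw'i huw' hn hn' (k • dy hF p' p) hrx hk
    ((μ * ν ^ q / k) ^ q)
  have hfull : Full q M (T e f w') := by
    refine full_of_rank_one hF (hS.base hF) hw'0 hw'i hf0 hk0 ?_
    refine ((((hdiag hp k hk).scale hF hS hw'0 hw'i (hfix μ)).add hF hw'i
      ((hdiag hp'i k hk).scale hF hS hw'0 hw'i (hfix ν))).add hF hw'i hcross).congr fun x => ?_
    simp only [LinearMap.add_apply, LinearMap.smul_apply, dy_apply, hadj, hμν, add_r hF, smul_r hF,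
      CfsgLib.Forms.pow_q_q hF, div_pow, mul_pow]
    rw [eq_neg_of_add_eq_zero_right hk]
    match_scalars <;> field_simp <;> ring
  obtain ⟨β, hβ, hβw⟩ := exists_map_iso hF hS.four hw'0 hw'i hw0 hw
  have h5 := full_conj hF hS.sub hfull (hS.le (kk_mem_su e hF (one_mem (suGL a F q)) hβ))
  rwa [kk_T, Units.val_one, Matrix.one_mulVec, hβw] at h5

/-- The special unitary group of one slot lies in `M`. -/
lemma exists_slot (i : Fin a) {β : GL (Fin b) F} (hβ : β ∈ suGL b F q) :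
    ∃ g ∈ M, (∀ x, (g : Matrix (Fin n) (Fin n) F) *ᵥ T e (Pi.single i 1) x
        = T e (Pi.single i 1) ((β : Matrix (Fin b) (Fin b) F) *ᵥ x)) ∧
      ∀ j, j ≠ i → ∀ x, (g : Matrix (Fin n) (Fin n) F) *ᵥ T e (Pi.single j 1) x = T e (Pi.single j 1) x := by
  let S : Subgroup (GL (Fin b) F) :=
    { carrier := {β | ∃ g ∈ M, (∀ x, (g : Matrix (Fin n) (Fin n) F) *ᵥ T e (Pi.single i 1) x
          = T e (Pi.single i 1) ((β : Matrix (Fin b) (Fin b) F) *ᵥ x)) ∧
        ∀ j, j ≠ i → ∀ x, (g : Matrix (Fin n) (Fin n) F) *ᵥ T e (Pi.single j 1) x = T e (Pi.single j 1) x}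
      mul_mem' := by
        rintro β β' ⟨g, hg, h1, h2⟩ ⟨g', hg', h1', h2'⟩
        exact ⟨g * g', M.mul_mem hg hg', fun x => by rw [mul_mulVec, h1', h1, mul_mulVec],
          fun j hj x => by rw [mul_mulVec, h2' j hj, h2 j hj]⟩
      one_mem' := ⟨1, M.one_mem, fun x => by simp, fun j _ x => by simp⟩
      inv_mem' := by
        rintro β ⟨g, hg, h1, h2⟩
        refine ⟨g⁻¹, M.inv_mem hg, fun x => ?_, fun j hj x => ?_⟩
        · conv_lhs => rw [← mulVec_inv_mulVec β x, ← h1]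
          rw [inv_mulVec_mulVec]
        · conv_lhs => rw [← h2 j hj x]
          rw [inv_mulVec_mulVec] }
  refine (suGL_le_of_full hF hS.four (M := S) fun z hz => ?_) hβ
  refine full_of_mem hF hz fun c hc => ?_
  obtain ⟨hd, hm⟩ := (full_pure_all hF hS hp₀0 hp₀ hw₀0 hw₀ h₀ (Pi.single i 1) hz).2 c hc
  have hs : ∀ j, ⟪(Pi.single j 1 : Fin a → F), (Pi.single i 1 : Fin a → F)⟫ = if j = i then 1 else 0 := fun j => by
    rw [herm_single_right hF, Pi.single_apply]; simp [eq_comm]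
  have hi : ⟪T e (Pi.single i 1) z, T e (Pi.single i 1) z⟫ = 0 := by rw [herm_T e hF, hz, mul_zero]
  refine ⟨_, hm, fun x => ?_, fun j hj x => ?_⟩
  · rw [utv_mulVec hF hi, utv_mulVec hF hz, herm_T e hF, hs, if_pos rfl, one_mul, T_add_right, T_smul_right]
  · rw [utv_mulVec hF hi, herm_T e hF, hs, if_neg hj, zero_mul, mul_zero, zero_smul, add_zero]

lemma exists_slots (β : Fin a → GL (Fin b) F) (hβ : ∀ i, β i ∈ suGL b F q) :
    ∃ g ∈ M, ∀ i x, (g : Matrix (Fin n) (Fin n) F) *ᵥ T e (Pi.single i 1) x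
      = T e (Pi.single i 1) ((β i : Matrix (Fin b) (Fin b) F) *ᵥ x) := by
  suffices H : ∀ S : Finset (Fin a), ∃ g ∈ M, ∀ i x, (g : Matrix (Fin n) (Fin n) F) *ᵥ T e (Pi.single i 1) x
      = T e (Pi.single i 1) (if i ∈ S then (β i : Matrix (Fin b) (Fin b) F) *ᵥ x else x) by
    obtain ⟨g, hg, h⟩ := H Finset.univ
    exact ⟨g, hg, fun i x => by rw [h, if_pos (Finset.mem_univ i)]⟩
  intro S
  induction S using Finset.induction_on with
  | empty => exact ⟨1, M.one_mem, fun i x => by simp⟩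
  | insert j S hj ih =>
    obtain ⟨g, hg, hgx⟩ := ih
    obtain ⟨h, hh, h1, h2⟩ := exists_slot hF hS hp₀0 hp₀ hw₀0 hw₀ h₀ j (hβ j)
    refine ⟨h * g, M.mul_mem hh hg, fun i x => ?_⟩
    rw [mul_mulVec, hgx]
    rcases eq_or_ne i j with rfl | hij
    · rw [if_neg hj, h1, if_pos (Finset.mem_insert_self i S)]
    · rw [h2 i hij]; simp [hij]

/-- `M` is everything. -/
theorem le_of_full : suGL n F q ≤ M := by
  classical
  have hn : 4 ≤ n := by
    have h1 := Fintype.card_congr e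
    simp only [Fintype.card_fin, Fintype.card_prod] at h1
    rw [h1]
    exact le_trans hS.four (Nat.le_mul_of_pos_left b (by have := hS.two; omega))
  let co : (Fin n → F) → Fin a → Fin b → F := fun v i k => v (e.symm (i, k))
  have hco : ∀ v, v = ∑ i, T e (Pi.single i 1) (co v i) := fun v => funext fun m => by
    simp [T, Tensor.ten, co, Pi.single_apply]
  have hnorm : ∀ v : Fin n → F, ⟪v, v⟫ = ∑ i, ⟪co v i, co v i⟫ := fun v => by
    simp only [herm_apply hF, co]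
    rw [← Equiv.sum_comp e.symm, Fintype.sum_prod_type]
  refine suGL_le_of_full hF hn fun v hv => ?_
  suffices H : ∀ N, ∀ v : Fin n → F, ⟪v, v⟫ = 0 →
      (Finset.univ.filter fun i => ⟪co v i, co v i⟫ ≠ 0).card = N → Full q M v from H _ v hv rfl
  intro N
  induction N using Nat.strong_induction_on with
  | h N ih =>
    intro v hv hN
    obtain ⟨u, hu0, hu⟩ := exists_iso hF (m := b) (by have := hS.four; omega)
    have hback : ∀ {g : GL (Fin n) F}, g ∈ M → Full q M ((g : Matrix (Fin n) (Fin n) F) *ᵥ v) → Full q M v :=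
      fun {g} hg h => by
        have h1 := full_conj hF hS.sub h (M.inv_mem hg)
        rwa [inv_mulVec_mulVec] at h1
    have hmove : ∀ w : Fin b → F, ⟪w, w⟫ = 0 → ∃ β ∈ suGL b F q, ∃ μ : F, (β : Matrix (Fin b) (Fin b) F) *ᵥ w = μ • u :=
      fun w hw => by
        rcases eq_or_ne w 0 with rfl | hw0
        · exact ⟨1, one_mem _, 0, by simp⟩
        · obtain ⟨β, hβ, hβw⟩ := exists_map_iso hF hS.four hw0 hw hu0 hu
          exact ⟨β, hβ, 1, by rw [hβw, one_smul]⟩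
    by_cases h0 : ∀ i, ⟪co v i, co v i⟫ = 0
    · choose β hβ μ hμ using fun i => hmove _ (h0 i)
      obtain ⟨g, hg, hgx⟩ := exists_slots hF hS hp₀0 hp₀ hw₀0 hw₀ h₀ β hβ
      refine hback hg ?_
      rw [hco v, Matrix.mulVec_sum, Finset.sum_congr rfl fun i _ => (hgx i _).trans (by rw [hμ i])]
      rw [Finset.sum_congr rfl fun i _ => show T e (Pi.single i 1) (μ i • u) = TL e u (μ i • Pi.single i 1) by
        rw [TL_apply, T_smul_right, T_smul_left], ← map_sum, TL_apply]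
      exact full_pure_all hF hS hp₀0 hp₀ hw₀0 hw₀ h₀ _ hu
    push Not at h0
    obtain ⟨i, hi⟩ := h0
    obtain ⟨l, hl, hli⟩ : ∃ l, ⟪co v l, co v l⟫ ≠ 0 ∧ l ≠ i := by
      by_contra hc
      push Not at hc
      refine hi ?_
      rw [← hv, hnorm v, Finset.sum_eq_single i (fun l _ hli => by_contra fun h => hli (hc l h)) (by simp)]
    obtain ⟨κ, hκ⟩ := moved_exists hF
    have hκ0 : κ ≠ 0 := fun h => hκ (by rw [h, zero_pow' hF])
    have hnd : IsNondegenerateOn (Cfsg.hermForm b F q) (⊤ : Submodule F (Fin b → F)) := fun x _ hx => by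
      obtain ⟨⟨y, hy⟩, z, hz⟩ := (isUnitaryForm hF (n := b)).nondegenerate x hx
      exact ⟨⟨y, Submodule.mem_top, hy⟩, z, Submodule.mem_top, hz⟩
    have hb2 : 2 ≤ Module.finrank F (⊤ : Submodule F (Fin b → F)) := by
      rw [finrank_top, Module.finrank_fin_fun]; have := hS.four; omega
    obtain ⟨u1, -, hu1, hu1i⟩ := exists_prod_length hF hnd hb2 (x := co v i) Submodule.mem_top
      (fun h => hi (by rw [h]; exact zero_l hF _)) κ (c := 0) (zero_pow' hF) (Or.inl hκ0)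
    obtain ⟨u2, -, hu2, hu2i⟩ := exists_prod_length hF hnd hb2 (x := co v l) Submodule.mem_top
      (fun h => hl (by rw [h]; exact zero_l hF _)) 1 (c := 0) (zero_pow' hF) (Or.inl one_ne_zero)
    have hu10 : u1 ≠ 0 := fun h => hκ0 (by rw [← hu1, h, zero_r hF])
    have hu20 : u2 ≠ 0 := fun h => one_ne_zero (by rw [← hu2, h, zero_r hF])
    obtain ⟨β1, hβ1, hβ1u⟩ := exists_map_iso hF hS.four hu0 hu hu10 hu1i
    obtain ⟨β2, hβ2, hβ2u⟩ := exists_map_iso hF hS.four hu0 hu hu20 hu2i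
    obtain ⟨g, hg, hgx⟩ := exists_slots hF hS hp₀0 hp₀ hw₀0 hw₀ h₀ (fun m => if m = i then β1 else β2)
      (fun m => by split_ifs <;> assumption)
    have hx := full_conj hF hS.sub
      (full_pure_all hF hS hp₀0 hp₀ hw₀0 hw₀ h₀ (Pi.single i 1 + Pi.single l 1) hu) hg
    rw [T_add_left, Matrix.mulVec_add, hgx, hgx, if_pos rfl, if_neg hli, hβ1u, hβ2u] at hx
    set X := T e (Pi.single i 1) u1 + T e (Pi.single l 1) u2 with hX
    have hvX : ⟪v, X⟫ = κ + 1 := by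
      have h1 : ∀ (m : Fin a) u', ⟪v, T e (Pi.single m 1) u'⟫ = ⟪co v m, u'⟫ := fun m u' => by
        rw [herm_T_right e hF, herm_single_right hF, herm_apply hF (co v m)]; rfl
      rw [hX, add_r hF, h1, h1, hu1, hu2]
    set ν := ⟪co v i, co v i⟫ with hν
    have hden : κ ^ q - κ ≠ 0 := sub_ne_zero.2 hκ
    set c := -ν / (κ ^ q - κ) with hc
    have hcq : c + c ^ q = 0 := by
      rw [hc, div_pow, pow_neg hF, pow_sub hF, CfsgLib.Forms.pow_q_q hF, hν, self_pow hF,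
        ← neg_sub (κ ^ q) κ, div_neg]
      exact add_neg_cancel _
    obtain ⟨hd, hm⟩ := hx.2 c hcq
    refine hback hm (ih _ ?_ _ (by rw [herm_mulVec (hS.sub hm), hv]) rfl)
    have hco' : ∀ m, co ((tvec X (uax q X c) hd : Matrix (Fin n) (Fin n) F) *ᵥ v) m
        = co v m + (c * (κ + 1)) • ((if m = i then u1 else 0) + if m = l then u2 else 0) := fun m => funext fun k => by
      rw [utv_mulVec hF hx.1, hvX]
      simp only [co, hX, T, Tensor.ten, Pi.add_apply, Pi.smul_apply, Function.comp_apply, Equiv.apply_symm_apply,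
        Pi.single_apply]
      split_ifs <;> simp
    have hi' : ⟪co ((tvec X (uax q X c) hd : Matrix (Fin n) (Fin n) F) *ᵥ v) i,
        co ((tvec X (uax q X c) hd : Matrix (Fin n) (Fin n) F) *ᵥ v) i⟫ = 0 := by
      rw [hco', if_pos rfl, if_neg (Ne.symm hli), add_zero, add_l, add_r hF, add_r hF, smul_r hF, smul_r hF, smul_l,
        smul_l, hu1, swap hF (co v i) u1, hu1, hu1i, ← hν, mul_pow, pow_add hF, one_pow,
        eq_neg_of_add_eq_zero_right hcq, hc]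
      field_simp
      ring
    rw [← hN]
    refine Finset.card_lt_card ((Finset.ssubset_iff_of_subset fun m hm' => ?_).2
      ⟨i, Finset.mem_filter.2 ⟨Finset.mem_univ i, hi⟩, fun h => (Finset.mem_filter.1 h).2 hi'⟩)
    refine Finset.mem_filter.2 ⟨Finset.mem_univ m, ?_⟩
    rcases eq_or_ne m l with rfl | hml
    · exact hl
    · have h' := (Finset.mem_filter.1 hm').2
      have hmi : m ≠ i := fun h => h' (h ▸ hi')
      rwa [hco', if_neg hmi, if_neg hml, add_zero, smul_zero, add_zero] at h'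

end gen

/-- Proper overgroups have scalar root groups at tensor lines. -/
theorem onlyScalar_of_not_le (hS : Over q e M) (hne : ¬ suGL n F q ≤ M) : OnlyScalar q e M := by
  intro w hw0 hw Γ hΓ
  by_contra hc
  obtain ⟨p, hp0, hp, hfull⟩ := full_of_nonscalar hF (hS.base hF) hw0 hw hΓ hc
  exact hne (le_of_full hF hS hp0 hp hw0 hw hfull)

end CfsgLib.Geo.TensorU
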