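/-
The hermitian space `F^a ⊗ F^2`: elements as two by two matrices of endomorphisms of the first factor.
-/
import Cfsg.Agent.Geo.TensorUnitGen

set_option autoImplicit false
set_option linter.unusedSectionVars false

namespace CfsgLib.Geo.TensorU

open Matrix Cfsg Cfsg.Geo CfsgLib.Geo CfsgLib.Geo.UTv CfsgLib.Geo.UFrame

variable {n a q : ℕ} {F : Type*} [Field F] {e : Fin n ≃ Fin a × Fin 2} {M : Subgroup (GL (Fin n) F)}

local notation "⟪" x ", " y "⟫" => Cfsg.hermForm _ F q x y

/-- The entry of `g` from the line at `y`, contracted against `x`. -/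
def blk (q : ℕ) (e : Fin n ≃ Fin a × Fin 2) (g : GL (Fin n) F) (x y : Fin 2 → F) : Module.End F (Fin a → F) :=
  cW e q x ∘ₗ Matrix.mulVecLin (g : Matrix (Fin n) (Fin n) F) ∘ₗ TL e y

lemma blk_apply (g : GL (Fin n) F) (x y : Fin 2 → F) (u : Fin a → F) :
    blk q e g x y u = cW e q x ((g : Matrix (Fin n) (Fin n) F) *ᵥ T e u y) := rfl

/-- A hyperbolic basis of the second factor. -/
structure Hyp (q : ℕ) (w v : Fin 2 → F) : Prop where
  ww : Cfsg.hermForm 2 F q w w = 0
  vv : Cfsg.hermForm 2 F q v v = 0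
  wv : Cfsg.hermForm 2 F q w v = 1
  vw : Cfsg.hermForm 2 F q v w = 1

variable [Finite F] (hF : Nat.card F = q ^ 2)
include hF

section adjoint

variable {m : ℕ}

lemma adj_comp (A B : Module.End F (Fin m → F)) : adj hF (A * B) = adj hF B * adj hF A :=
  LinearMap.ext fun x => eq_of_forall hF fun y => by
    simp only [Module.End.mul_apply, adj_spec hF]

lemma adj_add (A B : Module.End F (Fin m → F)) : adj hF (A + B) = adj hF A + adj hF B :=
  LinearMap.ext fun x => eq_of_forall hF fun y => by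
    simp only [LinearMap.add_apply, adj_spec hF, add_l, add_r hF]

lemma adj_smul (c : F) (A : Module.End F (Fin m → F)) : adj hF (c • A) = c ^ q • adj hF A :=
  LinearMap.ext fun x => eq_of_forall hF fun y => by
    simp only [LinearMap.smul_apply, adj_spec hF, smul_l, smul_r hF]

lemma adj_sub (A B : Module.End F (Fin m → F)) : adj hF (A - B) = adj hF A - adj hF B :=
  LinearMap.ext fun x => eq_of_forall hF fun y => by
    simp only [LinearMap.sub_apply, adj_spec hF, sub_l hF, sub_r hF]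

lemma adj_one : adj hF (1 : Module.End F (Fin m → F)) = 1 :=
  LinearMap.ext fun x => eq_of_forall hF fun y => by simp only [Module.End.one_apply, adj_spec hF]

lemma adj_zero : adj hF (0 : Module.End F (Fin m → F)) = 0 :=
  LinearMap.ext fun x => eq_of_forall hF fun y => by simp only [LinearMap.zero_apply, adj_spec hF, zero_r hF, zero_l hF]

lemma adj_adj (A : Module.End F (Fin m → F)) : adj hF (adj hF A) = A :=
  LinearMap.ext fun x => eq_of_forall hF fun y => by rw [adj_spec hF, adj_spec' hF]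

lemma adj_of_GU {α : GL (Fin m) F} (hα : α ∈ Cfsg.GU m F q) :
    adj hF (Matrix.mulVecLin (α : Matrix (Fin m) (Fin m) F)) =
      Matrix.mulVecLin ((α⁻¹ : GL (Fin m) F) : Matrix (Fin m) (Fin m) F) :=
  LinearMap.ext fun x => eq_of_forall hF fun y => by
    rw [adj_spec hF, Matrix.mulVecLin_apply, Matrix.mulVecLin_apply, ← mem_GU.1 hα _ y, mulVec_inv_mulVec]

end adjoint

section blocks

variable {w v : Fin 2 → F}

lemma Hyp.expand (hp : Hyp q w v) (y : Fin 2 → F) : y = ⟪y, v⟫ • w + ⟪y, w⟫ • v := by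
  have hli : LinearIndependent F ![w, v] := by
    rw [LinearIndependent.pair_iff]
    intro r s h
    have h1 := congrArg (fun z => ⟪z, v⟫) h
    have h2 := congrArg (fun z => ⟪z, w⟫) h
    simp only [add_l, smul_l, hp.wv, hp.vv, hp.ww, hp.vw, zero_l hF, mul_one, mul_zero, add_zero, zero_add] at h1 h2
    exact ⟨h1, h2⟩
  have htop : Submodule.span F (Set.range ![w, v]) = ⊤ :=
    hli.span_eq_top_of_card_eq_finrank (by rw [Module.finrank_fin_fun, Fintype.card_fin])
  obtain ⟨r, s, hrs⟩ : ∃ r s : F, r • w + s • v = y := by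
    have : y ∈ Submodule.span F (Set.range ![w, v]) := htop ▸ Submodule.mem_top
    rw [Matrix.range_cons_cons_empty, Submodule.mem_span_pair] at this
    exact this
  rw [← hrs]
  simp only [add_l, smul_l, hp.wv, hp.vv, hp.ww, hp.vw, mul_one, mul_zero, add_zero, zero_add]

lemma Hyp.decomp (hp : Hyp q w v) (x : Fin n → F) : T e (cW e q v x) w + T e (cW e q w x) v = x := by
  have := lin_ext e (S := TL e w ∘ₗ cW e q v + TL e v ∘ₗ cW e q w) (S' := LinearMap.id) fun u z => by
    simp only [LinearMap.add_apply, LinearMap.comp_apply, TL_apply, LinearMap.id_apply, cW_T e hF, T_smul_left]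
    conv_rhs => rw [Hyp.expand hF hp z, T_add_right, T_smul_right, T_smul_right]
  exact LinearMap.congr_fun this x

lemma blk_mul (hp : Hyp q w v) (g h : GL (Fin n) F) (x y : Fin 2 → F) :
    blk q e (g * h) x y = blk q e g x w * blk q e h v y + blk q e g x v * blk q e h w y :=
  LinearMap.ext fun u => by
    simp only [blk_apply, LinearMap.add_apply, Module.End.mul_apply]
    conv_lhs => rw [mul_mulVec, ← Hyp.decomp hF hp (e := e) ((h : Matrix (Fin n) (Fin n) F) *ᵥ T e u y),
      Matrix.mulVec_add, map_add]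

lemma blk_one (x y : Fin 2 → F) : blk q e (1 : GL (Fin n) F) x y = ⟪y, x⟫ • 1 :=
  LinearMap.ext fun u => by
    rw [blk_apply, Units.val_one, Matrix.one_mulVec, cW_T e hF, LinearMap.smul_apply, Module.End.one_apply]

lemma blk_inv {g : GL (Fin n) F} (hg : g ∈ Cfsg.GU n F q) (x y : Fin 2 → F) :
    blk q e g⁻¹ x y = adj hF (blk q e g y x) :=
  LinearMap.ext fun u => eq_of_forall hF fun f => by
    rw [adj_spec hF, blk_apply, blk_apply, ← herm_T_right e hF, ← herm_T_left e hF, ← mem_GU.1 hg, mulVec_inv_mulVec]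

lemma blk_col (hp : Hyp q w v) (g : GL (Fin n) F) (u : Fin a → F) (y : Fin 2 → F) :
    (g : Matrix (Fin n) (Fin n) F) *ᵥ T e u y = T e (blk q e g v y u) w + T e (blk q e g w y u) v :=
  (Hyp.decomp hF hp _).symm

lemma blk_ext (hp : Hyp q w v) {g h : GL (Fin n) F} (h1 : blk q e g v w = blk q e h v w)
    (h2 : blk q e g w w = blk q e h w w) (h3 : blk q e g v v = blk q e h v v)
    (h4 : blk q e g w v = blk q e h w v) : g = h :=
  gl_ext e fun u z => by
    rw [Hyp.expand hF hp z, T_add_right, T_smul_right, T_smul_right, Matrix.mulVec_add, Matrix.mulVec_add,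
      Matrix.mulVec_smul, Matrix.mulVec_smul, Matrix.mulVec_smul, Matrix.mulVec_smul, blk_col hF hp g u w,
      blk_col hF hp g u v, blk_col hF hp h u w, blk_col hF hp h u v, h1, h2, h3, h4]

lemma blk_kk (α : GL (Fin a) F) (β : GL (Fin 2) F) (x y : Fin 2 → F) :
    blk q e (kk e α β) x y =
      ⟪(β : Matrix (Fin 2) (Fin 2) F) *ᵥ y, x⟫ • Matrix.mulVecLin (α : Matrix (Fin a) (Fin a) F) :=
  LinearMap.ext fun u => by
    rw [blk_apply, kk_T, cW_T e hF, LinearMap.smul_apply, Matrix.mulVecLin_apply]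

lemma blk_kk_left (α : GL (Fin a) F) (x y : Fin 2 → F) :
    blk q e (kk e α (1 : GL (Fin 2) F)) x y = ⟪y, x⟫ • Matrix.mulVecLin (α : Matrix (Fin a) (Fin a) F) := by
  rw [blk_kk hF, Units.val_one, Matrix.one_mulVec]

/-- The transvections of the second factor in blocks. -/
lemma exists_tv_blk {y : Fin 2 → F} (hy : ⟪y, y⟫ = 0) {c : F} (hc : c + c ^ q = 0) :
    ∃ t ∈ kron F e ⊓ suGL n F q, ∀ x z, blk q e t x z = (⟪z, x⟫ + c * (⟪z, y⟫ * ⟪y, x⟫)) • 1 := by
  obtain ⟨t, ht, htx⟩ := exists_tv e hF hy hc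
  refine ⟨t, ht, fun x z => LinearMap.ext fun u => ?_⟩
  rw [blk_apply, htx, map_add, map_smul, cW_T e hF, cW_T e hF, cW_T e hF, LinearMap.smul_apply, Module.End.one_apply]
  module

/-- The element exchanging the two lines. -/
lemma exists_weyl (hp : Hyp q w v) {c : F} (hc0 : c ≠ 0) (hc : c + c ^ q = 0) :
    ∃ k ∈ kron F e ⊓ suGL n F q, blk q e k v w = 0 ∧ blk q e k w w = -c⁻¹ • 1 ∧ blk q e k v v = c • 1 ∧
      blk q e k w v = 0 := by
  obtain ⟨s, hs, hsb⟩ := exists_tv_blk (e := e) hF hp.ww hc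
  obtain ⟨t, ht, htb⟩ := exists_tv_blk (e := e) hF hp.vv (c := -c⁻¹) (by
    rw [pow_neg hF, inv_pow, eq_neg_of_add_eq_zero_right hc, inv_neg]; ring)
  refine ⟨s * t * s, Subgroup.mul_mem _ (Subgroup.mul_mem _ hs ht) hs, ?_, ?_, ?_, ?_⟩ <;>
    simp only [blk_mul hF hp, hsb, htb, hp.ww, hp.vv, hp.wv, hp.vw, smul_mul_assoc, mul_smul_comm, one_mul,
      smul_smul, ← add_smul] <;>
    first
      | exact zero_smul _ _
      | (simp [hc0]; done)
      | (congr 1; field_simp; ring)
      | (rw [← zero_smul F (1 : Module.End F (Fin a → F))]; congr 1; field_simp; ring)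
      | (rw [← zero_smul F (1 : Module.End F (Fin a → F))]; congr 1; ring)
      | exact zero_smul _ _

/-- The split torus of the second factor. -/
lemma exists_torus (hp : Hyp q w v) {s : F} (hs0 : s ≠ 0) (hs : s ^ q = s) :
    ∃ k ∈ kron F e ⊓ suGL n F q, blk q e k v w = s • 1 ∧ blk q e k w w = 0 ∧ blk q e k v v = 0 ∧
      blk q e k w v = s⁻¹ • 1 := by
  obtain ⟨d, hd0, hd⟩ := skew_exists hF
  obtain ⟨k, hk, k1, k2, k3, k4⟩ := exists_weyl (e := e) hF hp (c := -s * d) (mul_ne_zero (neg_ne_zero.2 hs0) hd0)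
    (by rw [mul_pow, pow_neg hF, hs]; linear_combination (-s) * hd)
  obtain ⟨k', hk', l1, l2, l3, l4⟩ := exists_weyl (e := e) hF hp hd0 hd
  refine ⟨k * k', Subgroup.mul_mem _ hk hk', ?_, ?_, ?_, ?_⟩ <;>
    simp only [blk_mul hF hp, k1, k2, k3, k4, l1, l2, l3, l4, smul_mul_assoc, mul_smul_comm, one_mul, smul_smul,
      zero_mul, mul_zero, add_zero, zero_add, smul_zero]
  · congr 1; field_simp
  · congr 1; field_simp

/-- The conjugate of a transvection of the second factor. -/
lemma exists_rootY (hp : Hyp q w v) {g : GL (Fin n) F} (hg : g ∈ Cfsg.GU n F q) {c : F} (hc : c + c ^ q = 0) :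
    ∃ z ∈ kron F e ⊓ suGL n F q, ∀ x y, blk q e (g * z * g⁻¹) x y =
      ⟪y, x⟫ • 1 + c • (blk q e g x w * adj hF (blk q e g y w)) := by
  obtain ⟨z, hz, hzx⟩ := exists_tv e hF hp.ww hc
  refine ⟨z, hz, fun x y => LinearMap.ext fun u => ?_⟩
  rw [← blk_inv hF hg, LinearMap.add_apply, LinearMap.smul_apply, LinearMap.smul_apply, Module.End.one_apply,
    Module.End.mul_apply, blk_apply, blk_apply, blk_apply, mul_mulVec, mul_mulVec, hzx, Matrix.mulVec_add,
    mulVec_inv_mulVec, Matrix.mulVec_smul, map_add, map_smul, cW_T e hF]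

/-- Isometries: the relation between two columns. -/
lemma blk_rel (hp : Hyp q w v) {g : GL (Fin n) F} (hg : g ∈ Cfsg.GU n F q) (x y : Fin 2 → F) :
    adj hF (blk q e g w x) * blk q e g v y + adj hF (blk q e g v x) * blk q e g w y = ⟪y, x⟫ • 1 := by
  rw [← blk_inv hF hg, ← blk_inv hF hg, ← blk_mul hF hp, inv_mul_cancel, blk_one hF]

/-- Root groups at the line in blocks. -/
lemma inR_of_blk (hp : Hyp q w v) {g : GL (Fin n) F} (hg : g ∈ M) {Γ : Module.End F (Fin a → F)}
    (h1 : blk q e g v w = 1) (h2 : blk q e g w w = 0) (h3 : blk q e g v v = Γ) (h4 : blk q e g w v = 1) :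
    InR q e M w Γ := by
  refine ⟨g, hg, fun x => ?_⟩
  conv_lhs => rw [← Hyp.decomp hF hp (e := e) x, Matrix.mulVec_add, blk_col hF hp, blk_col hF hp, h1, h2, h3, h4]
  simp only [Module.End.one_apply, LinearMap.zero_apply, T_zero_left, add_zero]
  conv_rhs => arg 1; rw [← Hyp.decomp hF hp (e := e) x]
  abel

lemma blk_of_inR (hp : Hyp q w v) {g : GL (Fin n) F} {Γ : Module.End F (Fin a → F)}
    (hg : ∀ x, (g : Matrix (Fin n) (Fin n) F) *ᵥ x = x + T e (Γ (cW e q w x)) w) (x y : Fin 2 → F) :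
    blk q e g x y = ⟪y, x⟫ • 1 + (⟪y, w⟫ * ⟪w, x⟫) • Γ :=
  LinearMap.ext fun u => by
    rw [blk_apply, hg, map_add, cW_T e hF, cW_T e hF, cW_T e hF, map_smul, LinearMap.add_apply,
      LinearMap.smul_apply, LinearMap.smul_apply, Module.End.one_apply]
    module

/-- Real multiples of root elements at a line. -/
lemma inR_scale (hle : kron F e ⊓ suGL n F q ≤ M) {y : Fin 2 → F} (hy0 : y ≠ 0) (hy : ⟪y, y⟫ = 0)
    {Γ : Module.End F (Fin a → F)} (h : InR q e M y Γ) {μ : F} (hμ : μ ^ q = μ) : InR q e M y (μ • Γ) := by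
  obtain ⟨z, hz1, hz2, hz3⟩ := exists_hyp hF hy0 hy
  have hp : Hyp q y z := ⟨hy, hz3, hz1, hz2⟩
  have hsq : ∀ r : F, r ^ q = r → InR q e M y ((r * r) • Γ) := by
    intro r hr
    rcases eq_or_ne r 0 with rfl | hr0
    · exact ⟨1, M.one_mem, fun x => by simp [T_zero_left]⟩
    obtain ⟨k, hk, k1, k2, k3, k4⟩ := exists_torus (e := e) hF hp hr0 hr
    obtain ⟨g, hg, hgx⟩ := h
    have hb := blk_of_inR hF hp hgx
    have hkU := hk.2.1
    have hr1 : r⁻¹ ^ q = r⁻¹ := by rw [inv_pow, hr]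
    refine inR_of_blk hF hp (M.mul_mem (M.mul_mem (hle hk) hg) (M.inv_mem (hle hk))) ?_ ?_ ?_ ?_ <;>
      simp only [blk_mul hF hp, blk_inv hF hkU, hb, k1, k2, k3, k4, adj_smul hF, adj_one hF, adj_zero hF, hr, hr1,
        hp.ww, hp.vv, hp.wv, hp.vw, zero_mul, mul_zero, add_zero, zero_add, one_smul, zero_smul, mul_one,
        smul_mul_assoc, mul_smul_comm, one_mul, smul_add, add_mul, mul_add, smul_smul, inv_mul_cancel₀ hr0,
        mul_inv_cancel₀ hr0, smul_zero]
  by_cases h2 : (2 : F) = 0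
  · haveI : CharP F 2 := CharTwo.of_one_ne_zero_of_two_eq_zero one_ne_zero h2
    haveI := Fintype.ofFinite F
    obtain ⟨r, hr⟩ := FiniteField.isSquare_of_char_two (F := F) (ringChar.eq F 2) μ
    rw [hr]
    refine hsq r ?_
    have e1 : (r ^ q - r) * (r ^ q - r) = 0 := by
      have : r ^ q * r ^ q = r * r := by rw [← mul_pow, ← hr, hμ]
      linear_combination this + (r * r - r ^ q * r) * h2
    exact sub_eq_zero.1 (mul_self_eq_zero.1 e1)
  · have h2' : (2 : F) ^ q = 2 := by
      rw [show (2 : F) = 1 + 1 by norm_num, pow_add hF, one_pow]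
    have e1 := hsq ((1 + μ) / 2) (by rw [div_pow, pow_add hF, one_pow, hμ, h2'])
    have e2 := hsq ((1 - μ) / 2) (by rw [div_pow, pow_sub hF, one_pow, hμ, h2'])
    refine (e1.sub hF hy e2).congr fun x => ?_
    rw [LinearMap.sub_apply, LinearMap.smul_apply, LinearMap.smul_apply, LinearMap.smul_apply, ← sub_smul]
    congr 1
    field_simp
    ring

end blocks

end CfsgLib.Geo.TensorU
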