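/-
Elements carrying one tensor line to another lie in the stabiliser.
-/
import Cfsg.Agent.Geo.TensorUnitRes

set_option autoImplicit false

namespace CfsgLib.Geo.TensorU

open Matrix Cfsg Cfsg.Geo CfsgLib.Geo CfsgLib.Geo.UTv CfsgLib.Geo.UFrame

variable {n a b q : ℕ} {F : Type*} [Field F] {e : Fin n ≃ Fin a × Fin b} {M : Subgroup (GL (Fin n) F)}

local notation "⟪" x ", " y "⟫" => Cfsg.hermForm _ F q x y

omit [Field F] in
lemma off_symm {K V : Type*} [Field K] [AddCommGroup V] [Module K V] {v w : V} (hw : w ≠ 0)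
    (h : v ∉ K ∙ w) : w ∉ K ∙ v := fun hm => by
  obtain ⟨c, hc⟩ := Submodule.mem_span_singleton.1 hm
  refine h (Submodule.mem_span_singleton.2 ⟨c⁻¹, ?_⟩)
  rw [← hc, smul_smul, inv_mul_cancel₀ (fun h0 => hw (by rw [← hc, h0, zero_smul])), one_smul]

variable [Finite F] (hF : Nat.card F = q ^ 2)
include hF

variable (hS : Over q e M) (hOS : OnlyScalar q e M)
include hS hOS

section pointwise

variable {g : GL (Fin n) F} (hg : IsExt q e M g) {w : Fin b → F} (hw0 : w ≠ 0)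
  (hw : Cfsg.hermForm b F q w w = 0) (hfix : ∀ f, (g : Matrix (Fin n) (Fin n) F) *ᵥ T e f w = T e f w)
include hg hw0 hw hfix

lemma contraction_scalar {s : Fin b → F} (hs : ⟪s, s⟫ = 0) (hsw : ⟪s, w⟫ = 0) {v : Fin b → F}
    (hv : ⟪v, w⟫ = 0) : ∃ κ : F, ∀ f, cW e q v ((g : Matrix (Fin n) (Fin n) F) *ᵥ T e f s) = κ • f := by
  have hb : ∀ f f', ⟪cW e q w ((g : Matrix (Fin n) (Fin n) F) *ᵥ T e f s), f'⟫ = 0 := fun f f' => by
    rw [← herm_T_right e hF, ← hfix f', mem_GU.1 hg.1, herm_T e hF, hsw, mul_zero]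
  let P : Submodule F (Fin b → F) :=
    { carrier := {v | ∃ κ : F, ∀ f, cW e q v ((g : Matrix (Fin n) (Fin n) F) *ᵥ T e f s) = κ • f}
      zero_mem' := ⟨0, fun f => by
        rw [← zero_smul F (0 : Fin b → F), cW_smul, zero_pow' hF, zero_smul, zero_smul]⟩
      add_mem' := by
        rintro v v' ⟨κ, hκ⟩ ⟨κ', hκ'⟩
        exact ⟨κ + κ', fun f => by rw [cW_add e hF, hκ, hκ', add_smul]⟩
      smul_mem' := by
        rintro c v ⟨κ, hκ⟩
        exact ⟨c ^ q * κ, fun f => by rw [cW_smul, hκ, smul_smul]⟩ }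
  refine mem_of_iso_perp hF hS.four hw0 hw P (fun v hv hvw => ?_) hv
  show ∃ κ : F, ∀ f, cW e q v ((g : Matrix (Fin n) (Fin n) F) *ᵥ T e f s) = κ • f
  by_cases hmem : v ∈ F ∙ w
  · obtain ⟨μ, rfl⟩ := Submodule.mem_span_singleton.1 hmem
    exact ⟨0, fun f => by rw [cW_smul, eq_zero_of_forall hF (hb f), smul_zero, zero_smul]⟩
  obtain ⟨c, hc0, hc⟩ := skew_exists hF
  obtain ⟨t1, ht1, ht1x⟩ := exists_tv e hF (w := w + s)
    (by rw [add_l, add_r hF, add_r hF, hw, hs, hsw, swap0 hF hsw]; ring) hc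
  have hc' : -c + (-c) ^ q = 0 := by rw [pow_neg hF]; linear_combination -hc
  obtain ⟨t2, ht2, ht2x⟩ := exists_tv e hF hw hc'
  obtain ⟨t3, ht3, ht3x⟩ := exists_tv e hF hs hc'
  set E := t1 * t2 * t3 with hE
  have hEx : ∀ x, (E : Matrix (Fin n) (Fin n) F) *ᵥ x
      = x + c • T e (cW e q s x) w + c • T e (cW e q w x) s := fun x => by
    rw [hE, mul_mulVec, mul_mulVec, ht3x, ht2x, ht1x]
    simp only [cW_add e hF, map_add, map_smul, cW_T0 e hF hw, cW_T0 e hF hs, cW_T0 e hF hsw,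
      cW_T0 e hF (swap0 hF hsw), smul_zero, add_zero, T_add_left, T_add_right]
    module
  set r := g * E * g⁻¹ with hr
  have hrM : r ∈ M := hg.2 _ ((kron F e ⊓ suGL n F q).mul_mem ((kron F e ⊓ suGL n F q).mul_mem ht1 ht2) ht3)
  have hw' : ∀ x, cW e q w (((g⁻¹ : GL (Fin n) F) : Matrix (Fin n) (Fin n) F) *ᵥ x) = cW e q w x :=
    fun x => eq_of_forall hF fun f => cW_eq_of_map e hF hg.1 (hfix f) x
  let Z : Module.End F (Fin a → F) :=
    c • (cW e q s ∘ₗ Matrix.mulVecLin ((g⁻¹ : GL (Fin n) F) : Matrix (Fin n) (Fin n) F) ∘ₗ TL e v)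
  obtain ⟨σ, hσ⟩ := res_scalar hF hS hOS (hS.isExt hF hrM) hv hv hw hvw hmem (off_symm hw0 hmem) Z fun f => by
    rw [hr, mul_mulVec, mul_mulVec, hEx, Matrix.mulVec_add, Matrix.mulVec_add, mulVec_inv_mulVec,
      Matrix.mulVec_smul, Matrix.mulVec_smul, hfix, hw', cW_T0 e hF hvw, T_zero_left, Matrix.mulVec_zero, smul_zero,
      add_zero, ← T_smul_left]
    rfl
  refine ⟨(c⁻¹ * σ) ^ q, fun f => eq_of_forall hF fun f' => ?_⟩
  have h1 : cW e q s (((g⁻¹ : GL (Fin n) F) : Matrix (Fin n) (Fin n) F) *ᵥ T e f' v) = (c⁻¹ * σ) • f' := by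
    have h2 : c • cW e q s (((g⁻¹ : GL (Fin n) F) : Matrix (Fin n) (Fin n) F) *ᵥ T e f' v) = σ • f' := hσ f'
    rw [mul_smul, ← h2, inv_smul_smul₀ hc0]
  rw [← herm_T_right e hF, smul_l, ← mulVec_inv_mulVec g (T e f' v), mem_GU.1 hg.1, herm_T_left e hF, h1,
    smul_r hF]

lemma pure_off {s : Fin b → F} (hs : ⟪s, s⟫ = 0) (hsw : ⟪s, w⟫ = 0) (hn : s ∉ F ∙ w) :
    ∃ s' : Fin b → F, ∀ f, (g : Matrix (Fin n) (Fin n) F) *ᵥ T e f s = T e f s' := by
  obtain ⟨w', hww', hw'w, -⟩ := exists_hyp hF hw0 hw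
  let π : Fin b → (Fin b → F) := fun k =>
    Pi.single k 1 - ⟪(Pi.single k (1 : F) : Fin b → F), w'⟫ • w - ⟪(Pi.single k (1 : F) : Fin b → F), w⟫ • w'
  have hπ : ∀ k, ⟪π k, w⟫ = 0 := fun k => by
    simp only [π, sub_l hF, smul_l, hw, hw'w]; ring
  choose κ hκ using fun k => contraction_scalar hF hS hOS hg hw0 hw hfix hs hsw (hπ k)
  let Z : Module.End F (Fin a → F) :=
    cW e q w' ∘ₗ Matrix.mulVecLin (g : Matrix (Fin n) (Fin n) F) ∘ₗ TL e s
  have hb : ∀ f, cW e q w ((g : Matrix (Fin n) (Fin n) F) *ᵥ T e f s) = 0 := fun f => eq_zero_of_forall hF fun f' => by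
    rw [← herm_T_right e hF, ← hfix f', mem_GU.1 hg.1, herm_T e hF, hsw, mul_zero]
  have hdec : ∀ f, (g : Matrix (Fin n) (Fin n) F) *ᵥ T e f s = T e f κ + T e (Z f) w := by
    intro f
    set y := (g : Matrix (Fin n) (Fin n) F) *ᵥ T e f s with hy
    have hk : ∀ k, cW e q (Pi.single k (1 : F)) y = κ k • f + w k • Z f := by
      intro k
      have e1 : cW e q (π k) y = κ k • f := hκ k f
      have hsplit : (Pi.single k 1 : Fin b → F) = π k + ⟪(Pi.single k (1 : F) : Fin b → F), w'⟫ • w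
          + ⟪(Pi.single k (1 : F) : Fin b → F), w⟫ • w' := by simp only [π]; module
      rw [hsplit, cW_add e hF, cW_add e hF, cW_smul, cW_smul, e1, hy, hb, smul_zero, add_zero, herm_single,
        CfsgLib.Forms.pow_q_q hF]
      rfl
    rw [← T_decomp e hF y, Finset.sum_congr rfl fun k _ => show T e (cW e q (Pi.single k (1 : F)) y) (Pi.single k 1)
      = TR e f (κ k • Pi.single k 1) + TR e (Z f) (w k • Pi.single k 1) by
        rw [hk, TR_apply, TR_apply, T_add_left, T_smul_left, T_smul_left, T_smul_right, T_smul_right],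
      Finset.sum_add_distrib, ← map_sum, ← map_sum, ← pi_eq_sum_univ' κ, ← pi_eq_sum_univ' w, TR_apply, TR_apply]
  obtain ⟨f1, hf1⟩ := unit_self (F := F) (q := q) (m := a) (by have := hS.two; omega)
  have hf10 : f1 ≠ 0 := fun h => one_ne_zero (by rw [← hf1, h, zero_l hF])
  have hκw : ⟪κ, w⟫ = 0 := by
    have h1 := hb f1
    rw [hdec, map_add, cW_T e hF, cW_T0 e hF hw, add_zero] at h1
    exact (smul_eq_zero.1 h1).resolve_right hf10
  have hκκ : ⟪κ, κ⟫ = 0 := by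
    have h1 := mem_GU.1 hg.1 (T e f1 s) (T e f1 s)
    simp only [hdec, add_l, add_r hF, herm_T e hF, hκw, swap0 hF hκw, hw, hs, hf1] at h1
    linear_combination h1
  have hκn : κ ∉ F ∙ w := fun hm => by
    obtain ⟨μ, hμ⟩ := Submodule.mem_span_singleton.1 hm
    obtain ⟨y', hy', hsy'⟩ := exists_form_of_notMem hF (F ∙ w) hn
    have h1 : (g : Matrix (Fin n) (Fin n) F) *ᵥ T e f1 s
        = (g : Matrix (Fin n) (Fin n) F) *ᵥ T e (μ • f1 + Z f1) w := by
      rw [hdec, hfix, ← hμ, T_smul_right, T_add_left, T_smul_left]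
    have h2 := congrArg (cW e q y') (show T e f1 s = T e (μ • f1 + Z f1) w by
      have := congrArg (fun x => ((g⁻¹ : GL (Fin n) F) : Matrix (Fin n) (Fin n) F) *ᵥ x) h1
      simpa only [inv_mulVec_mulVec] using this)
    rw [cW_T e hF, cW_T e hF, hsy', swap0 hF (hy' w (Submodule.mem_span_singleton_self w)), one_smul, zero_smul] at h2
    exact hf10 h2
  obtain ⟨ζ, hζ⟩ := res_scalar hF hS hOS hg hs hκκ hw hκw hκn (off_symm hw0 hκn) Z hdec
  exact ⟨κ + ζ • w, fun f => by rw [hdec, hζ, T_add_right, T_smul_left, T_smul_right]⟩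

lemma pure_perp {s : Fin b → F} (hsw : ⟪s, w⟫ = 0) :
    ∃ s' : Fin b → F, ∀ f, (g : Matrix (Fin n) (Fin n) F) *ᵥ T e f s = T e f s' := by
  let P : Submodule F (Fin b → F) :=
    { carrier := {s | ∃ s' : Fin b → F, ∀ f, (g : Matrix (Fin n) (Fin n) F) *ᵥ T e f s = T e f s'}
      zero_mem' := ⟨0, fun f => by rw [T_zero_right, Matrix.mulVec_zero]⟩
      add_mem' := by
        rintro x y ⟨x', hx⟩ ⟨y', hy⟩
        exact ⟨x' + y', fun f => by rw [T_add_right, Matrix.mulVec_add, hx, hy, T_add_right]⟩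
      smul_mem' := by
        rintro c x ⟨x', hx⟩
        exact ⟨c • x', fun f => by rw [T_smul_right, Matrix.mulVec_smul, hx, T_smul_right]⟩ }
  refine mem_of_iso_perp hF hS.four hw0 hw P (fun s hs hsw => ?_) hsw
  by_cases hmem : s ∈ F ∙ w
  · obtain ⟨μ, rfl⟩ := Submodule.mem_span_singleton.1 hmem
    exact ⟨μ • w, fun f => by rw [T_smul_right, Matrix.mulVec_smul, hfix]⟩
  · exact pure_off hF hS hOS hg hw0 hw hfix hs hsw hmem

end pointwise

/-- An element carrying a tensor line at an isotropic vector to another one lies in the stabiliser. -/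
theorem fix_mem {g : GL (Fin n) F} (hg : IsExt q e M g) {w w' : Fin b → F} (hw0 : w ≠ 0) (hw : ⟪w, w⟫ = 0)
    (hw'0 : w' ≠ 0) (hw' : ⟪w', w'⟫ = 0)
    (h : ∀ f, ∃ f', (g : Matrix (Fin n) (Fin n) F) *ᵥ T e f w = T e f' w') : g ∈ kron F e := by
  classical
  obtain ⟨y, hyw', hy'w, -⟩ := exists_hyp hF hw'0 hw'
  let A : Module.End F (Fin a → F) :=
    cW e q y ∘ₗ Matrix.mulVecLin (g : Matrix (Fin n) (Fin n) F) ∘ₗ TL e w
  have hA : ∀ f, (g : Matrix (Fin n) (Fin n) F) *ᵥ T e f w = T e (A f) w' := fun f => by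
    obtain ⟨f', hf'⟩ := h f
    show _ = T e (cW e q y ((g : Matrix (Fin n) (Fin n) F) *ᵥ T e f w)) w'
    rw [hf', cW_T e hF, hyw', one_smul]
  have hAinj : Function.Injective A := fun x x' hx => T_inj e hw0 (by
    have h1 : (g : Matrix (Fin n) (Fin n) F) *ᵥ T e x w = (g : Matrix (Fin n) (Fin n) F) *ᵥ T e x' w := by
      rw [hA, hA, hx]
    have h2 := congrArg (fun z => ((g⁻¹ : GL (Fin n) F) : Matrix (Fin n) (Fin n) F) *ᵥ z) h1
    simpa only [inv_mulVec_mulVec] using h2)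
  obtain ⟨c, hc0, hc⟩ := skew_exists hF
  obtain ⟨t, ht, htx⟩ := exists_tv e hF hw hc
  have hwc : ∀ x, cW e q w (((g⁻¹ : GL (Fin n) F) : Matrix (Fin n) (Fin n) F) *ᵥ x) = adj hF A (cW e q w' x) :=
    fun x => eq_of_forall hF fun f => by rw [cW_eq_of_map e hF hg.1 (hA f) x, adj_spec]
  obtain ⟨σ', hσ'⟩ := hOS w' hw'0 hw' (c • (A ∘ₗ adj hF A)) ⟨_, hg.2 t ht, fun x => by
    rw [mul_mulVec, mul_mulVec, htx, Matrix.mulVec_add, mulVec_inv_mulVec, Matrix.mulVec_smul, hwc, hA,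
      LinearMap.smul_apply, T_smul_left]
    rfl⟩
  set σ := c⁻¹ * σ' with hσdef
  have hσ : ∀ x, A (adj hF A x) = σ • x := fun x => by
    have h1 : c • A (adj hF A x) = σ' • x := hσ' x
    rw [hσdef, mul_smul, ← h1, inv_smul_smul₀ hc0]
  have hAsurj : Function.Surjective A := LinearMap.injective_iff_surjective.1 hAinj
  obtain ⟨f1, hf1⟩ := unit_self (F := F) (q := q) (m := a) (by have := hS.two; omega)
  have hf10 : f1 ≠ 0 := fun h => one_ne_zero (by rw [← hf1, h, zero_l hF])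
  have hσ0 : σ ≠ 0 := fun h0 => hf10 (by
    have h1 : ∀ x, adj hF A x = 0 := fun x => hAinj (by rw [hσ, h0, zero_smul, map_zero])
    refine eq_zero_of_forall hF fun z => ?_
    obtain ⟨z', rfl⟩ := hAsurj z
    rw [← adj_spec hF, h1, zero_l hF])
  have hσq : σ ^ q = σ := by
    have h1 : ⟪A (adj hF A f1), f1⟫ = ⟪adj hF A f1, adj hF A f1⟫ := (adj_spec' hF A f1 _).symm
    rw [hσ, smul_l, hf1, mul_one] at h1
    rw [h1, self_pow hF]
  have hadjA : ∀ f, adj hF A (A f) = σ • f := fun f => hAinj (by rw [hσ, map_smul])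
  obtain ⟨ν, hν⟩ := norm_exists hF hσq
  have hν0 : ν ≠ 0 := fun h0 => hσ0 (by rw [← hν, h0, zero_mul])
  obtain ⟨α, hα⟩ := Tensor.exists_gl (ν⁻¹ • A) (fun x x' hx => hAinj (smul_right_injective _ (inv_ne_zero hν0) hx))
  have hαU : α ∈ Cfsg.GU a F q := mem_GU.2 fun x x' => by
    rw [hα, hα, LinearMap.smul_apply, LinearMap.smul_apply, smul_l, smul_r hF, inv_pow, ← adj_spec hF, hadjA,
      smul_l, ← hν]
    field_simp
  have hν' : ν • w' ≠ 0 := smul_ne_zero hν0 hw'0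
  have hν'i : ⟪ν • w', ν • w'⟫ = 0 := by rw [smul_l, smul_r hF, hw', mul_zero, mul_zero]
  obtain ⟨β, hβ, hβw⟩ := exists_map_iso hF hS.four hw0 hw hν' hν'i
  set k := kk e α β with hk
  have hkw : ∀ f, (k : Matrix (Fin n) (Fin n) F) *ᵥ T e f w = (g : Matrix (Fin n) (Fin n) F) *ᵥ T e f w := fun f => by
    rw [hk, kk_T, hA, hβw, hα, LinearMap.smul_apply, T_smul_left, T_smul_right, smul_smul, inv_mul_cancel₀ hν0,
      one_smul]
  have hkU : k ∈ Cfsg.GU n F q := kk_mem_GU e hF hαU hβ.1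
  set g1 := g * k⁻¹ with hg1
  have hg1E : IsExt q e M g1 := hg.mul_right hF ((kron F e).inv_mem (kk_mem e α β)) ((Cfsg.GU n F q).inv_mem hkU)
  have hfix : ∀ f, (g1 : Matrix (Fin n) (Fin n) F) *ᵥ T e f (ν • w') = T e f (ν • w') := by
    intro f
    obtain ⟨z, hz⟩ : ∃ z, (α : Matrix (Fin a) (Fin a) F) *ᵥ z = f :=
      ⟨((α⁻¹ : GL (Fin a) F) : Matrix (Fin a) (Fin a) F) *ᵥ f, mulVec_inv_mulVec α f⟩
    have h1 : (k : Matrix (Fin n) (Fin n) F) *ᵥ T e z w = T e f (ν • w') := by rw [hk, kk_T, hz, hβw]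
    rw [← h1, hg1, mul_mulVec, inv_mulVec_mulVec, hkw]
  suffices hg1K : g1 ∈ kron F e by
    have h1 := (kron F e).mul_mem hg1K (kk_mem e α β)
    rwa [hg1, ← hk, inv_mul_cancel_right] at h1
  obtain ⟨s, hs0, hs, hsw, hsn⟩ := exists_iso_off hF hS.four hν' hν'i
  obtain ⟨s', hs'⟩ := pure_perp hF hS hOS hg1E hν' hν'i hfix hsw
  have hs'i : ⟪s', s'⟫ = 0 := by
    have h1 := mem_GU.1 hg1E.1 (T e f1 s) (T e f1 s)
    rwa [hs', herm_T e hF, herm_T e hF, hf1, hs, one_mul, one_mul] at h1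
  have hs'0 : s' ≠ 0 := fun h0 => hs0 (T_eq_zero' e (by
    have h1 := congrArg (fun z => ((g1⁻¹ : GL (Fin n) F) : Matrix (Fin n) (Fin n) F) *ᵥ z) (hs' f1)
    simpa only [inv_mulVec_mulVec, h0, T_zero_right, Matrix.mulVec_zero] using h1) hf10)
  obtain ⟨γ, hγ, hγs⟩ := exists_map_iso hF hS.four hs0 hs hs'0 hs'i
  set l := kk e (1 : GL (Fin a) F) γ with hl
  have hlU : l ∈ Cfsg.GU n F q := kk_mem_GU e hF (one_mem _) hγ.1
  have hls : ∀ f, (l : Matrix (Fin n) (Fin n) F) *ᵥ T e f s = T e f s' := fun f => by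
    rw [hl, kk_T, Units.val_one, Matrix.one_mulVec, hγs]
  set g2 := g1 * l⁻¹ with hg2
  have hg2E : IsExt q e M g2 := hg1E.mul_right hF ((kron F e).inv_mem (kk_mem e _ γ)) ((Cfsg.GU n F q).inv_mem hlU)
  have hfix2 : ∀ f, (g2 : Matrix (Fin n) (Fin n) F) *ᵥ T e f s' = T e f s' := fun f => by
    conv_lhs => rw [← hls f, hg2, mul_mulVec, inv_mulVec_mulVec]
    exact hs' f
  -- pure on two hyperplanes
  have hall : ∀ x : Fin b → F, ∃ x', ∀ f, (g1 : Matrix (Fin n) (Fin n) F) *ᵥ T e f x = T e f x' := by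
    intro x
    obtain ⟨z, hz, hzw⟩ : ∃ z, ⟪z, s⟫ = 0 ∧ ⟪z, ν • w'⟫ = 1 := by
      obtain ⟨y1, hy1, hwy1⟩ := exists_form_of_notMem hF (F ∙ s) (u := ν • w') (off_symm hν' hsn)
      exact ⟨y1, hy1 s (Submodule.mem_span_singleton_self s), by rw [swap hF (ν • w') y1, hwy1, one_pow]⟩
    set x1 := x - ⟪x, ν • w'⟫ • z with hx1
    obtain ⟨x1', hx1'⟩ := pure_perp hF hS hOS hg1E hν' hν'i hfix (s := x1)
      (by rw [hx1, sub_l hF, smul_l, hzw, mul_one, sub_self])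
    obtain ⟨z', hz'⟩ := pure_perp hF hS hOS hg2E hs'0 hs'i hfix2
      (s := (γ : Matrix (Fin b) (Fin b) F) *ᵥ z) (by rw [← hγs, herm_mulVec hγ, hz])
    refine ⟨x1' + ⟪x, ν • w'⟫ • z', fun f => ?_⟩
    have h1 : (g1 : Matrix (Fin n) (Fin n) F) *ᵥ T e f z = T e f z' := by
      rw [← hz' f, show g1 = g2 * l from (inv_mul_cancel_right g1 l).symm, mul_mulVec,
        show (l : Matrix (Fin n) (Fin n) F) *ᵥ T e f z = T e f ((γ : Matrix (Fin b) (Fin b) F) *ᵥ z) by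
          rw [hl, kk_T, Units.val_one, Matrix.one_mulVec]]
    conv_lhs => rw [show x = x1 + ⟪x, ν • w'⟫ • z by rw [hx1, sub_add_cancel]]
    rw [T_add_right, T_smul_right, Matrix.mulVec_add, Matrix.mulVec_smul, hx1', h1, T_add_right, T_smul_right]
  choose B hB using hall
  have hBu : ∀ x x', (∀ f, (g1 : Matrix (Fin n) (Fin n) F) *ᵥ T e f x = T e f x') → B x = x' := fun x x' hx =>
    sub_eq_zero.1 (T_eq_zero' e (u := f1) (by rw [T_sub_right, ← hB, hx, sub_self]) hf10)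
  let BL : (Fin b → F) →ₗ[F] (Fin b → F) :=
    { toFun := B
      map_add' := fun x x' => hBu _ _ fun f => by rw [T_add_right, Matrix.mulVec_add, hB, hB, T_add_right]
      map_smul' := fun c x => hBu _ _ fun f => by
        rw [T_smul_right, Matrix.mulVec_smul, hB, RingHom.id_apply, T_smul_right] }
  obtain ⟨β', hβ'⟩ := Tensor.exists_gl BL (by
    refine LinearMap.ker_eq_bot.1 (LinearMap.ker_eq_bot'.2 fun x hx => T_eq_zero' e (u := f1) ?_ hf10)
    have h1 := congrArg (fun z => ((g1⁻¹ : GL (Fin n) F) : Matrix (Fin n) (Fin n) F) *ᵥ z) (hB x f1)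
    simp only [inv_mulVec_mulVec] at h1
    rw [h1, show B x = 0 from hx, T_zero_right, Matrix.mulVec_zero])
  exact (mem_kron_iff e).2 ⟨1, β', fun u x => by rw [hB, Units.val_one, Matrix.one_mulVec, hβ']; rfl⟩

end CfsgLib.Geo.TensorU
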