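/-
The stabiliser of a tensor decomposition of a hermitian form is maximal in the special unitary group.
-/
import Cfsg.Agent.Geo.TensorUnitFix
import Cfsg.Agent.Geo.TensorUnitGen
import Mathlib.GroupTheory.Sylow

set_option autoImplicit false

namespace CfsgLib.Geo.TensorU

open Matrix Cfsg Cfsg.Geo CfsgLib.Geo CfsgLib.Geo.UTv CfsgLib.Geo.UFrame
open scoped Pointwise

variable {n a b q : ℕ} {F : Type*} [Field F] {e : Fin n ≃ Fin a × Fin b} {M : Subgroup (GL (Fin n) F)}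

local notation "⟪" x ", " y "⟫" => Cfsg.hermForm _ F q x y

/-- `f ↦ cW_{w₀}(g⁻¹(f ⊗ v))`. -/
def con (q : ℕ) (e : Fin n ≃ Fin a × Fin b) (g : GL (Fin n) F) (w₀ v : Fin b → F) : Module.End F (Fin a → F) :=
  cW e q w₀ ∘ₗ Matrix.mulVecLin ((g⁻¹ : GL (Fin n) F) : Matrix (Fin n) (Fin n) F) ∘ₗ TL e v

lemma con_apply (g : GL (Fin n) F) (w₀ v : Fin b → F) (f : Fin a → F) :
    con q e g w₀ v f = cW e q w₀ (((g⁻¹ : GL (Fin n) F) : Matrix (Fin n) (Fin n) F) *ᵥ T e f v) := rfl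

lemma con_add (g : GL (Fin n) F) (w₀ v v' : Fin b → F) (f : Fin a → F) :
    con q e g w₀ (v + v') f = con q e g w₀ v f + con q e g w₀ v' f := by
  simp only [con_apply, T_add_right, Matrix.mulVec_add, map_add]

lemma con_smul (g : GL (Fin n) F) (w₀ v : Fin b → F) (c : F) (f : Fin a → F) :
    con q e g w₀ (c • v) f = c • con q e g w₀ v f := by
  simp only [con_apply, T_smul_right, Matrix.mulVec_smul, map_smul]

/-- An element outside the stabiliser pressing `k` dimensions of a tensor line into another one. -/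
def Triple (q : ℕ) (e : Fin n ≃ Fin a × Fin b) (M : Subgroup (GL (Fin n) F)) (k : ℕ) : Prop :=
  ∃ g ∈ M, g ∉ kron F e ∧ ∃ w₀ w : Fin b → F, w₀ ≠ 0 ∧ Cfsg.hermForm b F q w₀ w₀ = 0 ∧ w ≠ 0 ∧
    Cfsg.hermForm b F q w w = 0 ∧ ∃ P : Submodule F (Fin a → F), k ≤ Module.finrank F P ∧
      ∀ p ∈ P, ∃ u, (g : Matrix (Fin n) (Fin n) F) *ᵥ T e p w₀ = T e u w

/-- `k` is the largest possible. -/
def NoBigger (q : ℕ) (e : Fin n ≃ Fin a × Fin b) (M : Subgroup (GL (Fin n) F)) (k : ℕ) : Prop :=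
  ∀ k', k < k' → ¬ Triple q e M k'

variable [Finite F] (hF : Nat.card F = q ^ 2)
include hF

lemma herm_con {g : GL (Fin n) F} (hg : g ∈ Cfsg.GU n F q) (w₀ v : Fin b → F) (f f' : Fin a → F) :
    ⟪con q e g w₀ v f, f'⟫ = ⟪f, cW e q v ((g : Matrix (Fin n) (Fin n) F) *ᵥ T e f' w₀)⟫ := by
  rw [con_apply, ← herm_T_right e hF, ← herm_T_left e hF, ← mem_GU.1 hg, mulVec_inv_mulVec]

variable (hS : Over q e M) (hOS : OnlyScalar q e M)
include hS hOS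

lemma exists_root {g : GL (Fin n) F} (hg : g ∈ M) (hgK : g ∉ kron F e) {w₀ : Fin b → F} (hw₀0 : w₀ ≠ 0)
    (hw₀ : ⟪w₀, w₀⟫ = 0) {c : F} (hc : c + c ^ q = 0) (hc0 : c ≠ 0) :
    ∃ B ∈ M, B ∉ kron F e ∧ ∀ x, (B : Matrix (Fin n) (Fin n) F) *ᵥ x
      = x + c • (g : Matrix (Fin n) (Fin n) F) *ᵥ
          T e (cW e q w₀ (((g⁻¹ : GL (Fin n) F) : Matrix (Fin n) (Fin n) F) *ᵥ x)) w₀ := by
  obtain ⟨t, ht, htx⟩ := exists_tv e hF hw₀ hc
  set B := g * t * g⁻¹ with hB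
  have hBx : ∀ x, (B : Matrix (Fin n) (Fin n) F) *ᵥ x = x + c • (g : Matrix (Fin n) (Fin n) F) *ᵥ
      T e (cW e q w₀ (((g⁻¹ : GL (Fin n) F) : Matrix (Fin n) (Fin n) F) *ᵥ x)) w₀ := fun x => by
    rw [hB, mul_mulVec, mul_mulVec, htx, Matrix.mulVec_add, mulVec_inv_mulVec, Matrix.mulVec_smul]
  refine ⟨B, (hS.isExt hF hg).2 t ht, fun hBK => hgK ?_, hBx⟩
  obtain ⟨α, β, hab⟩ := (mem_kron_iff e).1 hBK
  -- `α` is a scalar
  have hα : ∀ u, (α : Matrix (Fin a) (Fin a) F) *ᵥ u ∈ F ∙ u := by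
    intro u
    obtain ⟨v, hv0, hv⟩ := Tensor.exists_ne_zero_ker
      (cW e q w₀ ∘ₗ Matrix.mulVecLin ((g⁻¹ : GL (Fin n) F) : Matrix (Fin n) (Fin n) F) ∘ₗ TR e u)
      (by rw [Module.finrank_fin_fun, Fintype.card_fin]; exact hS.lt)
    have h1 := hBx (T e u v)
    rw [hab, show cW e q w₀ (((g⁻¹ : GL (Fin n) F) : Matrix (Fin n) (Fin n) F) *ᵥ T e u v) = 0 from hv, T_zero_left,
      Matrix.mulVec_zero, smul_zero, add_zero] at h1
    obtain ⟨y, hy⟩ := exists_one hF hv0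
    have h2 := congrArg (cW e q y) h1
    rw [cW_T e hF, cW_T e hF, hy, one_smul] at h2
    refine Submodule.mem_span_singleton.2 ⟨⟪(β : Matrix (Fin b) (Fin b) F) *ᵥ v, y⟫⁻¹, ?_⟩
    rcases eq_or_ne ⟪(β : Matrix (Fin b) (Fin b) F) *ᵥ v, y⟫ 0 with h0 | h0
    · rw [h0, zero_smul] at h2
      rw [← h2, smul_zero, Matrix.mulVec_zero]
    · conv_lhs => rw [← h2, smul_smul, inv_mul_cancel₀ h0, one_smul]
  obtain ⟨μ, hμ⟩ := scalar_of_iso_eigen hF hS.two (Matrix.mulVecLin (α : Matrix (Fin a) (Fin a) F))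
    fun p _ => hα p
  have hkey : ∀ u v, c • (g : Matrix (Fin n) (Fin n) F) *ᵥ
      T e (cW e q w₀ (((g⁻¹ : GL (Fin n) F) : Matrix (Fin n) (Fin n) F) *ᵥ T e u v)) w₀
      = T e u (μ • (β : Matrix (Fin b) (Fin b) F) *ᵥ v - v) := fun u v => by
    have h1 := hBx (T e u v)
    rw [hab, show (α : Matrix (Fin a) (Fin a) F) *ᵥ u = μ • u from hμ u, T_smul_left] at h1
    rw [T_sub_right, T_smul_right, h1, add_sub_cancel_left]
  obtain ⟨v, hv⟩ : ∃ v, μ • (β : Matrix (Fin b) (Fin b) F) *ᵥ v - v ≠ 0 := by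
    by_contra hne
    push Not at hne
    obtain ⟨y, hy1, hy2, -⟩ := exists_hyp hF hw₀0 hw₀
    obtain ⟨f1, hf1⟩ := unit_self (F := F) (q := q) (m := a) (by have := hS.two; omega)
    have hf10 : f1 ≠ 0 := fun h => one_ne_zero (by rw [← hf1, h, zero_l hF])
    have hlin : ∀ x, c • (g : Matrix (Fin n) (Fin n) F) *ᵥ
        T e (cW e q w₀ (((g⁻¹ : GL (Fin n) F) : Matrix (Fin n) (Fin n) F) *ᵥ x)) w₀ = 0 := fun x =>
      LinearMap.congr_fun (lin_ext e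
        (S := c • (Matrix.mulVecLin (g : Matrix (Fin n) (Fin n) F) ∘ₗ TL e w₀ ∘ₗ cW e q w₀ ∘ₗ
          Matrix.mulVecLin ((g⁻¹ : GL (Fin n) F) : Matrix (Fin n) (Fin n) F))) (S' := 0) fun u v => by
        show c • (g : Matrix (Fin n) (Fin n) F) *ᵥ
          T e (cW e q w₀ (((g⁻¹ : GL (Fin n) F) : Matrix (Fin n) (Fin n) F) *ᵥ T e u v)) w₀ = 0
        rw [hkey, hne, T_zero_right]) x
    have h1 := hlin ((g : Matrix (Fin n) (Fin n) F) *ᵥ T e f1 y)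
    rw [inv_mulVec_mulVec, cW_T e hF, hy2, one_smul, smul_eq_zero] at h1
    have h2 := congrArg (fun z => ((g⁻¹ : GL (Fin n) F) : Matrix (Fin n) (Fin n) F) *ᵥ z) (h1.resolve_left hc0)
    simp only [inv_mulVec_mulVec, Matrix.mulVec_zero] at h2
    exact hf10 (T_eq_zero e h2 hw₀0)
  set z := μ • (β : Matrix (Fin b) (Fin b) F) *ᵥ v - v with hz
  have hgz : ∀ f, ∃ f', ((g⁻¹ : GL (Fin n) F) : Matrix (Fin n) (Fin n) F) *ᵥ T e f z = T e f' w₀ := fun f =>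
    ⟨c • cW e q w₀ (((g⁻¹ : GL (Fin n) F) : Matrix (Fin n) (Fin n) F) *ᵥ T e f v), by
      rw [hz, ← hkey, Matrix.mulVec_smul, inv_mulVec_mulVec, T_smul_left]⟩
  obtain ⟨f1, hf1⟩ := unit_self (F := F) (q := q) (m := a) (by have := hS.two; omega)
  have hzi : ⟪z, z⟫ = 0 := by
    obtain ⟨f', hf'⟩ := hgz f1
    have h1 := mem_GU.1 ((Cfsg.GU n F q).inv_mem (hS.sub hg).1) (T e f1 z) (T e f1 z)
    rw [hf', herm_T e hF, herm_T e hF, hw₀, mul_zero, hf1, one_mul] at h1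
    exact h1.symm
  have := fix_mem hF hS hOS (hS.isExt hF (M.inv_mem hg)) hv hzi hw₀0 hw₀ hgz
  exact (inv_mem_iff).1 this

lemma con_root {g B : GL (Fin n) F} {w₀ : Fin b → F} (hw₀ : ⟪w₀, w₀⟫ = 0) {c : F}
    (hBx : ∀ x, (B : Matrix (Fin n) (Fin n) F) *ᵥ x = x + c • (g : Matrix (Fin n) (Fin n) F) *ᵥ
      T e (cW e q w₀ (((g⁻¹ : GL (Fin n) F) : Matrix (Fin n) (Fin n) F) *ᵥ x)) w₀) (x : Fin n → F) :
    ((B⁻¹ : GL (Fin n) F) : Matrix (Fin n) (Fin n) F) *ᵥ x = x - c • (g : Matrix (Fin n) (Fin n) F) *ᵥ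
      T e (cW e q w₀ (((g⁻¹ : GL (Fin n) F) : Matrix (Fin n) (Fin n) F) *ᵥ x)) w₀ := by
  set N := c • (g : Matrix (Fin n) (Fin n) F) *ᵥ
    T e (cW e q w₀ (((g⁻¹ : GL (Fin n) F) : Matrix (Fin n) (Fin n) F) *ᵥ x)) w₀ with hN
  have h1 : (B : Matrix (Fin n) (Fin n) F) *ᵥ (x - N) = x := by
    rw [hBx, Matrix.mulVec_sub, map_sub, hN, Matrix.mulVec_smul, inv_mulVec_mulVec, map_smul, cW_T0 e hF hw₀,
      smul_zero, sub_zero, sub_add_cancel]
  conv_lhs => rw [← h1]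
  rw [inv_mulVec_mulVec]

section maxk

variable {k : ℕ} (hNB : NoBigger q e M k)
include hNB

lemma ker_le {g : GL (Fin n) F} (hg : g ∈ M) (hgK : g ∉ kron F e) {w₀ : Fin b → F} (hw₀0 : w₀ ≠ 0)
    (hw₀ : ⟪w₀, w₀⟫ = 0) {v : Fin b → F} (hv0 : v ≠ 0) (hv : ⟪v, v⟫ = 0) :
    Module.finrank F (LinearMap.ker (con q e g w₀ v)) ≤ k := by
  by_contra hlt
  obtain ⟨c, hc0, hc⟩ := skew_exists hF
  obtain ⟨B, hB, hBK, hBx⟩ := exists_root hF hS hOS hg hgK hw₀0 hw₀ hc hc0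
  refine hNB _ (not_le.1 hlt) ⟨B, hB, hBK, v, v, hv0, hv, hv0, hv, _, le_rfl, fun p hp => ⟨p, ?_⟩⟩
  rw [hBx, ← con_apply, LinearMap.mem_ker.1 hp, T_zero_left, Matrix.mulVec_zero, smul_zero, add_zero]

lemma sharp {g : GL (Fin n) F} (hg : g ∈ M) (hgK : g ∉ kron F e) {w₀ : Fin b → F} (hw₀0 : w₀ ≠ 0)
    (hw₀ : ⟪w₀, w₀⟫ = 0) {v : Fin b → F} (hv0 : v ≠ 0) (hv : ⟪v, v⟫ = 0) {P : Submodule F (Fin a → F)}
    (hP : k ≤ Module.finrank F P) (hPv : ∀ p ∈ P, cW e q v ((g : Matrix (Fin n) (Fin n) F) *ᵥ T e p w₀) = 0) :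
    Module.finrank F P = k ∧ Module.finrank F (LinearMap.ker (con q e g w₀ v)) = k ∧
      LinearMap.range (con q e g w₀ v) = perp q P := by
  have hle : LinearMap.range (con q e g w₀ v) ≤ perp q P := by
    rintro _ ⟨f, rfl⟩ p hp
    rw [herm_con hF (hS.sub hg).1, hPv p hp, zero_r hF]
  have h1 := (con q e g w₀ v).finrank_range_add_finrank_ker
  rw [Module.finrank_fin_fun] at h1
  have h2 := finrank_perp hF P
  have h3 := Submodule.finrank_mono hle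
  have h4 := ker_le hF hS hOS hNB hg hgK hw₀0 hw₀ hv0 hv
  exact ⟨by omega, by omega, Submodule.eq_of_le_of_finrank_le hle (by omega)⟩

lemma nondeg {g : GL (Fin n) F} (hg : g ∈ M) (hgK : g ∉ kron F e) {w₀ : Fin b → F} (hw₀0 : w₀ ≠ 0)
    (hw₀ : ⟪w₀, w₀⟫ = 0) {v : Fin b → F} (hv0 : v ≠ 0) (hv : ⟪v, v⟫ = 0) {P : Submodule F (Fin a → F)}
    (hP : k ≤ Module.finrank F P) (hPv : ∀ p ∈ P, cW e q v ((g : Matrix (Fin n) (Fin n) F) *ᵥ T e p w₀) = 0)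
    {r : Fin a → F} (hr : r ∈ P) (hr' : r ∈ perp q P) : r = 0 := by
  by_contra hr0
  obtain ⟨-, hker, hran⟩ := sharp hF hS hOS hNB hg hgK hw₀0 hw₀ hv0 hv hP hPv
  obtain ⟨c, hc0, hc⟩ := skew_exists hF
  obtain ⟨B, hB, hBK, hBx⟩ := exists_root hF hS hOS hg hgK hw₀0 hw₀ hc hc0
  have h1 : ∀ f, con q e B v v f = (-c) • cW e q v ((g : Matrix (Fin n) (Fin n) F) *ᵥ T e (con q e g w₀ v f) w₀) :=
    fun f => by
      rw [con_apply, con_root hF hS hOS hw₀ hBx, map_sub, cW_T0 e hF hv, zero_sub, map_smul, ← con_apply, neg_smul]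
  obtain ⟨f₀, hf₀⟩ : r ∈ LinearMap.range (con q e g w₀ v) := hran ▸ hr'
  have hsub : LinearMap.ker (con q e g w₀ v) < LinearMap.ker (con q e B v v) := by
    refine lt_of_le_of_ne (fun f hf => ?_) fun heq => ?_
    · rw [LinearMap.mem_ker, h1, LinearMap.mem_ker.1 hf, T_zero_left, Matrix.mulVec_zero, map_zero, smul_zero]
    · have h2 : f₀ ∈ LinearMap.ker (con q e g w₀ v) := heq ▸ LinearMap.mem_ker.2 (by
        rw [h1, hf₀, hPv r hr, smul_zero])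
      exact hr0 (by rw [← hf₀, LinearMap.mem_ker.1 h2])
  have h2 := Submodule.finrank_lt_finrank_of_lt hsub
  have h3 := ker_le hF hS hOS hNB hB hBK hv0 hv hv0 hv
  omega

end maxk

/-- The conjugation between two opposite root groups. -/
lemma sylow_step {g : GL (Fin n) F} (hg : g ∈ M) (hgK : g ∉ kron F e) {w₀ z : Fin b → F} (hw₀0 : w₀ ≠ 0)
    (hw₀ : ⟪w₀, w₀⟫ = 0) (hz0 : z ≠ 0) (hz : ⟪z, z⟫ = 0) {P : Submodule F (Fin a → F)}
    (hPt : Module.finrank F P < a) (hran : LinearMap.range (con q e g w₀ z) = perp q P)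
    (hPn : ∀ r ∈ P, r ∈ perp q P → r = 0)
    (hKn : ∀ r ∈ LinearMap.ker (con q e g w₀ z), r ∈ perp q (LinearMap.ker (con q e g w₀ z)) → r = 0) :
    ∃ h ∈ M, (∀ x, cW e q z x = 0 → cW e q w₀ (((g⁻¹ : GL (Fin n) F) : Matrix (Fin n) (Fin n) F) *ᵥ x) = 0 →
        (h : Matrix (Fin n) (Fin n) F) *ᵥ x = x) ∧
      ∃ f' ∈ perp q P, f' ≠ 0 ∧ ∃ p, p ≠ 0 ∧
        (h : Matrix (Fin n) (Fin n) F) *ᵥ T e p z = (g : Matrix (Fin n) (Fin n) F) *ᵥ T e f' w₀ := by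
  classical
  obtain ⟨c, hc0, hc⟩ := skew_exists hF
  obtain ⟨τ, hτ, hτx⟩ := exists_tv e hF hz hc
  obtain ⟨B, hB, hBK, hBx⟩ := exists_root hF hS hOS hg hgK hw₀0 hw₀ hc hc0
  set Cz := con q e g w₀ z with hCz
  let K := LinearMap.ker Cz
  let GT := Matrix.mulVecLin (g : Matrix (Fin n) (Fin n) F) ∘ₗ TL e w₀
  let X1 : Submodule F (Fin n → F) := (perp q K).map (TL e z) ⊔ (perp q P).map GT
  let Fix : Subgroup (GL (Fin n) F) :=
    { carrier := {h | ∀ x, cW e q z x = 0 → cW e q w₀ (((g⁻¹ : GL (Fin n) F) : Matrix (Fin n) (Fin n) F) *ᵥ x) = 0 →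
        (h : Matrix (Fin n) (Fin n) F) *ᵥ x = x}
      mul_mem' := fun {h h'} hh hh' x h1 h2 => by rw [mul_mulVec, hh' x h1 h2, hh x h1 h2]
      one_mem' := fun x _ _ => by simp
      inv_mem' := fun {h} hh x h1 h2 => by
        conv_lhs => rw [← hh x h1 h2]
        rw [inv_mulVec_mulVec] }
  have hτFix : τ ∈ Fix := fun x h1 _ => by rw [hτx, h1, T_zero_left, smul_zero, add_zero]
  have hBFix : B ∈ Fix := fun x _ h2 => by rw [hBx, h2, T_zero_left, Matrix.mulVec_zero, smul_zero, add_zero]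
  have hadj : ∀ f, cW e q z ((g : Matrix (Fin n) (Fin n) F) *ᵥ T e f w₀) ∈ perp q K := fun f y hy => by
    refine swap0 hF ?_
    rw [← herm_con hF (hS.sub hg).1, ← hCz, LinearMap.mem_ker.1 hy, zero_l hF]
  have hmem : ∀ x ∈ X1, ∃ f1 ∈ perp q K, ∃ f2 ∈ perp q P,
      x = T e f1 z + (g : Matrix (Fin n) (Fin n) F) *ᵥ T e f2 w₀ := fun x hx => by
    obtain ⟨_, ⟨f1, hf1, rfl⟩, _, ⟨f2, hf2, rfl⟩, rfl⟩ := Submodule.mem_sup.1 hx
    exact ⟨f1, hf1, f2, hf2, rfl⟩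
  have hτX : τ ∈ subspaceStabilizer X1 := mem_subspaceStabilizer.2 fun x hx => by
    obtain ⟨f1, hf1, f2, hf2, rfl⟩ := hmem x hx
    rw [hτx, map_add, cW_T0 e hF hz, zero_add]
    exact X1.add_mem hx (X1.smul_mem _ (Submodule.mem_sup_left ⟨_, hadj f2, rfl⟩))
  have hBX : B ∈ subspaceStabilizer X1 := mem_subspaceStabilizer.2 fun x hx => by
    obtain ⟨f1, hf1, f2, hf2, rfl⟩ := hmem x hx
    rw [hBx, Matrix.mulVec_add, inv_mulVec_mulVec, map_add, cW_T0 e hF hw₀, add_zero, ← con_apply]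
    refine X1.add_mem hx (X1.smul_mem _ (Submodule.mem_sup_right ⟨con q e g w₀ z f1, ?_, rfl⟩))
    rw [← hran]; exact ⟨f1, rfl⟩
  let H : Subgroup (GL (Fin n) F) := M ⊓ subspaceStabilizer X1 ⊓ Fix
  have hτH : τ ∈ H := ⟨⟨hS.le hτ, hτX⟩, hτFix⟩
  have hBH : B ∈ H := ⟨⟨hB, hBX⟩, hBFix⟩
  haveI : Fintype F := Fintype.ofFinite F
  obtain ⟨p, hp⟩ := CharP.exists F
  obtain ⟨m, hpp, hcard⟩ := FiniteField.card F p
  haveI : Fact p.Prime := ⟨hpp⟩
  have hpg : ∀ h : GL (Fin n) F, (∀ x, ∃ d, (h : Matrix (Fin n) (Fin n) F) *ᵥ x = x + d ∧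
      (h : Matrix (Fin n) (Fin n) F) *ᵥ d = d) → h ^ p = 1 := by
    intro h hh
    refine gl_ext_mulVec fun x => ?_
    obtain ⟨d, hd, hdd⟩ := hh x
    have : ∀ i : ℕ, ((h ^ i : GL (Fin n) F) : Matrix (Fin n) (Fin n) F) *ᵥ x = x + (i : F) • d := by
      intro i
      induction i with
      | zero => simp
      | succ i ih =>
        rw [pow_succ', mul_mulVec, ih, Matrix.mulVec_add, Matrix.mulVec_smul, hd, hdd]
        push_cast
        module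
    rw [this, CharP.cast_eq_zero, zero_smul, add_zero, Units.val_one, Matrix.one_mulVec]
  have hτp : τ ^ p = 1 := hpg τ fun x => ⟨_, hτx x, by
    rw [hτx, map_smul, cW_T0 e hF hz, smul_zero, T_zero_left, smul_zero, add_zero]⟩
  have hBp : B ^ p = 1 := hpg B fun x => ⟨_, hBx x, by
    rw [hBx, Matrix.mulVec_smul, inv_mulVec_mulVec, map_smul, cW_T0 e hF hw₀, smul_zero, T_zero_left,
      Matrix.mulVec_zero, smul_zero, add_zero]⟩
  have hzp : ∀ y : H, y ^ p = 1 → ∃ Q : Sylow p H, y ∈ Q := fun y hy => by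
    have hz' : IsPGroup p (Subgroup.zpowers y) := fun x => ⟨1, Subtype.ext (by
      obtain ⟨i, hi⟩ := Subgroup.mem_zpowers_iff.1 x.2
      simp only [pow_one, Subgroup.coe_pow, ← hi, Subgroup.coe_one]
      rw [← zpow_natCast, ← _root_.zpow_mul, mul_comm, _root_.zpow_mul, zpow_natCast, hy, _root_.one_zpow])⟩
    obtain ⟨Q, hQ⟩ := hz'.exists_le_sylow
    exact ⟨Q, hQ (Subgroup.mem_zpowers y)⟩
  obtain ⟨P1, hP1⟩ := hzp ⟨τ, hτH⟩ (Subtype.ext hτp)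
  obtain ⟨P2, hP2⟩ := hzp ⟨B, hBH⟩ (Subtype.ext hBp)
  obtain ⟨h, hh⟩ := MulAction.exists_smul_eq H P1 P2
  letI : MulAction P1 X1 :=
    { smul := fun y x => ⟨(((y : H) : GL (Fin n) F) : Matrix (Fin n) (Fin n) F) *ᵥ (x : Fin n → F),
        mem_subspaceStabilizer.1 (y : H).2.1.2 _ x.2⟩
      one_smul := fun x => Subtype.ext (Matrix.one_mulVec _)
      mul_smul := fun y y' x => Subtype.ext (mul_mulVec _ _ _) }
  have hX0 : 0 < Module.finrank F X1 := by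
    rw [Module.finrank_pos_iff]
    refine Submodule.nontrivial_iff_ne_bot.2 fun hbot => ?_
    obtain ⟨f, hf, hf0⟩ := (Submodule.ne_bot_iff (perp q P)).1 fun hb => by
      have h2 := finrank_perp hF P
      rw [hb, finrank_bot] at h2
      omega
    have h1 : GT f ∈ X1 := Submodule.mem_sup_right ⟨f, hf, rfl⟩
    rw [hbot, Submodule.mem_bot] at h1
    have h2 := congrArg (fun y => ((g⁻¹ : GL (Fin n) F) : Matrix (Fin n) (Fin n) F) *ᵥ y) h1
    simp only [GT, LinearMap.comp_apply, Matrix.mulVecLin_apply, inv_mulVec_mulVec, Matrix.mulVec_zero] at h2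
    exact hf0 (T_eq_zero e h2 hw₀0)
  have hdvd : p ∣ Nat.card X1 := by
    rw [Module.natCard_eq_pow_finrank (K := F), Nat.card_eq_fintype_card, hcard, ← pow_mul]
    exact dvd_pow_self p (by have := m.pos; positivity)
  obtain ⟨x, hx, hx0⟩ := P1.2.exists_fixed_point_of_prime_dvd_card_of_fixed_point X1 hdvd (a := (0 : X1))
    fun y => Subtype.ext (Matrix.mulVec_zero (((y : H) : GL (Fin n) F) : Matrix (Fin n) (Fin n) F))
  have hfix : ∀ y : P1, (((y : H) : GL (Fin n) F) : Matrix (Fin n) (Fin n) F) *ᵥ (x : Fin n → F) = x :=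
    fun y => congrArg Subtype.val (hx y)
  obtain ⟨f1, hf1, f2, hf2, hx12⟩ := hmem _ x.2
  -- the fixed point is pure
  have h1 := hfix ⟨⟨τ, hτH⟩, hP1⟩
  change (τ : Matrix (Fin n) (Fin n) F) *ᵥ (x : Fin n → F) = x at h1
  rw [hτx, add_eq_left, smul_eq_zero] at h1
  have h1' := T_eq_zero e (h1.resolve_left hc0) hz0
  rw [hx12, map_add, cW_T0 e hF hz, zero_add] at h1'
  have hf20 : f2 = 0 := hPn f2 (by
    rw [← le_perp_perp hF P]
    intro y hy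
    obtain ⟨f, rfl⟩ : y ∈ LinearMap.range (con q e g w₀ z) := hran ▸ hy
    refine swap0 hF ?_
    rw [herm_con hF (hS.sub hg).1, h1', zero_r hF]) hf2
  rw [hf20, T_zero_left, Matrix.mulVec_zero, add_zero] at hx12
  have hf10 : f1 ≠ 0 := fun h0 => hx0 (Subtype.ext (by rw [hx12, h0, T_zero_left]; rfl))
  -- its image is pure
  set hx' := ((h : GL (Fin n) F) : Matrix (Fin n) (Fin n) F) *ᵥ T e f1 z with hhx
  have hxX : hx' ∈ X1 := by
    rw [hhx, ← hx12]; exact mem_subspaceStabilizer.1 h.2.1.2 _ x.2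
  have hconj : (h⁻¹ * ⟨B, hBH⟩ * h : H) ∈ P1 := by
    have hB2 : (⟨B, hBH⟩ : H) ∈ (h • P1 : Sylow p H) := hh.symm ▸ hP2
    have hB3 : (⟨B, hBH⟩ : H) ∈ ((h • P1 : Sylow p H) : Subgroup H) := hB2
    rw [Sylow.coe_subgroup_smul] at hB3
    have h3 := Subgroup.mem_pointwise_smul_iff_inv_smul_mem.1 hB3
    simp [MulAut.conj_apply] at h3; exact h3
  have h4 := hfix ⟨_, hconj⟩
  have h5 : (B : Matrix (Fin n) (Fin n) F) *ᵥ hx' = hx' := by
    have h6 := congrArg (fun y => ((h : GL (Fin n) F) : Matrix (Fin n) (Fin n) F) *ᵥ y) h4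
    simp only [Subgroup.coe_mul, Subgroup.coe_inv, mul_mulVec, mulVec_inv_mulVec, hx12] at h6
    exact h6
  obtain ⟨g1, hg1, g2, hg2, hx'12⟩ := hmem _ hxX
  rw [hBx, add_eq_left, smul_eq_zero] at h5
  have h7 := congrArg (fun y => ((g⁻¹ : GL (Fin n) F) : Matrix (Fin n) (Fin n) F) *ᵥ y) (h5.resolve_left hc0)
  simp only [inv_mulVec_mulVec, Matrix.mulVec_zero] at h7
  have h8 := T_eq_zero e h7 hw₀0
  rw [hx'12, Matrix.mulVec_add, inv_mulVec_mulVec, map_add, cW_T0 e hF hw₀, add_zero, ← con_apply] at h8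
  have hg10 : g1 = 0 := hKn g1 (LinearMap.mem_ker.2 h8) hg1
  rw [hg10, T_zero_left, zero_add] at hx'12
  refine ⟨(h : GL (Fin n) F), h.2.1.1, h.2.2, g2, hg2, fun h0 => hf10 ?_, f1, hf10, hx'12⟩
  rw [h0, T_zero_left, Matrix.mulVec_zero, hhx] at hx'12
  have h9 := congrArg (fun y => (((h : GL (Fin n) F)⁻¹ : GL (Fin n) F) : Matrix (Fin n) (Fin n) F) *ᵥ y) hx'12
  simp only [inv_mulVec_mulVec, Matrix.mulVec_zero] at h9
  exact T_eq_zero e h9 hz0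

lemma not_triple_succ {k : ℕ} (hk : 1 ≤ k) (hka : k < a) (hNB : NoBigger q e M k) : ¬ Triple q e M k := by
  rintro ⟨g, hg, hgK, w₀, w, hw₀0, hw₀, hw0, hw, P, hP, hPu⟩
  have hPv : ∀ v : Fin b → F, ⟪w, v⟫ = 0 → ∀ p ∈ P,
      cW e q v ((g : Matrix (Fin n) (Fin n) F) *ᵥ T e p w₀) = 0 := fun v hv p hp => by
    obtain ⟨u, hu⟩ := hPu p hp
    rw [hu, cW_T0 e hF hv]
  obtain ⟨z, hz0, hz, hzw, hzn⟩ := exists_iso_off hF hS.four hw0 hw
  have hwz := swap0 hF hzw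
  obtain ⟨hPk, hkz, hran⟩ := sharp hF hS hOS hNB hg hgK hw₀0 hw₀ hz0 hz hP (hPv z hwz)
  have hPn : ∀ r ∈ P, r ∈ perp q P → r = 0 := fun r h1 h2 =>
    nondeg hF hS hOS hNB hg hgK hw₀0 hw₀ hz0 hz hP (hPv z hwz) h1 h2
  obtain ⟨c, hc0, hc⟩ := skew_exists hF
  obtain ⟨B, hB, hBK, hBx⟩ := exists_root hF hS hOS hg hgK hw₀0 hw₀ hc hc0
  have hKn : ∀ r ∈ LinearMap.ker (con q e g w₀ z), r ∈ perp q (LinearMap.ker (con q e g w₀ z)) → r = 0 :=
    fun r h1 h2 => nondeg hF hS hOS hNB hB hBK hz0 hz hz0 hz (le_of_eq hkz.symm) (fun p hp => by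
      rw [hBx, ← con_apply, LinearMap.mem_ker.1 hp, T_zero_left, Matrix.mulVec_zero, smul_zero, add_zero,
        cW_T0 e hF hz]) h1 h2
  obtain ⟨h, hh, hfix, f', hf', hf'0, p, hp0, hhp⟩ :=
    sylow_step hF hS hOS hg hgK hw₀0 hw₀ hz0 hz (by omega) hran hPn hKn
  set Y := h⁻¹ * g with hY
  have hYf : (Y : Matrix (Fin n) (Fin n) F) *ᵥ T e f' w₀ = T e p z := by
    rw [hY, mul_mulVec, ← hhp, inv_mulVec_mulVec]
  have hYP : ∀ p₀ ∈ P, (Y : Matrix (Fin n) (Fin n) F) *ᵥ T e p₀ w₀ = (g : Matrix (Fin n) (Fin n) F) *ᵥ T e p₀ w₀ :=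
    fun p₀ hp₀ => by
      have h1 := hfix _ (hPv z hwz p₀ hp₀) (by rw [inv_mulVec_mulVec, cW_T0 e hF hw₀])
      rw [hY, mul_mulVec]
      conv_lhs => rw [← h1]
      rw [inv_mulVec_mulVec]
  have hYM : Y ∈ M := M.mul_mem (M.inv_mem hh) hg
  have hYK : Y ∉ kron F e := by
    intro hYK
    obtain ⟨α, β, hab⟩ := (mem_kron_iff e).1 hYK
    obtain ⟨p₀, hp₀, hp₀0⟩ := (Submodule.ne_bot_iff P).1 fun e' => by rw [e', finrank_bot] at hPk; omega
    obtain ⟨u, hu⟩ := hPu p₀ hp₀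
    rw [← hYP p₀ hp₀, hab] at hu
    rw [hab] at hYf
    have hne : ∀ {f : Fin a → F}, f ≠ 0 → (α : Matrix (Fin a) (Fin a) F) *ᵥ f ≠ 0 := fun {f} hf h0 => hf (by
      rw [← inv_mulVec_mulVec α f, h0, Matrix.mulVec_zero])
    obtain ⟨y, hyw, hzy⟩ := exists_form_of_notMem hF (F ∙ w) hzn
    have e1 := congrArg (cW e q y) hu
    have e2 := congrArg (cW e q y) hYf
    rw [cW_T e hF, cW_T e hF, swap0 hF (hyw w (Submodule.mem_span_singleton_self w)), zero_smul, smul_eq_zero] at e1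
    rw [cW_T e hF, cW_T e hF, hzy, e1.resolve_right (hne hp₀0), zero_smul, one_smul] at e2
    exact hp0 e2.symm
  have hf'P : f' ∉ P := fun hm => hf'0 (hPn f' hm hf')
  have hlt : P < P ⊔ F ∙ f' := lt_of_le_of_ne le_sup_left fun heq =>
    hf'P (heq ▸ Submodule.mem_sup_right (Submodule.mem_span_singleton_self f'))
  have h1 := Submodule.finrank_lt_finrank_of_lt hlt
  have h2 := (sharp hF hS hOS hNB hYM hYK hw₀0 hw₀ hw0 hw (P := P ⊔ F ∙ f') (by omega) (fun r hr => by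
    obtain ⟨p₀, hp₀, _, hy, rfl⟩ := Submodule.mem_sup.1 hr
    obtain ⟨μ, rfl⟩ := Submodule.mem_span_singleton.1 hy
    rw [T_add_left, T_smul_left, Matrix.mulVec_add, Matrix.mulVec_smul, hYP p₀ hp₀, hYf, map_add, map_smul,
      hPv w hw p₀ hp₀, cW_T0 e hF hzw, smul_zero, add_zero])).1
  omega

lemma exists_simil {α : GL (Fin a) F} {β : GL (Fin b) F} (h : kk e α β ∈ Cfsg.GU n F q) :
    ∃ σ : F, ∀ f f', ⟪(α : Matrix (Fin a) (Fin a) F) *ᵥ f, (α : Matrix (Fin a) (Fin a) F) *ᵥ f'⟫ = σ * ⟪f, f'⟫ := by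
  obtain ⟨v, hv⟩ := unit_self (F := F) (q := q) (m := b) (by have := hS.four; omega)
  refine ⟨⟪(β : Matrix (Fin b) (Fin b) F) *ᵥ v, (β : Matrix (Fin b) (Fin b) F) *ᵥ v⟫⁻¹, fun f f' => ?_⟩
  have h1 := mem_GU.1 h (T e f v) (T e f' v)
  rw [kk_T, kk_T, herm_T e hF, herm_T e hF, hv, mul_one] at h1
  rcases eq_or_ne ⟪(β : Matrix (Fin b) (Fin b) F) *ᵥ v, (β : Matrix (Fin b) (Fin b) F) *ᵥ v⟫ 0 with h0 | h0
  · obtain ⟨f1, hf1⟩ := unit_self (F := F) (q := q) (m := a) (by have := hS.two; omega)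
    have h2 := mem_GU.1 h (T e f1 v) (T e f1 v)
    rw [kk_T, herm_T e hF, herm_T e hF, hv, hf1, h0, mul_zero, one_mul] at h2
    exact absurd h2 zero_ne_one
  · rw [← h1]; field_simp

lemma not_mem_zero (hNB : NoBigger q e M 0) {g : GL (Fin n) F} (hg : g ∈ M) (hgK : g ∉ kron F e) : False := by
  have h4 := hS.four
  have h2a := hS.two
  obtain ⟨w₀, hw₀0, hw₀⟩ := exists_iso hF (m := b) (by omega)
  have hinj : ∀ u : Fin b → F, u ≠ 0 → ⟪u, u⟫ = 0 → Function.Injective (con q e g w₀ u) := fun u hu0 hu => by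
    have h1 := ker_le hF hS hOS hNB hg hgK hw₀0 hw₀ hu0 hu
    exact LinearMap.ker_eq_bot.1 (Submodule.finrank_eq_zero.1 (Nat.le_zero.1 h1))
  have hstep : ∀ u : Fin b → F, u ≠ 0 → ⟪u, u⟫ = 0 → ∃ (h : GL (Fin n) F) (α : GL (Fin a) F) (β : GL (Fin b) F),
      h ∈ M ∧ (∀ x, cW e q u x = 0 → cW e q w₀ (((g⁻¹ : GL (Fin n) F) : Matrix (Fin n) (Fin n) F) *ᵥ x) = 0 →
        (h : Matrix (Fin n) (Fin n) F) *ᵥ x = x) ∧ h⁻¹ * g = kk e α β ∧
        ∃ μ : F, μ ≠ 0 ∧ (β : Matrix (Fin b) (Fin b) F) *ᵥ w₀ = μ • u := by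
    intro u hu0 hu
    have hker : LinearMap.ker (con q e g w₀ u) = ⊥ := LinearMap.ker_eq_bot.2 (hinj u hu0 hu)
    obtain ⟨-, -, hran⟩ := sharp hF hS hOS hNB hg hgK hw₀0 hw₀ hu0 hu (P := ⊥) (Nat.zero_le _) fun p hp => by
      rw [(Submodule.mem_bot F).1 hp, T_zero_left, Matrix.mulVec_zero, map_zero]
    obtain ⟨h, hh, hfix, f', -, hf'0, p, hp0, hhp⟩ := sylow_step hF hS hOS hg hgK hw₀0 hw₀ hu0 hu
      (P := ⊥) (by rw [finrank_bot]; omega) hran (fun r hr _ => (Submodule.mem_bot F).1 hr)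
      (fun r hr _ => by rw [hker] at hr; exact (Submodule.mem_bot F).1 hr)
    have hYf : ((h⁻¹ * g : GL (Fin n) F) : Matrix (Fin n) (Fin n) F) *ᵥ T e f' w₀ = T e p u := by
      rw [mul_mulVec, ← hhp, inv_mulVec_mulVec]
    have hYK : h⁻¹ * g ∈ kron F e := by
      by_contra hn
      refine hNB 1 zero_lt_one ⟨_, M.mul_mem (M.inv_mem hh) hg, hn, w₀, u, hw₀0, hw₀, hu0, hu, F ∙ f',
        by rw [finrank_span_singleton hf'0], fun r hr => ?_⟩
      obtain ⟨d, rfl⟩ := Submodule.mem_span_singleton.1 hr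
      exact ⟨d • p, by rw [T_smul_left, Matrix.mulVec_smul, hYf, T_smul_left]⟩
    obtain ⟨α, β, hab⟩ := exists_kk e hYK
    refine ⟨h, α, β, hh, hfix, hab, ?_⟩
    rw [hab, kk_T] at hYf
    obtain ⟨y, hy⟩ := exists_one hF hp0
    set A := (α : Matrix (Fin a) (Fin a) F) *ᵥ f' with hA
    have hA0 : A ≠ 0 := fun h0 => hf'0 (by rw [← inv_mulVec_mulVec α f', ← hA, h0, Matrix.mulVec_zero])
    have hsm : ∃ μ : F, (β : Matrix (Fin b) (Fin b) F) *ᵥ w₀ = μ • u := by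
      obtain ⟨j, hj⟩ := Function.ne_iff.1 hA0
      refine ⟨p j / A j, funext fun k => ?_⟩
      have h1 := congrFun hYf (e.symm (j, k))
      simp only [T, Tensor.ten, Function.comp_apply, Equiv.apply_symm_apply] at h1
      rw [Pi.smul_apply, smul_eq_mul]
      field_simp [show A j ≠ 0 from hj]
      linear_combination h1
    obtain ⟨μ, hμ⟩ := hsm
    refine ⟨μ, fun h0 => hw₀0 ?_, hμ⟩
    rw [h0, zero_smul] at hμ
    rw [← inv_mulVec_mulVec β w₀, hμ, Matrix.mulVec_zero]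
  -- two independent isotropic vectors
  obtain ⟨u₁, hu₁0, hu₁⟩ := exists_iso hF (m := b) (by omega)
  obtain ⟨u₂, hu₂0, hu₂, hu21, hu₂n⟩ := exists_iso_off hF h4 hu₁0 hu₁
  have hsim : ∀ v : Fin b → F, ⟪v, v⟫ = 0 → ⟪v, u₁⟫ = 0 → v ∉ F ∙ u₁ → ∀ R : Module.End F (Fin a → F),
      (∀ f, con q e g w₀ u₁ (R f) = con q e g w₀ v f) → ∃ τ : F, ∀ f f', ⟪R f, R f'⟫ = τ * ⟪f, f'⟫ := by
    intro v hv hvu hvn R hR
    have hv0 : v ≠ 0 := fun h0 => hvn (h0 ▸ Submodule.zero_mem _)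
    obtain ⟨h₁, α₁, β₁, hh₁, hfix₁, hab₁, μ₁, hμ₁, hb₁⟩ := hstep u₁ hu₁0 hu₁
    obtain ⟨h₂, α₂, β₂, hh₂, hfix₂, hab₂, μ₂, hμ₂, hb₂⟩ := hstep v hv0 hv
    set s := h₂⁻¹ * h₁ with hs
    set α := α₂ * α₁⁻¹ with hα
    set β := β₂ * β₁⁻¹ with hβ
    have hsk : s = kk e α β := by
      have h1 : kk e α β * kk e α₁ β₁ = kk e α₂ β₂ := by
        rw [kk_mul, hα, hβ, inv_mul_cancel_right, inv_mul_cancel_right]
      rw [← hab₁, ← hab₂] at h1
      have h3 : kk e α β = h₂⁻¹ * g * (h₁⁻¹ * g)⁻¹ := eq_mul_inv_of_mul_eq h1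
      rw [h3, hs]
      group
    have hβu : (β : Matrix (Fin b) (Fin b) F) *ᵥ u₁ = (μ₂ / μ₁) • v := by
      have h2 : u₁ = μ₁⁻¹ • (β₁ : Matrix (Fin b) (Fin b) F) *ᵥ w₀ := by
        rw [hb₁, smul_smul, inv_mul_cancel₀ hμ₁, one_smul]
      conv_lhs => rw [h2, hβ, Matrix.mulVec_smul, mul_mulVec, inv_mulVec_mulVec, hb₂, smul_smul]
      rw [div_eq_inv_mul]
    obtain ⟨y, hy, huy⟩ := exists_form_of_notMem hF (F ∙ v) (off_symm hu₁0 hvn)
    have hvy : ⟪v, y⟫ = 0 := swap0 hF (hy v (Submodule.mem_span_singleton_self v))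
    have hR' : ∀ f, R f = (-⟪(β : Matrix (Fin b) (Fin b) F) *ᵥ v, y⟫) • (α : Matrix (Fin a) (Fin a) F) *ᵥ f := by
      intro f
      set x := T e (R f) u₁ - T e f v with hx
      have hfixall : cW e q w₀ (((g⁻¹ : GL (Fin n) F) : Matrix (Fin n) (Fin n) F) *ᵥ x) = 0 := by
        rw [hx, Matrix.mulVec_sub, map_sub, ← con_apply, ← con_apply, hR, sub_self]
      have e1 : (h₁ : Matrix (Fin n) (Fin n) F) *ᵥ x = x := hfix₁ x (by
        rw [hx, map_sub, cW_T0 e hF hu₁, cW_T0 e hF hvu, sub_self]) hfixall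
      have e2 : (h₂ : Matrix (Fin n) (Fin n) F) *ᵥ x = x := hfix₂ x (by
        rw [hx, map_sub, cW_T0 e hF (swap0 hF hvu), cW_T0 e hF hv, sub_self]) hfixall
      have e3 : (s : Matrix (Fin n) (Fin n) F) *ᵥ x = x := by
        rw [hs, mul_mulVec, e1]
        conv_lhs => rw [← e2]
        rw [inv_mulVec_mulVec]
      have e4 := congrArg (cW e q y) e3
      rw [hsk, hx, Matrix.mulVec_sub, kk_T, kk_T, hβu, map_sub, map_sub, cW_T e hF, cW_T e hF, cW_T e hF,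
        cW_T e hF, smul_l, hvy, huy, mul_zero, zero_smul, zero_sub, one_smul, zero_smul, sub_zero] at e4
      rw [neg_smul, e4]
    have hsU : kk e α β ∈ Cfsg.GU n F q := hsk ▸ (hS.sub (M.mul_mem (M.inv_mem hh₂) hh₁)).1
    obtain ⟨σ, hσ⟩ := exists_simil hF hS hOS hsU
    refine ⟨(-⟪(β : Matrix (Fin b) (Fin b) F) *ᵥ v, y⟫) * (-⟪(β : Matrix (Fin b) (Fin b) F) *ᵥ v, y⟫) ^ q * σ,
      fun f f' => ?_⟩
    rw [hR', hR', smul_l, smul_r hF, hσ]
    ring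
  obtain ⟨L, hL⟩ := Tensor.exists_gl (con q e g w₀ u₁) (hinj u₁ hu₁0 hu₁)
  let R : Module.End F (Fin a → F) :=
    Matrix.mulVecLin ((L⁻¹ : GL (Fin a) F) : Matrix (Fin a) (Fin a) F) ∘ₗ con q e g w₀ u₂
  have hR : ∀ f, con q e g w₀ u₁ (R f) = con q e g w₀ u₂ f := fun f => by
    rw [← hL]; exact mulVec_inv_mulVec L _
  obtain ⟨τ, hτ⟩ := hsim u₂ hu₂ hu21 hu₂n R hR
  obtain ⟨r, hr⟩ := scalar_of_sym hF R fun ξ => by
    obtain ⟨τ', hτ'⟩ := hsim (u₂ + ξ • u₁)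
      (by simp only [add_l, add_r hF, smul_l, smul_r hF, hu₂, hu₁, hu21, swap0 hF hu21]; ring)
      (by rw [add_l, smul_l, hu21, hu₁, mul_zero, add_zero])
      (fun hm => hu₂n (by
        have := Submodule.sub_mem _ hm (Submodule.smul_mem _ ξ (Submodule.mem_span_singleton_self u₁))
        rwa [add_sub_cancel_right] at this))
      (R + ξ • LinearMap.id) (fun f => by
        rw [LinearMap.add_apply, LinearMap.smul_apply, LinearMap.id_apply, map_add, map_smul, hR, con_add,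
          con_smul])
    refine ⟨τ' - τ - ξ * ξ ^ q, fun f => eq_of_forall hF fun f' => ?_⟩
    have h1 := hτ' f f'
    simp only [LinearMap.add_apply, LinearMap.smul_apply, LinearMap.id_apply, add_l, add_r hF, smul_l,
      smul_r hF, hτ] at h1
    rw [add_l, smul_l, smul_l, smul_l, adj_spec]
    linear_combination h1
  have hv : u₂ - r • u₁ ≠ 0 := fun h0 => hu₂n (Submodule.mem_span_singleton.2 ⟨r, (sub_eq_zero.1 h0).symm⟩)
  obtain ⟨f1, hf1⟩ := unit_self (F := F) (q := q) (m := a) (by omega)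
  have hf10 : f1 ≠ 0 := fun h => one_ne_zero (by rw [← hf1, h, zero_l hF])
  refine hf10 (hinj _ hv ?_ ?_)
  · simp only [sub_l hF, sub_r hF, smul_l, smul_r hF, hu₂, hu₁, hu21, swap0 hF hu21]
    ring
  · rw [map_zero, sub_eq_add_neg, ← neg_smul, con_add, con_smul, ← hR, hr, map_smul, ← add_smul, add_neg_cancel,
      zero_smul]

/-- No element lies outside the stabiliser. -/
theorem mem_kron_of_mem {g : GL (Fin n) F} (hg : g ∈ M) : g ∈ kron F e := by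
  have key : ∀ d k, a ≤ k + d → 1 ≤ k → ¬ Triple q e M k := by
    intro d
    induction d with
    | zero =>
      rintro k hk - ⟨g, hg, hgK, w₀, w, hw₀0, hw₀, hw0, hw, P, hP, hPu⟩
      have htop : P = ⊤ := Submodule.eq_top_of_finrank_eq (by
        have := Submodule.finrank_le P
        rw [Module.finrank_fin_fun] at this ⊢
        omega)
      exact hgK (fix_mem hF hS hOS (hS.isExt hF hg) hw₀0 hw₀ hw0 hw fun f => hPu f (by rw [htop]; trivial))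
    | succ d ih =>
      intro k hk hk1
      by_cases hka : a ≤ k
      · intro hT
        exact ih k (by omega) hk1 hT
      · exact not_triple_succ hF hS hOS hk1 (by omega) fun k' hk' => ih k' (by omega) (by omega)
  by_contra hgK
  exact not_mem_zero hF hS hOS (fun k' hk' => key a k' (by omega) hk') hg hgK

end CfsgLib.Geo.TensorU
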