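/-
Tensor product stabilisers in SU in the coordinates of an arbitrary decomposition of the standard form.
-/
import Cfsg.Agent.Geo.TensorUnitMaximal
import Cfsg.Agent.Geo.SubfieldOvergroup
import Cfsg.Agent.Elusive.UnitSimil

set_option autoImplicit false

namespace CfsgLib.Geo.TensorU

open Matrix Cfsg Cfsg.Geo CfsgLib.Geo CfsgLib.Geo.UTv CfsgLib.Geo.UFrame
open scoped Kronecker

variable {n a b q : ℕ} {F : Type*} [Field F] {e : Fin n ≃ Fin a × Fin b}

local notation "⟪" x ", " y "⟫" => Cfsg.hermForm _ F q x y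

variable [Finite F] (hF : Nat.card F = q ^ 2)
include hF

/-- A transvection of the whole space moving some pure tensor off the pure tensors. -/
lemma exists_not_mem (h2 : 2 ≤ a) (h4 : 2 ≤ b) (e : Fin n ≃ Fin a × Fin b) :
    ∃ g ∈ suGL n F q, g ∉ kron F e := by
  obtain ⟨w, hw0, hw⟩ := exists_iso hF (m := b) (by omega)
  obtain ⟨v, hwv, hvw, hv⟩ := exists_hyp hF hw0 hw
  obtain ⟨c, hc0, hc⟩ := skew_exists hF
  set f₁ : Fin a → F := Pi.single ⟨0, by omega⟩ 1 with hf₁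
  set f₂ : Fin a → F := Pi.single ⟨1, by omega⟩ 1 with hf₂
  have hX : ⟪T e f₁ w, T e f₁ w⟫ = 0 := by rw [herm_T e hF, hw, mul_zero]
  refine ⟨_, utv_mem hF hX hc, fun hK => ?_⟩
  obtain ⟨α, β, hab⟩ := (mem_kron_iff e).1 hK
  have h1 := hab (f₁ + f₂) v
  have h12 : ⟪f₁ + f₂, f₁⟫ = 1 := by
    rw [hf₁, hf₂, herm_single_right hF]
    simp [Pi.single_apply]
  rw [utv_mulVec hF hX, herm_T e hF, h12, hvw, mul_one, mul_one] at h1
  set f' := (α : Matrix (Fin a) (Fin a) F) *ᵥ (f₁ + f₂) with hf'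
  set v' := (β : Matrix (Fin b) (Fin b) F) *ᵥ v with hv'
  have hA := congrArg (cW e q w) h1
  have hB := congrArg (cW e q v) h1
  rw [map_add, map_smul, cW_T e hF, cW_T e hF, cW_T e hF, hvw, hw, one_smul, zero_smul, smul_zero, add_zero] at hA
  rw [map_add, map_smul, cW_T e hF, cW_T e hF, cW_T e hF, hv, hwv, zero_smul, one_smul, zero_add] at hB
  have hA0 := congrFun hA ⟨0, by omega⟩
  have hA1 := congrFun hA ⟨1, by omega⟩
  have hB0 := congrFun hB ⟨0, by omega⟩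
  have hB1 := congrFun hB ⟨1, by omega⟩
  simp only [hf₁, hf₂, Pi.add_apply, Pi.smul_apply, smul_eq_mul, Pi.single_apply, Fin.mk.injEq] at hA0 hA1 hB0 hB1
  simp only [if_true, one_ne_zero, zero_ne_one, if_false, add_zero, zero_add, mul_one, mul_zero] at hA0 hA1 hB0 hB1
  refine hc0 ?_
  have h0 : ⟪v', v⟫ = 0 := by
    rcases mul_eq_zero.1 hB1.symm with h0 | h0
    · exact h0
    · rw [h0, mul_zero] at hA1; exact absurd hA1 one_ne_zero
  rw [hB0, h0, zero_mul]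

/-- The stabiliser in standard coordinates is maximal. -/
theorem kron_maximal (h2 : 2 ≤ a) (hlt : a < b) (h4 : 4 ≤ b) (hex : ¬ (a = 2 ∧ q = 2))
    (e : Fin n ≃ Fin a × Fin b) : IsMaximalIn (suGL n F q) (kron F e ⊓ suGL n F q) := by
  refine ⟨lt_of_le_of_ne inf_le_right fun h => ?_, fun M hM hMI => ?_⟩
  · obtain ⟨g, hg, hgn⟩ := exists_not_mem hF h2 (by omega) e
    exact hgn (h.symm ▸ hg : g ∈ kron F e ⊓ suGL n F q).1
  · have hq := CfsgLib.Forms.two_le_q hF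
    have hS : Over q e M := ⟨h2, hlt, h4, by omega, hM, hMI⟩
    by_cases hle : suGL n F q ≤ M
    · exact Or.inr (le_antisymm hMI hle)
    · exact Or.inl (le_antisymm (fun g hg =>
        ⟨mem_kron_of_mem hF hS (onlyScalar_of_not_le hF hS hle) hg, hMI hg⟩) hM)

/-- The stabiliser of a tensor decomposition into hermitian forms is maximal if the one of the standard
forms is. -/
theorem tensor_unitary_maximal_of {n₁ n₂ : ℕ} (h1 : 1 ≤ n₁) (h2 : 1 ≤ n₂) (e : Fin n ≃ Fin n₁ × Fin n₂)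
    (hmax : IsMaximalIn (suGL n F q) (kron F e ⊓ suGL n F q)) (P : GL (Fin n) F)
    {f₁ : (Fin n₁ → F) → (Fin n₁ → F) → F} {f₂ : (Fin n₂ → F) → (Fin n₂ → F) → F}
    (hf₁ : Cfsg.Geo.IsUnitaryFormPow q f₁) (hf₂ : Cfsg.Geo.IsUnitaryFormPow q f₂)
    (hT : Cfsg.Geo.IsTensorFormStructure (fun x : F => x ^ q) (Cfsg.hermForm n F q) f₁ f₂ e P) :
    IsMaximalIn (suGL n F q) (tensorProductSubgroup n₁ n₂ e P ⊓ suGL n F q) := by
  classical
  obtain ⟨c, hc, hform⟩ := hT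
  obtain ⟨P₁, hP₁⟩ := CfsgLib.Elusive.UnitSimil.exists_std hF hf₁
  obtain ⟨P₂, hP₂⟩ := CfsgLib.Elusive.UnitSimil.exists_std hF hf₂
  -- forms through their Gram matrices
  have hgram : ∀ {k : ℕ} {f : (Fin k → F) → (Fin k → F) → F}, Cfsg.Geo.IsUnitaryFormPow q f → ∀ x y,
      f x y = ∑ i, ∑ j, x i * gramMatrix f i j * y j ^ q := fun {k} {f} hf x y => by
    conv_lhs => rw [pi_eq_sum_univ' x, pi_eq_sum_univ' y]
    rw [CfsgLib.Elusive.UnitSimil.sum_left hF hf]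
    refine Finset.sum_congr rfl fun i _ => ?_
    rw [CfsgLib.Elusive.UnitSimil.sum_right hF hf]
    refine Finset.sum_congr rfl fun j _ => ?_
    rw [hf.smul_left, CfsgLib.Elusive.UnitSimil.smul_right hF hf, Cfsg.Geo.gramMatrix]
    ring
  set K := kk e P₁ P₂ with hK
  set Q := P * K with hQ
  have hQT : ∀ u w u' w', ⟪(Q : Matrix (Fin n) (Fin n) F) *ᵥ T e u w, (Q : Matrix (Fin n) (Fin n) F) *ᵥ T e u' w'⟫
      = c * ⟪T e u w, T e u' w'⟫ := fun u w u' w' => by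
    rw [hQ, hK, mul_mulVec, mul_mulVec, kk_T, kk_T, herm_T e hF]
    set x := (P₁ : Matrix (Fin n₁) (Fin n₁) F) *ᵥ u with hx
    set y := (P₂ : Matrix (Fin n₂) (Fin n₂) F) *ᵥ w with hy
    set x' := (P₁ : Matrix (Fin n₁) (Fin n₁) F) *ᵥ u' with hx'
    set y' := (P₂ : Matrix (Fin n₂) (Fin n₂) F) *ᵥ w' with hy'
    refine (hform (Tensor.ten x y) (Tensor.ten x' y')).trans ?_
    congr 1
    rw [← hP₁ u u', ← hP₂ w w', ← hx, ← hy, ← hx', ← hy', hgram hf₁ x x', hgram hf₂ y y', Finset.sum_mul_sum]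
    simp only [Cfsg.Geo.formOfGram, Matrix.kroneckerMap_apply, Tensor.ten, Fintype.sum_prod_type, Finset.sum_mul_sum]
    refine Finset.sum_congr rfl fun i _ => Finset.sum_congr rfl fun k _ =>
      Finset.sum_congr rfl fun j _ => Finset.sum_congr rfl fun l _ => ?_
    ring
  obtain ⟨v₁, hv₁⟩ := unit_self (F := F) (q := q) (m := n₁) (by omega)
  obtain ⟨v₂, hv₂⟩ := unit_self (F := F) (q := q) (m := n₂) (by omega)
  have hcq : c ^ q = c := by
    have := hQT v₁ v₂ v₁ v₂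
    rw [herm_T e hF, hv₁, hv₂, one_mul, mul_one] at this
    rw [← this, self_pow hF]
  obtain ⟨l, hl⟩ := norm_exists hF hcq
  have hl0 : l ≠ 0 := fun h => hc (by rw [← hl, h, zero_mul])
  obtain ⟨D, hD⟩ := Tensor.exists_gl (l⁻¹ • (LinearMap.id : (Fin n₁ → F) →ₗ[F] (Fin n₁ → F)))
    (smul_right_injective _ (inv_ne_zero hl0))
  set R := P * (K * kk e D 1) with hR
  have hRU : R ∈ Cfsg.GU n F q := mem_GU_of_T e hF fun u w u' w' => by
    have e1 : ∀ u w, (R : Matrix (Fin n) (Fin n) F) *ᵥ T e u w = l⁻¹ • (Q : Matrix (Fin n) (Fin n) F) *ᵥ T e u w :=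
      fun u w => by
        rw [hR, hQ, ← mul_assoc, mul_mulVec, kk_T, hD, Units.val_one, Matrix.one_mulVec, LinearMap.smul_apply,
          LinearMap.id_apply, T_smul_left, Matrix.mulVec_smul]
    rw [e1, e1, smul_l, smul_r hF, hQT, ← hl, inv_pow]
    field_simp
  have hTP : tensorProductSubgroup n₁ n₂ e P = (kron F e).map (MulAut.conj R).toMonoidHom := by
    have h0 : tensorProductSubgroup n₁ n₂ e P = (kron F e).map (MulAut.conj P).toMonoidHom := rfl
    have hk : K * kk e D 1 ∈ kron F e := (kron F e).mul_mem (kk_mem e _ _) (kk_mem e _ _)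
    have h3 : (kron F e).map (MulAut.conj (K * kk e D 1)).toMonoidHom = kron F e := by
      ext x
      simp only [Subgroup.mem_map, MulEquiv.coe_toMonoidHom, MulAut.conj_apply]
      constructor
      · rintro ⟨y, hy, rfl⟩
        exact (kron F e).mul_mem ((kron F e).mul_mem hk hy) ((kron F e).inv_mem hk)
      · intro hx
        exact ⟨(K * kk e D 1)⁻¹ * x * (K * kk e D 1),
          (kron F e).mul_mem ((kron F e).mul_mem ((kron F e).inv_mem hk) hx) hk, by group⟩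
    rw [h0]
    conv_lhs => rw [← h3, Subgroup.map_map]
    congr 1
    ext x
    simp only [MonoidHom.comp_apply, MulEquiv.coe_toMonoidHom, MulAut.conj_apply, hR]
    group
  rw [hTP]
  refine isMaximalIn_conj R ?_ hmax
  ext x
  simp only [Subgroup.mem_map, MulEquiv.coe_toMonoidHom, MulAut.conj_apply]
  constructor
  · rintro ⟨y, hy, rfl⟩
    exact det_conj_GU hF hRU hy
  · intro hx
    refine ⟨R⁻¹ * x * R, ?_, by group⟩
    have := det_conj_GU hF ((Cfsg.GU n F q).inv_mem hRU) hx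
    rwa [inv_inv] at this

/-- The stabiliser of a tensor decomposition into hermitian forms is maximal. -/
theorem tensor_unitary_maximal {n₁ n₂ : ℕ} (h1 : 2 ≤ n₁) (h12 : n₁ < n₂) (h4 : 4 ≤ n₂)
    (hex : ¬ (n₁ = 2 ∧ q = 2)) (e : Fin n ≃ Fin n₁ × Fin n₂) (P : GL (Fin n) F)
    {f₁ : (Fin n₁ → F) → (Fin n₁ → F) → F} {f₂ : (Fin n₂ → F) → (Fin n₂ → F) → F}
    (hf₁ : Cfsg.Geo.IsUnitaryFormPow q f₁) (hf₂ : Cfsg.Geo.IsUnitaryFormPow q f₂)
    (hT : Cfsg.Geo.IsTensorFormStructure (fun x : F => x ^ q) (Cfsg.hermForm n F q) f₁ f₂ e P) :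
    IsMaximalIn (suGL n F q) (tensorProductSubgroup n₁ n₂ e P ⊓ suGL n F q) :=
  tensor_unitary_maximal_of hF (by omega) (by omega) e (kron_maximal hF h1 h12 h4 hex e) P hf₁ hf₂ hT

end CfsgLib.Geo.TensorU
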