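/-
Overgroups of the stabiliser of `F^3 ⊗ F^2` with a non-scalar root group at a tensor line are everything.
-/
import Cfsg.Agent.Geo.TensorUnitBlocks
import Cfsg.Agent.Geo.UnitFrameMax

set_option autoImplicit false
set_option linter.unusedSectionVars false

namespace CfsgLib.Geo.TensorU

open Matrix Cfsg Cfsg.Geo CfsgLib.Geo CfsgLib.Geo.UTv CfsgLib.Geo.UFrame

variable {n q : ℕ} {F : Type*} [Field F] {e : Fin n ≃ Fin 3 × Fin 2} {M : Subgroup (GL (Fin n) F)}

local notation "⟪" x ", " y "⟫" => Cfsg.hermForm _ F q x y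

/-- A subgroup of the special unitary group containing the stabiliser of the decomposition. -/
structure Over2 (q : ℕ) (e : Fin n ≃ Fin 3 × Fin 2) (M : Subgroup (GL (Fin n) F)) : Prop where
  three : 3 ≤ q
  le : kron F e ⊓ suGL n F q ≤ M
  sub : M ≤ suGL n F q

variable [Finite F] (hF : Nat.card F = q ^ 2)
include hF

lemma Over2.base (hS : Over2 q e M) : Base q e M :=
  ⟨by norm_num, Or.inl le_rfl, hS.le, hS.sub, fun hw0 hw _ h _ hμ => inR_scale hF hS.le hw0 hw h hμ⟩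

section gen

variable (hS : Over2 q e M) {p₀ : Fin 3 → F} {w₀ : Fin 2 → F} (hp₀0 : p₀ ≠ 0) (hp₀ : Cfsg.hermForm 3 F q p₀ p₀ = 0)
  (hw₀0 : w₀ ≠ 0) (hw₀ : Cfsg.hermForm 2 F q w₀ w₀ = 0) (h₀ : Full q M (T e p₀ w₀))
include hS hp₀0 hp₀ hw₀0 hw₀ h₀

lemma full2_pure_iso {p : Fin 3 → F} (hp : ⟪p, p⟫ = 0) {w : Fin 2 → F} (hw : ⟪w, w⟫ = 0) :
    Full q M (T e p w) := by
  rcases eq_or_ne p 0 with rfl | hp0
  · rw [T_zero_left]; exact full_zero
  rcases eq_or_ne w 0 with rfl | hw0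
  · rw [T_zero_right]; exact full_zero
  obtain ⟨α, hα, l, hl, hαp⟩ := exists_line hF hp₀0 hp₀ hp0 hp
  obtain ⟨β, hβ, l', hl', hβw⟩ := exists_line hF hw₀0 hw₀ hw0 hw
  have h1 := full_smul hF (full_conj hF hS.sub h₀ (hS.le (kk_mem_su e hF hα hβ))) (l⁻¹ * l'⁻¹)
  rw [kk_T, hαp, hβw, T_smul_left, T_smul_right, smul_smul, smul_smul] at h1
  rwa [show l⁻¹ * l'⁻¹ * l * l' = 1 by field_simp, one_smul] at h1

lemma full2_pure (f : Fin 3 → F) {w : Fin 2 → F} (hw : ⟪w, w⟫ = 0) : Full q M (T e f w) := by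
  rcases eq_or_ne w 0 with rfl | hw0
  · rw [T_zero_right]; exact full_zero
  by_cases hff : ⟪f, f⟫ = 0
  · exact full2_pure_iso hF hS hp₀0 hp₀ hw₀0 hw₀ h₀ hff hw
  obtain ⟨v, hwv, hvw, hv⟩ := exists_hyp hF hw0 hw
  obtain ⟨p, hp0, hp⟩ := exists_iso hF (m := 3) (by norm_num)
  obtain ⟨p'', h12, h21, hp''⟩ := exists_hyp hF hp0 hp
  -- an anisotropic vector off the hyperbolic plane
  obtain ⟨d, hdp, hdp'', hdd⟩ : ∃ d : Fin 3 → F, ⟪d, p⟫ = 0 ∧ ⟪d, p''⟫ = 0 ∧ ⟪d, d⟫ ≠ 0 := by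
    set W := Submodule.span F ({p, p''} : Set (Fin 3 → F)) with hW
    have h1 := finrank_perp hF W
    have h2 : Module.finrank F W ≤ 2 := by
      classical
      refine (finrank_span_le_card _).trans ?_
      simp only [Set.toFinset_insert, Set.toFinset_singleton]
      exact Finset.card_le_two
    obtain ⟨d, hd, hd0⟩ := (Submodule.ne_bot_iff (perp q W)).1 fun hb => by rw [hb, finrank_bot] at h1; omega
    have hdp : ⟪d, p⟫ = 0 := hd p (Submodule.subset_span (by simp))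
    have hdp'' : ⟪d, p''⟫ = 0 := hd p'' (Submodule.subset_span (by simp))
    refine ⟨d, hdp, hdp'', fun hdd => hd0 (eq_zero_of_forall hF fun y => ?_)⟩
    obtain ⟨y', hy'⟩ : ∃ y', y' = y - ⟪y, p''⟫ • p - ⟪y, p⟫ • p'' := ⟨_, rfl⟩
    have hmem : y' ∈ perp q W := by
      intro x hx
      obtain ⟨r, s, rfl⟩ := Submodule.mem_span_pair.1 hx
      rw [hy', add_r hF, smul_r hF, smul_r hF]
      simp only [sub_l hF, smul_l, hp, hp'', h12, h21, mul_zero, mul_one, sub_zero, sub_self, add_zero]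
    have hle : perp q W = F ∙ d := by
      refine (Submodule.eq_of_le_of_finrank_le ((Submodule.span_singleton_le_iff_mem _ _).2 hd) ?_).symm
      have h3 : 2 ≤ Module.finrank F W := by
        have hli : LinearIndependent F ![p, p''] := by
          rw [LinearIndependent.pair_iff]
          intro r s h
          have e1 := congrArg (fun z => ⟪z, p''⟫) h
          have e2 := congrArg (fun z => ⟪z, p⟫) h
          simp only [add_l, smul_l, h12, hp'', hp, h21, zero_l hF, mul_one, mul_zero, add_zero, zero_add] at e1 e2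
          exact ⟨e1, e2⟩
        have := finrank_span_eq_card hli
        rw [Matrix.range_cons_cons_empty, Fintype.card_fin] at this
        exact le_of_eq this.symm
      rw [finrank_span_singleton hd0]
      omega
    rw [hle] at hmem
    obtain ⟨r, hr⟩ := Submodule.mem_span_singleton.1 hmem
    have e : y = r • d + ⟪y, p''⟫ • p + ⟪y, p⟫ • p'' := by rw [hr, hy']; abel
    rw [e, add_r hF, add_r hF, smul_r hF, smul_r hF, smul_r hF, hdd, hdp, hdp'']
    ring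
  obtain ⟨k, hk0, hk⟩ := skew_exists hF
  obtain ⟨s, hs, hs0, hs1⟩ := exists_fixed_ne_one hF hS.three
  obtain ⟨ζ, hζ⟩ := moved_exists hF
  obtain ⟨p', hp'def⟩ : ∃ p', p' = (k ^ q) • p'' := ⟨_, rfl⟩
  have hκ : ⟪p, p'⟫ = k := by rw [hp'def, smul_r hF, h12, CfsgLib.Forms.pow_q_q hF, mul_one]
  have hκ' : ⟪p', p⟫ = -k := by rw [swap hF p p', hκ, eq_neg_of_add_eq_zero_right hk]
  have hp'i : ⟪p', p'⟫ = 0 := by rw [hp'def, smul_l, smul_r hF, hp'', mul_zero, mul_zero]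
  have hdp' : ⟪d, p'⟫ = 0 := by rw [hp'def, smul_r hF, hdp'', mul_zero]
  -- an isotropic `r` meeting `p'` skewly with `p + r` anisotropic
  set α := -s with hα
  have hαq : α ^ q = α := by rw [hα, pow_neg hF, hs]
  have hα0 : α ≠ 0 := neg_ne_zero.2 hs0
  obtain ⟨γ, hγ⟩ := norm_exists hF (t := -(α * k * (ζ ^ q - ζ)) / ⟪d, d⟫) (by
    rw [div_pow, self_pow hF, pow_neg hF, mul_pow, mul_pow, pow_sub hF, hαq, CfsgLib.Forms.pow_q_q hF,
      eq_neg_of_add_eq_zero_right hk]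
    ring)
  obtain ⟨r, hr⟩ : ∃ r, r = α • p + ζ • p' + γ • d := ⟨_, rfl⟩
  have hri : ⟪r, r⟫ = 0 := by
    simp only [hr, add_l, add_r hF, smul_l, smul_r hF, hp, hp'i, hκ, hκ', hdp, hdp', swap0 hF hdp, swap0 hF hdp',
      hαq, mul_zero, add_zero, zero_add]
    rw [eq_div_iff hdd] at hγ
    linear_combination hγ
  have hrp' : ⟪r, p'⟫ = α * k := by
    rw [hr, add_l, add_l, smul_l, smul_l, smul_l, hκ, hp'i, hdp', mul_zero, mul_zero, add_zero, add_zero]
  have hrp : ⟪r, p⟫ = -(ζ * k) := by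
    rw [hr, add_l, add_l, smul_l, smul_l, smul_l, hp, hκ', hdp]; ring
  have hP := fun {f₁ : Fin 3 → F} {w₁ : Fin 2 → F} (h₁ : ⟪f₁, f₁⟫ = 0) (h₂ : ⟪w₁, w₁⟫ = 0) =>
    full2_pure_iso hF hS hp₀0 hp₀ hw₀0 hw₀ h₀ h₁ h₂
  have hX := full_add_smul hF hS.sub (hP hp hw) (hP hp'i hv)
    (by rw [herm_T e hF, hκ', hvw, mul_one]; exact neg_ne_zero.2 hk0) 1 (by
      simp only [one_smul, add_l, add_r hF, herm_T e hF, hκ, hκ', hv, hw, hp, hp'i, hvw, hwv]
      ring)
  rw [one_smul] at hX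
  have hpr : ⟪p, r⟫ = ζ ^ q * k := by
    rw [swap hF r p, hrp, pow_neg hF, mul_pow, eq_neg_of_add_eq_zero_right hk]; ring
  have hp'r : ⟪p', r⟫ = -(α * k) := by
    rw [swap hF r p', hrp', mul_pow, hαq, eq_neg_of_add_eq_zero_right hk]; ring
  have hY := full_add_smul hF hS.sub (hP hri hw) hX (by
    rw [add_l, herm_T e hF, herm_T e hF, hw, hvw, hp'r, mul_zero, add_zero, mul_one]
    exact neg_ne_zero.2 (mul_ne_zero hα0 hk0)) 1 (by
      simp only [one_smul, add_l, add_r hF, herm_T e hF, hκ, hκ', hv, hw, hp, hp'i, hvw, hwv, hrp', hp'r, hri]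
      ring)
  rw [one_smul] at hY
  obtain ⟨f₁, hf₁⟩ : ∃ f₁, f₁ = p + r := ⟨_, rfl⟩
  have hf₁f : ⟪f₁, f₁⟫ ≠ 0 := by
    rw [hf₁, add_l, add_r hF, add_r hF, hp, hpr, hrp, hri]
    ring_nf
    rw [show -(ζ * k) + ζ ^ q * k = (ζ ^ q - ζ) * k by ring]
    exact mul_ne_zero (sub_ne_zero.2 hζ) hk0
  have hf₁p' : ⟪f₁, p'⟫ ≠ 0 := by
    rw [hf₁, add_l, hκ, hrp', hα]
    intro h0
    exact hs1 (mul_right_cancel₀ hk0 (by linear_combination -h0))
  have hfull : Full q M (T e f₁ w) := by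
    have e1 : T e p' v + T e p w + T e r w = T e f₁ w + T e p' v := by rw [hf₁, T_add_left]; abel
    rw [e1] at hY
    have h1 := full_add_smul hF hS.sub (hP hp'i hv) hY (by
      rw [add_l, herm_T e hF, herm_T e hF, hwv, hv, mul_one, mul_zero, add_zero]
      exact hf₁p') (-1) (by
        rw [neg_one_smul, add_neg_cancel_right, herm_T e hF, hw, mul_zero])
    rwa [neg_one_smul, add_neg_cancel_right] at h1
  -- transport to `f`
  have hff1 : ⟪f, f⟫ ^ q = ⟪f, f⟫ := self_pow hF f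
  obtain ⟨l, hl⟩ := norm_exists hF (t := ⟪f, f⟫ / ⟪f₁, f₁⟫) (by rw [div_pow, self_pow hF, self_pow hF])
  have hl0 : l ≠ 0 := fun h => by
    rw [h, zero_mul] at hl
    exact div_ne_zero hff hf₁f hl.symm
  have hnd : IsNondegenerateOn (Cfsg.hermForm 3 F q) (⊤ : Submodule F (Fin 3 → F)) := fun x _ hx => by
    obtain ⟨⟨y, hy⟩, z, hz⟩ := (isUnitaryForm hF (n := 3)).nondegenerate x hx
    exact ⟨⟨y, Submodule.mem_top, hy⟩, z, Submodule.mem_top, hz⟩
  obtain ⟨g, hg, hgd, hgf⟩ := exists_map_vec hF hnd (by rw [finrank_top, Module.finrank_fin_fun]; norm_num)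
    (w := l • f₁) (w' := f) Submodule.mem_top Submodule.mem_top (by
      rw [smul_l, smul_r hF, ← mul_assoc, hl, div_mul_cancel₀ _ hf₁f]) (by
      rw [smul_l, smul_r hF, ← mul_assoc, hl, div_mul_cancel₀ _ hf₁f]; exact hff)
  have h5 := full_smul hF (full_conj hF hS.sub hfull
    (hS.le (kk_mem_su e hF (α := g) ⟨hg.1, mem_specialLinear.2 hgd⟩ (one_mem (suGL 2 F q))))) l
  rwa [kk_T, Units.val_one, Matrix.one_mulVec, ← T_smul_left, ← Matrix.mulVec_smul, hgf] at h5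

/-- `M` is everything. -/
theorem le_of_full2 : suGL n F q ≤ M := by
  have hn : n = 6 := by simpa using Fintype.card_congr e
  obtain ⟨v, hwv, hvw, hv⟩ := exists_hyp hF hw₀0 hw₀
  have hp : Hyp q w₀ v := ⟨hw₀, hv, hwv, hvw⟩
  have hP := fun (f : Fin 3 → F) {w : Fin 2 → F} (h : ⟪w, w⟫ = 0) => full2_pure hF hS hp₀0 hp₀ hw₀0 hw₀ h₀ f h
  refine suGL_le_of_full hF (by omega) fun x hx => ?_
  rw [← Hyp.decomp hF hp (e := e) x] at hx ⊢
  set a := cW e q v x
  set b := cW e q w₀ x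
  by_cases hab : ⟪a, b⟫ = 0
  swap
  · have h1 := full_add_smul hF hS.sub (hP b hv) (hP a hw₀) (by rw [herm_T e hF, hwv, mul_one]; exact hab) 1
      (by rwa [one_smul])
    rwa [one_smul] at h1
  rcases eq_or_ne a 0 with ha0 | ha0
  · rw [ha0, T_zero_left, zero_add]; exact hP b hv
  obtain ⟨y, hy⟩ := exists_one hF ha0
  obtain ⟨k, hk0, hk⟩ := skew_exists hF
  set z := (k ^ q) • y with hz
  have haz : ⟪a, z⟫ = k := by rw [hz, smul_r hF, hy, CfsgLib.Forms.pow_q_q hF, mul_one]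
  have hza : ⟪z, a⟫ = -k := by rw [swap hF a z, haz, eq_neg_of_add_eq_zero_right hk]
  have h1 := full_add_smul hF hS.sub (hP z hv) (hP a hw₀) (by rw [herm_T e hF, hwv, haz, mul_one]; exact hk0) 1 (by
    simp only [one_smul, add_l, add_r hF, herm_T e hF, hw₀, hv, hwv, hvw, haz, hza]; ring)
  rw [one_smul] at h1
  have e1 : T e a w₀ + T e z v + T e (b - z) v = T e a w₀ + T e b v := by rw [T_sub_left]; abel
  have h2 := full_add_smul hF hS.sub (hP (b - z) hv) h1 (by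
    rw [add_l, herm_T e hF, herm_T e hF, hv, hwv, sub_r hF, hab, haz]; simpa using hk0) 1 (by
      rw [one_smul, e1]; exact hx)
  rwa [one_smul, e1] at h2

end gen

/-- Proper overgroups have scalar root groups at tensor lines. -/
theorem onlyScalar2_of_not_le (hS : Over2 q e M) (hne : ¬ suGL n F q ≤ M) : OnlyScalar q e M := by
  intro w hw0 hw Γ hΓ
  by_contra hc
  obtain ⟨p, hp0, hp, hfull⟩ := full_of_nonscalar hF (hS.base hF) hw0 hw hΓ hc
  exact hne (le_of_full2 hF hS hp0 hp hw0 hw hfull)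

end CfsgLib.Geo.TensorU
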