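/-
Overgroups of the stabiliser of `F^3 ⊗ F^2` with scalar root groups: the lower left entries that occur.
-/
import Cfsg.Agent.Geo.TensorUnitSmallFull
import Mathlib.LinearAlgebra.Charpoly.Basic

set_option autoImplicit false
set_option linter.unusedSectionVars false

namespace CfsgLib.Geo.TensorU

open Matrix Cfsg Cfsg.Geo CfsgLib.Geo CfsgLib.Geo.UTv CfsgLib.Geo.UFrame

variable {n q : ℕ} {F : Type*} [Field F] {e : Fin n ≃ Fin 3 × Fin 2} {M : Subgroup (GL (Fin n) F)}
  {w v : Fin 2 → F}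

local notation "⟪" x ", " y "⟫" => Cfsg.hermForm _ F q x y

/-- An element of `M` has the lower left entry `K`. -/
def Attain (q : ℕ) (e : Fin n ≃ Fin 3 × Fin 2) (M : Subgroup (GL (Fin n) F)) (w : Fin 2 → F)
    (K : Module.End F (Fin 3 → F)) : Prop :=
  ∃ g ∈ M, blk q e g w w = K

variable [Finite F] (hF : Nat.card F = q ^ 2)
include hF

lemma Hyp.ne_zero (hp : Hyp q w v) : w ≠ 0 := fun h => by
  have h1 := hp.wv
  rw [h, zero_l hF] at h1
  exact zero_ne_one h1

/-- A diagonal isometry of the second factor. -/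
lemma exists_diag2 (hp : Hyp q w v) {ν : F} (hν : ν ≠ 0) :
    ∃ β ∈ Cfsg.GU 2 F q, (β : Matrix (Fin 2) (Fin 2) F) *ᵥ w = ν • w ∧
      (β : Matrix (Fin 2) (Fin 2) F) *ᵥ v = (ν ^ q)⁻¹ • v := by
  have hl := Unit.linLeft (isUnitaryForm hF (n := 2))
  let L : Module.End F (Fin 2 → F) := ν • (hl.toLin v).smulRight w + (ν ^ q)⁻¹ • (hl.toLin w).smulRight v
  have hL : ∀ y, L y = (ν * ⟪y, v⟫) • w + ((ν ^ q)⁻¹ * ⟪y, w⟫) • v := fun y => by
    show ν • (⟪y, v⟫ • w) + (ν ^ q)⁻¹ • (⟪y, w⟫ • v) = _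
    rw [smul_smul, smul_smul]
  have hνq : ν ^ q ≠ 0 := pow_ne_zero _ hν
  have hU : ∀ y z, ⟪L y, L z⟫ = ⟪y, z⟫ := fun y z => by
    conv_rhs => rw [Hyp.expand hF hp y, Hyp.expand hF hp z]
    simp only [hL, add_l, add_r hF, smul_l, smul_r hF, hp.ww, hp.vv, hp.wv, hp.vw, mul_pow, inv_pow,
      CfsgLib.Forms.pow_q_q hF]
    field_simp
    ring
  obtain ⟨β, hβ⟩ := Tensor.exists_gl L (by
    refine LinearMap.ker_eq_bot.1 (LinearMap.ker_eq_bot'.2 fun y hy => eq_zero_of_forall hF fun z => ?_)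
    rw [← hU y z, hy, zero_l hF])
  refine ⟨β, mem_GU.2 fun y z => by rw [hβ, hβ, hU], ?_, ?_⟩
  · rw [hβ, hL, hp.wv, hp.ww]; module
  · rw [hβ, hL, hp.vv, hp.vw]; module

/-- An element of the stabiliser fixing the line at `w`. -/
lemma kk_form (hp : Hyp q w v) {h : GL (Fin n) F} (hh : h ∈ kron F e) (hC : blk q e h w w = 0) :
    ∃ κ m : F, κ ≠ 0 ∧ blk q e h w v = κ • blk q e h v w ∧ blk q e h v v = m • blk q e h v w := by
  obtain ⟨α, β, rfl⟩ := exists_kk e hh
  rw [blk_kk hF] at hC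
  have hα0 : Matrix.mulVecLin (α : Matrix (Fin 3) (Fin 3) F) ≠ 0 := fun h0 => by
    have h1 := LinearMap.congr_fun h0 (((α⁻¹ : GL (Fin 3) F) : Matrix (Fin 3) (Fin 3) F) *ᵥ (Pi.single 0 1))
    rw [Matrix.mulVecLin_apply, mulVec_inv_mulVec, LinearMap.zero_apply] at h1
    simp at h1
  have h0 : ⟪(β : Matrix (Fin 2) (Fin 2) F) *ᵥ w, w⟫ = 0 := (smul_eq_zero.1 hC).resolve_right hα0
  set l := ⟪(β : Matrix (Fin 2) (Fin 2) F) *ᵥ w, v⟫ with hl
  set κ' := ⟪(β : Matrix (Fin 2) (Fin 2) F) *ᵥ v, w⟫ with hκ'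
  have hl0 : l ≠ 0 := fun h1 => hp.ne_zero hF (by
    have h2 : (β : Matrix (Fin 2) (Fin 2) F) *ᵥ w = 0 := by
      rw [Hyp.expand hF hp ((β : Matrix (Fin 2) (Fin 2) F) *ᵥ w), h0, ← hl, h1, zero_smul, zero_smul, add_zero]
    rw [← inv_mulVec_mulVec β w, h2, Matrix.mulVec_zero])
  have hκ0 : κ' ≠ 0 := fun h1 => one_ne_zero (α := F) (by
    obtain ⟨y, hy⟩ : ∃ y, (β : Matrix (Fin 2) (Fin 2) F) *ᵥ y = v := ⟨_, mulVec_inv_mulVec β v⟩
    rw [← hp.vw, ← hy, Hyp.expand hF hp y, Matrix.mulVec_add, Matrix.mulVec_smul, Matrix.mulVec_smul, add_l, smul_l,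
      smul_l, h0, ← hκ', h1, mul_zero, mul_zero, add_zero])
  refine ⟨κ' / l, ⟪(β : Matrix (Fin 2) (Fin 2) F) *ᵥ v, v⟫ / l, div_ne_zero hκ0 hl0, ?_, ?_⟩ <;>
    rw [blk_kk hF, blk_kk hF, smul_smul, div_mul_cancel₀ _ hl0]

variable (hS : Over2 q e M) (hp : Hyp q w v) (hOS : OnlyScalar q e M)
include hS hp hOS

/-- An element whose lower left entry vanishes lies in the stabiliser. -/
lemma kron_of_C0 {g : GL (Fin n) F} (hg : IsExt q e M g) (hC : blk q e g w w = 0) : g ∈ kron F e := by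
  classical
  obtain ⟨c, hc0, hc⟩ := skew_exists hF
  set A := blk q e g v w with hA
  set B := blk q e g v v
  set D := blk q e g w v
  obtain ⟨z, hz, hzb⟩ := exists_rootY (e := e) hF hp hg.1 hc
  obtain ⟨σ', hσ'⟩ := hOS w (hp.ne_zero hF) hp.ww (c • (A * adj hF A)) (inR_of_blk hF hp (hg.2 z hz)
    (by rw [hzb, hC, hp.wv, adj_zero hF, mul_zero, smul_zero, add_zero, one_smul])
    (by rw [hzb, hC, hp.ww, adj_zero hF, mul_zero, smul_zero, add_zero, zero_smul])
    (by rw [hzb, hp.vv, zero_smul, zero_add])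
    (by rw [hzb, hC, hp.vw, zero_mul, smul_zero, add_zero, one_smul]))
  set σ := c⁻¹ * σ'
  have hAA : A * adj hF A = σ • 1 := LinearMap.ext fun x => by
    have h1 : c • (A * adj hF A) x = σ' • x := hσ' x
    rw [LinearMap.smul_apply, Module.End.one_apply, show σ • x = c⁻¹ • σ' • x from mul_smul _ _ _, ← h1,
      inv_smul_smul₀ hc0]
  have hrel : adj hF A * D = 1 := by
    have := blk_rel (e := e) hF hp hg.1 w v
    rwa [hC, adj_zero hF, zero_mul, zero_add, hp.vw, one_smul] at this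
  have hAinj : Function.Injective A := LinearMap.ker_eq_bot.1 (LinearMap.ker_eq_bot'.2 fun u hu => by
    have h1 : (g : Matrix (Fin n) (Fin n) F) *ᵥ T e u w = 0 := by
      rw [blk_col hF hp, ← hA, hu, hC, LinearMap.zero_apply, T_zero_left, T_zero_left, add_zero]
    have h2 : T e u w = 0 := by rw [← inv_mulVec_mulVec g (T e u w), h1, Matrix.mulVec_zero]
    exact T_eq_zero e h2 (hp.ne_zero hF))
  have hσ0 : σ ≠ 0 := fun h0 => by
    have h1 : A = 0 := by rw [← mul_one A, ← hrel, ← mul_assoc, hAA, h0, zero_smul, zero_mul]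
    have h2 : (Pi.single 0 1 : Fin 3 → F) = 0 := hAinj (by rw [h1]; rfl)
    simp at h2
  have hσq : σ ^ q = σ := by
    have h1 : adj hF (A * adj hF A) = A * adj hF A := by rw [adj_comp hF, adj_adj hF]
    rw [hAA, adj_smul hF, adj_one hF] at h1
    exact smul_left_injective F (one_ne_zero (α := Module.End F (Fin 3 → F))) h1
  obtain ⟨ν, hν⟩ := norm_exists hF hσq
  have hν0 : ν ≠ 0 := fun h0 => hσ0 (by rw [← hν, h0, zero_mul])
  obtain ⟨α, hα⟩ := Tensor.exists_gl (ν⁻¹ • A) (fun x x' hx => hAinj (smul_right_injective _ (inv_ne_zero hν0) hx))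
  have hadjA : adj hF A * A = σ • 1 := LinearMap.ext fun x => hAinj (by
    rw [← Module.End.mul_apply A, ← mul_assoc, hAA, smul_mul_assoc, one_mul, LinearMap.smul_apply,
      LinearMap.smul_apply, Module.End.one_apply, map_smul])
  have hαl : Matrix.mulVecLin (α : Matrix (Fin 3) (Fin 3) F) = ν⁻¹ • A := LinearMap.ext fun x => hα x
  have hαU : α ∈ Cfsg.GU 3 F q := mem_GU.2 fun x x' => by
    rw [hα, hα, LinearMap.smul_apply, LinearMap.smul_apply, smul_l, smul_r hF, inv_pow, ← adj_spec hF,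
      ← Module.End.mul_apply, hadjA, LinearMap.smul_apply, Module.End.one_apply, smul_l, ← hν]
    field_simp
  obtain ⟨β, hβU, hβw, hβv⟩ := exists_diag2 hF hp hν0
  set k := kk e α β with hk
  have hkU : k ∈ Cfsg.GU n F q := kk_mem_GU e hF hαU hβU
  have hkb : ∀ x y, blk q e k x y = ⟪(β : Matrix (Fin 2) (Fin 2) F) *ᵥ y, x⟫ • (ν⁻¹ • A) := fun x y => by
    rw [hk, blk_kk hF, hαl]
  set g1 := g * k⁻¹ with hg1
  have hE1 : IsExt q e M g1 := hg.mul_right hF ((kron F e).inv_mem (kk_mem e α β)) ((Cfsg.GU n F q).inv_mem hkU)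
  have b1 : blk q e g1 v w = 1 := by
    rw [hg1, blk_mul hF hp, blk_inv hF hkU, blk_inv hF hkU, hkb, hkb, hβv, hβw, smul_l, smul_l, hp.vw, hp.ww]
    simp only [mul_one, mul_zero, zero_smul, adj_zero hF, add_zero, smul_smul, adj_smul hF, mul_smul_comm, ← hA,
      hAA]
    rw [← hν, mul_pow, inv_pow, inv_pow, CfsgLib.Forms.pow_q_q hF]
    have := pow_ne_zero q hν0
    simp only [zero_div, div_eq_mul_inv, zero_mul, zero_pow' hF, zero_smul, add_zero]
    rw [← one_smul F (1 : Module.End F (Fin 3 → F)), smul_smul]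
    congr 1
    field_simp
  have b2 : blk q e g1 w w = 0 := by
    rw [hg1, blk_mul hF hp, blk_inv hF hkU w w, hkb, hβw, smul_l, hp.ww, mul_zero, zero_smul, adj_zero hF, mul_zero,
      add_zero, hC, zero_mul]
  have b4 : blk q e g1 w v = 1 := by
    have := blk_rel (e := e) hF hp hE1.1 w v
    rwa [b2, adj_zero hF, zero_mul, zero_add, b1, adj_one hF, one_mul, hp.vw, one_smul] at this
  set G := blk q e g1 v v with hG
  have hGs : adj hF G = -G := by
    have := blk_rel (e := e) hF hp hE1.1 v v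
    rw [← hG, b4, adj_one hF, one_mul, mul_one, hp.vv, zero_smul] at this
    exact eq_neg_of_add_eq_zero_right this
  -- the residue commutes with the special unitary group of the first factor
  obtain ⟨b, hb⟩ := scalar_of_iso_eigen hF (by norm_num) G fun p hpp => by
    rcases eq_or_ne p 0 with rfl | hp0
    · rw [map_zero]; exact Submodule.zero_mem _
    obtain ⟨d, hd0, hd⟩ := skew_exists hF
    have hL := utv_mem hF hpp hd
    set L0 := tvec p (uax q p d) (uax_dot_self hpp d)
    set L := Matrix.mulVecLin (L0 : Matrix (Fin 3) (Fin 3) F) with hLdef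
    have hLL : L * adj hF L = 1 := LinearMap.ext fun x => by
      rw [hLdef, adj_of_GU hF hL.1, Module.End.mul_apply, Matrix.mulVecLin_apply, Matrix.mulVecLin_apply,
        mulVec_inv_mulVec, Module.End.one_apply]
    have ha := kk_mem_su e hF hL (one_mem (suGL 2 F q))
    obtain ⟨σ2, hσ2⟩ := hOS w (hp.ne_zero hF) hp.ww (G - L * G * adj hF L) (by
      refine inR_of_blk hF hp (M.mul_mem (hE1.2 _ ha) (M.inv_mem (hS.le ha))) ?_ ?_ ?_ ?_ <;>
        simp only [blk_mul hF hp, blk_inv hF ha.2.1, blk_inv hF hE1.1, blk_kk_left hF, b1, b2, b4, ← hG, ← hLdef,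
          hp.ww, hp.vv, hp.wv, hp.vw, hGs, one_smul, zero_smul, adj_zero hF, adj_one hF, mul_zero, zero_mul, add_zero,
          zero_add, mul_one, one_mul, hLL, mul_neg, neg_mul, mul_assoc, add_mul]
      exact LinearMap.ext fun x => by simp [Module.End.mul_apply]; abel)
    have hcomm : ∀ x, G (L x) - L (G x) = σ2 • L x := fun x => by
      have h1 := hσ2 (L x)
      have h2 : adj hF L (L x) = x := by
        rw [hLdef, adj_of_GU hF hL.1, Matrix.mulVecLin_apply, Matrix.mulVecLin_apply, inv_mulVec_mulVec]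
      rwa [LinearMap.sub_apply, Module.End.mul_apply, Module.End.mul_apply, h2] at h1
    have hLx : ∀ x, L x = x + (d * ⟪x, p⟫) • p := fun x => utv_mulVec hF hpp d x
    obtain ⟨x, hx, hxn⟩ : ∃ x ∈ perp q (F ∙ p), x ∉ F ∙ p := by
      by_contra hcon
      push Not at hcon
      have h1 := Submodule.finrank_mono (show perp q (F ∙ p) ≤ F ∙ p from hcon)
      have h2 := finrank_perp hF (F ∙ p)
      rw [finrank_span_singleton hp0] at h1 h2
      omega
    have hxp : ⟪x, p⟫ = 0 := hx p (Submodule.mem_span_singleton_self p)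
    have hσ20 : σ2 = 0 := by
      by_contra hne
      refine hxn ((Submodule.smul_mem_iff _ hne).1 (Submodule.mem_span_singleton.2 ⟨-(d * ⟪G x, p⟫), ?_⟩))
      have h3 := hcomm x
      rw [hLx x, hxp, mul_zero, zero_smul, add_zero, hLx] at h3
      linear_combination (norm := module) h3
    obtain ⟨y, hy⟩ := exists_one hF hp0
    have hyp : ⟪y, p⟫ = 1 := by rw [swap hF p y, hy, one_pow]
    have h3 := hcomm y
    rw [hσ20, zero_smul, hLx y, hLx (G y), hyp, mul_one, map_add, map_smul] at h3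
    refine Submodule.mem_span_singleton.2 ⟨⟪G y, p⟫, smul_right_injective _ hd0 ?_⟩
    show d • (⟪G y, p⟫ • p) = d • G p
    linear_combination (norm := module) -h3
  have hGb : G = b • 1 := LinearMap.ext fun x => hb x
  have hbs : b + b ^ q = 0 := by
    have h1 := hGs
    rw [hGb, adj_smul hF, adj_one hF] at h1
    have h1 : b ^ q • (1 : Module.End F (Fin 3 → F)) = (-b) • 1 := h1.trans (neg_smul b _).symm
    rw [smul_left_injective F (one_ne_zero (α := Module.End F (Fin 3 → F))) h1, add_neg_cancel]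
  obtain ⟨t, ht, htb⟩ := exists_tv_blk (e := e) hF hp.ww hbs
  have heq : g1 = t := blk_ext hF hp
    (by rw [b1, htb, hp.wv, hp.ww]; simp) (by rw [b2, htb, hp.ww]; simp)
    (by rw [← hG, hGb, htb, hp.vv, hp.vw, hp.wv]; simp) (by rw [b4, htb, hp.vw, hp.ww]; simp)
  have h1 := (kron F e).mul_mem (heq ▸ ht.1 : g1 ∈ kron F e) (kk_mem e α β)
  rwa [hg1, ← hk, inv_mul_cancel_right] at h1

lemma attain_herm {g : GL (Fin n) F} (hg : g ∈ M) {c : F} (hc : c + c ^ q = 0) :
    Attain q e M w (c • (blk q e g w w * adj hF (blk q e g w w))) := by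
  obtain ⟨z, hz, hzb⟩ := exists_rootY (e := e) hF hp (hS.sub hg).1 hc
  exact ⟨g * z * g⁻¹, M.mul_mem (M.mul_mem hg (hS.le hz)) (M.inv_mem hg), by
    rw [hzb, hp.ww, zero_smul, zero_add]⟩

/-- A lower left entry with isotropic image vanishes. -/
lemma attain_zero {K : Module.End F (Fin 3 → F)} (h : Attain q e M w K) (hK : K * adj hF K = 0) : K = 0 := by
  obtain ⟨g, hg, rfl⟩ := h
  set A := blk q e g v w with hA
  set C := blk q e g w w with hC
  set B := blk q e g v v
  set D := blk q e g w v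
  have hgU := (hS.sub hg).1
  have hrel : adj hF C * B + adj hF A * D = 1 := by
    have := blk_rel (e := e) hF hp hgU w v
    rwa [← hA, ← hC, hp.vw, one_smul] at this
  have hrel0 : adj hF C * A = -(adj hF A * C) := by
    have := blk_rel (e := e) hF hp hgU w w
    rw [← hA, ← hC, hp.ww, zero_smul] at this
    exact eq_neg_of_add_eq_zero_left this
  obtain ⟨c, hc0, hc⟩ := skew_exists hF
  obtain ⟨μ, hμ, hμ0, hμ1⟩ := exists_fixed_ne_one hF hS.three
  set E := c • (A * adj hF C) with hEdef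
  have key : ∀ r : F, r ^ q = r → ∃ m : F, (r * c) • (A * adj hF A) = m • (1 + r • E) := by
    intro r hr
    obtain ⟨z, hz, hzb⟩ := exists_rootY (e := e) hF hp hgU (c := r * c) (by
      rw [mul_pow, hr]; linear_combination r * hc)
    have hy : g * z * g⁻¹ ∈ M := M.mul_mem (M.mul_mem hg (hS.le hz)) (M.inv_mem hg)
    have h0 : blk q e (g * z * g⁻¹) w w = 0 := by
      rw [hzb, ← hC, hK, hp.ww, smul_zero, zero_smul, add_zero]
    obtain ⟨κ, m, -, -, hm⟩ := kk_form hF hp
      (kron_of_C0 hF hS hp hOS ⟨(hS.sub hy).1, fun t ht => M.mul_mem (M.mul_mem hy (hS.le ht)) (M.inv_mem hy)⟩ h0) h0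
    rw [hzb, hzb, ← hA, ← hC, hp.vv, hp.wv, zero_smul, zero_add, one_smul] at hm
    exact ⟨m, by rw [hm, hEdef, smul_smul]⟩
  have hEE : E * E = 0 := by
    have : A * adj hF C * (A * adj hF C) = -(A * adj hF A * (C * adj hF C)) := by
      rw [mul_assoc, ← mul_assoc (adj hF C), hrel0]
      exact LinearMap.ext fun x => by simp [Module.End.mul_apply]
    rw [hEdef, smul_mul_assoc, mul_smul_comm, this, hK, mul_zero, neg_zero, smul_zero, smul_zero]
  obtain ⟨m, hm⟩ := key 1 (one_pow q)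
  rw [one_mul, one_smul] at hm
  obtain ⟨m', hm'⟩ := key μ hμ
  rw [mul_smul, hm] at hm'
  have hlin : (m' - μ * m) • (1 : Module.End F (Fin 3 → F)) = (μ * m - μ * m') • E := by
    linear_combination (norm := module) -hm'
  have hm'm : m' = μ * m := by
    by_contra hne
    have h1 : (1 : Module.End F (Fin 3 → F)) = ((μ * m - μ * m') / (m' - μ * m)) • E := by
      rw [div_eq_inv_mul, mul_smul, ← hlin, smul_smul, inv_mul_cancel₀ (sub_ne_zero.2 hne), one_smul]
    have h2 : (1 : Module.End F (Fin 3 → F)) * 1 = 0 := by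
      conv_lhs => rw [h1]
      rw [smul_mul_assoc, mul_smul_comm, hEE, smul_zero, smul_zero]
    rw [one_mul] at h2
    exact one_ne_zero h2
  rw [hm'm, sub_self, zero_smul, eq_comm, smul_eq_zero] at hlin
  -- totally singular images
  have hiso : ∀ X : Module.End F (Fin 3 → F), X * adj hF X = 0 →
      Module.finrank F (LinearMap.range (adj hF X)) ≤ 1 := fun X hX => by
    have hle : LinearMap.range (adj hF X) ≤ perp q (LinearMap.range (adj hF X)) := by
      rintro _ ⟨x, rfl⟩ _ ⟨y, rfl⟩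
      rw [adj_spec hF, ← Module.End.mul_apply, hX, LinearMap.zero_apply, zero_r hF]
    have h1 := Submodule.finrank_mono hle
    have h2 := finrank_perp hF (LinearMap.range (adj hF X))
    omega
  rcases hlin with h | h
  · -- the upper right entry vanishes
    have hm0 : m = 0 := by
      have : μ * m * (1 - μ) = 0 := by linear_combination h
      exact (mul_eq_zero.1 ((mul_eq_zero.1 this).resolve_right (sub_ne_zero.2 (Ne.symm hμ1)))).resolve_left hμ0
    rw [hm0, zero_smul, smul_eq_zero] at hm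
    have hQ := hm.resolve_left hc0
    exfalso
    have htop : (⊤ : Submodule F (Fin 3 → F)) ≤ LinearMap.range (adj hF C) ⊔ LinearMap.range (adj hF A) := fun x _ => by
      rw [← Module.End.one_apply (R := F) x, ← hrel, LinearMap.add_apply, Module.End.mul_apply, Module.End.mul_apply]
      exact Submodule.add_mem_sup ⟨_, rfl⟩ ⟨_, rfl⟩
    have h1 := Submodule.finrank_mono htop
    have h2 := Submodule.finrank_add_le_finrank_add_finrank (LinearMap.range (adj hF C)) (LinearMap.range (adj hF A))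
    have h3 := hiso C hK
    have h4 := hiso A hQ
    rw [finrank_top, Module.finrank_fin_fun] at h1
    omega
  · have hR : A * adj hF C = 0 := by
      rw [hEdef, smul_eq_zero] at h
      exact h.resolve_left hc0
    have hR' : C * adj hF A = 0 := by
      have := congrArg (adj hF) hR
      rwa [adj_comp hF, adj_adj hF, adj_zero hF] at this
    rw [← mul_one C, ← hrel, mul_add, ← mul_assoc, ← mul_assoc, hK, hR', zero_mul, zero_mul, add_zero]

/-- No lower left entry is nilpotent. -/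
lemma attain_nil {K : Module.End F (Fin 3 → F)} (h : Attain q e M w K)
    (hK : K * adj hF K * (K * adj hF K) = 0) : K = 0 := by
  obtain ⟨g, hg, rfl⟩ := h
  obtain ⟨c, hc0, hc⟩ := skew_exists hF
  have hh := attain_herm hF hS hp hOS hg hc
  refine attain_zero hF hS hp hOS ⟨g, hg, rfl⟩ ((smul_eq_zero.1 (attain_zero hF hS hp hOS hh ?_)).resolve_left hc0)
  rw [adj_smul hF, adj_comp hF, adj_adj hF, smul_mul_assoc, mul_smul_comm, hK, smul_zero, smul_zero]

/-- The words in two root elements and a transvection. -/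
lemma attain_word {g : GL (Fin n) F} (hg : g ∈ M) {c : F} (hc0 : c ≠ 0) (hc : c + c ^ q = 0) {x y : F}
    (hx : x ^ q = x) (hy : y ^ q = y) {H : Module.End F (Fin 3 → F)}
    (hH : H = blk q e g w w * adj hF (blk q e g w w)) : Attain q e M w (c • (x • H + y • (H * H))) := by
  obtain ⟨β₁, β₂, hsum, hb1, hb2, hb1q, hb2q⟩ : ∃ β₁ β₂ : F, β₁ + β₂ = x ∧ β₁ ≠ 0 ∧ β₂ ≠ 0 ∧
      β₁ ^ q = β₁ ∧ β₂ ^ q = β₂ := by
    rcases eq_or_ne x 0 with hx0 | hx0
    · exact ⟨1, -1, by rw [hx0, add_neg_cancel], one_ne_zero, neg_ne_zero.2 one_ne_zero, one_pow q,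
        by rw [pow_neg hF, one_pow]⟩
    · obtain ⟨s, hs, hs0, hs1⟩ := exists_fixed_ne_one hF hS.three
      exact ⟨x * s, x * (1 - s), by ring, mul_ne_zero hx0 hs0, mul_ne_zero hx0 (sub_ne_zero.2 (Ne.symm hs1)),
        by rw [mul_pow, hx, hs], by rw [mul_pow, hx, pow_sub hF, one_pow, hs]⟩
  have hcq : c ^ q = -c := eq_neg_of_add_eq_zero_right hc
  set α := y / (β₁ * β₂ * (c * c)) with hα
  have hαq : α ^ q = α := by
    rw [hα, div_pow, mul_pow, mul_pow, mul_pow, hy, hb1q, hb2q, hcq, neg_mul_neg]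
  have hskew : ∀ r : F, r ^ q = r → r * c + (r * c) ^ q = 0 := fun r hr => by
    rw [mul_pow, hr]; linear_combination r * hc
  have hgU := (hS.sub hg).1
  obtain ⟨z₁, hz₁, hzb₁⟩ := exists_rootY (e := e) hF hp hgU (hskew β₁ hb1q)
  obtain ⟨z₂, hz₂, hzb₂⟩ := exists_rootY (e := e) hF hp hgU (hskew β₂ hb2q)
  obtain ⟨t, ht, htb⟩ := exists_tv_blk (e := e) hF hp.ww (hskew α hαq)
  refine ⟨g * z₁ * g⁻¹ * (t * (g * z₂ * g⁻¹)), M.mul_mem (M.mul_mem (M.mul_mem hg (hS.le hz₁)) (M.inv_mem hg))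
    (M.mul_mem (hS.le ht) (M.mul_mem (M.mul_mem hg (hS.le hz₂)) (M.inv_mem hg))), ?_⟩
  set A := blk q e g v w with hA
  set C := blk q e g w w with hC
  have hrel0 : adj hF C * A + adj hF A * C = 0 := by
    have := blk_rel (e := e) hF hp hgU w w
    rwa [← hA, ← hC, hp.ww, zero_smul] at this
  have hcross : H * (A * adj hF C) + C * adj hF A * H = 0 := by
    have h1 : C * (adj hF C * A + adj hF A * C) * adj hF C = 0 := by rw [hrel0, mul_zero, zero_mul]
    rw [← h1, hH]
    simp only [mul_add, add_mul, mul_assoc]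
  rw [blk_mul hF hp (g * z₁ * g⁻¹) (t * (g * z₂ * g⁻¹)), blk_mul hF hp t (g * z₂ * g⁻¹),
    blk_mul hF hp t (g * z₂ * g⁻¹), hzb₁, hzb₁, hzb₂, hzb₂]
  simp only [htb, hp.ww, hp.vv, hp.wv, hp.vw, ← hA, ← hC, ← hH, zero_smul, one_smul, zero_add, add_zero, mul_zero,
    mul_one, zero_mul, mul_add, add_mul, smul_mul_assoc, mul_smul_comm, one_mul, smul_smul, smul_add]
  have hy' : α * (β₁ * β₂ * (c * c)) = y :=
    div_mul_cancel₀ _ (mul_ne_zero (mul_ne_zero hb1 hb2) (mul_ne_zero hc0 hc0))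
  rw [← hsum, ← hy']
  linear_combination (norm := module) (β₁ * β₂ * (c * c)) • hcross

/-- A singular lower left entry gives idempotent ones. -/
theorem exists_idem {g : GL (Fin n) F} (hg : g ∈ M) (h0 : blk q e g w w ≠ 0) {u : Fin 3 → F} (hu0 : u ≠ 0)
    (hu : blk q e g w w u = 0) {c : F} (hc0 : c ≠ 0) (hc : c + c ^ q = 0) :
    ∃ π : Module.End F (Fin 3 → F), adj hF π = π ∧ π * π = π ∧ π ≠ 0 ∧ π ≠ 1 ∧
      Attain q e M w (c • π) := by
  classical
  set C := blk q e g w w with hC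
  set H := C * adj hF C with hH
  have hHa : adj hF H = H := by rw [hH, adj_comp hF, adj_adj hF]
  have hH2 : H * H ≠ 0 := fun h => h0 (attain_nil hF hS hp hOS ⟨g, hg, rfl⟩ h)
  have hH0 : H ≠ 0 := fun h => hH2 (by rw [h, zero_mul])
  -- a kernel vector
  obtain ⟨k, hk0, hk⟩ : ∃ k : Fin 3 → F, k ≠ 0 ∧ adj hF C k = 0 := by
    by_contra hcon
    push Not at hcon
    have hinj : Function.Injective (adj hF C) := LinearMap.ker_eq_bot.1 (LinearMap.ker_eq_bot'.2 fun x hx =>
      by_contra fun hne => hcon x hne hx)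
    refine hu0 (eq_zero_of_forall hF fun z => ?_)
    obtain ⟨z', rfl⟩ := LinearMap.injective_iff_surjective.1 hinj z
    rw [adj_spec' hF, hu, zero_l hF]
  have hHk : H k = 0 := by rw [hH, Module.End.mul_apply, hk, map_zero]
  -- the cubic relation
  obtain ⟨a, b, hcub⟩ : ∃ a b : F, H * H * H + a • (H * H) + b • H = 0 := by
    have h1 := LinearMap.aeval_self_charpoly H
    have hd : (LinearMap.charpoly H).natDegree = 3 := by rw [LinearMap.charpoly_natDegree, Module.finrank_fin_fun]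
    have hm : (LinearMap.charpoly H).coeff 3 = 1 := by
      have := (LinearMap.charpoly_monic H).coeff_natDegree
      rwa [hd] at this
    rw [Polynomial.aeval_eq_sum_range' (n := 4) (by omega)] at h1
    simp only [Finset.sum_range_succ, Finset.sum_range_zero, zero_add, pow_zero, pow_one, pow_two, hm, one_smul,
      pow_succ H 2] at h1
    have hk' := LinearMap.congr_fun h1 k
    simp only [LinearMap.add_apply, LinearMap.smul_apply, Module.End.mul_apply, Module.End.one_apply, hHk, map_zero,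
      smul_zero, add_zero, LinearMap.zero_apply, smul_eq_zero, hk0, or_false] at hk'
    rw [hk', zero_smul, zero_add] at h1
    exact ⟨_, _, by rw [← h1]; abel⟩
  have hne1 : ∀ {π : Module.End F (Fin 3 → F)}, π k = 0 → π ≠ 1 := fun {π} h1 h2 =>
    hk0 (by rw [h2] at h1; exact h1)
  have hword := fun {x y : F} (hx : x ^ q = x) (hy : y ^ q = y) =>
    attain_word hF hS hp hOS hg hc0 hc hx hy (H := H) hH
  by_cases hdep : ∃ l : F, H * H = l • H
  · obtain ⟨l, hl⟩ := hdep
    have hl0 : l ≠ 0 := fun h => hH2 (by rw [hl, h, zero_smul])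
    have hlq : l ^ q = l := by
      have h1 := congrArg (adj hF) hl
      rw [adj_comp hF, adj_smul hF, hHa, hl] at h1
      exact (smul_left_injective F hH0 h1).symm
    refine ⟨l⁻¹ • H, ?_, ?_, smul_ne_zero (inv_ne_zero hl0) hH0,
      hne1 (by rw [LinearMap.smul_apply, hHk, smul_zero]), ?_⟩
    · rw [adj_smul hF, hHa, inv_pow, hlq]
    · rw [smul_mul_assoc, mul_smul_comm, hl, smul_smul, smul_smul]
      congr 1
      field_simp
    · have := hword (x := l⁻¹) (y := 0) (by rw [inv_pow, hlq]) (zero_pow' hF)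
      rwa [zero_smul, add_zero] at this
  push Not at hdep
  have hindep : ∀ x y : F, x • (H * H) + y • H = 0 → x = 0 ∧ y = 0 := fun x y h => by
    rcases eq_or_ne x 0 with rfl | hx
    · rw [zero_smul, zero_add, smul_eq_zero] at h; exact ⟨rfl, h.resolve_right hH0⟩
    · refine absurd ?_ (hdep (-(y / x)))
      refine smul_right_injective _ hx ?_
      show x • (H * H) = x • -(y / x) • H
      rw [smul_smul, show x * -(y / x) = -y by field_simp, neg_smul]
      exact eq_neg_of_add_eq_zero_left h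
  obtain ⟨haq, hbq⟩ : a ^ q = a ∧ b ^ q = b := by
    have h1 := congrArg (adj hF) hcub
    simp only [adj_add hF, adj_smul hF, adj_comp hF, hHa, adj_zero hF] at h1
    rw [← mul_assoc] at h1
    obtain ⟨e1, e2⟩ := hindep (a ^ q - a) (b ^ q - b) (by linear_combination (norm := module) h1 - hcub)
    exact ⟨sub_eq_zero.1 e1, sub_eq_zero.1 e2⟩
  set K := H * H + a • H with hK
  have hKK : K * K = (-b) • K := by
    have e1 : K * K = (H * H * H + a • (H * H)) * H + a • (H * H * H + a • (H * H)) := by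
      simp only [hK, mul_add, add_mul, smul_mul_assoc, mul_smul_comm, mul_assoc, smul_add]
    have e2 : H * H * H + a • (H * H) = (-b) • H := by linear_combination (norm := module) hcub
    rw [e1, e2, hK, smul_mul_assoc]
    module
  have hKne : K ≠ 0 := fun h => one_ne_zero (hindep 1 a (by rw [one_smul]; exact h)).1
  have hKa : adj hF K = K := by rw [hK, adj_add hF, adj_smul hF, adj_comp hF, hHa, haq]
  have hb0 : b ≠ 0 := fun hb => by
    have h1 := hword (x := a) (y := 1) haq (one_pow q)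
    rw [one_smul, show a • H + H * H = K by rw [hK, add_comm]] at h1
    refine hKne ((smul_eq_zero.1 (attain_zero hF hS hp hOS h1 ?_)).resolve_left hc0)
    rw [adj_smul hF, hKa, smul_mul_assoc, mul_smul_comm, hKK, hb, neg_zero, zero_smul, smul_zero, smul_zero]
  refine ⟨(-b)⁻¹ • K, ?_, ?_, smul_ne_zero (inv_ne_zero (neg_ne_zero.2 hb0)) hKne, hne1 ?_, ?_⟩
  · rw [adj_smul hF, hKa, inv_pow, pow_neg hF, hbq]
  · rw [smul_mul_assoc, mul_smul_comm, hKK, smul_smul, smul_smul]
    congr 1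
    field_simp
  · simp only [hK, LinearMap.smul_apply, LinearMap.add_apply, Module.End.mul_apply, hHk, map_zero, smul_zero,
      add_zero]
  · have := hword (x := (-b)⁻¹ * a) (y := (-b)⁻¹) (by rw [mul_pow, inv_pow, pow_neg hF, hbq, haq])
      (by rw [inv_pow, pow_neg hF, hbq])
    convert this using 2
    rw [hK]
    module

end CfsgLib.Geo.TensorU
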