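/-
Overgroups of the stabiliser of `F^3 ⊗ F^2`: an idempotent lower left entry commutes with the upper one and
forces three elements in the fixed field.
-/
import Cfsg.Agent.Geo.TensorUnitSmallWords

set_option autoImplicit false
set_option linter.unusedSectionVars false

namespace CfsgLib.Geo.TensorU

open Matrix Cfsg Cfsg.Geo CfsgLib.Geo CfsgLib.Geo.UTv CfsgLib.Geo.UFrame

variable {n q : ℕ} {F : Type*} [Field F] {e : Fin n ≃ Fin 3 × Fin 2} {M : Subgroup (GL (Fin n) F)}
  {w v : Fin 2 → F}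

local notation "⟪" x ", " y "⟫" => Cfsg.hermForm _ F q x y

variable [Finite F] (hF : Nat.card F = q ^ 2)
include hF

lemma adj_dy {m : ℕ} (u x : Fin m → F) : adj hF (dy hF u x) = dy hF x u :=
  LinearMap.ext fun y => eq_of_forall hF fun z => by
    rw [adj_spec hF, dy_apply, dy_apply, smul_r hF, smul_l, ← swap hF z u, mul_comm]

/-- The projection onto a non-isotropic line. -/
noncomputable def prjL (u : Fin 3 → F) : Module.End F (Fin 3 → F) := (⟪u, u⟫)⁻¹ • dy hF u u

lemma prjL_apply (u x : Fin 3 → F) : prjL hF u x = (⟪x, u⟫ / ⟪u, u⟫) • u := by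
  rw [prjL, LinearMap.smul_apply, dy_apply, smul_smul, div_eq_inv_mul]

/-- A non-trivial orthogonal projection is the projection to or along a non-isotropic line. -/
lemma idem_line {π : Module.End F (Fin 3 → F)} (ha : adj hF π = π) (h2 : π * π = π) (h0 : π ≠ 0) (h1 : π ≠ 1) :
    ∃ u : Fin 3 → F, ⟪u, u⟫ ≠ 0 ∧ (π = prjL hF u ∨ 1 - π = prjL hF u) := by
  have main : ∀ ρ : Module.End F (Fin 3 → F), adj hF ρ = ρ → (∀ x, ρ (ρ x) = ρ x) →
      Module.finrank F (LinearMap.range ρ) = 1 → ∃ u : Fin 3 → F, ⟪u, u⟫ ≠ 0 ∧ ρ = prjL hF u := by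
    intro ρ hρa hρ2 hρ1
    obtain ⟨u, hu, hu0⟩ := (Submodule.ne_bot_iff (LinearMap.range ρ)).1 fun hb => by
      rw [hb, finrank_bot] at hρ1; omega
    have hline : ∀ x, ρ x ∈ F ∙ u := fun x => by
      rw [Submodule.eq_of_le_of_finrank_le ((Submodule.span_singleton_le_iff_mem _ _).2 hu)
        (by rw [hρ1, finrank_span_singleton hu0])]
      exact ⟨x, rfl⟩
    obtain ⟨y, hy⟩ := hu
    have hρu : ρ u = u := by rw [← hy, hρ2]
    have hmove : ∀ x, ⟪ρ x, u⟫ = ⟪x, u⟫ := fun x => by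
      conv_lhs => rw [← hρa, adj_spec hF, hρu]
    have huu : ⟪u, u⟫ ≠ 0 := fun h => hu0 (eq_zero_of_forall hF fun x => by
      obtain ⟨c, hc⟩ := Submodule.mem_span_singleton.1 (hline x)
      refine swap0 hF ?_
      rw [← hmove, ← hc, smul_l, h, mul_zero])
    refine ⟨u, huu, LinearMap.ext fun x => ?_⟩
    obtain ⟨c, hc⟩ := Submodule.mem_span_singleton.1 (hline x)
    rw [prjL_apply hF, ← hmove x, ← hc, smul_l, mul_div_assoc, div_self huu, mul_one]
  have h2' : ∀ x, π (π x) = π x := fun x => by rw [← Module.End.mul_apply, h2]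
  have hker : LinearMap.range (1 - π) = LinearMap.ker π := by
    ext x
    rw [LinearMap.mem_ker, LinearMap.mem_range]
    constructor
    · rintro ⟨y, rfl⟩
      rw [LinearMap.sub_apply, Module.End.one_apply, map_sub, h2', sub_self]
    · intro hx
      exact ⟨x, by rw [LinearMap.sub_apply, Module.End.one_apply, hx, sub_zero]⟩
  have hsum := π.finrank_range_add_finrank_ker
  rw [← hker, Module.finrank_fin_fun] at hsum
  have hr0 : Module.finrank F (LinearMap.range π) ≠ 0 := fun h =>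
    h0 (LinearMap.range_eq_bot.1 (Submodule.finrank_eq_zero.1 h))
  have hk0 : Module.finrank F (LinearMap.range (1 - π)) ≠ 0 := fun h =>
    h1 (sub_eq_zero.1 (LinearMap.range_eq_bot.1 (Submodule.finrank_eq_zero.1 h))).symm
  by_cases hr : Module.finrank F (LinearMap.range π) = 1
  · obtain ⟨u, hu, he⟩ := main π ha h2' hr
    exact ⟨u, hu, Or.inl he⟩
  · obtain ⟨u, hu, he⟩ := main (1 - π) (by rw [adj_sub hF, adj_one hF, ha]) (fun x => by
      simp only [LinearMap.sub_apply, Module.End.one_apply, map_sub, h2']; abel) (by omega)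
    exact ⟨u, hu, Or.inr he⟩

variable (hS : Over2 q e M) (hp : Hyp q w v) (hOS : OnlyScalar q e M) {π : Module.End F (Fin 3 → F)}
  (hπa : adj hF π = π) (hπ2 : π * π = π) (hπ0 : π ≠ 0) (hπ1 : π ≠ 1) {c₀ : F} (hc00 : c₀ ≠ 0)
  (hc0 : c₀ + c₀ ^ q = 0) {g : GL (Fin n) F} (hg : g ∈ M) (hC : blk q e g w w = c₀ • π)

include hS hp hπa hc00 hc0 hg hC in
lemma adj_blk_idem : adj hF (blk q e g v w) * π = π * blk q e g v w := by
  have h := blk_rel (e := e) hF hp (hS.sub hg).1 w w
  rw [hC, hp.ww, zero_smul, adj_smul hF, hπa, eq_neg_of_add_eq_zero_right hc0] at h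
  refine LinearMap.ext fun x => smul_right_injective _ hc00 ?_
  have hx := LinearMap.congr_fun h x
  simp only [LinearMap.add_apply, Module.End.mul_apply, LinearMap.smul_apply, map_smul, LinearMap.zero_apply] at hx
  simp only [Module.End.mul_apply]
  linear_combination (norm := module) hx

include hS hp hOS hπa hπ2 hπ0 hπ1 hc00 hc0 hg hC in
lemma blk_comm_idem : blk q e g v w * π = π * blk q e g v w := by
  classical
  haveI := Fintype.ofFinite F
  set A := blk q e g v w with hA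
  have h2' : ∀ x, π (π x) = π x := fun x => by rw [← Module.End.mul_apply, hπ2]
  have hA'π : ∀ x, adj hF A (π x) = π (A x) := fun x => by
    rw [← Module.End.mul_apply, adj_blk_idem hF hS hp hπa hc00 hc0 hg hC]; rfl
  have hπAπ : ∀ x, π (A (π x)) = π (A x) := fun x => by rw [← hA'π, h2', hA'π]
  have hπA'π : ∀ x, π (adj hF A (π x)) = π (A x) := fun x => by rw [hA'π, h2']
  -- a special isometry of the first factor separating the image and the kernel
  obtain ⟨u, hu, hcase⟩ := idem_line hF hπa hπ2 hπ0 hπ1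
  obtain ⟨z, hz, hz3⟩ : ∃ z : F, IsPhase q z ∧ z ^ 3 ≠ 1 := by
    by_contra h
    push Not at h
    have hsub : (Finset.univ.filter fun t : F => t * t ^ q = 1) ⊆ (Polynomial.nthRoots 3 (1 : F)).toFinset :=
      fun t ht => by
        rw [Multiset.mem_toFinset, Polynomial.mem_nthRoots (by norm_num)]
        exact h t (Finset.mem_filter.1 ht).2
    have h1 := (Finset.card_le_card hsub).trans (((Multiset.toFinset_card_le _).trans (Polynomial.card_nthRoots _ _)))
    rw [card_phase hF] at h1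
    have := hS.three
    omega
  have hz0 := hz.ne_zero
  obtain ⟨β, hβ, hβd, hβx⟩ := exists_refl hF (W := ⊤) (u := u) Submodule.mem_top hu (l := (z ^ 3)⁻¹)
    ((hz.pow 3).inv)
  set α : GL (Fin 3) F := Matrix.GeneralLinearGroup.mkOfDetNeZero (z • (β : Matrix (Fin 3) (Fin 3) F))
    (by rw [Matrix.det_smul, hβd, Fintype.card_fin]; field_simp; exact one_ne_zero) with hα
  have hαU : α ∈ suGL 3 F q := by
    refine ⟨mem_GU.2 fun x y => ?_, mem_specialLinear.2 ?_⟩
    · show ⟪(z • (β : Matrix (Fin 3) (Fin 3) F)) *ᵥ x, (z • (β : Matrix (Fin 3) (Fin 3) F)) *ᵥ y⟫ = _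
      rw [Matrix.smul_mulVec, Matrix.smul_mulVec, smul_l, smul_r hF, ← mul_assoc, hz, one_mul, mem_GU.1 hβ.1]
    · show (z • (β : Matrix (Fin 3) (Fin 3) F)).det = 1
      rw [Matrix.det_smul, hβd, Fintype.card_fin]; field_simp
  obtain ⟨c₁, c₂, hc12, hL1⟩ : ∃ c₁ c₂ : F, c₁ ≠ c₂ ∧ ∀ x,
      (α : Matrix (Fin 3) (Fin 3) F) *ᵥ x = c₁ • π x + c₂ • (x - π x) := by
    have hne : z * (z ^ 3)⁻¹ ≠ z := fun h => hz3 (inv_eq_one.1 (mul_left_cancel₀ hz0 (h.trans (mul_one z).symm)))
    have hax : ∀ x, (α : Matrix (Fin 3) (Fin 3) F) *ᵥ x = z • x + (z * (z ^ 3)⁻¹ - z) • prjL hF u x := fun x => by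
      show (z • (β : Matrix (Fin 3) (Fin 3) F)) *ᵥ x = _
      rw [Matrix.smul_mulVec, hβx, prjL_apply hF, smul_add, smul_smul, smul_smul]
      congr 2
      ring
    rcases hcase with h | h
    · refine ⟨_, _, hne, fun x => ?_⟩
      rw [hax, ← h]; module
    · refine ⟨z, z * (z ^ 3)⁻¹, hne.symm, fun x => ?_⟩
      rw [hax, ← h, LinearMap.sub_apply, Module.End.one_apply]; module
  -- conjugate it by a root element
  obtain ⟨b, hb0, hb⟩ := skew_exists hF
  obtain ⟨z₁, hz₁, hzb₁⟩ := exists_rootY (e := e) hF hp (hS.sub hg).1 hb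
  obtain ⟨z₂, hz₂, hzb₂⟩ := exists_rootY (e := e) hF hp (hS.sub hg).1 (c := -b) (by
    rw [pow_neg hF]; linear_combination -hb)
  have hk := hS.le (kk_mem_su e hF hαU (one_mem (suGL 2 F q)))
  set h := g * z₁ * g⁻¹ * (kk e α 1) * (g * z₂ * g⁻¹) with hh
  have hhM : h ∈ M := M.mul_mem (M.mul_mem (M.mul_mem (M.mul_mem hg (hS.le hz₁)) (M.inv_mem hg)) hk)
    (M.mul_mem (M.mul_mem hg (hS.le hz₂)) (M.inv_mem hg))
  have hcq : c₀ ^ q = -c₀ := eq_neg_of_add_eq_zero_right hc0
  have hblk : ∀ x y, blk q e h x y =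
      blk q e (g * z₁ * g⁻¹) x w * Matrix.mulVecLin (α : Matrix (Fin 3) (Fin 3) F) * blk q e (g * z₂ * g⁻¹) v y +
      blk q e (g * z₁ * g⁻¹) x v * Matrix.mulVecLin (α : Matrix (Fin 3) (Fin 3) F) * blk q e (g * z₂ * g⁻¹) w y :=
    fun x y => by
      rw [hh, mul_assoc, blk_mul hF hp (g * z₁ * g⁻¹) (kk e α 1 * (g * z₂ * g⁻¹)),
        blk_mul hF hp (kk e α 1) (g * z₂ * g⁻¹), blk_mul hF hp (kk e α 1) (g * z₂ * g⁻¹)]
      simp only [blk_kk_left hF, hp.ww, hp.vv, hp.wv, hp.vw, zero_smul, one_smul, zero_mul, add_zero, zero_add,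
        mul_assoc]
  have hh0 : blk q e h w w = 0 := LinearMap.ext fun x => by
    rw [hblk]
    simp only [hzb₁, hzb₂, ← hA, hC, hp.ww, hp.vv, hp.wv, hp.vw, adj_smul hF, hπa, hcq, LinearMap.add_apply,
      LinearMap.smul_apply, Module.End.mul_apply, Module.End.one_apply, Matrix.mulVecLin_apply, hL1, map_add,
      map_sub, map_smul, h2', hA'π, hπAπ, hπA'π, LinearMap.zero_apply, zero_smul, zero_add, smul_zero, sub_self,
      add_zero, one_smul, smul_sub, smul_add, smul_smul]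
    module
  obtain ⟨κ, m, hκ, hD, -⟩ := kk_form hF hp
    (kron_of_C0 hF hS hp hOS ⟨(hS.sub hhM).1, fun t ht => M.mul_mem (M.mul_mem hhM (hS.le ht)) (M.inv_mem hhM)⟩
      hh0) hh0
  refine LinearMap.ext fun x => ?_
  have hx := congrArg (fun y => y - π y) (LinearMap.congr_fun hD (π x))
  rw [hblk, hblk] at hx
  simp only [hzb₁, hzb₂, ← hA, hC, hp.ww, hp.vv, hp.wv, hp.vw, adj_smul hF, hπa, hcq, LinearMap.add_apply,
      LinearMap.smul_apply, Module.End.mul_apply, Module.End.one_apply, Matrix.mulVecLin_apply, hL1, map_add,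
      map_sub, map_smul, h2', hA'π, hπAπ, hπA'π, LinearMap.zero_apply, zero_smul, zero_add, smul_zero, sub_self,
      add_zero, one_smul, smul_sub, smul_add, smul_smul] at hx
  have hne : κ * (b * c₀ * (c₂ - c₁)) ≠ 0 :=
    mul_ne_zero hκ (mul_ne_zero (mul_ne_zero hb0 hc00) (sub_ne_zero.2 hc12.symm))
  refine smul_right_injective _ hne ?_
  simp only [Module.End.mul_apply]
  linear_combination (norm := module) -hx

include hS hp hOS hπa hπ2 hπ0 hπ1 hc00 hc0 hg hC in
lemma idem_scalar {b : F} (hb0 : b ≠ 0) (hb : b + b ^ q = 0) :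
    ((b * c₀) * (b * c₀)) • (blk q e g v w * (1 - π) * adj hF (blk q e g v w)) = 1 - π := by
  set A := blk q e g v w with hA
  have h2' : ∀ x, π (π x) = π x := fun x => by rw [← Module.End.mul_apply, hπ2]
  have hA'π : ∀ x, adj hF A (π x) = π (A x) := fun x => by
    rw [← Module.End.mul_apply, adj_blk_idem hF hS hp hπa hc00 hc0 hg hC]; rfl
  have hcm := blk_comm_idem hF hS hp hOS hπa hπ2 hπ0 hπ1 hc00 hc0 hg hC
  have hAπ : ∀ x, A (π x) = π (A x) := fun x => by rw [← Module.End.mul_apply, hcm]; rfl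
  have hπA' : ∀ x, π (adj hF A x) = π (A x) := fun x => by
    have := congrArg (adj hF) hcm
    rw [adj_comp hF, adj_comp hF, hπa] at this
    rw [← Module.End.mul_apply, this, Module.End.mul_apply, hA'π]
  have hπAA' : ∀ x, π (A (adj hF A x)) = π (A (A x)) := fun x => by rw [← hAπ, hπA', hAπ]
  have hπAAA' : ∀ x, π (A (A (adj hF A x))) = π (A (A (A x))) := fun x => by rw [← hAπ, hπAA', hAπ]
  have hcq : c₀ ^ q = -c₀ := eq_neg_of_add_eq_zero_right hc0
  have hbq : b ^ q = -b := eq_neg_of_add_eq_zero_right hb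
  set a := (b * (c₀ * c₀))⁻¹ with ha
  have haq : a ^ q = -a := by
    rw [ha, inv_pow, mul_pow, mul_pow, hbq, hcq, ← inv_neg]; congr 1; ring
  obtain ⟨za, hza, hzab⟩ := exists_tv_blk (e := e) hF hp.ww (c := a) (by rw [haq, add_neg_cancel])
  obtain ⟨z₁, hz₁, hzb₁⟩ := exists_rootY (e := e) hF hp (hS.sub hg).1 hb
  obtain ⟨z₂, hz₂, hzb₂⟩ := exists_rootY (e := e) hF hp (hS.sub hg).1 (c := -b) (by
    rw [pow_neg hF]; linear_combination -hb)
  set W := za * (g * z₁ * g⁻¹) with hW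
  have hWM : W ∈ M := M.mul_mem (hS.le hza) (M.mul_mem (M.mul_mem hg (hS.le hz₁)) (M.inv_mem hg))
  obtain ⟨z₃, hz₃, hzb₃⟩ := exists_rootY (e := e) hF hp (hS.sub hWM).1 (c := a) (by rw [haq, add_neg_cancel])
  have hWw : blk q e W w w = (-(b * (c₀ * c₀))) • π := LinearMap.ext fun x => by
    rw [hW, blk_mul hF hp]
    simp only [hzab, hzb₁, ← hA, hC, hp.ww, hp.vv, hp.wv, hp.vw, adj_smul hF, hπa, hcq, LinearMap.add_apply,
      LinearMap.smul_apply, Module.End.mul_apply, Module.End.one_apply, map_smul, h2']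
    match_scalars <;> ring
  have hWv : blk q e W v w = 1 - π + (-(b * c₀)) • (A * π) := LinearMap.ext fun x => by
    rw [hW, blk_mul hF hp]
    simp only [hzab, hzb₁, ← hA, hC, hp.ww, hp.vv, hp.wv, hp.vw, adj_smul hF, hπa, hcq, LinearMap.add_apply,
      LinearMap.sub_apply, LinearMap.smul_apply, Module.End.mul_apply, Module.End.one_apply, map_smul, h2', hAπ, ha]
    match_scalars <;> field_simp <;> ring
  set U := W * z₃ * W⁻¹ * (g * z₂ * g⁻¹) with hU
  have hUM : U ∈ M := M.mul_mem (M.mul_mem (M.mul_mem hWM (hS.le hz₃)) (M.inv_mem hWM))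
    (M.mul_mem (M.mul_mem hg (hS.le hz₂)) (M.inv_mem hg))
  have hab : a * (b * (c₀ * c₀)) = 1 :=
    inv_mul_cancel₀ (mul_ne_zero hb0 (mul_ne_zero hc00 hc00))
  have hbcq : (-(b * c₀)) ^ q = -(b * c₀) := by rw [pow_neg hF, mul_pow, hbq, hcq]; ring
  have hsq : (-(b * (c₀ * c₀))) ^ q = b * (c₀ * c₀) := by rw [pow_neg hF, mul_pow, mul_pow, hbq, hcq]; ring
  have u1 : blk q e U v w = 1 := LinearMap.ext fun x => by
    rw [hU, blk_mul hF hp]
    simp only [hzb₂, hzb₃, hWw, hWv, ← hA, hC, hp.ww, hp.vv, hp.wv, hp.vw, adj_smul hF, adj_add hF, adj_sub hF,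
      adj_one hF, adj_comp hF, hπa, hcq, hbcq, hsq, LinearMap.add_apply, LinearMap.sub_apply, LinearMap.smul_apply,
      Module.End.mul_apply, Module.End.one_apply, map_smul, map_add, map_sub, h2', hAπ, hA'π, hπA', hπAA', hπAAA',
      ha]
    match_scalars <;> field_simp <;> ring
  have u2 : blk q e U w w = 0 := LinearMap.ext fun x => by
    rw [hU, blk_mul hF hp]
    simp only [hzb₂, hzb₃, hWw, hWv, ← hA, hC, hp.ww, hp.vv, hp.wv, hp.vw, adj_smul hF, adj_add hF, adj_sub hF,
      adj_one hF, adj_comp hF, hπa, hcq, hbcq, hsq, LinearMap.add_apply, LinearMap.sub_apply, LinearMap.smul_apply,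
      Module.End.mul_apply, Module.End.one_apply, map_smul, map_add, map_sub, h2', hAπ, hA'π, hπA', hπAA', hπAAA',
      LinearMap.zero_apply, ha]
    match_scalars <;> field_simp <;> ring
  have u3 : blk q e U v v = a • (1 - π) + (-b) • (A * (1 - π) * adj hF A) := LinearMap.ext fun x => by
    rw [hU, blk_mul hF hp]
    simp only [hzb₂, hzb₃, hWw, hWv, ← hA, hC, hp.ww, hp.vv, hp.wv, hp.vw, adj_smul hF, adj_add hF, adj_sub hF,
      adj_one hF, adj_comp hF, hπa, hcq, hbcq, hsq, LinearMap.add_apply, LinearMap.sub_apply, LinearMap.smul_apply,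
      Module.End.mul_apply, Module.End.one_apply, map_smul, map_add, map_sub, h2', hAπ, hA'π, hπA', hπAA', hπAAA',
      ha]
    match_scalars <;> field_simp <;> ring
  have u4 : blk q e U w v = 1 := by
    have := blk_rel (e := e) hF hp (hS.sub hUM).1 w v
    rwa [u2, adj_zero hF, zero_mul, zero_add, u1, adj_one hF, one_mul, hp.vw, one_smul] at this
  obtain ⟨σ, hσ⟩ := hOS w (hp.ne_zero hF) hp.ww _ (inR_of_blk hF hp hUM u1 u2 u3 u4)
  obtain ⟨x₀, hx₀⟩ : ∃ x, π x ≠ 0 := by
    by_contra h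
    push Not at h
    exact hπ0 (LinearMap.ext h)
  have hσ0 : σ = 0 := by
    have h1 := hσ (π x₀)
    simp only [LinearMap.add_apply, LinearMap.sub_apply, LinearMap.smul_apply, Module.End.mul_apply,
      Module.End.one_apply, map_sub, h2', hAπ, hA'π, sub_self, smul_zero, map_zero, add_zero] at h1
    exact (smul_eq_zero.1 h1.symm).resolve_right hx₀
  refine LinearMap.ext fun x => ?_
  have h1 := hσ x
  rw [hσ0, zero_smul] at h1
  simp only [LinearMap.add_apply, LinearMap.sub_apply, LinearMap.smul_apply, Module.End.mul_apply,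
    Module.End.one_apply] at h1 ⊢
  have h2 := congrArg (fun y => (b * (c₀ * c₀)) • y) h1
  simp only [smul_add, smul_smul, mul_comm (b * (c₀ * c₀)) a, hab, smul_zero, one_smul] at h2
  linear_combination (norm := module) -h2

include hS hp hOS hπa hπ2 hπ0 hπ1 hc00 hc0 hg hC in
lemma q_eq_three : q = 3 := by
  classical
  haveI := Fintype.ofFinite F
  by_contra hne
  have h3 := hS.three
  obtain ⟨x, hx0, hx⟩ : ∃ x : F, x ≠ 0 ∧ (x * x ^ q) * (x * x ^ q) ≠ 1 := by
    by_contra h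
    push Not at h
    have hsub : (Finset.univ.erase (0 : F)) ⊆ (Polynomial.nthRoots (2 * (q + 1)) (1 : F)).toFinset :=
      fun t ht => by
        rw [Multiset.mem_toFinset, Polynomial.mem_nthRoots (by omega)]
        rw [← h t (Finset.mem_erase.1 ht).1]
        ring
    have h1 := (Finset.card_le_card hsub).trans (((Multiset.toFinset_card_le _).trans (Polynomial.card_nthRoots _ _)))
    rw [Finset.card_erase_of_mem (Finset.mem_univ _), Finset.card_univ, ← Nat.card_eq_fintype_card, hF, pow_two] at h1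
    have h4 : 4 * q ≤ q * q := Nat.mul_le_mul_right q (by omega)
    omega
  set μ := x * x ^ q with hμdef
  have hμ0 : μ ≠ 0 := mul_ne_zero hx0 (pow_ne_zero _ hx0)
  have e1 := idem_scalar hF hS hp hOS hπa hπ2 hπ0 hπ1 hc00 hc0 hg hC hc00 hc0
  have e2 := idem_scalar hF hS hp hOS hπa hπ2 hπ0 hπ1 hc00 hc0 hg hC (b := μ * c₀) (mul_ne_zero hμ0 hc00) (by
    rw [mul_pow, norm_fix hF x]; linear_combination μ * hc0)
  refine hπ1 (LinearMap.ext fun y => (sub_eq_zero.1 ?_).symm)
  have e1' := LinearMap.congr_fun e1 y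
  have e2' := LinearMap.congr_fun e2 y
  simp only [LinearMap.smul_apply, LinearMap.sub_apply, Module.End.one_apply] at e1' e2'
  apply smul_right_injective (Fin 3 → F) (sub_ne_zero.2 hx)
  simp only [smul_zero]
  linear_combination (norm := module) e2' - (μ * μ) • e1'

end CfsgLib.Geo.TensorU
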