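/-
The stabiliser of `F^3 ⊗ F^2` in the special unitary group is maximal for at least three elements in the fixed
field.
-/
import Cfsg.Agent.Geo.TensorUnitSmallComm
import Cfsg.Agent.Geo.TensorUnitBridge

set_option autoImplicit false
set_option linter.unusedSectionVars false

namespace CfsgLib.Geo.TensorU

open Matrix Cfsg Cfsg.Geo CfsgLib.Geo CfsgLib.Geo.UTv CfsgLib.Geo.UFrame

variable {n q : ℕ} {F : Type*} [Field F] {e : Fin n ≃ Fin 3 × Fin 2} {M : Subgroup (GL (Fin n) F)}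
  {w v : Fin 2 → F}

local notation "⟪" x ", " y "⟫" => Cfsg.hermForm _ F q x y

variable [Finite F] (hF : Nat.card F = q ^ 2)
include hF

lemma adj_prjL (u : Fin 3 → F) : adj hF (prjL hF u) = prjL hF u := by
  rw [prjL, adj_smul hF, adj_dy hF, inv_pow, self_pow hF]

lemma prjL_idem {u : Fin 3 → F} (hu : ⟪u, u⟫ ≠ 0) : prjL hF u * prjL hF u = prjL hF u :=
  LinearMap.ext fun x => by
    rw [Module.End.mul_apply, prjL_apply hF u x, map_smul, prjL_apply hF u u, div_self hu, one_smul]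

lemma prjL_ne {u : Fin 3 → F} (hu : ⟪u, u⟫ ≠ 0) : prjL hF u ≠ 0 ∧ prjL hF u ≠ 1 := by
  have hu0 : u ≠ 0 := fun h => hu (by rw [h, zero_l hF])
  refine ⟨fun h => hu0 ?_, fun h => ?_⟩
  · have := LinearMap.congr_fun h u
    rwa [prjL_apply hF, div_self hu, one_smul, LinearMap.zero_apply] at this
  · have h1 := finrank_perp hF (F ∙ u)
    rw [finrank_span_singleton hu0] at h1
    obtain ⟨y, hy, hy0⟩ := (Submodule.ne_bot_iff (perp q (F ∙ u))).1 fun hb => by rw [hb, finrank_bot] at h1; omega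
    refine hy0 ?_
    have := LinearMap.congr_fun h y
    rw [prjL_apply hF, hy u (Submodule.mem_span_singleton_self u), zero_div, zero_smul, Module.End.one_apply] at this
    exact this.symm

/-- An orthogonal basis through two given non-isotropic vectors. -/
lemma exists_third {e₀ u : Fin 3 → F} (he : ⟪e₀, e₀⟫ ≠ 0) (hu : ⟪u, u⟫ ≠ 0) (hue : ⟪u, e₀⟫ = 0) :
    ∃ f, ⟪f, e₀⟫ = 0 ∧ ⟪f, u⟫ = 0 ∧ ⟪f, f⟫ ≠ 0 ∧
      ∀ y, y = (⟪y, e₀⟫ / ⟪e₀, e₀⟫) • e₀ + (⟪y, u⟫ / ⟪u, u⟫) • u + (⟪y, f⟫ / ⟪f, f⟫) • f := by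
  classical
  set W := Submodule.span F ({e₀, u} : Set (Fin 3 → F)) with hW
  have h1 := finrank_perp hF W
  have h2 : Module.finrank F W ≤ 2 := by
    refine (finrank_span_le_card _).trans ?_
    simp only [Set.toFinset_insert, Set.toFinset_singleton]
    exact Finset.card_le_two
  obtain ⟨f, hf, hf0⟩ := (Submodule.ne_bot_iff (perp q W)).1 fun hb => by rw [hb, finrank_bot] at h1; omega
  have hfe : ⟪f, e₀⟫ = 0 := hf e₀ (Submodule.subset_span (by simp))
  have hfu : ⟪f, u⟫ = 0 := hf u (Submodule.subset_span (by simp))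
  have hli : LinearIndependent F ![e₀, u] := by
    rw [LinearIndependent.pair_iff]
    intro r s h
    have e1 := congrArg (fun z => ⟪z, e₀⟫) h
    have e2 := congrArg (fun z => ⟪z, u⟫) h
    simp only [add_l, smul_l, hue, swap0 hF hue, zero_l hF, mul_zero, add_zero, zero_add, mul_eq_zero, he, hu,
      or_false] at e1 e2
    exact ⟨e1, e2⟩
  have h3 : Module.finrank F W = 2 := by
    have := finrank_span_eq_card hli
    rwa [Matrix.range_cons_cons_empty, Fintype.card_fin] at this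
  have hline : perp q W = F ∙ f := (Submodule.eq_of_le_of_finrank_le ((Submodule.span_singleton_le_iff_mem _ _).2 hf)
    (by rw [finrank_span_singleton hf0]; omega)).symm
  have hres : ∀ y, ∃ r : F, y = (⟪y, e₀⟫ / ⟪e₀, e₀⟫) • e₀ + (⟪y, u⟫ / ⟪u, u⟫) • u + r • f := by
    intro y
    have hmem : y - (⟪y, e₀⟫ / ⟪e₀, e₀⟫) • e₀ - (⟪y, u⟫ / ⟪u, u⟫) • u ∈ perp q W := by
      intro x hx
      obtain ⟨r, s, rfl⟩ := Submodule.mem_span_pair.1 hx
      rw [add_r hF, smul_r hF, smul_r hF]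
      simp only [sub_l hF, smul_l, hue, swap0 hF hue, div_mul_cancel₀ _ he, div_mul_cancel₀ _ hu, mul_zero, sub_zero,
        sub_self, add_zero]
    rw [hline] at hmem
    obtain ⟨r, hr⟩ := Submodule.mem_span_singleton.1 hmem
    exact ⟨r, by rw [hr]; abel⟩
  have hff : ⟪f, f⟫ ≠ 0 := fun h0 => hf0 (eq_zero_of_forall hF fun y => by
    obtain ⟨r, hr⟩ := hres y
    refine swap0 hF ?_
    rw [hr, add_l, add_l, smul_l, smul_l, smul_l, swap0 hF hfe, swap0 hF hfu, h0, mul_zero, mul_zero, mul_zero,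
      add_zero, add_zero])
  refine ⟨f, hfe, hfu, hff, fun y => ?_⟩
  obtain ⟨r, hr⟩ := hres y
  have : ⟪y, f⟫ = r * ⟪f, f⟫ := by
    conv_lhs => rw [hr]
    rw [add_l, add_l, smul_l, smul_l, smul_l, swap0 hF hfe, swap0 hF hfu, mul_zero, mul_zero, zero_add, zero_add]
  rw [this, mul_div_assoc, div_self hff, mul_one]
  exact hr

variable (hS : Over2 q e M) (hp : Hyp q w v) (hOS : OnlyScalar q e M) {c₀ : F} (hc00 : c₀ ≠ 0)
  (hc0 : c₀ + c₀ ^ q = 0)
include hS hp hOS hc00 hc0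

lemma idem_facts {π : Module.End F (Fin 3 → F)} (hπa : adj hF π = π) (hπ2 : π * π = π) (hπ0 : π ≠ 0)
    (hπ1 : π ≠ 1) {g : GL (Fin n) F} (hg : g ∈ M) (hC : blk q e g w w = c₀ • π) :
    (3 : F) = 0 ∧ (∀ x : F, x ^ q = x → x ≠ 0 → x * x = 1) ∧
    (∀ x, blk q e g v w (π x) = π (blk q e g v w x)) ∧ (∀ x, adj hF (blk q e g v w) (π x) = π (blk q e g v w x)) ∧
    (∀ x, π (adj hF (blk q e g v w) x) = π (blk q e g v w x)) ∧
    (∀ x, blk q e g v w (adj hF (blk q e g v w) x - π (adj hF (blk q e g v w) x)) = x - π x) := by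
  haveI := Fintype.ofFinite F
  obtain rfl : q = 3 := q_eq_three hF hS hp hOS hπa hπ2 hπ0 hπ1 hc00 hc0 hg hC
  have h3 : (3 : F) = 0 := by
    have h9 : (Fintype.card F : F) = 0 := FiniteField.cast_card_eq_zero F
    rw [← Nat.card_eq_fintype_card, hF] at h9
    refine mul_self_eq_zero.1 ?_
    rw [← h9]; norm_num
  have hfix : ∀ x : F, x ^ 3 = x → x ≠ 0 → x * x = 1 := fun x hx hx0 =>
    mul_left_cancel₀ hx0 (by rw [← mul_assoc, mul_one]; linear_combination hx)
  have hcm := blk_comm_idem hF hS hp hOS hπa hπ2 hπ0 hπ1 hc00 hc0 hg hC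
  have hA'π := adj_blk_idem hF hS hp hπa hc00 hc0 hg hC
  have hπA' : π * adj hF (blk 3 e g v w) = π * blk 3 e g v w := by
    have := congrArg (adj hF) hcm
    rw [adj_comp hF, adj_comp hF, hπa] at this
    rw [this, hA'π]
  have hc2 : (c₀ * c₀) ^ 3 = c₀ * c₀ := by
    rw [mul_pow, eq_neg_of_add_eq_zero_right hc0]; ring
  refine ⟨h3, hfix, fun x => by rw [← Module.End.mul_apply, hcm]; rfl,
    fun x => by rw [← Module.End.mul_apply, hA'π]; rfl, fun x => by rw [← Module.End.mul_apply, hπA']; rfl,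
    fun x => ?_⟩
  have h1 := LinearMap.congr_fun (idem_scalar hF hS hp hOS hπa hπ2 hπ0 hπ1 hc00 hc0 hg hC hc00 hc0) x
  rw [show c₀ * c₀ * (c₀ * c₀) = 1 from hfix _ hc2 (mul_ne_zero hc00 hc00), one_smul] at h1
  simpa only [Module.End.mul_apply, LinearMap.sub_apply, Module.End.one_apply] using h1

/-- Adding a real multiple of the idempotent to the upper entry. -/
lemma idem_shift {π : Module.End F (Fin 3 → F)} {g : GL (Fin n) F} (hg : g ∈ M) (hC : blk q e g w w = c₀ • π)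
    {τ : F} (hτ : τ ^ q = τ) :
    ∃ g' ∈ M, blk q e g' w w = c₀ • π ∧ blk q e g' v w = blk q e g v w + τ • π := by
  obtain ⟨z, hz, hzb⟩ := exists_tv_blk (e := e) hF hp.ww (c := τ / c₀) (by
    rw [div_pow, hτ, eq_neg_of_add_eq_zero_right hc0, div_neg, add_neg_cancel])
  refine ⟨z * g, M.mul_mem (hS.le hz) hg, ?_, ?_⟩ <;>
    simp only [blk_mul hF hp, hzb, hp.ww, hp.vv, hp.wv, hp.vw, smul_mul_assoc, one_mul, mul_one, mul_zero, zero_mul,
      add_zero, zero_add, one_smul, zero_smul, hC, smul_smul, div_mul_cancel₀ _ hc00]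

/-- A lower left entry supported on a hyperbolic line and a non-isotropic point vanishes. -/
lemma null_pair {l : F} (hl : l ≠ 0) {a x : Fin 3 → F} (hax : ⟪a, x⟫ = 0) (haa : ⟪a, a⟫ = 0) (hxx : ⟪x, x⟫ ≠ 0)
    (h : Attain q e M w (l • (dy hF x a + dy hF a x))) : a = 0 := by
  have h0 := attain_nil hF hS hp hOS h (by
    refine LinearMap.ext fun y => ?_
    simp only [adj_smul hF, adj_add hF, adj_dy hF, Module.End.mul_apply, LinearMap.add_apply, LinearMap.smul_apply,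
      dy_apply, map_add, map_smul, add_l, smul_l, hax, haa, swap0 hF hax, LinearMap.zero_apply]
    module)
  have h1 := LinearMap.congr_fun h0 x
  simp only [LinearMap.smul_apply, LinearMap.add_apply, dy_apply, swap0 hF hax, zero_smul, add_zero,
    LinearMap.zero_apply, smul_eq_zero, hl, hxx, false_or] at h1
  exact h1

omit hOS hc00 hc0 in
lemma attain_conj {g : GL (Fin n) F} (hg : g ∈ M) {α : GL (Fin 3) F} (hα : α ∈ suGL 3 F q) :
    Attain q e M w (adj hF (blk q e g w w) * Matrix.mulVecLin (α : Matrix (Fin 3) (Fin 3) F) * blk q e g v w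
      + adj hF (blk q e g v w) * Matrix.mulVecLin (α : Matrix (Fin 3) (Fin 3) F) * blk q e g w w) := by
  refine ⟨g⁻¹ * (kk e α 1 * g), M.mul_mem (M.inv_mem hg)
    (M.mul_mem (hS.le (kk_mem_su e hF hα (one_mem (suGL 2 F q)))) hg), ?_⟩
  rw [blk_mul hF hp g⁻¹ (kk e α 1 * g), blk_mul hF hp (kk e α 1) g, blk_mul hF hp (kk e α 1) g,
    blk_inv hF (hS.sub hg).1, blk_inv hF (hS.sub hg).1]
  simp only [blk_kk_left hF, hp.ww, hp.vv, hp.wv, hp.vw, zero_smul, one_smul, zero_mul, add_zero, zero_add,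
    mul_assoc]

/-- No lower left entry is a multiple of the projection onto a non-isotropic line. -/
lemma no_line {u : Fin 3 → F} (hu : ⟪u, u⟫ ≠ 0) {g₀ : GL (Fin n) F} (hg₀ : g₀ ∈ M)
    (hC₀ : blk q e g₀ w w = c₀ • prjL hF u) : False := by
  obtain ⟨π, hπ⟩ : ∃ π, π = prjL hF u := ⟨_, rfl⟩
  rw [← hπ] at hC₀
  have hπa : adj hF π = π := by rw [hπ, adj_prjL hF]
  have hπ2 : π * π = π := by rw [hπ, prjL_idem hF hu]
  have hπ0 : π ≠ 0 := hπ ▸ (prjL_ne hF hu).1
  have hπ1 : π ≠ 1 := hπ ▸ (prjL_ne hF hu).2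
  have hu0 : u ≠ 0 := fun h => hu (by rw [h, zero_l hF])
  obtain ⟨-, -, hAπ, hA'π, -, -⟩ := idem_facts hF hS hp hOS hc00 hc0 hπa hπ2 hπ0 hπ1 hg₀ hC₀
  set A₀ := blk q e g₀ v w with hA₀
  have hπu : π u = u := by rw [hπ, prjL_apply hF, div_self hu, one_smul]
  set η := ⟪A₀ u, u⟫ / ⟪u, u⟫ with hη
  have hA₀u : A₀ u = η • u := by
    conv_lhs => rw [← hπu, hAπ, hπ, prjL_apply hF]
  have hηq : η ^ q = η := by
    have h1 : adj hF A₀ u = η • u := by
      conv_lhs => rw [← hπu, hA'π, hπ, prjL_apply hF]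
    have h2 := adj_spec hF A₀ u u
    rw [h1, hA₀u, smul_l, smul_r hF] at h2
    exact (mul_right_cancel₀ hu h2).symm
  obtain ⟨g, hg, hC, hA⟩ := idem_shift hF hS hp hOS hc00 hc0 hg₀ hC₀ (τ := -η) (by rw [pow_neg hF, hηq])
  obtain ⟨-, -, hAπ, hA'π, hπA', hrest⟩ := idem_facts hF hS hp hOS hc00 hc0 hπa hπ2 hπ0 hπ1 hg hC
  set A := blk q e g v w with hAdef
  have hAu : A u = 0 := by
    rw [hA, LinearMap.add_apply, LinearMap.smul_apply, hπu, ← hA₀, hA₀u]; module
  have hπA : ∀ x, π (A x) = 0 := fun x => by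
    rw [← hAπ, hπ, prjL_apply hF, map_smul, hAu, smul_zero]
  -- an Eichler element across the line
  have h1 := finrank_perp hF (F ∙ u)
  rw [finrank_span_singleton hu0] at h1
  obtain ⟨p, hp', hp0, hpp⟩ := exists_iso_mem hF (T := perp q (F ∙ u)) (by omega)
  have hpu : ⟪p, u⟫ = 0 := hp' u (Submodule.mem_span_singleton_self u)
  have hup : ⟪u, p⟫ = 0 := swap0 hF hpu
  obtain ⟨s, hs⟩ := trace_exists hF (t := -⟪u, u⟫) (by rw [pow_neg hF, self_pow hF])
  obtain ⟨α, hα, hαx⟩ := exists_eich hF (x := u) hpp hup (s := s) (by linear_combination hs)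
  have hπp : π p = 0 := by rw [hπ, prjL_apply hF, hpu, zero_div, zero_smul]
  set a := adj hF A p with ha
  have hK := attain_conj hF hS hp hg hα
  have hKeq : adj hF (blk q e g w w) * Matrix.mulVecLin (α : Matrix (Fin 3) (Fin 3) F) * blk q e g v w
      + adj hF (blk q e g v w) * Matrix.mulVecLin (α : Matrix (Fin 3) (Fin 3) F) * blk q e g w w
      = (-c₀) • (dy hF u a + dy hF a u) := LinearMap.ext fun y => by
    have e1 : ⟪A y, p⟫ = ⟪y, a⟫ := by rw [ha, adj_spec' hF]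
    have e2 : ∀ y, ⟪π y, p⟫ = 0 := fun y => by rw [hπ, prjL_apply hF, smul_l, hup, mul_zero]
    have e3 : ∀ y, ⟪π y, u⟫ = ⟪y, u⟫ := fun y => by rw [hπ, prjL_apply hF, smul_l, div_mul_cancel₀ _ hu]
    rw [hC, ← hAdef, adj_smul hF, hπa, eq_neg_of_add_eq_zero_right hc0]
    simp only [LinearMap.add_apply, LinearMap.smul_apply, Module.End.mul_apply, Matrix.mulVecLin_apply, hαx _,
      dy_apply, map_add, map_smul, map_sub, hπu, hπp, hπA, smul_l, e1, e2, e3, hA'π, ← ha]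
    module
  rw [hKeq] at hK
  have hau : ⟪a, u⟫ = 0 := by rw [ha, adj_spec hF, hAu, zero_r hF]
  have hAa : A a = p := by
    have := hrest p
    rwa [← ha, hπp, sub_zero, show π a = 0 by rw [ha, hπA', hπA], sub_zero] at this
  have haa : ⟪a, a⟫ = 0 := by
    conv_lhs => arg 4; rw [ha]
    rw [adj_spec hF, hAa, hpp]
  exact hp0 (by rw [← hAa, null_pair hF hS hp hOS hc00 hc0 (neg_ne_zero.2 hc00) hau haa hu hK, map_zero])

section two

variable {e₀ : Fin 3 → F} (he : Cfsg.hermForm 3 F q e₀ e₀ ≠ 0) {π : Module.End F (Fin 3 → F)} (hπ : 1 - π = prjL hF e₀)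
include he hπ

omit hS hp hOS hc00 hc0 in
lemma two_apply (x : Fin 3 → F) : π x = x - (⟪x, e₀⟫ / ⟪e₀, e₀⟫) • e₀ := by
  rw [← prjL_apply hF, ← hπ, LinearMap.sub_apply, Module.End.one_apply]; abel

omit hS hp hOS hc00 hc0 in
lemma two_idem : adj hF π = π ∧ π * π = π ∧ π ≠ 0 ∧ π ≠ 1 := by
  have hπ' : π = 1 - prjL hF e₀ := by rw [← hπ]; abel
  refine ⟨by rw [hπ', adj_sub hF, adj_one hF, adj_prjL hF], LinearMap.ext fun x => ?_, fun h => ?_, fun h => ?_⟩
  · simp only [Module.End.mul_apply, two_apply hF he hπ, sub_l hF, smul_l, div_mul_cancel₀ _ he]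
    simp
  · exact (prjL_ne hF he).2 (by rw [← hπ, h, sub_zero])
  · exact (prjL_ne hF he).1 (by rw [← hπ, h, sub_self])

/-- The square of the upper entry is not a multiple other than one of the idempotent. -/
lemma no_split {g : GL (Fin n) F} (hg : g ∈ M) (hC : blk q e g w w = c₀ • π) {s : F} (hs : s ^ q = s)
    (hs1 : s ≠ 1) (hsq : ∀ x, π x = x → blk q e g v w (blk q e g v w x) = s • x) : False := by
  obtain ⟨hπa, hπ2, hπ0, hπ1⟩ := two_idem hF he hπ
  obtain ⟨-, -, hAπ, hA'π, hπA', hrest⟩ := idem_facts hF hS hp hOS hc00 hc0 hπa hπ2 hπ0 hπ1 hg hC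
  set A := blk q e g v w with hA
  have h2' : ∀ x, π (π x) = π x := fun x => by rw [← Module.End.mul_apply, hπ2]
  have hAA : ∀ x, A (adj hF A x) = s • π x + (x - π x) := fun x => by
    rw [← hrest x, map_sub, ← hsq (π x) (h2' x), hAπ, hAπ, hπA', ← hAπ]
    abel
  obtain ⟨k, hk, k1, k2, k3, k4⟩ := exists_weyl (e := e) hF hp hc00 hc0
  have hcq : c₀ ^ q = -c₀ := eq_neg_of_add_eq_zero_right hc0
  set r := -(c₀ * c₀)⁻¹ with hr
  have hrq : r ^ q = r := by rw [hr, pow_neg hF, inv_pow, mul_pow, hcq]; ring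
  have hr0 : r ≠ 0 := neg_ne_zero.2 (inv_ne_zero (mul_ne_zero hc00 hc00))
  have h1s : 1 - s ≠ 0 := sub_ne_zero.2 (Ne.symm hs1)
  obtain ⟨H, hH⟩ : ∃ H, H = blk q e (k * g) w w * adj hF (blk q e (k * g) w w) := ⟨_, rfl⟩
  have hHx : ∀ x, H x = r • (s • π x + (x - π x)) := fun x => by
    have hC' : blk q e (k * g) w w = (-c₀⁻¹) • A := by
      rw [blk_mul hF hp, k2, k4, smul_mul_assoc, one_mul, zero_mul, add_zero, hA]
    rw [hH, hC', adj_smul hF, pow_neg hF, inv_pow, hcq, Module.End.mul_apply, LinearMap.smul_apply,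
      LinearMap.smul_apply, map_smul, hAA, hr, smul_smul]
    congr 1
    field_simp
  obtain ⟨g', hg', hC'⟩ := attain_word hF hS hp hOS (M.mul_mem (hS.le hk) hg) hc00 hc0
    (x := -s / (r * (1 - s))) (y := 1 / (r * r * (1 - s)))
    (by rw [div_pow, pow_neg hF, hs, mul_pow, hrq, pow_sub hF, one_pow, hs])
    (by rw [div_pow, one_pow, mul_pow, mul_pow, hrq, pow_sub hF, one_pow, hs]) hH
  refine no_line hF hS hp hOS hc00 hc0 he hg' ?_
  rw [hC', ← hπ]
  refine LinearMap.ext fun x => ?_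
  simp only [LinearMap.smul_apply, LinearMap.add_apply, LinearMap.sub_apply, Module.End.mul_apply,
    Module.End.one_apply, hHx, map_add, map_sub, map_smul, h2', smul_add, smul_sub, sub_self]
  match_scalars <;> field_simp <;> ring

/-- The route through a transvection. -/
lemma route_p {g : GL (Fin n) F} (hg : g ∈ M) (hC : blk q e g w w = c₀ • π) {u : Fin 3 → F}
    (hue : ⟪u, e₀⟫ = 0) (hu : ⟪u, u⟫ ≠ 0) (h1 : ⟪blk q e g v w u, u⟫ = 0)
    (h2 : ⟪blk q e g v w u, blk q e g v w u⟫ = ⟪u, u⟫) : False := by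
  obtain ⟨hπa, hπ2, hπ0, hπ1⟩ := two_idem hF he hπ
  obtain ⟨-, -, hAπ, hA'π, hπA', hrest⟩ := idem_facts hF hS hp hOS hc00 hc0 hπa hπ2 hπ0 hπ1 hg hC
  set A := blk q e g v w with hA
  have hπx := two_apply hF he hπ
  have hπu : π u = u := by rw [hπx, hue, zero_div, zero_smul, sub_zero]
  have hperp : ∀ x, ⟪π x, e₀⟫ = 0 := fun x => by rw [hπx, sub_l hF, smul_l, div_mul_cancel₀ _ he, sub_self]
  have hAu : π (A u) = A u := by rw [← hAπ, hπu]
  obtain ⟨l, hl⟩ := norm_exists hF (t := -⟪u, u⟫ / ⟪e₀, e₀⟫) (by rw [div_pow, pow_neg hF, self_pow hF, self_pow hF])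
  rw [eq_div_iff he] at hl
  obtain ⟨p, hpdef⟩ : ∃ p, p = u + l • e₀ := ⟨_, rfl⟩
  have hpp : ⟪p, p⟫ = 0 := by
    simp only [hpdef, add_l, add_r hF, smul_l, smul_r hF, hue, swap0 hF hue, mul_zero, add_zero, zero_add]
    linear_combination hl
  obtain ⟨d, hd0, hd⟩ := skew_exists hF
  have hK := attain_conj hF hS hp hg (utv_mem hF hpp hd)
  have hπp : π p = u := by
    rw [hpdef, map_add, map_smul, hπu, hπx e₀, div_self he, one_smul, sub_self, smul_zero, add_zero]
  obtain ⟨a, ha⟩ : ∃ a, a = adj hF A p := ⟨_, rfl⟩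
  obtain ⟨x, hx⟩ : ∃ x, x = adj hF (blk q e g w w) p := ⟨_, rfl⟩
  have hxu : x = (-c₀) • u := by
    rw [hx, hC, adj_smul hF, hπa, eq_neg_of_add_eq_zero_right hc0, LinearMap.smul_apply, hπp]
  have hrel := blk_rel (e := e) hF hp (hS.sub hg).1 w w
  rw [hp.ww, zero_smul, ← hA] at hrel
  have hKeq : adj hF (blk q e g w w) * Matrix.mulVecLin ((tvec p (uax q p d) (uax_dot_self hpp d) : GL (Fin 3) F) :
        Matrix (Fin 3) (Fin 3) F) * blk q e g v w
      + adj hF (blk q e g v w) * Matrix.mulVecLin ((tvec p (uax q p d) (uax_dot_self hpp d) : GL (Fin 3) F) :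
        Matrix (Fin 3) (Fin 3) F) * blk q e g w w = d • (dy hF x a + dy hF a x) := LinearMap.ext fun y => by
    have e0 := LinearMap.congr_fun hrel y
    simp only [LinearMap.add_apply, LinearMap.smul_apply, Module.End.mul_apply, Matrix.mulVecLin_apply,
      utv_mulVec hF hpp, map_add, map_smul, dy_apply, LinearMap.zero_apply, ← hA, ha, hx, adj_spec' hF] at e0 ⊢
    linear_combination (norm := module) e0
  rw [hKeq] at hK
  have hAAu : π (A (A u)) = A (A u) := by rw [← hAπ, hAu]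
  have hA'u : adj hF A u = A u := by
    conv_lhs => rw [← hπu, hA'π]
    exact hAu
  have hAa : A a = A (A u) + l • e₀ := by
    have h3 := hrest p
    have h4 : A (π (adj hF A p)) = A (A u) := by rw [hπA', ← hAπ, hπp]
    rw [map_sub, h4, hπp] at h3
    rw [ha, eq_add_of_sub_eq h3, hpdef]
    abel
  have hxx : ⟪x, x⟫ ≠ 0 := by
    rw [hxu, smul_l, smul_r hF]
    exact mul_ne_zero (neg_ne_zero.2 hc00) (mul_ne_zero (pow_ne_zero _ (neg_ne_zero.2 hc00)) hu)
  have hax : ⟪a, x⟫ = 0 := by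
    rw [hxu, smul_r hF, ha, adj_spec hF, hpdef, add_l, smul_l, swap0 hF h1, swap hF (A u) e₀, ← hAu, hperp,
      zero_pow' hF, mul_zero, add_zero, mul_zero]
  have haa : ⟪a, a⟫ = 0 := by
    conv_lhs => arg 4; rw [ha]
    rw [adj_spec hF, hAa, hpdef, add_l, smul_l, add_r hF, add_r hF, ← adj_spec hF A u, hA'u, h2, smul_r hF, hue,
      swap hF (A (A u)) e₀, ← hAAu, hperp, zero_pow' hF, smul_r hF, mul_zero, add_zero, zero_add]
    linear_combination hl
  have h0 := null_pair hF hS hp hOS hc00 hc0 hd0 hax haa hxx hK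
  rw [h0, map_zero] at hAa
  have h5 := congrArg (fun z => ⟪z, e₀⟫) hAa
  simp only [zero_l hF, add_l, smul_l] at h5
  rw [← hAAu, hperp, zero_add, eq_comm, mul_eq_zero] at h5
  have hl0 : l = 0 := h5.resolve_right he
  rw [hl0, zero_mul, zero_mul] at hl
  exact hu (neg_eq_zero.1 hl.symm)

/-- No lower left entry is a multiple of the projection along a non-isotropic line. -/
lemma no_plane {g₀ : GL (Fin n) F} (hg₀ : g₀ ∈ M) (hC₀ : blk q e g₀ w w = c₀ • π) : False := by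
  obtain ⟨hπa, hπ2, hπ0, hπ1⟩ := two_idem hF he hπ
  obtain ⟨h3, hfix, hAπ₀, hA'π₀, -, -⟩ := idem_facts hF hS hp hOS hc00 hc0 hπa hπ2 hπ0 hπ1 hg₀ hC₀
  have hnd : IsNondegenerateOn (Cfsg.hermForm 3 F q) (⊤ : Submodule F (Fin 3 → F)) := fun x _ hx => by
    obtain ⟨⟨y, hy⟩, z, hz⟩ := (isUnitaryForm hF (n := 3)).nondegenerate x hx
    exact ⟨⟨y, Submodule.mem_top, hy⟩, z, Submodule.mem_top, hz⟩
  obtain ⟨u, -, hue, hu⟩ := exists_aniso_perp hF hnd (w := e₀) Submodule.mem_top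
    (Or.inl (by rw [finrank_top, Module.finrank_fin_fun]))
  obtain ⟨f, hfe, hfu, hf, hexp⟩ := exists_third hF he hu hue
  have hπx := two_apply hF he hπ
  have hπu : π u = u := by rw [hπx, hue, zero_div, zero_smul, sub_zero]
  have hπf : π f = f := by rw [hπx, hfe, zero_div, zero_smul, sub_zero]
  have hperp : ∀ x, ⟪π x, e₀⟫ = 0 := fun x => by rw [hπx, sub_l hF, smul_l, div_mul_cancel₀ _ he, sub_self]
  set A₀ := blk q e g₀ v w with hA₀
  have hsym : ∀ x y, π x = x → ⟪A₀ x, y⟫ = ⟪x, A₀ y⟫ := fun x y hx => by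
    rw [← adj_spec hF]
    congr 1
    conv_rhs => rw [← hx, hA'π₀]
    conv_lhs => rw [← hx, hAπ₀]
  have hout : ∀ x, π x = x → A₀ x = (⟪A₀ x, u⟫ / ⟪u, u⟫) • u + (⟪A₀ x, f⟫ / ⟪f, f⟫) • f := fun x hx => by
    conv_lhs => rw [hexp (A₀ x)]
    rw [show ⟪A₀ x, e₀⟫ = 0 by rw [← hx, hAπ₀, hperp], zero_div, zero_smul, zero_add]
  set c := ⟪A₀ u, u⟫ / ⟪u, u⟫ with hc
  set η := ⟪A₀ f, f⟫ / ⟪f, f⟫ with hη
  set α := ⟪A₀ u, f⟫ / ⟪f, f⟫ with hα
  have hcq : c ^ q = c := by rw [hc, div_pow, self_pow hF, ← swap hF, ← hsym u u hπu]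
  have hηq : η ^ q = η := by rw [hη, div_pow, self_pow hF, ← swap hF, ← hsym f f hπf]
  obtain ⟨β, hβ, hβu⟩ : ∃ β : F, A₀ f = β • u + η • f ∧ β * ⟪u, u⟫ = α ^ q * ⟪f, f⟫ := by
    refine ⟨⟪A₀ f, u⟫ / ⟪u, u⟫, hout f hπf, ?_⟩
    rw [div_mul_cancel₀ _ hu, hα, div_pow, self_pow hF, div_mul_cancel₀ _ hf, ← swap hF, hsym f u hπf]
  have hAu : A₀ u = c • u + α • f := hout u hπu
  -- make the trace vanish
  obtain ⟨g, hg, hC, hA⟩ := idem_shift hF hS hp hOS hc00 hc0 hg₀ hC₀ (τ := c + η) (by rw [pow_add hF, hcq, hηq])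
  obtain ⟨d, hd⟩ : ∃ d, d = η - c := ⟨_, rfl⟩
  have hgu : blk q e g v w u = d • u + α • f := by
    rw [hA, LinearMap.add_apply, LinearMap.smul_apply, hπu, ← hA₀, hAu, hd]
    match_scalars
    · linear_combination c * h3
    · ring
  have hgf : blk q e g v w f = β • u + (-d) • f := by
    rw [hA, LinearMap.add_apply, LinearMap.smul_apply, hπf, ← hA₀, hβ, hd]
    match_scalars
    · ring
    · linear_combination η * h3
  have hdq : d ^ q = d := by rw [hd, pow_sub hF, hηq, hcq]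
  set s := d * d + α * β with hs
  have hab : α * β * ⟪u, u⟫ = α * α ^ q * ⟪f, f⟫ := by linear_combination α * hβu
  have habq : (α * β) ^ q = α * β := by
    rw [show α * β = α * α ^ q * ⟪f, f⟫ / ⟪u, u⟫ by rw [eq_div_iff hu, hab], div_pow, mul_pow, mul_pow,
      CfsgLib.Forms.pow_q_q hF, mul_comm (α ^ q) α,
      self_pow hF, self_pow hF]
  by_cases hs1 : s = 1
  swap
  · refine no_split hF hS hp hOS hc00 hc0 he hπ hg hC (s := s) ?_ hs1 fun x hx => ?_
    · rw [hs, pow_add hF, mul_pow, hdq, habq]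
    · have hxe : ⟪x, e₀⟫ = 0 := by rw [← hx, hperp]
      rw [hexp x, hxe, zero_div, zero_smul, zero_add]
      simp only [map_add, map_smul, hgu, hgf, hs]
      module
  rcases eq_or_ne d 0 with hd0 | hd0
  · refine route_p hF hS hp hOS hc00 hc0 he hπ hg hC hue hu ?_ ?_
    · rw [hgu, hd0, zero_smul, zero_add, smul_l, hfu, mul_zero]
    · rw [hgu, hd0, zero_smul, zero_add, smul_l, smul_r hF, ← mul_assoc, ← hab,
        show α * β = 1 by rw [← hs1, hs, hd0, mul_zero, zero_add], one_mul]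
  · have hd1 : d * d = 1 := hfix d hdq hd0
    have hαβ : α * β = 0 := by rw [hs, hd1] at hs1; linear_combination hs1
    have hα0 : α = 0 := by
      rw [hαβ, zero_mul, eq_comm] at hab
      rcases mul_eq_zero.1 ((mul_eq_zero.1 hab).resolve_right hf) with h | h
      · exact h
      · exact eq_zero_of_pow_eq_zero h
    have hβ0 : β = 0 := by
      rw [hα0, zero_pow' hF, zero_mul] at hβu
      exact (mul_eq_zero.1 hβu).resolve_right hu
    obtain ⟨l, hl⟩ := norm_exists hF (t := ⟪u, u⟫ / ⟪f, f⟫) (by rw [div_pow, self_pow hF, self_pow hF])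
    rw [eq_div_iff hf] at hl
    have h2 : (2 : F) ≠ 0 := fun h => one_ne_zero (α := F) (by linear_combination h3 - h)
    refine route_p hF hS hp hOS hc00 hc0 he hπ hg hC (u := u + l • f) ?_ ?_ ?_ ?_
    · rw [add_l, smul_l, hue, hfe, mul_zero, add_zero]
    · rw [show ⟪u + l • f, u + l • f⟫ = 2 * ⟪u, u⟫ by
        simp only [add_l, add_r hF, smul_l, smul_r hF, hfu, swap0 hF hfu, mul_zero, add_zero, zero_add]
        linear_combination hl]
      exact mul_ne_zero h2 hu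
    · simp only [map_add, map_smul, hgu, hgf, hα0, hβ0, zero_smul, add_zero, zero_add, add_l, add_r hF, smul_l,
        smul_r hF, hfu, swap0 hF hfu, mul_zero]
      linear_combination (-d) * hl
    · simp only [map_add, map_smul, hgu, hgf, hα0, hβ0, zero_smul, add_zero, zero_add, add_l, add_r hF, smul_l,
        smul_r hF, hfu, swap0 hF hfu, mul_zero, pow_neg hF, hdq]
      linear_combination (⟪u, u⟫ + l * l ^ q * ⟪f, f⟫) * hd1

end two

/-- A member with a singular non-zero lower left entry does not exist. -/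
lemma no_singular {g : GL (Fin n) F} (hg : g ∈ M) (h0 : blk q e g w w ≠ 0) {u : Fin 3 → F} (hu0 : u ≠ 0)
    (hu : blk q e g w w u = 0) : False := by
  obtain ⟨π, hπa, hπ2, hπ0, hπ1, g', hg', hC'⟩ := exists_idem hF hS hp hOS hg h0 hu0 hu hc00 hc0
  obtain ⟨e₀, he, h | h⟩ := idem_line hF hπa hπ2 hπ0 hπ1
  · exact no_line hF hS hp hOS hc00 hc0 he hg' (h ▸ hC')
  · exact no_plane hF hS hp hOS hc00 hc0 he h hg' hC'

/-- An overgroup with scalar root groups lies in the stabiliser. -/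
theorem mem_kron_small {g : GL (Fin n) F} (hg : g ∈ M) : g ∈ kron F e := by
  have hext : ∀ {g : GL (Fin n) F}, g ∈ M → IsExt q e M g := fun {g} hg =>
    ⟨(hS.sub hg).1, fun t ht => M.mul_mem (M.mul_mem hg (hS.le ht)) (M.inv_mem hg)⟩
  obtain ⟨A, hA⟩ : ∃ A, A = blk q e g v w := ⟨_, rfl⟩
  obtain ⟨C, hC⟩ : ∃ C, C = blk q e g w w := ⟨_, rfl⟩
  by_cases hC0 : C = 0
  · exact kron_of_C0 hF hS hp hOS (hext hg) (hC ▸ hC0)
  by_cases hker : ∃ u, u ≠ 0 ∧ C u = 0
  · obtain ⟨u, hu0, hu⟩ := hker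
    exact (no_singular hF hS hp hOS hc00 hc0 hg (hC ▸ hC0) hu0 (hC ▸ hu)).elim
  push Not at hker
  have hCinj : Function.Injective C := LinearMap.ker_eq_bot.1 (LinearMap.ker_eq_bot'.2 fun x hx =>
    by_contra fun hne => hker x hne hx)
  have hCsur := LinearMap.injective_iff_surjective.1 hCinj
  obtain ⟨S, hSdef⟩ : ∃ S, S = A ∘ₗ ((LinearEquiv.ofBijective C ⟨hCinj, hCsur⟩).symm : (Fin 3 → F) →ₗ[F] (Fin 3 → F)) :=
    ⟨_, rfl⟩
  have hSC : ∀ x, S (C x) = A x := fun x => by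
    rw [hSdef, LinearMap.comp_apply]
    congr 1
    exact (LinearEquiv.ofBijective C ⟨hCinj, hCsur⟩).symm_apply_apply x
  have hrel := blk_rel (e := e) hF hp (hS.sub hg).1 w w
  rw [← hA, ← hC, hp.ww, zero_smul] at hrel
  -- the skew quotient
  have hskew : ∀ x y, ⟪S x, y⟫ = -⟪x, S y⟫ := fun x y => by
    obtain ⟨x', rfl⟩ := hCsur x
    obtain ⟨y', rfl⟩ := hCsur y
    rw [hSC, hSC]
    have h1 := congrArg (fun L => ⟪L x', y'⟫) hrel
    simp only [LinearMap.add_apply, Module.End.mul_apply, LinearMap.zero_apply, add_l, adj_spec hF, zero_l hF] at h1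
    exact eq_neg_of_add_eq_zero_left h1
  by_cases hsc : ∃ s : F, ∀ x, S x = s • x
  · obtain ⟨s, hs⟩ := hsc
    have hss : s + s ^ q = 0 := by
      obtain ⟨x, hx⟩ := unit_self (F := F) (q := q) (m := 3) (by norm_num)
      have h1 := hskew x x
      rw [hs, smul_l, smul_r hF, hx, mul_one, mul_one] at h1
      linear_combination h1
    obtain ⟨z, hz, hzb⟩ := exists_tv_blk (e := e) hF hp.ww (c := -s) (by
      rw [pow_neg hF]; linear_combination -hss)
    obtain ⟨k, hk, k1, k2, k3, k4⟩ := exists_weyl (e := e) hF hp hc00 hc0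
    have h0 : blk q e (k * (z * g)) w w = 0 := by
      rw [blk_mul hF hp k (z * g), k2, k4, zero_mul, add_zero, blk_mul hF hp z g, hzb, hzb, ← hA, ← hC]
      refine LinearMap.ext fun x => ?_
      simp only [hp.ww, hp.vv, hp.wv, hp.vw, Module.End.mul_apply, LinearMap.add_apply, LinearMap.smul_apply,
        Module.End.one_apply, LinearMap.zero_apply, map_add, map_smul, ← hSC, hs]
      module
    have h1 := kron_of_C0 hF hS hp hOS (hext (M.mul_mem (hS.le hk) (M.mul_mem (hS.le hz) hg))) h0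
    have h2 := (kron F e).mul_mem ((kron F e).inv_mem hz.1) ((kron F e).mul_mem ((kron F e).inv_mem hk.1) h1)
    rwa [inv_mul_cancel_left, inv_mul_cancel_left] at h2
  -- otherwise a transvection gives a singular entry
  exfalso
  obtain ⟨p, hpp, hSp⟩ : ∃ p, ⟪p, p⟫ = 0 ∧ S p ∉ F ∙ p := by
    by_contra hcon
    push Not at hcon
    exact hsc (scalar_of_iso_eigen hF (by norm_num) S hcon)
  have hp0 : p ≠ 0 := fun h => hSp (by rw [h, map_zero]; exact Submodule.zero_mem _)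
  obtain ⟨d, hd0, hd⟩ := skew_exists hF
  obtain ⟨g', hg', hC'⟩ := attain_conj hF hS hp hg (utv_mem hF hpp hd)
  rw [← hA, ← hC] at hC'
  have hA' : ∀ x, adj hF A x = adj hF C (-(S x)) := fun x => eq_of_forall hF fun y => by
    rw [adj_spec hF, adj_spec hF, ← hSC, ← neg_one_smul F (S x), smul_l, hskew]
    ring
  have hK : ∀ x, blk q e g' w w x =
      adj hF C (d • (⟪S (C x), p⟫ • p - ⟪C x, p⟫ • S p)) := fun x => by
    rw [hC']
    simp only [LinearMap.add_apply, Module.End.mul_apply, Matrix.mulVecLin_apply, utv_mulVec hF hpp, hA', ← hSC,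
      map_add, map_sub, map_neg, map_smul]
    module
  -- a kernel vector
  classical
  obtain ⟨u, hu0, hu1, hu2⟩ : ∃ u, u ≠ 0 ∧ ⟪u, p⟫ = 0 ∧ ⟪u, S p⟫ = 0 := by
    have h1 := finrank_perp hF (Submodule.span F ({p, S p} : Set (Fin 3 → F)))
    have h2 : Module.finrank F (Submodule.span F ({p, S p} : Set (Fin 3 → F))) ≤ 2 := by
      refine (finrank_span_le_card _).trans ?_
      simp only [Set.toFinset_insert, Set.toFinset_singleton]
      exact Finset.card_le_two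
    obtain ⟨u, hu, hu0⟩ := (Submodule.ne_bot_iff (perp q (Submodule.span F ({p, S p} : Set (Fin 3 → F))))).1 fun hb => by rw [hb, finrank_bot] at h1; omega
    exact ⟨u, hu0, hu p (Submodule.subset_span (by simp)), hu (S p) (Submodule.subset_span (by simp))⟩
  obtain ⟨u', rfl⟩ := hCsur u
  refine no_singular hF hS hp hOS hc00 hc0 hg' (fun h0 => ?_) (u := u') (fun h => hu0 (by rw [h, map_zero])) ?_
  · obtain ⟨y, hy⟩ := exists_one hF hp0
    obtain ⟨y', rfl⟩ := hCsur y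
    have h1 : adj hF C (d • (⟪S (C y'), p⟫ • p - ⟪C y', p⟫ • S p)) = 0 := by
      rw [← hK, h0, LinearMap.zero_apply]
    have h2 : d • (⟪S (C y'), p⟫ • p - ⟪C y', p⟫ • S p) = 0 := eq_zero_of_forall hF fun z => by
      obtain ⟨z', rfl⟩ := hCsur z
      rw [← adj_spec hF, h1, zero_l hF]
    have h3 := (smul_eq_zero.1 h2).resolve_left hd0
    rw [swap hF p (C y'), hy, one_pow, one_smul, sub_eq_zero] at h3
    exact hSp (h3 ▸ Submodule.smul_mem _ _ (Submodule.mem_span_singleton_self p))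
  · rw [hK, hskew, hu1, hu2, neg_zero, zero_smul, zero_smul, sub_zero, smul_zero, map_zero]

omit hS hp hOS hc00 hc0 in
/-- The stabiliser of `F^3 ⊗ F^2` is maximal. -/
theorem kron_maximal_three_two (hq : 3 ≤ q) (e : Fin n ≃ Fin 3 × Fin 2) :
    IsMaximalIn (suGL n F q) (kron F e ⊓ suGL n F q) := by
  refine ⟨lt_of_le_of_ne inf_le_right fun h => ?_, fun M hM hMI => ?_⟩
  · obtain ⟨g, hg, hgn⟩ := exists_not_mem hF (by norm_num) le_rfl e
    exact hgn (h.symm ▸ hg : g ∈ kron F e ⊓ suGL n F q).1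
  · have hS : Over2 q e M := ⟨hq, hM, hMI⟩
    by_cases hle : suGL n F q ≤ M
    · exact Or.inr (le_antisymm hMI hle)
    · obtain ⟨w, hw0, hw⟩ := exists_iso hF (m := 2) le_rfl
      obtain ⟨v, hwv, hvw, hv⟩ := exists_hyp hF hw0 hw
      obtain ⟨c, hc0, hc⟩ := skew_exists hF
      exact Or.inl (le_antisymm (fun g hg => ⟨mem_kron_small hF hS ⟨hw, hv, hwv, hvw⟩
        (onlyScalar2_of_not_le hF hS hle) hc0 hc hg, hMI hg⟩) hM)

omit hS hp hOS hc00 hc0 in
/-- The stabiliser of `F^2 ⊗ F^3` is maximal. -/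
theorem kron_maximal_two_three (hq : 3 ≤ q) (e : Fin n ≃ Fin 2 × Fin 3) :
    IsMaximalIn (suGL n F q) (kron F e ⊓ suGL n F q) := by
  set e' := e.trans (Equiv.prodComm (Fin 2) (Fin 3)) with he'
  have hT : ∀ (u : Fin 3 → F) (x : Fin 2 → F), T e' u x = T e x u := fun u x => funext fun i => by
    simp only [T, Tensor.ten, he', Function.comp_apply, Equiv.trans_apply, Equiv.prodComm_apply, Prod.fst_swap,
      Prod.snd_swap]
    exact mul_comm _ _
  have h : kron F e = kron F e' := by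
    ext g
    rw [mem_kron_iff, mem_kron_iff]
    constructor
    · rintro ⟨α, β, hg⟩
      exact ⟨β, α, fun u x => by rw [hT, hT, hg]⟩
    · rintro ⟨α, β, hg⟩
      exact ⟨β, α, fun u x => by rw [← hT, ← hT, hg]⟩
  rw [h]
  exact kron_maximal_three_two hF hq e'

end CfsgLib.Geo.TensorU
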