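/-
A finite field of odd prime degree over a field with a quadratic involution: the trace hermitian form,
adjoints of additive maps and their components.
-/
import Cfsg.Agent.Aschbacher.FieldMax.TracePairs
import Cfsg.Agent.Forms.FiniteQ

set_option autoImplicit false
set_option linter.unusedSectionVars false

namespace CfsgLib.Geo.UnitExt

open Module CfsgLib.FieldMax CfsgLib.Forms

variable {F : Type*} [Field F] [Finite F] {K : Type*} [Field K] [Algebra F K] [Finite K] {q : ℕ}

/-- The data: `F` has `q²` elements and `K` has odd prime degree over it. -/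
structure Data (q : ℕ) (F K : Type*) [Field F] [Field K] [Algebra F K] : Prop where
  card : Nat.card F = q ^ 2
  prime : (finrank F K).Prime
  odd : Odd (finrank F K)

/-- The exponent of the involution of `K`. -/
noncomputable abbrev qK (q : ℕ) (F K : Type*) [Field F] [Field K] [Algebra F K] : ℕ := q ^ finrank F K

variable (D : Data q F K)
include D

lemma Data.cardK : Nat.card K = qK q F K ^ 2 := by
  rw [Module.natCard_eq_pow_finrank (K := F) (V := K), D.card, qK, ← pow_mul, ← pow_mul, mul_comm]

lemma Data.three_le : 3 ≤ finrank F K := by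
  have := D.prime.two_le
  obtain ⟨k, hk⟩ := D.odd
  omega

lemma Data.qK_lt : q < qK q F K := by
  have h1 := two_le_q D.card
  have h2 := D.three_le
  calc q = q ^ 1 := (pow_one q).symm
    _ < _ := Nat.pow_lt_pow_right (by omega) (by omega)

lemma Data.pow_qK (a : F) : a ^ qK q F K = a ^ q := by
  obtain ⟨k, hk⟩ := D.odd
  rw [qK, hk]
  clear hk
  induction k with
  | zero => rw [Nat.mul_zero, Nat.zero_add, pow_one]
  | succ k ih =>
    rw [show 2 * (k + 1) + 1 = (2 * k + 1) + 1 + 1 by ring, pow_succ, pow_succ, pow_mul, pow_mul, pow_q_q D.card]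
    rw [show a ^ q ^ (2 * k + 1) = a ^ q from ih]

lemma Data.algebraMap_pow (a : F) : (algebraMap F K a) ^ qK q F K = algebraMap F K (a ^ q) := by
  rw [← map_pow, D.pow_qK]

lemma Data.add_pow (a b : K) : (a + b) ^ qK q F K = a ^ qK q F K + b ^ qK q F K := add_pow_q D.cardK a b

lemma Data.pow_pow (a : K) : (a ^ qK q F K) ^ qK q F K = a := pow_q_q D.cardK a

lemma Data.zero_pow : (0 : K) ^ qK q F K = 0 := by
  rw [← frobQ_apply D.cardK, map_zero]

lemma Data.neg_pow (a : K) : (-a) ^ qK q F K = -(a ^ qK q F K) := by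
  rw [← frobQ_apply D.cardK, map_neg, frobQ_apply]

lemma Data.sub_pow (a b : K) : (a - b) ^ qK q F K = a ^ qK q F K - b ^ qK q F K := by
  rw [← frobQ_apply D.cardK, map_sub, frobQ_apply, frobQ_apply]

lemma Data.smul_pow (c : F) (a : K) : (c • a) ^ qK q F K = c ^ q • a ^ qK q F K := by
  rw [Algebra.smul_def, mul_pow, D.algebraMap_pow, ← Algebra.smul_def]

omit D in
lemma trace_eq_sum_algHom [Fintype (K →ₐ[F] K)] (x : K) :
    algebraMap F K (Algebra.trace F K x) = ∑ σ : K →ₐ[F] K, σ x := by
  have h := LinearMap.congr_fun (traceMap_eq (F := F) (K := K)) x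
  rw [LinearMap.coe_sum, Finset.sum_apply] at h
  exact h

lemma Data.trace_pow (x : K) : Algebra.trace F K (x ^ qK q F K) = (Algebra.trace F K x) ^ q := by
  classical
  have : Fintype (K →ₐ[F] K) := Fintype.ofFinite _
  apply (algebraMap F K).injective
  rw [← D.algebraMap_pow, trace_eq_sum_algHom, trace_eq_sum_algHom]
  show _ = frobQ D.cardK _
  rw [map_sum]
  exact Finset.sum_congr rfl fun σ _ => by rw [frobQ_apply, map_pow]

omit D in
/-- The trace of the product with the conjugate. -/
noncomputable def hh (q : ℕ) (a b : K) : F := Algebra.trace F K (a * b ^ qK q F K)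

lemma Data.hh_swap (a b : K) : hh (F := F) q b a = hh (F := F) q a b ^ q := by
  rw [hh, hh, ← D.trace_pow, mul_pow, D.pow_pow, mul_comm]

omit D in
lemma hh_add_left (a a' b : K) : hh (F := F) q (a + a') b = hh q a b + hh q a' b := by
  rw [hh, add_mul, map_add]; rfl

lemma Data.hh_add_right (a b b' : K) : hh (F := F) q a (b + b') = hh q a b + hh q a b' := by
  rw [hh, D.add_pow, mul_add, map_add]; rfl

omit D in
lemma hh_smul_left (c : F) (a b : K) : hh (F := F) q (c • a) b = c * hh q a b := by
  rw [hh, smul_mul_assoc, map_smul, smul_eq_mul]; rfl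

lemma Data.hh_smul_right (c : F) (a b : K) : hh (F := F) q a (c • b) = c ^ q * hh q a b := by
  rw [hh, D.smul_pow, mul_smul_comm, map_smul, smul_eq_mul]; rfl

omit D in
lemma hh_zero_left (b : K) : hh (F := F) q 0 b = 0 := by rw [hh, zero_mul, map_zero]

lemma Data.hh_zero_right (a : K) : hh (F := F) q a 0 = 0 := by rw [hh, D.zero_pow, mul_zero, map_zero]

lemma Data.hh_sub_left (a a' b : K) : hh (F := F) q (a - a') b = hh q a b - hh q a' b := by
  rw [hh, sub_mul, map_sub]; rfl

omit D in
lemma hh_neg_left (a b : K) : hh (F := F) q (-a) b = -hh q a b := by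
  rw [hh, neg_mul, map_neg]; rfl

lemma Data.eq_zero_of_hh {a : K} (h : ∀ b, hh (F := F) q a b = 0) : a = 0 := by
  refine eq_zero_of_trace (F := F) fun y => ?_
  have := h (y ^ qK q F K)
  rwa [hh, D.pow_pow] at this

lemma Data.eq_of_hh {a a' : K} (h : ∀ b, hh (F := F) q a b = hh q a' b) : a = a' :=
  sub_eq_zero.1 (D.eq_zero_of_hh fun b => by rw [D.hh_sub_left, h, sub_self])

lemma Data.hh_mul_left (c a b : K) : hh (F := F) q (c * a) b = hh q a (c ^ qK q F K * b) := by
  rw [hh, hh, mul_pow, D.pow_pow]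
  congr 1
  ring

omit D in
/-- The conjugate of an additive map. -/
def IsHAdj (q : ℕ) (g g' : K →ₗ[F] K) : Prop := ∀ a b, hh (F := F) q (g a) b = hh q a (g' b)

omit D in
/-- The map is skew for the trace hermitian form. -/
def Skew (q : ℕ) (g : K →ₗ[F] K) : Prop := ∀ a b, hh (F := F) q (g a) b + hh q a (g b) = 0

/-- Conjugation of a map by the involution. -/
noncomputable def Data.cconj (g : K →ₗ[F] K) : K →ₗ[F] K where
  toFun x := g (x ^ qK q F K) ^ qK q F K
  map_add' x y := by rw [D.add_pow, map_add, D.add_pow]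
  map_smul' c x := by
    rw [D.smul_pow, map_smul, D.smul_pow, pow_q_q D.card]
    rfl

lemma Data.cconj_apply (g : K →ₗ[F] K) (x : K) : D.cconj g x = g (x ^ qK q F K) ^ qK q F K := rfl

lemma Data.exists_hadj (g : K →ₗ[F] K) : ∃ g', IsHAdj (F := F) q g g' := by
  obtain ⟨a', ha⟩ := exists_adj g
  refine ⟨D.cconj a', fun a b => ?_⟩
  rw [hh, hh, ha, D.cconj_apply, D.pow_pow]

lemma Data.hadj_symm {g g' : K →ₗ[F] K} (h : IsHAdj (F := F) q g g') : IsHAdj (F := F) q g' g := fun a b => by
  rw [D.hh_swap b, ← h, ← D.hh_swap]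

lemma Data.skew_isAdj {g : K →ₗ[F] K} (h : Skew (F := F) q g) : IsAdj g (-(D.cconj g)) := fun a y => by
  have h1 := h a (y ^ qK q F K)
  rw [hh, hh, D.pow_pow] at h1
  rw [LinearMap.neg_apply, D.cconj_apply, mul_neg, map_neg]
  exact eq_neg_of_add_eq_zero_left h1

lemma Data.cconj_repr (g : K →ₗ[F] K) (τ : K →ₐ[F] K) :
    (autBasis F K).repr (D.cconj g) τ = (autBasis F K).repr g τ ^ qK q F K := by
  classical
  have : Fintype (K →ₐ[F] K) := Fintype.ofFinite _
  have e : D.cconj g = ∑ ρ, ((autBasis F K).repr g ρ ^ qK q F K) • autBasis F K ρ := by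
    refine LinearMap.ext fun x => ?_
    conv_lhs => rw [D.cconj_apply, ← (autBasis F K).sum_repr g, LinearMap.coe_sum, Finset.sum_apply,
      ← frobQ_apply D.cardK, map_sum]
    rw [LinearMap.coe_sum, Finset.sum_apply]
    refine Finset.sum_congr rfl fun ρ _ => ?_
    simp only [LinearMap.smul_apply, autBasis_apply, AlgHom.toLinearMap_apply, smul_eq_mul, frobQ_apply,
      mul_pow, map_pow, D.pow_pow]
  rw [e, map_sum, Finsupp.finsetSum_apply, Finset.sum_eq_single τ]
  · rw [autBasis_apply, autBasis_repr_smul, if_pos rfl]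
  · intro ρ _ hρ; rw [autBasis_apply, autBasis_repr_smul, if_neg hρ]
  · simp

/-- The components of a skew map come in pairs. -/
lemma Data.skew_repr {g : K →ₗ[F] K} (h : Skew (F := F) q g) (σ : K →ₐ[F] K) :
    (autBasis F K).repr g (ainv σ) = -(ainv σ ((autBasis F K).repr g σ)) ^ qK q F K := by
  have h1 := adj_repr (D.skew_isAdj h) σ
  rw [map_neg, Finsupp.neg_apply, D.cconj_repr, neg_eq_iff_eq_neg] at h1
  rw [← D.pow_pow ((autBasis F K).repr g (ainv σ)), h1, D.neg_pow]

omit D in
/-- The skew map with the given component. -/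
noncomputable def skPair (q : ℕ) (σ : K →ₐ[F] K) (t : K) : K →ₗ[F] K :=
  t • σ.toLinearMap + (-(ainv σ t) ^ qK q F K) • (ainv σ).toLinearMap

omit D in
lemma skPair_repr (σ : K →ₐ[F] K) (t : K) (ρ : K →ₐ[F] K) [Decidable (σ = ρ)] [Decidable (ainv σ = ρ)] :
    (autBasis F K).repr (skPair q σ t) ρ =
      (if σ = ρ then t else 0) + if ainv σ = ρ then -(ainv σ t) ^ qK q F K else 0 := by
  rw [skPair, map_add, Finsupp.add_apply, autBasis_repr_smul, autBasis_repr_smul]

lemma Data.skPair_skew (σ : K →ₐ[F] K) (t : K) : Skew (F := F) q (skPair q σ t) := by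
  have key : ∀ a b : K, hh (F := F) q (t * σ a) b = hh q a ((ainv σ t) ^ qK q F K * ainv σ b) := fun a b => by
    have h := isAdj_smul t σ a (b ^ qK q F K)
    simp only [LinearMap.smul_apply, AlgHom.toLinearMap_apply, smul_eq_mul] at h
    rw [hh, hh, h, mul_pow, D.pow_pow, map_pow]
  intro a b
  have e : ∀ x, skPair q σ t x = t * σ x + -((ainv σ t) ^ qK q F K * ainv σ x) := fun x => by
    simp [skPair, smul_eq_mul]
  have k4 : hh (F := F) q a (t * σ b) = hh q ((ainv σ t) ^ qK q F K * ainv σ a) b := by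
    rw [D.hh_swap (t * σ b) a, key b a, ← D.hh_swap]
  have k3 : hh (F := F) q a (-((ainv σ t) ^ qK q F K * ainv σ b)) =
      -hh q a ((ainv σ t) ^ qK q F K * ainv σ b) := by
    rw [hh, D.neg_pow, mul_neg, map_neg]; rfl
  rw [e, e, hh_add_left, D.hh_add_right, key a b, hh_neg_left, k3, k4]
  ring

lemma Data.mul_skew {c : K} (hc : c + c ^ qK q F K = 0) : Skew (F := F) q (LinearMap.mulLeft F c) := fun a b => by
  rw [LinearMap.mulLeft_apply, LinearMap.mulLeft_apply, D.hh_mul_left c a b, ← D.hh_add_right, ← add_mul,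
    add_comm (c ^ qK q F K), hc, zero_mul, D.hh_zero_right]

lemma Data.skew_mul {c : K} (h : Skew (F := F) q (LinearMap.mulLeft F c)) : c + c ^ qK q F K = 0 := by
  refine D.eq_zero_of_hh fun b => ?_
  have h1 := h 1 b
  simp only [LinearMap.mulLeft_apply, mul_one] at h1
  rw [hh_add_left, D.hh_swap b (c ^ qK q F K), ← mul_one (c ^ qK q F K), ← D.hh_mul_left, ← D.hh_swap,
    mul_comm c b] at *
  exact h1

/-! ### Cardinalities -/

omit D in
lemma skew_card {L : Type*} [Field L] [Finite L] {s : ℕ} (hL : Nat.card L = s ^ 2) :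
    Nat.card {a : L // a + a ^ s = 0} = s ∧ s ≤ Nat.card {a : L // a ^ s = a} ∧
      Nat.card {a : L // a ^ s = a} ≤ s := by
  classical
  have hs := two_le_q hL
  have : Fintype L := Fintype.ofFinite L
  have bound : ∀ ε : L, Nat.card {a : L // a ^ s + ε * a = 0} ≤ s := fun ε => by
    rw [Nat.card_eq_fintype_card, Fintype.card_subtype]
    let P : Polynomial L := Polynomial.X ^ s + Polynomial.C ε * Polynomial.X
    have hd : P.natDegree = s := by
      rw [Polynomial.natDegree_add_eq_left_of_natDegree_lt, Polynomial.natDegree_X_pow]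
      rw [Polynomial.natDegree_X_pow]
      exact (Polynomial.natDegree_C_mul_le _ _).trans_lt (by rw [Polynomial.natDegree_X]; omega)
    have hP : P ≠ 0 := fun e => by rw [e, Polynomial.natDegree_zero] at hd; omega
    refine (Finset.card_le_card (t := P.roots.toFinset) fun a ha => ?_).trans
      ((Multiset.toFinset_card_le _).trans (P.card_roots'.trans hd.le))
    simp only [Finset.mem_filter, Finset.mem_univ, true_and] at ha
    rw [Multiset.mem_toFinset, Polynomial.mem_roots hP]
    simpa [P] using ha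
  have hfix : Nat.card {a : L // a ^ s = a} ≤ s := by
    refine le_trans (le_of_eq (Nat.card_congr (Equiv.subtypeEquivRight fun a => ?_))) (bound (-1))
    constructor <;> intro h <;> linear_combination h
  have hskew : Nat.card {a : L // a + a ^ s = 0} ≤ s := by
    refine le_trans (le_of_eq (Nat.card_congr (Equiv.subtypeEquivRight fun a => ?_))) (bound 1)
    constructor <;> intro h <;> linear_combination h
  let f : L →+ L := AddMonoidHom.id L + (frobQ hL).toAddMonoidHom
  have hf : ∀ a, f a = a + a ^ s := fun a => rfl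
  have h1 : Nat.card f.ker = Nat.card {a : L // a + a ^ s = 0} :=
    Nat.card_congr (Equiv.subtypeEquivRight fun a => by rw [AddMonoidHom.mem_ker, hf])
  have h2 : Nat.card f.range ≤ Nat.card {a : L // a ^ s = a} := by
    refine Nat.card_le_card_of_injective (fun x => ⟨x.1, ?_⟩) fun x y h => Subtype.ext (congrArg Subtype.val h :)
    obtain ⟨a, ha⟩ := x.2
    rw [← ha, hf, add_pow_q hL, pow_q_q hL, add_comm]
  have h3 := f.ker.card_eq_card_quotient_mul_card_addSubgroup
  rw [Nat.card_congr (QuotientAddGroup.quotientKerEquivRange f).toEquiv, h1, hL] at h3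
  have hpos : 0 < s := by omega
  refine ⟨le_antisymm hskew ?_, ?_, hfix⟩
  · by_contra hlt
    push Not at hlt
    nlinarith
  · by_contra hlt
    push Not at hlt
    nlinarith

lemma Data.card_skewK : Nat.card {a : K // a + a ^ qK q F K = 0} = qK q F K := (skew_card D.cardK).1

lemma Data.card_skewF : Nat.card {a : F // a + a ^ q = 0} = q := (skew_card D.card).1

omit D in
lemma skew_exists' {L : Type*} [Field L] [Finite L] {s : ℕ} (hL : Nat.card L = s ^ 2) :
    ∃ c : L, c ≠ 0 ∧ c + c ^ s = 0 := by
  by_contra h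
  push Not at h
  have h1 := (skew_card hL).1
  have : Subsingleton {a : L // a + a ^ s = 0} :=
    ⟨fun a b => Subtype.ext ((by_contra fun e => h a e a.2).trans (by_contra fun e => h b e b.2).symm)⟩
  have := Finite.card_le_one_iff_subsingleton.2 this
  have := two_le_q hL
  omega

lemma Data.mem_range_of_fixed {σ : K →ₐ[F] K} (hσ : σ ≠ AlgHom.id F K) {x : K} (hx : σ x = x) :
    ∃ c : F, algebraMap F K c = x := by
  refine (IsGalois.mem_range_algebraMap_iff_fixed x).2 fun f => ?_
  obtain ⟨j, hj⟩ := exists_pow_eq D.prime hσ ((Algebra.IsAlgebraic.algEquivEquivAlgHom F K) f)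
  show ((Algebra.IsAlgebraic.algEquivEquivAlgHom F K) f) x = x
  rw [hj]
  clear hj
  induction j with
  | zero => rfl
  | succ j ih => rw [pow_succ]; show (σ ^ j) (σ x) = x; rw [hx, ih]

lemma Data.sq_ne_id {σ : K →ₐ[F] K} (hσ : σ ≠ AlgHom.id F K) : σ.comp σ ≠ AlgHom.id F K := fun e => by
  have h := finrank_eq_two_of_sq D.prime hσ fun k => AlgHom.congr_fun e k
  have := D.three_le
  omega

lemma Data.ainv_ne {σ : K →ₐ[F] K} (hσ : σ ≠ AlgHom.id F K) : ainv σ ≠ σ := fun e => by
  have h := ainv_eq_self D.prime hσ e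
  have := D.three_le
  omega

/-- A real element outside the smaller field. -/
lemma Data.exists_real : ∃ θ : K, θ ^ qK q F K = θ ∧ ∀ c : F, algebraMap F K c ≠ θ := by
  by_contra hcon
  push Not at hcon
  have h1 : Nat.card {a : K // a ^ qK q F K = a} ≤ Nat.card {a : F // a ^ q = a} := by
    choose f hf using fun x : {a : K // a ^ qK q F K = a} => hcon x.1 x.2
    refine Nat.card_le_card_of_injective (fun x => ⟨f x, (algebraMap F K).injective ?_⟩) fun x y h => ?_
    · rw [← D.algebraMap_pow, hf, x.2]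
    · exact Subtype.ext (by rw [← hf x, ← hf y, show f x = f y from congrArg Subtype.val h])
  have h2 := (skew_card D.cardK).2.1
  have h3 := (skew_card D.card).2.2
  have := D.qK_lt
  omega

end CfsgLib.Geo.UnitExt
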