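/-
An additive group of skew maps of a field of degree three or five, stable under real scalings and one phase,
consists of scalars or contains every skew map.
-/
import Cfsg.Agent.Geo.UnitExtHerm

set_option autoImplicit false
set_option linter.unusedSectionVars false

namespace CfsgLib.Geo.UnitExt

open Module CfsgLib.FieldMax CfsgLib.Forms

variable {F : Type*} [Field F] [Finite F] {K : Type*} [Field K] [Algebra F K] [Finite K] {q : ℕ}

/-- Composition with scalars on both sides. -/
noncomputable def conjMul (a b : K) (g : K →ₗ[F] K) : K →ₗ[F] K :=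
  (LinearMap.mulLeft F a).comp (g.comp (LinearMap.mulLeft F b))

lemma conjMul_apply (a b : K) (g : K →ₗ[F] K) (x : K) : conjMul a b g x = a * g (b * x) := rfl

lemma conjMul_repr (a b : K) (g : K →ₗ[F] K) (ρ : K →ₐ[F] K) :
    (autBasis F K).repr (conjMul a b g) ρ = a * ρ b * (autBasis F K).repr g ρ := by
  rw [show conjMul a b g = a • g.comp (LinearMap.mulLeft F b) from
    LinearMap.ext fun x => by simp [conjMul_apply], map_smul, Finsupp.smul_apply, autBasis_repr_compMul,
    smul_eq_mul]
  ring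

/-- An additive group of skew maps with the scalars, the real scalings and a phase. -/
structure RGrp (q : ℕ) (Z : AddSubgroup (K →ₗ[F] K)) : Prop where
  skew : ∀ g ∈ Z, Skew (F := F) q g
  scalar : ∀ c : K, c + c ^ qK q F K = 0 → LinearMap.mulLeft F c ∈ Z
  tor : ∀ a : K, a ^ qK q F K = a → a ≠ 0 → ∀ g ∈ Z, conjMul a a g ∈ Z
  phase : ∃ z : K, (∀ g ∈ Z, conjMul z (z ^ qK q F K) g ∈ Z) ∧
    ∀ σ : K →ₐ[F] K, σ ≠ AlgHom.id F K → (z * σ (z ^ qK q F K)) ^ qK q F K ≠ z * σ (z ^ qK q F K)

lemma indep_pair {θ : K} (hθ : ∀ c : F, algebraMap F K c ≠ θ) : LinearIndependent F ![(1 : K), θ] := by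
  rw [LinearIndependent.pair_iff]
  intro s t h
  rw [Algebra.smul_def, mul_one, Algebra.smul_def] at h
  by_cases ht : t = 0
  · subst ht
    rw [map_zero, zero_mul, add_zero] at h
    exact ⟨(algebraMap F K).injective (h.trans (map_zero _).symm), rfl⟩
  · refine absurd ?_ (hθ (-s / t))
    rw [map_div₀, map_neg, div_eq_iff (by simpa using ht)]
    linear_combination -h

variable {Z : AddSubgroup (K →ₗ[F] K)} (D : Data q F K) (hZ : RGrp (F := F) q Z)
include D

/-- A semilinear trinomial vanishing on three independent elements is zero. -/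
lemma Data.trinomial {σ : K →ₐ[F] K} (hσ : σ ≠ AlgHom.id F K) {x : Fin 3 → K} (hx : LinearIndependent F x)
    {a b c : K} (h : ∀ i, a * x i + b * σ (x i) + c * σ (σ (x i)) = 0) : a = 0 ∧ b = 0 ∧ c = 0 := by
  have hx0 : x 0 ≠ 0 := hx.ne_zero 0
  have hs0 : σ (x 0) ≠ 0 := fun e => hx0 (σ.toRingHom.injective (e.trans (map_zero σ).symm))
  have hss0 : σ (σ (x 0)) ≠ 0 := fun e => hs0 (σ.toRingHom.injective (e.trans (map_zero σ).symm))
  set a' := a * x 0
  set b' := b * σ (x 0)
  set c' := c * σ (σ (x 0))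
  set y : Fin 3 → K := fun i => x i / x 0
  have hy : ∀ i, a' * y i + b' * σ (y i) + c' * σ (σ (y i)) = 0 := fun i => by
    rw [show a' * y i = a * x i by simp only [a', y]; field_simp,
      show b' * σ (y i) = b * σ (x i) by simp only [b', y, map_div₀]; field_simp,
      show c' * σ (σ (y i)) = c * σ (σ (x i)) by simp only [c', y, map_div₀]; field_simp]
    exact h i
  have hsum : a' + b' + c' = 0 := h 0
  have hd : ∀ i, a' * (y i - σ (y i)) + (a' + b') * σ (y i - σ (y i)) = 0 := fun i => by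
    rw [map_sub]
    linear_combination hy i - σ (σ (y i)) * hsum
  have hfix : ∀ z : K, σ z = z → ∃ k : F, algebraMap F K k = z := fun z => D.mem_range_of_fixed hσ
  have hne : ∀ i, i ≠ 0 → y i - σ (y i) ≠ 0 := fun i hi e => by
    obtain ⟨k, hk⟩ := hfix _ (sub_eq_zero.1 e).symm
    have hli := Fintype.linearIndependent_iff.1 hx (Pi.single i 1 - Pi.single 0 k)
    have := hli (by
      simp only [Pi.sub_apply, sub_smul, Finset.sum_sub_distrib, Pi.single_apply, ite_smul, zero_smul, one_smul,
        Finset.sum_ite_eq', Finset.mem_univ, if_true]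
      rw [Algebra.smul_def, hk]
      simp only [y]
      field_simp
      ring) i
    simp [hi] at this
  by_cases hab : a' = 0 ∧ a' + b' = 0
  · obtain ⟨h1, h2⟩ := hab
    rw [h1, zero_add] at h2
    rw [h1, h2, zero_add, zero_add] at hsum
    exact ⟨(mul_eq_zero.1 h1).resolve_right hx0, (mul_eq_zero.1 h2).resolve_right hs0,
      (mul_eq_zero.1 hsum).resolve_right hss0⟩
  exfalso
  have h1 := hd 1
  have h2 := hd 2
  have hD1 := hne 1 (by decide)
  have hab2 : a' + b' ≠ 0 := fun e => by
    rw [e, zero_mul, add_zero, mul_eq_zero] at h1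
    exact hab ⟨h1.resolve_right hD1, e⟩
  have hratio : σ ((y 2 - σ (y 2)) / (y 1 - σ (y 1))) = (y 2 - σ (y 2)) / (y 1 - σ (y 1)) := by
    have hσD1 : σ (y 1 - σ (y 1)) ≠ 0 := fun e => hD1 (σ.toRingHom.injective (e.trans (map_zero σ).symm))
    rw [map_div₀, div_eq_div_iff hσD1 hD1]
    refine mul_left_cancel₀ hab2 ?_
    linear_combination (y 1 - σ (y 1)) * h2 - (y 2 - σ (y 2)) * h1
  obtain ⟨s, hs⟩ := hfix _ hratio
  obtain ⟨k, hk⟩ := hfix (y 2 - algebraMap F K s * y 1) (by
    have e : algebraMap F K s * (y 1 - σ (y 1)) = y 2 - σ (y 2) := by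
      rw [hs, div_mul_cancel₀ _ hD1]
    rw [map_sub, map_mul, AlgHom.commutes]
    linear_combination e)
  have hli := Fintype.linearIndependent_iff.1 hx ![-k, -s, 1] (by
    rw [Fin.sum_univ_three]
    simp only [Matrix.cons_val_zero, Matrix.cons_val_one, Matrix.cons_val, Algebra.smul_def, map_neg, map_one, hk, y]
    field_simp
    ring) 2
  simp at hli

include hZ

lemma RGrp.lin_mem {g : K →ₗ[F] K} (hg : g ∈ Z) {a b : K} (ha : a ^ qK q F K = a) (hb : b ^ qK q F K = b) :
    conjMul a b g + conjMul b a g ∈ Z := by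
  have hT : ∀ c : K, c ^ qK q F K = c → conjMul c c g ∈ Z := fun c hc => by
    by_cases h0 : c = 0
    · rw [show conjMul c c g = 0 from LinearMap.ext fun x => by simp [conjMul_apply, h0]]
      exact Z.zero_mem
    · exact hZ.tor c hc h0 g hg
  rw [show conjMul a b g + conjMul b a g = conjMul (a + b) (a + b) g - conjMul a a g - conjMul b b g from
    LinearMap.ext fun x => by simp [conjMul_apply, add_mul, mul_add, map_add]; abel]
  exact Z.sub_mem (Z.sub_mem (hT _ (by rw [D.add_pow, ha, hb])) (hT a ha)) (hT b hb)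

/-- A component brings in its whole pair. -/
lemma RGrp.pair_mem {g : K →ₗ[F] K} (hg : g ∈ Z) {σ : K →ₐ[F] K} (hσ : σ ≠ AlgHom.id F K)
    (hc : (autBasis F K).repr g σ ≠ 0) (t : K) : skPair q σ t ∈ Z := by
  classical
  have : Fintype (K →ₐ[F] K) := Fintype.ofFinite _
  obtain ⟨θ, hθ, hθF⟩ := D.exists_real
  have hreal : ∀ τ : K →ₐ[F] K, (τ θ) ^ qK q F K = τ θ := fun τ => by rw [← map_pow, hθ]
  have hsep : ∀ τ τ' : K →ₐ[F] K, τ θ = τ' θ → τ = τ' := fun τ τ' h => by
    by_contra hne
    have h1 : ((ainv τ).comp τ') ≠ AlgHom.id F K := fun e => hne (AlgHom.ext fun x => by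
      have := AlgHom.congr_fun e x
      rw [AlgHom.comp_apply, AlgHom.id_apply] at this
      rw [← this, apply_ainv, this])
    obtain ⟨c, hc⟩ := D.mem_range_of_fixed h1 (x := θ) (by rw [AlgHom.comp_apply, ← h, ainv_apply])
    exact hθF c hc
  set p : Polynomial K := ∏ ρ ∈ Finset.univ.erase σ,
    Polynomial.C (σ θ - ρ θ)⁻¹ * (Polynomial.X - Polynomial.C (ρ θ)) with hp
  have hev : ∀ ρ : K →ₐ[F] K, p.eval (ρ θ) = if ρ = σ then 1 else 0 := fun ρ => by
    rw [hp, Polynomial.eval_prod]
    split_ifs with h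
    · subst h
      refine Finset.prod_eq_one fun τ hτ => ?_
      simp only [Polynomial.eval_mul, Polynomial.eval_C, Polynomial.eval_sub, Polynomial.eval_X]
      exact inv_mul_cancel₀ (sub_ne_zero.2 fun e => (Finset.mem_erase.1 hτ).1 (hsep _ _ e).symm)
    · exact Finset.prod_eq_zero (Finset.mem_erase.2 ⟨h, Finset.mem_univ _⟩) (by simp)
  have hcoef : ∀ i, p.coeff i ^ qK q F K = p.coeff i := fun i => by
    have e : p.map (frobQ D.cardK) = p := by
      rw [hp, Polynomial.map_prod]
      refine Finset.prod_congr rfl fun ρ _ => ?_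
      rw [Polynomial.map_mul, Polynomial.map_sub, Polynomial.map_C, Polynomial.map_X, Polynomial.map_C,
        map_inv₀, map_sub, frobQ_apply, frobQ_apply, hreal, hreal]
    conv_rhs => rw [← e, Polynomial.coeff_map, frobQ_apply]
  set c := (autBasis F K).repr g σ with hcdef
  -- real multiples of the component
  have hG : ∀ s : K, s ^ qK q F K = s → skPair q σ (s * c) ∈ Z := fun s hs => by
    have hmem : ∑ i ∈ p.support, (conjMul (s * p.coeff i) (θ ^ i) g + conjMul (θ ^ i) (s * p.coeff i) g) ∈ Z :=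
      AddSubgroup.sum_mem _ fun i _ => RGrp.lin_mem D hZ hg (by rw [mul_pow, hs, hcoef]) (by rw [pow_right_comm, hθ])
    have e1 : ∀ ρ : K →ₐ[F] K, ∑ i ∈ p.support, p.coeff i * (ρ θ) ^ i = if ρ = σ then 1 else 0 := fun ρ => by
      rw [← hev ρ, Polynomial.eval_eq_sum, Polynomial.sum_def]
    have e2 : ∀ ρ : K →ₐ[F] K, ∑ i ∈ p.support, θ ^ i * ρ (p.coeff i) = if ainv ρ = σ then 1 else 0 := fun ρ => by
      have h := congrArg ρ (e1 (ainv ρ))
      rw [map_sum] at h
      refine Eq.trans (Finset.sum_congr rfl fun i _ => ?_) (h.trans (by split_ifs <;> simp))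
      rw [map_mul, map_pow, apply_ainv, mul_comm]
    convert hmem using 1
    refine (autBasis F K).repr.injective (Finsupp.ext fun ρ => ?_)
    have e : ∀ i, s * p.coeff i * ρ (θ ^ i) * (autBasis F K).repr g ρ +
        θ ^ i * ρ (s * p.coeff i) * (autBasis F K).repr g ρ =
        s * (autBasis F K).repr g ρ * (p.coeff i * (ρ θ) ^ i) +
        ρ s * (autBasis F K).repr g ρ * (θ ^ i * ρ (p.coeff i)) := fun i => by
      rw [map_mul, map_pow]; ring
    rw [skPair_repr, map_sum, Finsupp.finsetSum_apply]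
    simp only [map_add, Finsupp.add_apply, conjMul_repr, e, Finset.sum_add_distrib, ← Finset.mul_sum, e1, e2]
    have hii : ainv (ainv σ) = σ := AlgHom.ext fun x => by
      have h1 := ainv_apply (ainv σ) (σ x)
      rwa [ainv_apply σ] at h1
    by_cases h1 : σ = ρ
    · subst h1
      rw [if_pos rfl, if_neg (D.ainv_ne hσ), if_pos rfl, if_neg (D.ainv_ne hσ)]
      ring
    · by_cases h2 : ainv σ = ρ
      · subst h2
        rw [if_neg h1, if_pos rfl, if_neg (Ne.symm h1), if_pos hii, D.skew_repr (hZ.skew g hg), ← hcdef]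
        rw [map_mul, mul_pow, ← map_pow (ainv σ) s, hs]
        ring
      · have h3 : ainv ρ ≠ σ := fun e3 => h2 (by
          rw [← e3]
          exact AlgHom.ext fun x => by
            have h4 := ainv_apply (ainv ρ) (ρ x)
            rwa [ainv_apply ρ] at h4)
        rw [if_neg h1, if_neg h2, if_neg (Ne.symm h1), if_neg h3]
        ring
  obtain ⟨z, hz, hzσ⟩ := hZ.phase
  set χ := z * σ (z ^ qK q F K) with hχ
  have hGχ : ∀ s : K, s ^ qK q F K = s → skPair q σ (χ * (s * c)) ∈ Z := fun s hs => by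
    convert hz _ (hG s hs) using 1
    refine LinearMap.ext fun x => ?_
    simp only [conjMul_apply, skPair, LinearMap.add_apply, LinearMap.smul_apply, AlgHom.toLinearMap_apply,
      smul_eq_mul, map_mul, mul_pow, hχ, ainv_apply, map_pow, D.pow_pow]
    ring
  set Q := qK q F K
  set y := t / c
  set s' := (y - y ^ Q) / (χ - χ ^ Q)
  have hden : χ - χ ^ Q ≠ 0 := sub_ne_zero.2 (Ne.symm (hzσ σ hσ))
  have hs' : s' ^ Q = s' := by
    simp only [s']
    rw [div_pow, D.sub_pow, D.sub_pow, D.pow_pow, D.pow_pow, ← neg_sub y, ← neg_sub χ, neg_div_neg_eq]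
  have hs : (y - s' * χ) ^ Q = y - s' * χ := by
    rw [D.sub_pow, mul_pow, hs']
    have : s' * (χ - χ ^ Q) = y - y ^ Q := div_mul_cancel₀ _ hden
    linear_combination this
  have h := Z.add_mem (hG _ hs) (hGχ s' hs')
  convert h using 1
  refine LinearMap.ext fun x => ?_
  have et : t = (y - s' * χ) * c + χ * (s' * c) := by
    simp only [y]; field_simp; ring
  rw [et]
  simp only [skPair, LinearMap.add_apply, LinearMap.smul_apply, map_add, D.add_pow, smul_eq_mul]
  ring

end CfsgLib.Geo.UnitExt
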