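/-
A group of skew maps stable under the torus and closed under one product rule, in degree three or five,
is the scalars or everything.
-/
import Cfsg.Agent.Geo.UnitExtGroup

set_option autoImplicit false
set_option linter.unusedSectionVars false

namespace CfsgLib.Geo.UnitExt

open Module CfsgLib.FieldMax CfsgLib.Forms

variable {F : Type*} [Field F] [Finite F] {K : Type*} [Field K] [Algebra F K] [Finite K] {q : ℕ}
variable {Z : AddSubgroup (K →ₗ[F] K)} (D : Data q F K) (hZ : RGrp (F := F) q Z)
include D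

lemma ainv_id : ainv (AlgHom.id F K) = AlgHom.id F K :=
  AlgHom.ext fun x => by simpa using ainv_apply (AlgHom.id F K) x

lemma Data.scalar_of_no_comp {g : K →ₗ[F] K} (hg : Skew (F := F) q g)
    (h : ∀ ρ : K →ₐ[F] K, ρ ≠ AlgHom.id F K → (autBasis F K).repr g ρ = 0) :
    ∃ c, c + c ^ qK q F K = 0 ∧ g = LinearMap.mulLeft F c := by
  classical
  obtain ⟨c, rfl⟩ : ∃ c : K, g = LinearMap.mulLeft F c := by
    by_contra hno
    push Not at hno
    obtain ⟨σ, hσ, hc⟩ := exists_component hno
    exact hc (h σ hσ)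
  exact ⟨c, D.skew_mul hg, rfl⟩

include hZ

lemma RGrp.all_of_pairs {σ : K →ₐ[F] K} (hσ : σ ≠ AlgHom.id F K) (h1 : ∀ t, skPair q σ t ∈ Z)
    (h2 : finrank F K = 3 ∨ (finrank F K = 5 ∧ ∀ t, skPair q (σ.comp σ) t ∈ Z))
    (g : K →ₗ[F] K) (hg : Skew (F := F) q g) : g ∈ Z := by
  classical
  have : Fintype (K →ₐ[F] K) := Fintype.ofFinite _
  set τ := σ.comp σ
  have hτ : τ ≠ AlgHom.id F K := D.sq_ne_id hσ
  set g1 := g - skPair q σ ((autBasis F K).repr g σ)
  have hg1 : Skew (F := F) q g1 := by
    intro a b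
    have e1 := hg a b
    have e2 := D.skPair_skew (q := q) σ ((autBasis F K).repr g σ) a b
    simp only [g1, LinearMap.sub_apply, D.hh_sub_left]
    rw [show hh (F := F) q a (g b - skPair q σ ((autBasis F K).repr g σ) b) =
      hh q a (g b) - hh q a (skPair q σ ((autBasis F K).repr g σ) b) by
        rw [eq_sub_iff_add_eq, ← D.hh_add_right, sub_add_cancel]]
    linear_combination e1 - e2
  suffices g1 ∈ Z by
    have h3 := Z.add_mem this (h1 ((autBasis F K).repr g σ))
    rwa [sub_add_cancel] at h3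
  have hσ1 : (autBasis F K).repr g1 σ = 0 := by
    simp only [g1, map_sub, Finsupp.sub_apply, skPair_repr, if_pos, if_neg (D.ainv_ne hσ), add_zero, sub_self]
  have hσ2 : (autBasis F K).repr g1 (ainv σ) = 0 := by
    rw [D.skew_repr hg1, hσ1, map_zero, D.zero_pow, neg_zero]
  have hcard : Nat.card (K →ₐ[F] K) = finrank F K := card_algHom
  have hσσ : ∀ x, σ (σ x) = τ x := fun x => rfl
  rcases h2 with h3 | ⟨h5, hτZ⟩
  · obtain ⟨c, hc, e⟩ := D.scalar_of_no_comp hg1 fun ρ hρ => by
      by_cases e1 : ρ = σ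
      · rw [e1, hσ1]
      by_cases e2 : ρ = ainv σ
      · rw [e2, hσ2]
      exfalso
      have hne := D.ainv_ne hσ
      have hi : ainv σ ≠ AlgHom.id F K := fun e => hσ (ainv_eq_id e)
      have h4 := Finset.card_le_univ ({ρ, σ, ainv σ, AlgHom.id F K} : Finset (K →ₐ[F] K))
      rw [← Nat.card_eq_fintype_card, hcard, h3] at h4
      rw [Finset.card_insert_of_notMem (by simp [e1, e2, hρ]), Finset.card_insert_of_notMem (by simp [hne.symm, hσ]),
        Finset.card_insert_of_notMem (by simp [hi]), Finset.card_singleton] at h4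
      omega
    rw [e]
    exact hZ.scalar c hc
  · have hττ : ainv τ ≠ τ := D.ainv_ne hτ
    have hτi : ainv τ ≠ AlgHom.id F K := fun e => hτ (ainv_eq_id e)
    have hτσ : τ ≠ σ := fun e => hσ (AlgHom.ext fun x => by
      have := AlgHom.congr_fun e (ainv σ x)
      simpa [τ] using this)
    set g2 := g1 - skPair q τ ((autBasis F K).repr g1 τ)
    have hg2 : Skew (F := F) q g2 := by
      intro a b
      have e1 := hg1 a b
      have e2 := D.skPair_skew (q := q) τ ((autBasis F K).repr g1 τ) a b
      simp only [g2, LinearMap.sub_apply, D.hh_sub_left]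
      rw [show hh (F := F) q a (g1 b - skPair q τ ((autBasis F K).repr g1 τ) b) =
        hh q a (g1 b) - hh q a (skPair q τ ((autBasis F K).repr g1 τ) b) by
          rw [eq_sub_iff_add_eq, ← D.hh_add_right, sub_add_cancel]]
      linear_combination e1 - e2
    suffices g2 ∈ Z by
      have h3 := Z.add_mem this (hτZ ((autBasis F K).repr g1 τ))
      rwa [sub_add_cancel] at h3
    have hne := D.ainv_ne hσ
    have hi : ainv σ ≠ AlgHom.id F K := fun e => hσ (ainv_eq_id e)
    have hii : ∀ μ : K →ₐ[F] K, ainv (ainv μ) = μ := fun μ => AlgHom.ext fun x => by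
      have h1 := ainv_apply (ainv μ) (μ x)
      rwa [ainv_apply μ] at h1
    have hτiσ : τ ≠ ainv σ := fun e => by
      have h3 : σ ^ 3 = 1 := AlgHom.ext fun x => by
        rw [show (3 : ℕ) = 2 + 1 from rfl, pow_succ, pow_two]
        show τ (σ x) = x
        rw [e, ainv_apply]
      let E := Algebra.IsAlgebraic.algEquivEquivAlgHom F K
      have h6 := pow_card_eq_one' (x := E.symm σ)
      rw [IsGalois.card_aut_eq_finrank F K, h5] at h6
      have h7 : σ ^ 5 = 1 := by rw [← E.apply_symm_apply σ, ← map_pow, h6, map_one]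
      apply hσ
      calc σ = (σ ^ 3) ^ 2 := by
            rw [← pow_mul, show 3 * 2 = 5 + 1 from rfl, pow_succ, h7, one_mul]
        _ = 1 := by rw [h3, one_pow]
        _ = AlgHom.id F K := rfl
    have hσiτ : σ ≠ ainv τ := fun e => hτiσ (by rw [e, hii])
    have hiτ : ainv τ ≠ ainv σ := fun e => hτσ (by rw [← hii τ, e, hii])
    obtain ⟨c, hc, e⟩ := D.scalar_of_no_comp hg2 fun ρ hρ => by
      have hev : ∀ μ, μ ≠ τ → μ ≠ ainv τ → (autBasis F K).repr g2 μ = (autBasis F K).repr g1 μ := fun μ h8 h9 => by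
        simp only [g2, map_sub, Finsupp.sub_apply, skPair_repr, if_neg (Ne.symm h8), if_neg (Ne.symm h9), add_zero,
          sub_zero]
      have hτ1 : (autBasis F K).repr g2 τ = 0 := by
        simp only [g2, map_sub, Finsupp.sub_apply, skPair_repr, if_pos, if_neg hττ, add_zero, sub_self]
      by_cases e1 : ρ = σ
      · rw [e1, hev _ hτσ.symm hσiτ, hσ1]
      by_cases e2 : ρ = ainv σ
      · rw [e2, hev _ hτiσ.symm hiτ.symm, hσ2]
      by_cases e3 : ρ = τ
      · rw [e3, hτ1]
      by_cases e4 : ρ = ainv τ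
      · rw [e4, D.skew_repr hg2, hτ1, map_zero, D.zero_pow, neg_zero]
      exfalso
      have h4 := Finset.card_le_univ ({ρ, τ, ainv τ, σ, ainv σ, AlgHom.id F K} : Finset (K →ₐ[F] K))
      rw [← Nat.card_eq_fintype_card, hcard, h5] at h4
      rw [Finset.card_insert_of_notMem (by simp [e1, e2, e3, e4, hρ]),
        Finset.card_insert_of_notMem (by simp [hττ.symm, hτσ, hτiσ, hτ]),
        Finset.card_insert_of_notMem (by simp [hσiτ.symm, hiτ, hτi]),
        Finset.card_insert_of_notMem (by simp [hne.symm, hσ]),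
        Finset.card_insert_of_notMem (by simp [hi]), Finset.card_singleton] at h4
      omega
    rw [e]
    exact hZ.scalar c hc

/-- In degree five a group with only one pair contains no product of the special kind. -/
lemma RGrp.not_one_pair (h5 : finrank F K = 5) {σ : K →ₐ[F] K} (hσ : σ ≠ AlgHom.id F K)
    (h1 : ∀ t, skPair q σ t ∈ Z)
    (hfew : ∀ g ∈ Z, (autBasis F K).repr g (σ.comp σ) = 0)
    (hprod : ∀ A ∈ Z, ∀ B ∈ Z, (∀ x, A (B (A x)) = 0) → ∀ X ∈ Z,
      (LinearMap.id - B.comp A).comp (X.comp (LinearMap.id - A.comp B)) ∈ Z) : False := by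
  classical
  have : Fintype (K →ₐ[F] K) := Fintype.ofFinite _
  set τ := σ.comp σ
  have hτ : τ ≠ AlgHom.id F K := D.sq_ne_id hσ
  -- members killing three independent elements vanish
  have hno3 : ∀ g ∈ Z, 3 ≤ finrank F (LinearMap.ker g) → g = 0 := fun g hg h3 => by
    obtain ⟨f, hf⟩ := exists_linearIndependent_of_le_finrank h3
    let x : Fin 3 → K := fun i => (f i : K)
    have hx : LinearIndependent F x := hf.map' (LinearMap.ker g).subtype (Submodule.ker_subtype _)
    have hfull : ∀ ρ : K →ₐ[F] K, ρ ≠ AlgHom.id F K → ρ ≠ σ → ρ ≠ ainv σ → (autBasis F K).repr g ρ = 0 := by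
      intro ρ h2 h3 h4
      by_contra hne
      have hiτ := hfew g hg
      have hτi : (autBasis F K).repr g (ainv τ) = 0 := by
        rw [D.skew_repr (hZ.skew g hg), hiτ, map_zero, D.zero_pow, neg_zero]
      obtain ⟨j, hj⟩ := exists_pow_eq D.prime hσ ρ
      let E := Algebra.IsAlgebraic.algEquivEquivAlgHom F K
      have h6 := pow_card_eq_one' (x := E.symm σ)
      rw [IsGalois.card_aut_eq_finrank F K, h5] at h6
      have h7 : σ ^ 5 = 1 := by rw [← E.apply_symm_apply σ, ← map_pow, h6, map_one]
      have hσ4 : ainv σ = σ ^ 4 := AlgHom.ext fun y => σ.toRingHom.injective (by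
        show σ (ainv σ y) = (σ * σ ^ 4) y
        rw [← pow_succ', h7, apply_ainv]; rfl)
      have hτ2 : τ = σ ^ 2 := (pow_two σ).symm
      have hτ3 : ainv τ = σ ^ 3 := AlgHom.ext fun y => τ.toRingHom.injective (by
        show τ (ainv τ y) = (τ * σ ^ 3) y
        rw [apply_ainv, hτ2, ← pow_add, h7]; rfl)
      rw [← Nat.div_add_mod j 5, pow_add, pow_mul, h7, one_pow, one_mul] at hj
      have : j % 5 < 5 := Nat.mod_lt _ (by norm_num)
      interval_cases hm : j % 5
      · exact h2 hj
      · exact h3 (by rw [hj, pow_one])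
      · exact hne (by rw [hj, ← hτ2]; exact hiτ)
      · exact hne (by rw [hj, ← hτ3]; exact hτi)
      · exact h4 (by rw [hj, hσ4])
    set a := (autBasis F K).repr g (ainv σ)
    set b := (autBasis F K).repr g (AlgHom.id F K)
    set c := (autBasis F K).repr g σ
    have hne := D.ainv_ne hσ
    have hi : ainv σ ≠ AlgHom.id F K := fun e => hσ (ainv_eq_id e)
    have hg' : ∀ y, g y = a * ainv σ y + b * y + c * σ y := fun y => by
      conv_lhs => rw [← (autBasis F K).sum_repr g, LinearMap.coe_sum, Finset.sum_apply]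
      rw [← Finset.sum_subset (Finset.subset_univ {ainv σ, AlgHom.id F K, σ}) (fun ρ _ hρ => by
        simp only [Finset.mem_insert, Finset.mem_singleton, not_or] at hρ
        rw [hfull ρ hρ.2.1 hρ.2.2 hρ.1, zero_smul, LinearMap.zero_apply]),
        Finset.sum_insert (by simp [hi, hne]), Finset.sum_insert (by simp [Ne.symm hσ]), Finset.sum_singleton]
      simp [a, b, c, add_assoc]
    have h0 := D.trinomial hσ hx (a := σ a) (b := σ b) (c := σ c) fun i => by
      have e : g (x i) = 0 := LinearMap.mem_ker.1 (f i).2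
      have e2 := congrArg σ e
      rw [hg', map_add, map_add, map_mul, map_mul, map_mul, apply_ainv, map_zero] at e2
      exact e2
    have hinj : ∀ y, σ y = 0 → y = 0 := fun y e => σ.toRingHom.injective (e.trans (map_zero σ).symm)
    refine LinearMap.ext fun y => ?_
    rw [hg', hinj _ h0.1, hinj _ h0.2.1, hinj _ h0.2.2]
    simp
  -- a member of rank three
  obtain ⟨θ, hθ, hθF⟩ := D.exists_real
  obtain ⟨δ', hδ0, hδ⟩ := skew_exists' D.card
  set δ := algebraMap F K δ' with hδdef
  have hδn : δ ^ qK q F K = -δ := by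
    rw [hδdef, D.algebraMap_pow, ← map_neg]
    exact congrArg _ (eq_neg_of_add_eq_zero_right hδ)
  set d := θ - ainv σ θ with hddef
  have hd : d ^ qK q F K = d := by rw [hddef, D.sub_pow, ← map_pow, hθ]
  have hd0 : d ≠ 0 := fun e => by
    have hne : ainv σ ≠ AlgHom.id F K := fun e => hσ (ainv_eq_id e)
    obtain ⟨k, hk⟩ := D.mem_range_of_fixed hne (sub_eq_zero.1 e).symm
    exact hθF k hk
  have hσd : σ d = σ θ - θ := by rw [hddef, map_sub, apply_ainv]
  have hσd0 : σ d ≠ 0 := fun e => hd0 (σ.toRingHom.injective (e.trans (map_zero σ).symm))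
  have hc0 : (-(δ / σ d + δ / d)) + (-(δ / σ d + δ / d)) ^ qK q F K = 0 := by
    rw [D.neg_pow, D.add_pow, div_pow, div_pow, hδn, hd, ← map_pow, hd]
    ring
  set A := skPair q σ (δ / σ d) + LinearMap.mulLeft F (-(δ / σ d + δ / d))
  have hA : A ∈ Z := Z.add_mem (h1 _) (hZ.scalar _ hc0)
  have hAy : ∀ y, A y = δ / σ d * (σ y - y) + δ / d * (ainv σ y - y) := fun y => by
    have hci : -(ainv σ (δ / σ d)) ^ qK q F K = δ / d := by
      rw [map_div₀, ainv_apply, hδdef, AlgHom.commutes, div_pow, ← hδdef, hδn, hd]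
      ring
    simp only [A, skPair, LinearMap.add_apply, LinearMap.smul_apply, AlgHom.toLinearMap_apply, smul_eq_mul,
      LinearMap.mulLeft_apply, hci]
    ring
  have hA1 : A 1 = 0 := by rw [hAy, map_one, map_one]; ring
  have hAθ : A θ = 0 := by
    rw [hAy, ← hσd, show ainv σ θ - θ = -d by rw [hddef]; ring]
    field_simp
    ring
  have hA0 : A ≠ 0 := fun e => by
    have h2 := congrArg (fun u => (autBasis F K).repr u σ) e
    simp only [A, map_add, Finsupp.add_apply, skPair_repr, if_pos, if_neg (D.ainv_ne hσ), add_zero, map_zero,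
      Finsupp.zero_apply] at h2
    rw [show LinearMap.mulLeft F (-(δ / σ d + δ / d)) = (-(δ / σ d + δ / d)) • (AlgHom.id F K).toLinearMap from
      LinearMap.ext fun x => by simp, autBasis_repr_smul, if_neg (Ne.symm hσ), add_zero, div_eq_zero_iff] at h2
    rcases h2 with h2 | h2
    · exact hδ0 ((algebraMap F K).injective (h2.trans (map_zero _).symm))
    · exact hσd0 h2
  have hk2 : finrank F (LinearMap.ker A) = 2 := by
    refine le_antisymm ?_ ?_
    · by_contra hlt
      exact hA0 (hno3 A hA (by omega))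
    · have h2 := indep_pair hθF
      have h3 : Submodule.span F (Set.range ![(1 : K), θ]) ≤ LinearMap.ker A := by
        rw [Submodule.span_le]
        rintro _ ⟨i, rfl⟩
        fin_cases i <;> simp [hA1, hAθ]
      have h4 := Submodule.finrank_mono h3
      rw [finrank_span_eq_card h2, Fintype.card_fin] at h4
      exact h4
  have hr3 : finrank F (LinearMap.range A) = 3 := by
    have := A.finrank_range_add_finrank_ker
    rw [hk2, h5] at this
    omega
  have hAs := hZ.skew A hA
  have hperp : ∀ z, (∀ x, hh (F := F) q z (A x) = 0) → A z = 0 := fun z h =>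
    D.eq_zero_of_hh fun b => by have := hAs z b; rw [h b, add_zero] at this; exact this
  clear_value A
  let bY := Module.finBasisOfFinrankEq F (LinearMap.range A) hr3
  -- the members whose form vanishes on the range
  let P : Fin 3 → Fin 3 → (K →ₗ[F] K) → F := fun i j B => hh q (B (bY i : K)) (bY j : K)
  let f : Z →+ ((Fin 3 → (frobQ D.card).toAddMonoidHom.eqLocus (-AddMonoidHom.id F)) × (Fin 3 → F)) :=
    AddMonoidHom.mk' (fun B => (fun i => ⟨P i i B, by
        show P i i B ^ q = -P i i B
        have h := hZ.skew B B.2 (bY i : K) (bY i : K)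
        rw [D.hh_swap (((B : K →ₗ[F] K)) (bY i : K)) (bY i : K)] at h
        exact eq_neg_of_add_eq_zero_right h⟩,
      ![P 0 1 B, P 0 2 B, P 1 2 B])) fun B B' => by
        have hPadd : ∀ i j, P i j ((B + B' : Z) : K →ₗ[F] K) = P i j B + P i j B' := fun i j => by
          simp [P, hh_add_left]
        refine Prod.ext (funext fun i => Subtype.ext ?_) (funext fun i => ?_)
        · exact hPadd i i
        · fin_cases i <;> exact hPadd _ _
  have hker : ∀ B : Z, B ∈ f.ker → ∀ x, A ((B : K →ₗ[F] K) (A x)) = 0 := by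
    intro B hB x
    have hB1 := congrArg Prod.fst (AddMonoidHom.mem_ker.1 hB)
    have hB2 := congrArg Prod.snd (AddMonoidHom.mem_ker.1 hB)
    have hdiag : ∀ i, P i i B = 0 := fun i => congrArg Subtype.val (congrFun hB1 i)
    have h01 : P 0 1 B = 0 := congrFun hB2 0
    have h02 : P 0 2 B = 0 := congrFun hB2 1
    have h12 : P 1 2 B = 0 := congrFun hB2 2
    have hsw : ∀ i j, P i j B = 0 → P j i B = 0 := fun i j h => by
      have h3 := hZ.skew B B.2 (bY j : K) (bY i : K)
      have h' : hh (F := F) q ((B : K →ₗ[F] K) (bY i : K)) (bY j : K) = 0 := h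
      rw [D.hh_swap ((B : K →ₗ[F] K) (bY i : K)) (bY j : K), h', zero_pow (by have := two_le_q D.card; omega),
        add_zero] at h3
      exact h3
    have hall : ∀ i j, P i j B = 0 := fun i j => by
      fin_cases i <;> fin_cases j <;>
        first | exact hdiag _ | assumption | exact hsw _ _ (by assumption)
    refine hperp _ fun x' => ?_
    have e1 : (A x : K) = ∑ i, bY.repr ⟨A x, LinearMap.mem_range_self A x⟩ i • (bY i : K) := by
      have := congrArg Subtype.val (bY.sum_repr ⟨A x, LinearMap.mem_range_self A x⟩)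
      simpa only [AddSubmonoidClass.coe_finsetSum, Submodule.coe_smul] using this.symm
    have e2 : (A x' : K) = ∑ i, bY.repr ⟨A x', LinearMap.mem_range_self A x'⟩ i • (bY i : K) := by
      have := congrArg Subtype.val (bY.sum_repr ⟨A x', LinearMap.mem_range_self A x'⟩)
      simpa only [AddSubmonoidClass.coe_finsetSum, Submodule.coe_smul] using this.symm
    rw [e1, e2]
    simp only [Fin.sum_univ_three, map_add, map_smul, hh_add_left, D.hh_add_right, hh_smul_left, D.hh_smul_right]
    have hP : ∀ i j, hh (F := F) q ((B : K →ₗ[F] K) (bY i : K)) (bY j : K) = 0 := hall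
    simp [hP]
  -- such members are few
  have hsq : ∀ B : Z, B ∈ f.ker → ∀ B' : Z, B' ∈ f.ker → ∀ c : K, c + c ^ qK q F K = 0 → ∀ x y,
      hh (F := F) q (c * A ((B' : K →ₗ[F] K) x)) (A ((B : K →ₗ[F] K) y)) +
        hh q (c * A ((B : K →ₗ[F] K) x)) (A ((B' : K →ₗ[F] K) y)) = 0 := by
    intro B hB B' hB' c hc x y
    set b := (B : K →ₗ[F] K)
    set b' := (B' : K →ₗ[F] K)
    set X := LinearMap.mulLeft F c
    have hX : X ∈ Z := hZ.scalar c hc
    have hBB : ∀ z, A ((b + b') (A z)) = 0 := fun z => by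
      rw [LinearMap.add_apply, map_add, hker B hB, hker B' hB', add_zero]
    set W := fun u : K →ₗ[F] K => (LinearMap.id - u.comp A).comp (X.comp (LinearMap.id - A.comp u))
    set G := b.comp (A.comp (X.comp (A.comp b'))) + b'.comp (A.comp (X.comp (A.comp b)))
    have hG : G ∈ Z := by
      have h' := Z.add_mem (Z.sub_mem (Z.sub_mem (hprod A hA _ (Z.add_mem B.2 B'.2) hBB X hX)
        (hprod A hA b B.2 (hker B hB) X hX)) (hprod A hA b' B'.2 (hker B' hB') X hX)) hX
      convert h' using 1
      refine LinearMap.ext fun z => ?_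
      simp only [G, LinearMap.add_apply, LinearMap.sub_apply, LinearMap.comp_apply, LinearMap.id_apply, map_add,
        map_sub]
      abel
    have hG0 : G = 0 := hno3 G hG (by
      have h8 : finrank F (LinearMap.range G) ≤ finrank F (LinearMap.ker A) := Submodule.finrank_mono (by
        rintro _ ⟨z, rfl⟩
        rw [LinearMap.mem_ker]
        simp only [G, LinearMap.add_apply, LinearMap.comp_apply, map_add]
        rw [hker B hB, hker B' hB', add_zero])
      have h9 := G.finrank_range_add_finrank_ker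
      rw [h5] at h9
      omega)
    have h10 : hh (F := F) q (G x) y = 0 := by rw [hG0, LinearMap.zero_apply, hh_zero_left]
    simp only [G, LinearMap.add_apply, LinearMap.comp_apply, hh_add_left] at h10
    have move : ∀ u : Z, ∀ v, hh (F := F) q ((u : K →ₗ[F] K) (A v)) y = hh q v (A ((u : K →ₗ[F] K) y)) := fun u v => by
      have e1 := hZ.skew u u.2 (A v) y
      have e2 := hAs v ((u : K →ₗ[F] K) y)
      linear_combination e1 - e2
    rw [move, move] at h10
    exact h10
  have huv : ∀ B : Z, B ∈ f.ker → ∀ B' : Z, B' ∈ f.ker → ∀ x y,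
      A ((B' : K →ₗ[F] K) x) * A ((B : K →ₗ[F] K) y) ^ qK q F K +
        A ((B : K →ₗ[F] K) x) * A ((B' : K →ₗ[F] K) y) ^ qK q F K = 0 := by
    intro B hB B' hB' x y
    refine D.eq_zero_of_hh fun w => ?_
    -- every field element is a combination of two skew ones over the smaller field
    obtain ⟨ω, hω⟩ : ∃ ω : F, ω ^ q ≠ ω := by
      by_contra h
      push Not at h
      exact frobQ_ne_id D.card (RingHom.ext fun a => by rw [frobQ_apply, h]; rfl)
    set v := w ^ qK q F K
    set ω' := algebraMap F K ω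
    have hω' : ω' ^ qK q F K = algebraMap F K (ω ^ q) := D.algebraMap_pow ω
    have hden : ω' - ω' ^ qK q F K ≠ 0 := by
      rw [hω', sub_ne_zero]
      exact fun e => hω ((algebraMap F K).injective e).symm
    set c2 := (v + v ^ qK q F K) / (ω' - ω' ^ qK q F K)
    have hc2 : c2 + c2 ^ qK q F K = 0 := by
      simp only [c2]
      rw [div_pow, D.sub_pow, D.add_pow, D.pow_pow, D.pow_pow, ← neg_sub ω', div_neg]
      ring
    have hc1 : (v - ω' * c2) + (v - ω' * c2) ^ qK q F K = 0 := by
      rw [D.sub_pow, mul_pow]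
      have e : c2 * (ω' - ω' ^ qK q F K) = v + v ^ qK q F K := div_mul_cancel₀ _ hden
      rw [eq_neg_of_add_eq_zero_right hc2]
      linear_combination -e
    have h1 := hsq B hB B' hB' _ hc1 x y
    have h2 := hsq B hB B' hB' c2 hc2 x y
    simp only [hh] at h1 h2 ⊢
    rw [← map_add] at h1 h2
    set u := A ((B' : K →ₗ[F] K) x) * A ((B : K →ₗ[F] K) y) ^ qK q F K +
      A ((B : K →ₗ[F] K) x) * A ((B' : K →ₗ[F] K) y) ^ qK q F K
    have e3 : u * v = ((v - ω' * c2) * u) + ω • (c2 * u) := by rw [Algebra.smul_def]; ring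
    rw [e3, map_add, map_smul]
    have g1 : Algebra.trace F K ((v - ω' * c2) * u) = 0 := by rw [mul_add]; simpa only [mul_assoc] using h1
    have g2 : Algebra.trace F K (c2 * u) = 0 := by rw [mul_add]; simpa only [mul_assoc] using h2
    rw [g1, g2, smul_zero, add_zero]
  -- counting
  have hlarge : qK q F K < Nat.card f.ker := by
    have hq := two_le_q D.card
    let ι : {c : K // c + c ^ qK q F K = 0} × K → Z := fun p =>
      ⟨LinearMap.mulLeft F p.1.1 + skPair q σ p.2, Z.add_mem (hZ.scalar _ p.1.2) (h1 _)⟩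
    have hι : Function.Injective ι := fun p p' h => by
      have h2 := congrArg Subtype.val h
      have e1 := congrArg (fun u => (autBasis F K).repr u σ) h2
      have e0 := congrArg (fun u => (autBasis F K).repr u (AlgHom.id F K)) h2
      have hi : ainv σ ≠ AlgHom.id F K := fun e => hσ (ainv_eq_id e)
      simp only [ι, map_add, Finsupp.add_apply, skPair_repr, show ∀ c : K, LinearMap.mulLeft F c =
        c • (AlgHom.id F K).toLinearMap from fun c => LinearMap.ext fun x => by simp, autBasis_repr_smul,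
        if_pos, if_neg (D.ainv_ne hσ), if_neg (Ne.symm hσ), if_neg hσ, if_neg hi, add_zero, zero_add] at e1 e0
      exact Prod.ext (Subtype.ext e0) e1
    have : Finite (K →ₗ[F] K) := Finite.of_injective (fun g => (g : K → K)) DFunLike.coe_injective
    have h2 := Nat.card_le_card_of_injective ι hι
    rw [Nat.card_prod, D.card_skewK, D.cardK] at h2
    have h3 := f.ker.card_eq_card_quotient_mul_card_addSubgroup
    rw [Nat.card_congr (QuotientAddGroup.quotientKerEquivRange f).toEquiv] at h3
    have h4 : Nat.card f.range ≤ q ^ 9 := by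
      refine (Nat.card_le_card_of_injective _ Subtype.val_injective).trans ?_
      rw [Nat.card_prod, Nat.card_fun, Nat.card_fun, Nat.card_fin, D.card]
      have h5 : Nat.card ((frobQ D.card).toAddMonoidHom.eqLocus (-AddMonoidHom.id F)) = q := by
        exact (Nat.card_congr (Equiv.subtypeEquivRight fun a =>
          ⟨fun h => by
            show a + a ^ q = 0
            rw [show a ^ q = -a from h, add_neg_cancel], fun h => eq_neg_of_add_eq_zero_right (show a + a ^ q = 0 from h)⟩)).trans
          D.card_skewF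
      rw [h5]
      exact le_of_eq (by ring)
    rw [h3, qK, h5] at h2
    rw [qK, h5]
    by_contra hle
    push Not at hle
    have h6 := h2.trans (Nat.mul_le_mul h4 hle)
    rw [← pow_mul, ← pow_add, ← pow_add] at h6
    have := (Nat.pow_le_pow_iff_right (by omega : 1 < q)).1 h6
    omega
  obtain ⟨B, hB, hB0⟩ : ∃ B : Z, B ∈ f.ker ∧ ∃ x, A ((B : K →ₗ[F] K) x) ≠ 0 := by
    by_contra h
    push Not at h
    have hall : ∀ B : Z, B ∈ f.ker → B = 0 := fun B hB => Subtype.ext (hno3 _ B.2 (by
      have h8 : finrank F (LinearMap.range (B : K →ₗ[F] K)) ≤ finrank F (LinearMap.ker A) := Submodule.finrank_mono (by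
        rintro _ ⟨z, rfl⟩; exact LinearMap.mem_ker.2 (h B hB z))
      have h9 := (B : K →ₗ[F] K).finrank_range_add_finrank_ker
      rw [h5] at h9
      omega))
    have : Subsingleton f.ker := ⟨fun a b => Subtype.ext ((hall _ a.2).trans (hall _ b.2).symm)⟩
    have := Finite.card_le_one_iff_subsingleton.2 this
    have := D.qK_lt
    have := two_le_q D.card
    omega
  obtain ⟨x₀, hx₀⟩ := hB0
  set u0 := A ((B : K →ₗ[F] K) x₀)
  let φ : f.ker → {a : K // a + a ^ qK q F K = 0} := fun B' => ⟨A ((B'.1 : K →ₗ[F] K) x₀) / u0, by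
    have h := huv B hB B'.1 B'.2 x₀ x₀
    rw [div_pow]
    have h2 : u0 ^ qK q F K ≠ 0 := pow_ne_zero _ hx₀
    field_simp
    linear_combination h⟩
  have hφ : Function.Injective φ := fun B₁ B₂ e => by
    have e' : A ((B₁.1 : K →ₗ[F] K) x₀) = A ((B₂.1 : K →ₗ[F] K) x₀) := by
      have := congrArg Subtype.val e
      simp only [φ] at this
      field_simp at this
      exact this
    have hm : (B₁.1 - B₂.1 : Z) ∈ f.ker := f.ker.sub_mem B₁.2 B₂.2
    set E : Z := B₁.1 - B₂.1
    have hE0 : A ((E : K →ₗ[F] K) x₀) = 0 := by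
      simp only [E, AddSubgroup.coe_sub, LinearMap.sub_apply, map_sub, e', sub_self]
    have hEall : ∀ x, A ((E : K →ₗ[F] K) x) = 0 := fun x => by
      have h := huv B hB E hm x x₀
      rw [hE0, D.zero_pow, mul_zero, add_zero, mul_eq_zero] at h
      exact h.resolve_right (pow_ne_zero _ hx₀)
    have hE : (E : K →ₗ[F] K) = 0 := hno3 _ E.2 (by
      have h8 : finrank F (LinearMap.range (E : K →ₗ[F] K)) ≤ finrank F (LinearMap.ker A) := Submodule.finrank_mono (by
        rintro _ ⟨z, rfl⟩; exact LinearMap.mem_ker.2 (hEall z))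
      have h9 := (E : K →ₗ[F] K).finrank_range_add_finrank_ker
      rw [h5] at h9
      omega)
    exact Subtype.ext (Subtype.ext (sub_eq_zero.1 hE))
  have := Nat.card_le_card_of_injective φ hφ
  rw [D.card_skewK] at this
  omega

/-- The dichotomy. -/
theorem RGrp.dichotomy (hr : finrank F K = 3 ∨ finrank F K = 5)
    (hprod : ∀ A ∈ Z, ∀ B ∈ Z, (∀ x, A (B (A x)) = 0) → ∀ X ∈ Z,
      (LinearMap.id - B.comp A).comp (X.comp (LinearMap.id - A.comp B)) ∈ Z) :
    (∀ g ∈ Z, ∃ c, c + c ^ qK q F K = 0 ∧ g = LinearMap.mulLeft F c) ∨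
      ∀ g : K →ₗ[F] K, Skew (F := F) q g → g ∈ Z := by
  classical
  by_cases h : ∀ g ∈ Z, ∀ ρ : K →ₐ[F] K, ρ ≠ AlgHom.id F K → (autBasis F K).repr g ρ = 0
  · exact Or.inl fun g hg => D.scalar_of_no_comp (hZ.skew g hg) (h g hg)
  right
  push Not at h
  obtain ⟨g, hg, σ, hσ, hc⟩ := h
  have h1 := RGrp.pair_mem D hZ hg hσ hc
  refine RGrp.all_of_pairs D hZ hσ h1 ?_
  rcases hr with h3 | h5
  · exact Or.inl h3
  refine Or.inr ⟨h5, ?_⟩
  by_cases hfew : ∀ g ∈ Z, (autBasis F K).repr g (σ.comp σ) = 0
  · exact (RGrp.not_one_pair D hZ h5 hσ h1 hfew hprod).elim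
  push Not at hfew
  obtain ⟨g', hg', hc'⟩ := hfew
  exact RGrp.pair_mem D hZ hg' (D.sq_ne_id hσ) hc'

end CfsgLib.Geo.UnitExt
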