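/-
The space over the larger field, the root groups inside an overgroup of the semilinear isometries and their
dichotomy.
-/
import Cfsg.Agent.Geo.UnitExtDichotomy
import Cfsg.Agent.Geo.TensorUnitSpace

set_option autoImplicit false
set_option linter.unusedSectionVars false

namespace CfsgLib.Geo.UnitExt

open Module CfsgLib.FieldMax CfsgLib.Forms

variable {F : Type*} [Field F] [Finite F] {K : Type*} [Field K] [Algebra F K] [Finite K] {q m : ℕ}

local notation "V" => (Fin m → K)
local notation "GV" => ((Fin m → K) ≃ₗ[F] (Fin m → K))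

/-- The hermitian form over the larger field. -/
noncomputable abbrev ph (q : ℕ) (F : Type*) [Field F] {K : Type*} [Field K] [Algebra F K] {m : ℕ}
    (x y : Fin m → K) : K := Cfsg.hermForm m K (qK q F K) x y

/-- The form over the smaller field. -/
noncomputable def tf (q : ℕ) (F : Type*) [Field F] {K : Type*} [Field K] [Algebra F K] {m : ℕ}
    (x y : Fin m → K) : F := Algebra.trace F K (ph q F x y)

/-- Isometries of the form over the smaller field. -/
def Isom (q : ℕ) (g : GV) : Prop := ∀ x y, tf q F (g x) (g y) = tf q F x y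

/-- The map sends scalar multiplications to scalar multiplications. -/
def SemiV (g : GV) : Prop := ∀ k : K, ∃ k' : K, ∀ x : V, g (k • x) = k' • g x

/-- An overgroup of the semilinear isometries inside the special isometry group. -/
structure EOver (q : ℕ) (M : Subgroup GV) : Prop where
  semi : ∀ g : GV, SemiV g → Isom q g → LinearEquiv.det g = 1 → g ∈ M
  isom : ∀ g ∈ M, Isom q g
  phase : ∀ u : V, ∃ z : K, z * z ^ qK q F K = 1 ∧ (∀ c : F, algebraMap F K c ≠ z) ∧
    (ph q F u u = 0 → ∃ n ∈ M, ∀ k : K, n (k • u) = (z * k) • u)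

variable (D : Data q F K)
include D

omit D in
lemma ph_add_l (x y z : V) : ph q F (x + y) z = ph q F x z + ph q F y z := TensorU.add_l x y z

lemma Data.ph_add_r (x y z : V) : ph q F x (y + z) = ph q F x y + ph q F x z := TensorU.add_r D.cardK x y z

omit D in
lemma ph_smul_l (c : K) (x y : V) : ph q F (c • x) y = c * ph q F x y := TensorU.smul_l c x y

lemma Data.ph_smul_r (c : K) (x y : V) : ph q F x (c • y) = c ^ qK q F K * ph q F x y :=
  TensorU.smul_r D.cardK c x y

lemma Data.ph_sub_l (x y z : V) : ph q F (x - y) z = ph q F x z - ph q F y z := TensorU.sub_l D.cardK x y z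

lemma Data.ph_swap (x y : V) : ph q F y x = ph q F x y ^ qK q F K := TensorU.swap D.cardK x y

lemma Data.ph_zero_l (y : V) : ph q F (0 : V) y = 0 := TensorU.zero_l D.cardK y

lemma Data.ph_zero_r (y : V) : ph q F y (0 : V) = 0 := TensorU.zero_r D.cardK y

lemma Data.tf_smul_r (x u : V) (k : K) : tf q F x (k • u) = hh (F := F) q (ph q F x u) k := by
  rw [tf, hh, D.ph_smul_r, mul_comm]

lemma Data.tf_smul_l (x u : V) (k : K) : tf q F (k • u) x = hh (F := F) q k (ph q F x u) := by
  rw [tf, hh, ph_smul_l, D.ph_swap x u]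

lemma Data.tf_swap (x y : V) : tf q F y x = tf q F x y ^ q := by
  rw [tf, tf, ← D.trace_pow, D.ph_swap x y]

lemma Data.tf_add_left (x x' y : V) : tf q F (x + x') y = tf q F x y + tf q F x' y := by
  rw [tf, ph_add_l, map_add]; rfl

lemma Data.tf_add_right (x y y' : V) : tf q F x (y + y') = tf q F x y + tf q F x y' := by
  rw [tf, D.ph_add_r, map_add]; rfl

omit D in
lemma tf_smulF_left (c : F) (x y : V) : tf q F (c • x) y = c * tf q F x y := by
  rw [tf, tf, show c • x = algebraMap F K c • x from (algebraMap_smul K c x).symm, ph_smul_l,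
    ← Algebra.smul_def, map_smul, smul_eq_mul]

lemma Data.eq_zero_of_tf {x : V} (h : ∀ y, tf q F x y = 0) : x = 0 := by
  refine TensorU.eq_zero_of_forall D.cardK fun y => D.eq_zero_of_hh (F := F) fun k => ?_
  rw [← D.tf_smul_r]; exact h _

/-- The map `x ↦ Γ (φ(x, u)) • u`. -/
noncomputable def Data.root (_E : Data q F K) (u : V) (Γ : K →ₗ[F] K) : V →ₗ[F] V where
  toFun x := Γ (ph q F x u) • u
  map_add' x y := by rw [ph_add_l, map_add, add_smul]
  map_smul' c x := by
    rw [show c • x = algebraMap F K c • x from (algebraMap_smul K c x).symm, ph_smul_l, ← Algebra.smul_def,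
      map_smul, smul_assoc]
    rfl

lemma Data.root_apply (u : V) (Γ : K →ₗ[F] K) (x : V) : D.root u Γ x = Γ (ph q F x u) • u := rfl

/-- The root element. -/
noncomputable def Data.tel {u : V} (hu : ph q F u u = 0) (Γ : K →ₗ[F] K) : GV :=
  LinearEquiv.ofLinearMap (LinearMap.id + D.root u Γ) (LinearMap.id - D.root u Γ)
    (LinearMap.ext fun x => by
      simp only [LinearMap.comp_apply, LinearMap.sub_apply, LinearMap.add_apply, LinearMap.id_apply, D.root_apply,
        D.ph_sub_l, ph_smul_l, hu, mul_zero, sub_zero, sub_add_cancel])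
    (LinearMap.ext fun x => by
      simp only [LinearMap.comp_apply, LinearMap.sub_apply, LinearMap.add_apply, LinearMap.id_apply, D.root_apply,
        ph_add_l, ph_smul_l, hu, mul_zero, add_zero, add_sub_cancel_right])

lemma Data.tel_apply {u : V} (hu : ph q F u u = 0) (Γ : K →ₗ[F] K) (x : V) :
    D.tel hu Γ x = x + Γ (ph q F x u) • u := rfl

lemma Data.tel_add {u : V} (hu : ph q F u u = 0) (Γ Γ' : K →ₗ[F] K) :
    D.tel hu (Γ + Γ') = D.tel hu Γ * D.tel hu Γ' := LinearEquiv.ext fun x => by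
  rw [LinearEquiv.mul_apply, D.tel_apply, D.tel_apply, D.tel_apply, ph_add_l, ph_smul_l,
    hu, mul_zero, add_zero, LinearMap.add_apply, add_smul]
  abel

lemma Data.tel_zero {u : V} (hu : ph q F u u = 0) : D.tel hu (0 : K →ₗ[F] K) = 1 := LinearEquiv.ext fun x => by
  simp [D.tel_apply]

lemma Data.tel_neg {u : V} (hu : ph q F u u = 0) (Γ : K →ₗ[F] K) : D.tel hu (-Γ) = (D.tel hu Γ)⁻¹ :=
  eq_inv_of_mul_eq_one_left (by rw [← D.tel_add, neg_add_cancel, D.tel_zero])

lemma Data.det_tel {u : V} (hu : ph q F u u = 0) (Γ : K →ₗ[F] K) : LinearEquiv.det (D.tel hu Γ) = 1 := by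
  obtain ⟨p, hp⟩ := CharP.exists F
  have hpp : p.Prime := CharP.char_is_prime F p
  have : Fact p.Prime := ⟨hpp⟩
  have hpow : ∀ j : ℕ, D.tel hu Γ ^ j = D.tel hu (j • Γ) := by
    intro j
    induction j with
    | zero => rw [pow_zero, zero_smul, D.tel_zero]
    | succ j ih => rw [pow_succ, ih, ← D.tel_add, succ_nsmul]
  have h1 : D.tel hu Γ ^ p = 1 := by
    rw [hpow, show p • Γ = 0 from LinearMap.ext fun x => by
      rw [LinearMap.smul_apply, ← Nat.cast_smul_eq_nsmul F, CharP.cast_eq_zero, zero_smul]; rfl, D.tel_zero]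
  have h2 := congrArg (fun u : Fˣ => (u : F)) (congrArg LinearEquiv.det h1)
  simp only [map_pow, map_one, Units.val_pow_eq_pow_val, Units.val_one] at h2
  have h3 : ((LinearEquiv.det (D.tel hu Γ) : Fˣ) : F) - 1 = 0 :=
    pow_eq_zero_iff hpp.ne_zero |>.1 (by rw [sub_pow_char, h2, one_pow, sub_self])
  exact Units.ext (sub_eq_zero.1 h3)

/-- A root element is an isometry exactly for skew parameters. -/
lemma Data.tel_isom {u : V} (hu0 : u ≠ 0) (hu : ph q F u u = 0) (Γ : K →ₗ[F] K) :
    Isom q (D.tel hu Γ) ↔ Skew (F := F) q Γ := by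
  have key : ∀ x y, tf q F (D.tel hu Γ x) (D.tel hu Γ y) = tf q F x y +
      (hh q (Γ (ph q F x u)) (ph q F y u) + hh q (ph q F x u) (Γ (ph q F y u))) := fun x y => by
    rw [D.tel_apply, D.tel_apply, D.tf_add_left, D.tf_add_right, D.tf_add_right, D.tf_smul_r, D.tf_smul_l,
      D.tf_smul_r, ph_smul_l, hu, mul_zero,
      hh_zero_left]
    ring
  constructor
  · intro h a b
    obtain ⟨w, hw, -⟩ := TensorU.exists_hyp D.cardK hu0 hu
    have hwu : ph q F w u = 1 := by rw [D.ph_swap u w, show ph q F u w = 1 from hw, one_pow]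
    have h1 := key (a • w) (b • w)
    rw [h] at h1
    simp only [ph_smul_l, hwu, mul_one] at h1
    exact left_eq_add.1 h1
  · intro h x y
    rw [key, h, add_zero]

lemma Data.mul_hadj (a : K) : IsHAdj (F := F) q (LinearMap.mulLeft F a) (LinearMap.mulLeft F (a ^ qK q F K)) :=
  fun x y => D.hh_mul_left a x y

variable {M : Subgroup ((Fin m → K) ≃ₗ[F] (Fin m → K))} (hM : EOver (F := F) q M)

omit D in
/-- The parameters of the root elements in the overgroup. -/
noncomputable def rootSet (D : Data q F K) (M : Subgroup GV) {u : V} (hu : ph q F u u = 0) :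
    AddSubgroup (K →ₗ[F] K) where
  carrier := {Γ | D.tel hu Γ ∈ M}
  zero_mem' := by show D.tel hu 0 ∈ M; rw [D.tel_zero]; exact one_mem M
  add_mem' {a b} ha hb := by show D.tel hu (a + b) ∈ M; rw [D.tel_add]; exact mul_mem ha hb
  neg_mem' {a} ha := by show D.tel hu (-a) ∈ M; rw [D.tel_neg]; exact inv_mem ha

include hM

lemma EOver.scalar_mem {u : V} (hu0 : u ≠ 0) (hu : ph q F u u = 0) {c : K} (hc : c + c ^ qK q F K = 0) :
    LinearMap.mulLeft F c ∈ rootSet D M hu := by
  refine hM.semi _ (fun k => ⟨k, fun x => ?_⟩) ((D.tel_isom hu0 hu _).2 (D.mul_skew hc)) (D.det_tel hu _)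
  simp only [D.tel_apply, LinearMap.mulLeft_apply, ph_smul_l, smul_add, smul_smul]
  congr 2
  ring

/-- Conjugation of root elements by a member of the overgroup carrying a point to a point. -/
lemma EOver.conj_mem {u u' : V} (hu : ph q F u u = 0) (hu' : ph q F u' u' = 0) {g : GV} (hg : g ∈ M)
    {T T' : K →ₗ[F] K} (hgu : ∀ k : K, g (k • u) = T k • u') (hT : IsHAdj (F := F) q T T') {Γ : K →ₗ[F] K}
    (hΓ : Γ ∈ rootSet D M hu) : T.comp (Γ.comp T') ∈ rootSet D M hu' := by
  show D.tel hu' _ ∈ M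
  rw [show D.tel hu' (T.comp (Γ.comp T')) = g * D.tel hu Γ * g⁻¹ from LinearEquiv.ext fun x => ?_]
  · exact mul_mem (mul_mem hg hΓ) (inv_mem hg)
  show _ = g (D.tel hu Γ (g.symm x))
  rw [D.tel_apply, D.tel_apply, map_add, g.apply_symm_apply, hgu]
  congr 2
  simp only [LinearMap.comp_apply]
  congr 2
  refine D.eq_of_hh (F := F) fun k => ?_
  rw [← D.tf_smul_r, ← hM.isom g hg, g.apply_symm_apply, hgu, D.tf_smul_r, D.hh_swap (T k), hT,
    ← D.hh_swap]

/-- The swap of a hyperbolic pair. -/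
lemma EOver.exists_swap {u w : V} (hu : ph q F u u = 0) (hw : ph q F w w = 0) (huw : ph q F u w = 1)
    {c : K} (hc0 : c ≠ 0) (hc : c + c ^ qK q F K = 0) :
    ∃ n ∈ M, ∀ k : K, n (k • u) = (-c⁻¹ * k) • w ∧ n (k • w) = (c * k) • u := by
  have hwu : ph q F w u = 1 := by rw [D.ph_swap u w, huw, one_pow]
  have hu0 : u ≠ 0 := fun e => by rw [e, D.ph_zero_l] at huw; exact zero_ne_one huw
  have hw0 : w ≠ 0 := fun e => by rw [e, D.ph_zero_r] at huw; exact zero_ne_one huw
  have hc' : (-c⁻¹) + (-c⁻¹) ^ qK q F K = 0 := by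
    rw [D.neg_pow, inv_pow, eq_neg_of_add_eq_zero_right hc, inv_neg]; ring
  refine ⟨D.tel hu (LinearMap.mulLeft F c) * D.tel hw (LinearMap.mulLeft F (-c⁻¹)) *
    D.tel hu (LinearMap.mulLeft F c), mul_mem (mul_mem (EOver.scalar_mem D hM hu0 hu hc) (EOver.scalar_mem D hM hw0 hw hc'))
      (EOver.scalar_mem D hM hu0 hu hc), fun k => ?_⟩
  constructor
  · simp only [LinearEquiv.mul_apply, D.tel_apply, LinearMap.mulLeft_apply, ph_add_l, ph_smul_l, hu,
      hw, huw, hwu, mul_zero, zero_smul, add_zero, mul_one, zero_add]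
    match_scalars <;> field_simp <;> ring
  · simp only [LinearEquiv.mul_apply, D.tel_apply, LinearMap.mulLeft_apply, ph_add_l, ph_smul_l, hu,
      hw, huw, hwu, mul_zero, zero_smul, add_zero, mul_one, zero_add]
    match_scalars <;> field_simp <;> ring

lemma EOver.exists_torus {u w : V} (hu : ph q F u u = 0) (hw : ph q F w w = 0) (huw : ph q F u w = 1)
    {a : K} (ha0 : a ≠ 0) (ha : a ^ qK q F K = a) :
    ∃ n ∈ M, ∀ k : K, n (k • u) = LinearMap.mulLeft F a k • u := by
  obtain ⟨c, hc0, hc⟩ := skew_exists' D.cardK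
  obtain ⟨n, hn, hnk⟩ := EOver.exists_swap D hM hu hw huw hc0 hc
  obtain ⟨n', hn', hnk'⟩ := EOver.exists_swap D hM hu hw huw (c := -a * c) (mul_ne_zero (neg_ne_zero.2 ha0) hc0)
    (by rw [mul_pow, D.neg_pow, ha, eq_neg_of_add_eq_zero_right hc]; ring)
  refine ⟨n' * n, mul_mem hn' hn, fun k => ?_⟩
  rw [LinearEquiv.mul_apply, (hnk k).1, (hnk' _).2, LinearMap.mulLeft_apply]
  congr 1
  field_simp

lemma EOver.rgrp {u : V} (hu0 : u ≠ 0) (hu : ph q F u u = 0) : RGrp (F := F) q (rootSet D M hu) where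
  skew g hg := (D.tel_isom hu0 hu g).1 (hM.isom _ hg)
  scalar c hc := EOver.scalar_mem D hM hu0 hu hc
  tor a ha ha0 g hg := by
    obtain ⟨w, huw, -, hw⟩ := TensorU.exists_hyp D.cardK hu0 hu
    obtain ⟨n, hn, hnk⟩ := EOver.exists_torus D hM hu hw huw ha0 ha
    have h := EOver.conj_mem D hM hu hu hn hnk (by simpa [ha] using D.mul_hadj a) hg
    exact h
  phase := by
    obtain ⟨z, hz, hzF, hn⟩ := hM.phase u
    obtain ⟨n, hnM, hnk⟩ := hn hu
    refine ⟨z, fun g hg => EOver.conj_mem D hM hu hu hnM (T := LinearMap.mulLeft F z) hnk (D.mul_hadj z) hg,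
      fun σ hσ h => ?_⟩
    have hzQ : z ^ qK q F K = z⁻¹ := eq_inv_of_mul_eq_one_right hz
    have hz0 : z ≠ 0 := fun e => by rw [e, zero_mul] at hz; exact zero_ne_one hz
    have hσz : σ z ≠ 0 := fun e => hz0 (σ.toRingHom.injective (e.trans (map_zero σ).symm))
    rw [mul_pow, hzQ, map_inv₀, inv_pow, ← map_pow, hzQ, map_inv₀, inv_inv] at h
    have h2 : σ z * σ z = z * z := by
      field_simp at h
      linear_combination h
    rcases mul_self_eq_mul_self_iff.1 h2 with e | e
    · obtain ⟨c, hc⟩ := D.mem_range_of_fixed hσ e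
      exact hzF c hc
    · obtain ⟨c, hc⟩ := D.mem_range_of_fixed (D.sq_ne_id hσ) (x := z) (by
        show σ (σ z) = z
        rw [e, map_neg, e, neg_neg])
      exact hzF c hc

end CfsgLib.Geo.UnitExt
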