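/-
Either every root group of the overgroup consists of scalars or all transvections over the smaller field are in it.
-/
import Cfsg.Agent.Geo.UnitExtSpace

set_option autoImplicit false
set_option linter.unusedSectionVars false

namespace CfsgLib.Geo.UnitExt

open Module CfsgLib.FieldMax CfsgLib.Forms

variable {F : Type*} [Field F] [Finite F] {K : Type*} [Field K] [Algebra F K] [Finite K] {q m : ℕ}

local notation "V" => (Fin m → K)

/-- The root groups consist of scalars only. -/
def AllScalar (D : Data q F K) (M : Subgroup ((Fin m → K) ≃ₗ[F] (Fin m → K))) : Prop :=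
  ∀ (u : V) (hu : ph q F u u = 0), u ≠ 0 → ∀ g ∈ rootSet D M hu,
    ∃ c, c + c ^ qK q F K = 0 ∧ g = LinearMap.mulLeft F c

variable (D : Data q F K) {M : Subgroup ((Fin m → K) ≃ₗ[F] (Fin m → K))} (hM : EOver (F := F) q M)
include D hM

lemma EOver.real_smul_mem {u : V} (hu0 : u ≠ 0) (hu : ph q F u u = 0) {g : K →ₗ[F] K}
    (hg : g ∈ rootSet D M hu) {s : F} (hs : s ^ q = s) : s • g ∈ rootSet D M hu := by
  have hZ := EOver.rgrp D hM hu0 hu
  have hreal : ∀ t : F, t ^ q = t → (algebraMap F K t) ^ qK q F K = algebraMap F K t := fun t ht => by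
    rw [D.algebraMap_pow, ht]
  by_cases h2 : (2 : F) = 0
  · have : CharP F 2 := ringChar.of_eq (CharP.ringChar_of_prime_eq_zero Nat.prime_two (by exact_mod_cast h2))
    obtain ⟨t, ht⟩ := (Finite.injective_iff_surjective.1 (frobenius_inj F 2)) s
    rw [frobenius_def] at ht
    have ht' : t ^ q = t := frobenius_inj F 2 (by rw [frobenius_def, frobenius_def, pow_right_comm, ht, hs])
    by_cases h0 : t = 0
    · rw [← ht, h0, zero_pow two_ne_zero, zero_smul]; exact zero_mem _
    convert hZ.tor _ (hreal t ht') (by simpa using h0) g hg using 1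
    refine LinearMap.ext fun x => ?_
    rw [LinearMap.smul_apply, conjMul_apply, ← Algebra.smul_def, ← Algebra.smul_def, map_smul, smul_smul, ← ht, pow_two]
  · have hhalf : (s / 2) ^ q = s / 2 := by
      rw [div_pow, hs, ← frobQ_apply D.card (2 : F), map_ofNat]
    have h := RGrp.lin_mem D hZ hg (hreal _ hhalf) (one_pow (qK q F K))
    convert h using 1
    refine LinearMap.ext fun x => ?_
    simp only [LinearMap.add_apply, LinearMap.smul_apply, conjMul_apply, one_mul, ← Algebra.smul_def, map_smul,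
      ← add_smul]
    congr 1
    field_simp
    norm_num

/-- Transfer to a partner, up to a fixed real factor. -/
lemma EOver.to_partner {u w : V} (hu : ph q F u u = 0) (hw : ph q F w w = 0) (huw : ph q F u w = 1)
    {d : F} (hd0 : d ≠ 0) (hd : d + d ^ q = 0) {g : K →ₗ[F] K} (hg : g ∈ rootSet D M hu) :
    (-d⁻¹ * (-d⁻¹) ^ q) • g ∈ rootSet D M hw := by
  have hdK : (algebraMap F K d) + (algebraMap F K d) ^ qK q F K = 0 := by
    rw [D.algebraMap_pow, ← map_add, hd, map_zero]
  obtain ⟨n, hn, hnk⟩ := EOver.exists_swap D hM hu hw huw ((map_ne_zero (algebraMap F K)).2 hd0) hdK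
  convert EOver.conj_mem D hM hu hw hn (T := LinearMap.mulLeft F (-(algebraMap F K d)⁻¹)) (fun k => (hnk k).1)
    (D.mul_hadj _) hg using 1
  refine LinearMap.ext fun x => ?_
  rw [LinearMap.smul_apply, LinearMap.comp_apply, LinearMap.comp_apply, LinearMap.mulLeft_apply,
    LinearMap.mulLeft_apply, ← map_inv₀, ← map_neg, D.algebraMap_pow, ← Algebra.smul_def, ← Algebra.smul_def,
    map_smul, smul_smul]

/-- The product rule. -/
lemma EOver.prod_rule {u : V} (hu0 : u ≠ 0) (hu : ph q F u u = 0) (A : K →ₗ[F] K) (hA : A ∈ rootSet D M hu)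
    (B : K →ₗ[F] K) (hB : B ∈ rootSet D M hu) (hABA : ∀ x, A (B (A x)) = 0) (X : K →ₗ[F] K)
    (hX : X ∈ rootSet D M hu) :
    (LinearMap.id - B.comp A).comp (X.comp (LinearMap.id - A.comp B)) ∈ rootSet D M hu := by
  obtain ⟨w, huw, hwu, hw⟩ := TensorU.exists_hyp D.cardK hu0 hu
  have hw0 : w ≠ 0 := fun e => by rw [e, TensorU.zero_r D.cardK] at huw; exact zero_ne_one huw
  obtain ⟨d, hd0, hd⟩ := skew_exists' D.card
  set s := -d⁻¹ * (-d⁻¹) ^ q with hs
  have hsq : s ^ q = s := by rw [hs, mul_pow, pow_q_q D.card, mul_comm]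
  have hs0 : s ≠ 0 := by
    have : (-d⁻¹ : F) ≠ 0 := neg_ne_zero.2 (inv_ne_zero hd0)
    exact mul_ne_zero this (pow_ne_zero _ this)
  have hsi : (s⁻¹) ^ q = s⁻¹ := by rw [inv_pow, hsq]
  -- the member with the wanted action on the partner
  have hBu : s⁻¹ • B ∈ rootSet D M hu := EOver.real_smul_mem D hM hu0 hu hB hsi
  have hBw : B ∈ rootSet D M hw := by
    have h := EOver.to_partner D hM hu hw huw hd0 hd hBu
    rwa [← hs, smul_smul, mul_inv_cancel₀ hs0, one_smul] at h
  have hXw : X ∈ rootSet D M hw := by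
    have h := EOver.to_partner D hM hu hw huw hd0 hd (EOver.real_smul_mem D hM hu0 hu hX hsi)
    rwa [← hs, smul_smul, mul_inv_cancel₀ hs0, one_smul] at h
  set n := D.tel hu A * D.tel hw B * D.tel hu (-A)
  have hn : n ∈ M := mul_mem (mul_mem hA hBw) ((rootSet D M hu).neg_mem hA)
  have hnk : ∀ k : K, n (k • w) = ((LinearMap.id - B.comp A : K →ₗ[F] K) k) • w := fun k => by
    simp only [n, LinearEquiv.mul_apply, D.tel_apply, ph_add_l, ph_smul_l, show ph q F w u = 1 from hwu,
      show ph q F u u = 0 from hu, show ph q F w w = 0 from hw, show ph q F u w = 1 from huw, mul_zero, mul_one,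
      LinearMap.neg_apply, zero_add, add_zero, map_add, map_neg, map_zero, hABA, neg_zero, LinearMap.sub_apply,
      LinearMap.id_apply, LinearMap.comp_apply]
    module
  have hadj : IsHAdj (F := F) q (LinearMap.id - B.comp A) (LinearMap.id - A.comp B) := fun a b => by
    have hAs := (EOver.rgrp D hM hu0 hu).skew A hA
    have hBs := (EOver.rgrp D hM hw0 hw).skew B hBw
    simp only [LinearMap.sub_apply, LinearMap.id_apply, LinearMap.comp_apply]
    rw [D.hh_sub_left, show hh (F := F) q a (b - A (B b)) = hh q a b - hh q a (A (B b)) by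
      rw [eq_sub_iff_add_eq, ← D.hh_add_right, sub_add_cancel]]
    linear_combination -(hBs (A a) b) + hAs a (B b)
  have h := EOver.to_partner D hM hw hu hwu hd0 hd (EOver.conj_mem D hM hw hw hn hnk hadj hXw)
  have h2 := EOver.real_smul_mem D hM hu0 hu h hsi
  rwa [← hs, smul_smul, inv_mul_cancel₀ hs0, one_smul] at h2

lemma EOver.dichotomy (hr : finrank F K = 3 ∨ finrank F K = 5) {u : V} (hu0 : u ≠ 0) (hu : ph q F u u = 0) :
    (∀ g ∈ rootSet D M hu, ∃ c, c + c ^ qK q F K = 0 ∧ g = LinearMap.mulLeft F c) ∨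
      ∀ g : K →ₗ[F] K, Skew (F := F) q g → g ∈ rootSet D M hu :=
  RGrp.dichotomy D (EOver.rgrp D hM hu0 hu) hr fun A hA B hB h X hX => EOver.prod_rule D hM hu0 hu A hA B hB h X hX

lemma EOver.all_partner {u z : V} (hu : ph q F u u = 0) (hz : ph q F z z = 0) (huz : ph q F u z ≠ 0)
    (hall : ∀ g : K →ₗ[F] K, Skew (F := F) q g → g ∈ rootSet D M hu) (g : K →ₗ[F] K)
    (hg : Skew (F := F) q g) : g ∈ rootSet D M hz := by
  obtain ⟨c, hc0, hc⟩ := skew_exists' D.cardK
  set t := ((ph q F u z)⁻¹) ^ qK q F K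
  have ht0 : t ≠ 0 := pow_ne_zero _ (inv_ne_zero huz)
  have hw : ph q F (t • z) (t • z) = 0 := by rw [ph_smul_l, D.ph_smul_r, hz, mul_zero, mul_zero]
  have huw : ph q F u (t • z) = 1 := by rw [D.ph_smul_r, D.pow_pow, inv_mul_cancel₀ huz]
  obtain ⟨n, hn, hnk⟩ := EOver.exists_swap D hM hu hw huw hc0 hc
  set l := -c⁻¹ * t
  have hl0 : l ≠ 0 := mul_ne_zero (neg_ne_zero.2 (inv_ne_zero hc0)) ht0
  have hnl : ∀ k : K, n (k • u) = LinearMap.mulLeft F l k • z := fun k => by
    rw [(hnk k).1, smul_smul, LinearMap.mulLeft_apply]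
    congr 1
    ring
  set g' := (LinearMap.mulLeft F l⁻¹).comp (g.comp (LinearMap.mulLeft F ((l⁻¹) ^ qK q F K)))
  have hg' : Skew (F := F) q g' := fun a b => by
    have h := hg ((l⁻¹) ^ qK q F K * a) ((l⁻¹) ^ qK q F K * b)
    rw [D.hh_mul_left ((l⁻¹) ^ qK q F K) a, D.pow_pow] at h
    simp only [g', LinearMap.comp_apply, LinearMap.mulLeft_apply]
    rw [D.hh_mul_left l⁻¹]
    exact h
  convert EOver.conj_mem D hM hu hz hn hnl (D.mul_hadj l) (hall g' hg') using 1
  refine LinearMap.ext fun x => ?_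
  simp only [g', LinearMap.comp_apply, LinearMap.mulLeft_apply]
  rw [← mul_assoc, mul_inv_cancel₀ hl0, one_mul, ← mul_assoc, ← mul_pow, inv_mul_cancel₀ hl0, one_pow, one_mul]

lemma EOver.all_everywhere {u u' : V} (hu0 : u ≠ 0) (hu : ph q F u u = 0) (hu0' : u' ≠ 0) (hu' : ph q F u' u' = 0)
    (hall : ∀ g : K →ₗ[F] K, Skew (F := F) q g → g ∈ rootSet D M hu) (g : K →ₗ[F] K)
    (hg : Skew (F := F) q g) : g ∈ rootSet D M hu' := by
  obtain ⟨w, huw, -, hw⟩ := TensorU.exists_hyp D.cardK hu0 hu
  have huw' : ph q F u w ≠ 0 := by rw [show ph q F u w = 1 from huw]; exact one_ne_zero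
  by_cases h1 : ph q F w u' = 0
  · obtain ⟨w', hu'w', -, hw'⟩ := TensorU.exists_hyp D.cardK hu0' hu'
    by_cases h2 : ph q F u w' = 0
    · obtain ⟨z, hz, huz, hzu'⟩ : ∃ z, ph q F z z = 0 ∧ ph q F u z ≠ 0 ∧ ph q F z u' ≠ 0 := by
        have hw'u' : ph q F w' u' = 1 := by rw [D.ph_swap u' w', show ph q F u' w' = 1 from hu'w', one_pow]
        obtain ⟨t, ht0, ht⟩ : ∃ t : K, t ≠ 0 ∧ ph q F (w + t • w') (w + t • w') = 0 := by
          unfold ph at *
          rcases eq_or_ne (ph q F w w') 0 with h0 | h0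
          · refine ⟨1, one_ne_zero, ?_⟩
            unfold ph at h0
            rw [one_smul, TensorU.add_l, TensorU.add_r D.cardK, TensorU.add_r D.cardK, hw, hw', h0,
              TensorU.swap0 D.cardK h0]
            ring
          · obtain ⟨k, hk0, hk⟩ := skew_exists' D.cardK
            refine ⟨(k / ph q F w w') ^ qK q F K, pow_ne_zero _ (div_ne_zero hk0 h0), ?_⟩
            unfold ph at h0 ⊢
            simp only [TensorU.add_l, TensorU.add_r D.cardK, TensorU.smul_l, TensorU.smul_r D.cardK, hw, hw',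
              mul_zero, add_zero, zero_add, D.pow_pow, TensorU.swap D.cardK w w', div_mul_cancel₀ _ h0]
            rw [← mul_pow, div_mul_cancel₀ _ h0, add_comm]
            exact hk
        refine ⟨w + t • w', ht, ?_, ?_⟩
        · rw [D.ph_add_r, D.ph_smul_r, h2, mul_zero, add_zero]; exact huw'
        · rw [ph_add_l, ph_smul_l, h1, hw'u', zero_add, mul_one]; exact ht0
      exact EOver.all_partner D hM hz hu' hzu' (EOver.all_partner D hM hu hz huz hall) g hg
    · exact EOver.all_partner D hM hw' hu' (by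
        rw [D.ph_swap u' w', show ph q F u' w' = 1 from hu'w', one_pow]; exact one_ne_zero)
        (EOver.all_partner D hM hu hw' h2 hall) g hg
  · exact EOver.all_partner D hM hw hu' h1 (EOver.all_partner D hM hu hw huw' hall) g hg

/-- Every isotropic vector over the smaller field carries its transvections. -/
lemma EOver.transvection_mem (hm : 2 ≤ m) (hr : finrank F K = 3 ∨ finrank F K = 5) (hns : ¬ AllScalar D M)
    {v : V} (hv : tf q F v v = 0) {c : F} (hc : c + c ^ q = 0) :
    ∃ g ∈ M, ∀ x, g x = x + (c * tf q F x v) • v := by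
  obtain ⟨u₀, hu₀, hu₀0, hbad⟩ : ∃ (u : V) (hu : ph q F u u = 0), u ≠ 0 ∧
      ¬ ∀ g ∈ rootSet D M hu, ∃ c, c + c ^ qK q F K = 0 ∧ g = LinearMap.mulLeft F c := by
    by_contra h
    push Not at h
    exact hns fun u hu hu0 g hg => h u hu hu0 g hg
  have hall := fun (u : V) (hu0 : u ≠ 0) (hu : ph q F u u = 0) =>
    EOver.all_everywhere D hM hu₀0 hu₀ hu0 hu ((EOver.dichotomy D hM hr hu₀0 hu₀).resolve_left hbad)
  -- isotropic over the larger field
  have point : ∀ (u : V) (hu0 : u ≠ 0) (hu : ph q F u u = 0),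
      ∃ g ∈ M, ∀ x, g x = x + (c * tf q F x u) • u := fun u hu0 hu => by
    let Γ : K →ₗ[F] K :=
      { toFun := fun k => algebraMap F K (c * hh q k 1)
        map_add' := fun a b => by rw [hh_add_left, mul_add, map_add]
        map_smul' := fun s a => by
          rw [hh_smul_left, RingHom.id_apply, Algebra.smul_def, ← map_mul]
          congr 1
          ring }
    have hΓ : Skew (F := F) q Γ := fun a b => by
      show hh q (algebraMap F K (c * hh q a 1)) b + hh q a (algebraMap F K (c * hh q b 1)) = 0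
      rw [Algebra.algebraMap_eq_smul_one, hh_smul_left, Algebra.algebraMap_eq_smul_one, D.hh_smul_right, mul_pow,
        ← D.hh_swap b 1]
      linear_combination (hh (F := F) q a 1 * hh q 1 b) * hc
    refine ⟨D.tel hu Γ, hall u hu0 hu Γ hΓ, fun x => ?_⟩
    rw [D.tel_apply]
    show x + algebraMap F K (c * hh q (ph q F x u) 1) • u = _
    rw [algebraMap_smul, ← D.tf_smul_r x u 1, one_smul]
  rcases eq_or_ne v 0 with rfl | hv0
  · exact ⟨1, one_mem M, fun x => by simp⟩
  by_cases hvv : ph q F v v = 0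
  · exact point v hv0 hvv
  obtain ⟨u, hu, hvu⟩ : ∃ u, ph q F u u = 0 ∧ ph q F v u ≠ 0 := by
    by_contra h
    push Not at h
    let S : Submodule K V :=
      { carrier := {x | ph q F v x = 0}
        zero_mem' := D.ph_zero_r v
        add_mem' := fun {a b} ha hb => by show ph q F v (a + b) = 0; rw [D.ph_add_r, ha, hb, add_zero]
        smul_mem' := fun k a ha => by show ph q F v (k • a) = 0; rw [D.ph_smul_r, ha, mul_zero] }
    exact hvv (TensorU.mem_of_iso D.cardK hm S h v)
  have hu0 : u ≠ 0 := fun e => hvu (by rw [e]; exact D.ph_zero_r v)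
  set a := ph q F v u
  -- the second isotropic vector of the plane
  obtain ⟨t, ht⟩ := TensorU.trace_exists D.cardK (t := -ph q F v v) (by
    rw [TensorU.pow_neg D.cardK, TensorU.self_pow D.cardK])
  set β := t / a ^ qK q F K
  set w := v + β • u
  have hw : ph q F w w = 0 := by
    have e1 : ph q F u v = a ^ qK q F K := D.ph_swap v u
    have e2 : β * a ^ qK q F K = t := div_mul_cancel₀ _ (pow_ne_zero _ hvu)
    have e3 : β ^ qK q F K * a = t ^ qK q F K := by
      rw [← e2, mul_pow, D.pow_pow]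
    simp only [w, ph_add_l, D.ph_add_r, ph_smul_l, D.ph_smul_r, hu, e1, show ph q F v u = a from rfl]
    linear_combination ht + e2 + e3
  have hwu : ph q F w u = a := by simp only [w, ph_add_l, ph_smul_l, hu, mul_zero, add_zero]; rfl
  have hw0 : w ≠ 0 := fun e => hvu (by rw [← hwu, e, D.ph_zero_l])
  obtain ⟨θ₀, hθ₀⟩ : ∃ θ : K, hh (F := F) q a θ ≠ 0 := by
    by_contra h
    push Not at h
    exact hvu (D.eq_zero_of_hh h)
  set θ := ((hh (F := F) q a θ₀)⁻¹) ^ q • θ₀
  have hθ : hh (F := F) q a θ = 1 := by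
    rw [D.hh_smul_right, pow_q_q D.card, inv_mul_cancel₀ hθ₀]
  -- a skew map sending `a` to `β`
  have hβ : hh (F := F) q β a + hh q a β = 0 := by
    have key : ∀ z, ph q F z z = 0 → ph q F z u = a →
        tf q F (z + (-β) • u) (z + (-β) • u) = -(hh (F := F) q β a + hh q a β) := fun z hz hzu => by
      have e' : hh (F := F) q a (-β) = -hh q a β := by rw [hh, D.neg_pow, mul_neg, map_neg]; rfl
      rw [D.tf_add_left, D.tf_add_right, D.tf_add_right, D.tf_smul_r, D.tf_smul_l, D.tf_smul_r,
        show tf q F z z = 0 by rw [tf, hz, map_zero], hzu, ph_smul_l, hu, mul_zero, hh_zero_left, hh_neg_left, e']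
      ring
    have e : tf q F v v = -(hh (F := F) q β a + hh q a β) := by
      have h := key w hw hwu
      rwa [show w + (-β) • u = v by simp [w]] at h
    rw [hv, zero_eq_neg] at e
    exact e
  set s := -hh (F := F) q a β
  have hs : s + s ^ q = 0 := by
    show -hh (F := F) q a β + (-hh (F := F) q a β) ^ q = 0
    rw [← frobQ_apply D.card (-hh (F := F) q a β), map_neg, frobQ_apply, ← D.hh_swap a β]
    linear_combination -hβ
  let A : K →ₗ[F] K :=
    { toFun := fun x => hh (F := F) q x θ • β - hh (F := F) q x β • θ + (-(s * hh (F := F) q x θ)) • θ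
      map_add' := fun x y => by simp only [hh_add_left, mul_add, neg_add, add_smul, sub_eq_add_neg]; abel
      map_smul' := fun k x => by
        simp only [hh_smul_left, RingHom.id_apply, smul_sub, smul_add, smul_smul, sub_eq_add_neg]
        module }
  have hAa : A a = β := by
    show hh (F := F) q a θ • β - hh (F := F) q a β • θ + (-(s * hh (F := F) q a θ)) • θ = β
    rw [hθ, one_smul, mul_one]
    simp only [s, neg_neg]
    abel
  have hA : Skew (F := F) q A := fun x y => by
    have hsub : ∀ a b b' : K, hh (F := F) q a (b - b') = hh (F := F) q a b - hh (F := F) q a b' := fun a b b' => by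
      rw [eq_sub_iff_add_eq, ← D.hh_add_right, sub_add_cancel]
    show hh (F := F) q (hh (F := F) q x θ • β - hh (F := F) q x β • θ + (-(s * hh (F := F) q x θ)) • θ) y +
      hh (F := F) q x (hh (F := F) q y θ • β - hh (F := F) q y β • θ + (-(s * hh (F := F) q y θ)) • θ) = 0
    simp only [hh_add_left, D.hh_sub_left, hh_smul_left, D.hh_add_right, hsub, D.hh_smul_right]
    rw [← frobQ_apply D.card (-(s * hh (F := F) q y θ)), map_neg, map_mul, frobQ_apply, frobQ_apply]
    simp only [← D.hh_swap]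
    linear_combination -(hh (F := F) q x θ * hh q θ y) * hs
  have hAm : D.tel hu A ∈ M := hall u hu0 hu A hA
  have hAv : D.tel hu A v = w := by rw [D.tel_apply, show ph q F v u = a from rfl, hAa]
  obtain ⟨T, hT, hTx⟩ := point w hw0 hw
  refine ⟨(D.tel hu A)⁻¹ * T * D.tel hu A, mul_mem (mul_mem (inv_mem hAm) hT) hAm, fun x => ?_⟩
  show (D.tel hu A).symm (T (D.tel hu A x)) = _
  rw [hTx, map_add, map_smul, LinearEquiv.symm_apply_apply, ← hAv, LinearEquiv.symm_apply_apply, hM.isom _ hAm]

end CfsgLib.Geo.UnitExt
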