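/-
The affine chart of the hermitian curve: its size and its meets with lines.
-/
import Cfsg.Agent.Forms.FiniteQ
import Mathlib.Algebra.Polynomial.Roots
import Mathlib.Algebra.Order.BigOperators.Group.Finset

set_option autoImplicit false

namespace CfsgLib.Geo.UnitExt

open CfsgLib.Forms Polynomial

variable {K : Type*} [Field K] [Fintype K] [DecidableEq K] {Q : ℕ} (hK : Nat.card K = Q ^ 2)

/-- The affine part of the hermitian curve. -/
def chart (K : Type*) [Field K] [Fintype K] [DecidableEq K] (Q : ℕ) : Finset (K × K) :=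
  Finset.univ.filter fun x => 1 + x.1 ^ (Q + 1) + x.2 ^ (Q + 1) = 0

include hK

lemma chart_norm_fix (y : K) : (y ^ (Q + 1)) ^ Q = y ^ (Q + 1) := by
  rw [pow_succ, mul_pow, pow_q_q hK, mul_comm]

lemma chart_card_fiber {μ : K} (hμ : μ ≠ 0) (hμq : μ ^ Q = μ) :
    (Finset.univ.filter fun x : K => x ^ (Q + 1) = μ).card = Q + 1 := by
  rw [← Fintype.card_subtype, ← Nat.card_eq_fintype_card]
  exact card_norm_fiber hK hμ hμq

lemma chart_neg_one : (-1 : K) ^ Q = -1 := by
  rw [← frobQ_apply hK, map_neg, map_one]

lemma le_card_chart : (Q ^ 2 - (Q + 1)) * (Q + 1) ≤ (chart K Q).card := by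
  classical
  set Y := Finset.univ.filter fun y : K => y ^ (Q + 1) ≠ -1
  have hY : Q ^ 2 - (Q + 1) = Y.card := by
    have h := Finset.card_filter_add_card_filter_not (s := (Finset.univ : Finset K)) (fun y => y ^ (Q + 1) = -1)
    rw [chart_card_fiber hK (neg_ne_zero.2 one_ne_zero) (chart_neg_one hK), Finset.card_univ,
      ← Nat.card_eq_fintype_card, hK] at h
    show _ = (Finset.univ.filter fun y : K => ¬ y ^ (Q + 1) = -1).card
    omega
  have hfib : ∀ y ∈ Y, ((chart K Q).filter fun x => x.1 = y).card = Q + 1 := by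
    intro y hy
    have hy' : y ^ (Q + 1) ≠ -1 := (Finset.mem_filter.1 hy).2
    rw [← chart_card_fiber hK (μ := -1 - y ^ (Q + 1)) (fun e => hy' (by linear_combination -e)) (by
      rw [← frobQ_apply hK, map_sub, map_neg, map_one, frobQ_apply, chart_norm_fix hK])]
    refine Finset.card_bij' (fun x _ => x.2) (fun z _ => (y, z)) (fun x hx => ?_) (fun z hz => ?_)
      (fun x hx => ?_) (fun z _ => rfl)
    · simp only [chart, Finset.mem_filter, Finset.mem_univ, true_and] at hx ⊢
      rw [← hx.2]
      linear_combination hx.1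
    · simp only [chart, Finset.mem_filter, Finset.mem_univ, true_and, and_true] at hz ⊢
      rw [hz]
      ring
    · simp only [Finset.mem_filter] at hx
      exact Prod.ext hx.2.symm rfl
  calc (Q ^ 2 - (Q + 1)) * (Q + 1) = ∑ y ∈ Y, ((chart K Q).filter fun x => x.1 = y).card := by
        rw [Finset.sum_congr rfl hfib, Finset.sum_const, smul_eq_mul, hY]
    _ ≤ ∑ y, ((chart K Q).filter fun x => x.1 = y).card := Finset.sum_le_sum_of_subset (Finset.subset_univ _)
    _ = (chart K Q).card :=
        (Finset.card_eq_sum_card_fiberwise (f := Prod.fst) (fun x _ => Finset.mem_univ x.1)).symm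

/-- A line meets the chart in at most `Q + 1` points. -/
lemma card_chart_line {c₀ c₁ c₂ : K} (hc : ¬ (c₀ = 0 ∧ c₁ = 0 ∧ c₂ = 0)) :
    ((chart K Q).filter fun x => c₀ + c₁ * x.1 + c₂ * x.2 = 0).card ≤ Q + 1 := by
  classical
  have hQ := two_le_q hK
  rcases eq_or_ne c₂ 0 with h2 | h2
  · rcases eq_or_ne c₁ 0 with h1 | h1
    · rw [Finset.filter_eq_empty_iff.2 fun x _ e => hc ⟨by simpa [h1, h2] using e, h1, h2⟩]
      simp
    set y₀ := -c₀ / c₁
    set μ := -1 - y₀ ^ (Q + 1)
    refine le_trans (Finset.card_le_card_of_injOn (t := Finset.univ.filter fun z : K => z ^ (Q + 1) = μ) Prod.snd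
      (fun x hx => ?_) fun x hx x' hx' e => ?_) ?_
    · simp only [chart, Finset.coe_filter, Finset.mem_filter, Finset.mem_univ, true_and, Set.mem_ofPred_eq,
        h2, zero_mul, add_zero] at hx ⊢
      have : x.1 = y₀ := by simp only [y₀]; rw [eq_div_iff h1]; linear_combination hx.2
      rw [this] at hx
      show x.2 ^ (Q + 1) = -1 - y₀ ^ (Q + 1)
      linear_combination hx.1
    · simp only [Finset.coe_filter, Set.mem_ofPred_eq, h2, zero_mul, add_zero] at hx hx'
      exact Prod.ext (mul_left_cancel₀ h1 (by linear_combination hx.2 - hx'.2)) e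
    · rcases eq_or_ne μ 0 with h | h
      · rw [h]
        refine (Finset.card_le_one.2 fun a ha b hb => ?_).trans (by omega)
        simp only [Finset.mem_filter, Finset.mem_univ, true_and, pow_eq_zero_iff (Nat.succ_ne_zero Q)] at ha hb
        rw [ha, hb]
      · refine (chart_card_fiber hK h ?_).le
        simp only [μ]
        rw [← frobQ_apply hK, map_sub, map_neg, map_one, frobQ_apply, chart_norm_fix hK]
  · set a := -c₀ / c₂
    set b := -c₁ / c₂
    let P : K[X] := C (1 + a * a ^ Q) + C (1 + b * b ^ Q) * X ^ (Q + 1) + C (a * b ^ Q) * X ^ Q + C (b * a ^ Q) * X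
    have hcoeff : ∀ i, P.coeff i = (if i = 0 then 1 + a * a ^ Q else 0) +
        (if i = Q + 1 then 1 + b * b ^ Q else 0) + (if i = Q then a * b ^ Q else 0) +
        (if i = 1 then b * a ^ Q else 0) := fun i => by
      simp only [P, coeff_add, coeff_C, coeff_C_mul, coeff_X_pow, coeff_X, mul_ite, mul_one, mul_zero,
        eq_comm (a := 1) (b := i)]
    have hP : P ≠ 0 := fun e => by
      have e1 := hcoeff (Q + 1)
      have e2 := hcoeff Q
      have e0 := hcoeff 0
      rw [e, coeff_zero, if_neg (by omega), if_pos rfl, if_neg (by omega), if_neg (by omega)] at e1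
      rw [e, coeff_zero, if_neg (by omega), if_neg (by omega), if_pos rfl, if_neg (by omega)] at e2
      rw [e, coeff_zero, if_pos rfl, if_neg (by omega), if_neg (by omega), if_neg (by omega)] at e0
      simp only [add_zero, zero_add] at e0 e1 e2
      rcases mul_eq_zero.1 e2.symm with h | h
      · rw [h, zero_mul, add_zero] at e0
        exact zero_ne_one e0
      · rw [h, mul_zero, add_zero] at e1
        exact zero_ne_one e1
    have hdeg : P.natDegree ≤ Q + 1 := natDegree_le_iff_coeff_eq_zero.2 fun i hi => by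
      rw [hcoeff, if_neg (by omega), if_neg (by omega), if_neg (by omega), if_neg (by omega)]
      simp
    refine le_trans (Finset.card_le_card_of_injOn Prod.fst (t := P.roots.toFinset) (fun x hx => ?_)
      fun x hx x' hx' e => ?_) ((Multiset.toFinset_card_le _).trans ((card_roots' P).trans hdeg))
    · simp only [chart, Finset.coe_filter, Finset.mem_filter, Finset.mem_univ, true_and, Set.mem_ofPred_eq] at hx
      have hz : x.2 = a + b * x.1 := by
        simp only [a, b]; field_simp; linear_combination hx.2
      rw [SetLike.mem_coe, Multiset.mem_toFinset, mem_roots hP]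
      have e : x.2 ^ (Q + 1) = (a + b * x.1) * (a ^ Q + b ^ Q * x.1 ^ Q) := by
        rw [pow_succ, hz, add_pow_q hK, mul_pow]
        ring
      have h0 := hx.1
      rw [e] at h0
      simp only [P, IsRoot.def, eval_add, eval_mul, eval_C, eval_pow, eval_X]
      linear_combination h0
    · simp only [Finset.coe_filter, Set.mem_ofPred_eq] at hx hx'
      exact Prod.ext e (mul_left_cancel₀ h2 (by linear_combination hx.2 - hx'.2 - c₁ * e))

end CfsgLib.Geo.UnitExt
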