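/-
A family of hermitian matrices with more members than rows has a singular real combination.
-/
import Cfsg.Agent.Forms.FiniteQ
import Mathlib.FieldTheory.ChevalleyWarning
import Mathlib.LinearAlgebra.Matrix.Determinant.Basic

set_option autoImplicit false

namespace CfsgLib.Geo.UnitExt

open CfsgLib.Forms MvPolynomial

variable {F : Type*} [Field F] [Finite F] {q : ℕ} (hF : Nat.card F = q ^ 2)
variable {ι κ : Type*} [Fintype ι] [DecidableEq ι] [Fintype κ]
include hF

theorem exists_singular [Nonempty ι] (H : κ → Matrix ι ι F) (herm : ∀ k i j, H k j i = (H k i j) ^ q)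
    (hlt : Fintype.card ι < Fintype.card κ) :
    ∃ s : κ → F, (∀ k, s k ^ q = s k) ∧ s ≠ 0 ∧ (∑ k, s k • H k).det = 0 := by
  classical
  let E : Subfield F := RingHom.eqLocusField (frobQ hF) (RingHom.id F)
  have hE : ∀ a : F, a ∈ E ↔ a ^ q = a := fun a => Iff.rfl
  have : Fintype E := Fintype.ofFinite E
  let P : MvPolynomial κ F := (Matrix.of fun i j => ∑ k, C (H k i j) * X k).det
  have hPdeg : P.totalDegree ≤ Fintype.card ι := by
    simp only [P, Matrix.det_apply]
    refine (totalDegree_finsetSum _ _).trans (Finset.sup_le fun σ _ => ?_)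
    refine (totalDegree_smul_le _ _).trans ((totalDegree_finsetProd _ _).trans ?_)
    refine (Finset.sum_le_card_nsmul _ _ 1 fun i _ => ?_).trans (by simp)
    refine (totalDegree_finsetSum _ _).trans (Finset.sup_le fun k _ => ?_)
    exact (totalDegree_mul _ _).trans (by simp [totalDegree_X])
  have hPeval : ∀ s : κ → F, eval s P = (∑ k, s k • H k).det := fun s => by
    show eval s (Matrix.det _) = _
    rw [RingHom.map_det]
    congr 1
    ext i j
    simp [Matrix.sum_apply, mul_comm]
  obtain ⟨π, hπ⟩ := (Algebra.linearMap E F).exists_leftInverse_of_injective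
    (LinearMap.ker_eq_bot.2 (algebraMap E F).injective)
  have hπ' : ∀ a : E, π (a : F) = a := fun a => LinearMap.congr_fun hπ a
  let G : MvPolynomial κ E := ∑ d ∈ P.support, monomial d (π (coeff d P))
  have hGdeg : G.totalDegree < Fintype.card κ := by
    refine lt_of_le_of_lt ((totalDegree_finsetSum _ _).trans (Finset.sup_le fun d hd => ?_)) (hPdeg.trans_lt hlt)
    exact (totalDegree_monomial_le _ _).trans (le_totalDegree hd)
  have hGeval : ∀ s : κ → E, eval s G = π (eval (fun k => (s k : F)) P) := fun s => by
    conv_rhs => rw [← support_sum_monomial_coeff P]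
    simp only [G, map_sum, eval_monomial]
    refine Finset.sum_congr rfl fun d _ => ?_
    have e : (d.prod fun k e => (s k : F) ^ e) = ((d.prod fun k e => s k ^ e : E) : F) := by
      rw [Finsupp.prod, Finsupp.prod]
      push_cast
      rfl
    rw [e, mul_comm (coeff d P), show ((d.prod fun k e => s k ^ e : E) : F) * coeff d P =
      (d.prod fun k e => s k ^ e : E) • coeff d P from rfl, map_smul, smul_eq_mul, mul_comm]
  have hreal : ∀ s : κ → E, (∑ k, (s k : F) • H k).det ∈ E := fun s => by
    rw [hE, ← frobQ_apply hF, RingHom.map_det, ← Matrix.det_transpose]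
    congr 1
    ext i j
    rw [Matrix.transpose_apply, RingHom.mapMatrix_apply, Matrix.map_apply, Matrix.sum_apply, Matrix.sum_apply, map_sum]
    refine Finset.sum_congr rfl fun k _ => ?_
    rw [Matrix.smul_apply, Matrix.smul_apply, smul_eq_mul, smul_eq_mul, map_mul, frobQ_apply, frobQ_apply,
      (hE _).1 (s k).2, ← herm]
  obtain ⟨p, hp⟩ := CharP.exists E
  have hpp : p.Prime := (CharP.char_is_prime_or_zero E p).resolve_right fun h => by
    subst h
    have : CharZero E := CharP.charP_to_charZero E
    have : Infinite E := Infinite.of_injective (Nat.cast : ℕ → E) Nat.cast_injective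
    exact not_finite E
  have hdvd := char_dvd_card_solutions p hGdeg
  have h0 : eval (0 : κ → E) G = 0 := by
    rw [hGeval, hPeval]
    have hι : (∑ k, (((0 : κ → E) k : E) : F) • H k) = (0 : Matrix ι ι F) := by simp
    rw [hι, Matrix.det_zero, map_zero]
  have hcard : 1 < Fintype.card {x : κ → E // eval x G = 0} := by
    have h1 : 0 < Fintype.card {x : κ → E // eval x G = 0} := Fintype.card_pos_iff.2 ⟨⟨0, h0⟩⟩
    exact lt_of_lt_of_le hpp.one_lt (Nat.le_of_dvd h1 hdvd)
  obtain ⟨⟨x, hx⟩, hne⟩ := Fintype.exists_ne_of_one_lt_card hcard ⟨0, h0⟩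
  refine ⟨fun k => (x k : F), fun k => (hE _).1 (x k).2, fun h => hne (Subtype.ext (funext fun k =>
    Subtype.ext (congrFun h k))), ?_⟩
  have h2 := hGeval x
  rw [hx, hPeval, show (∑ k, ((x k : E) : F) • H k).det = ((⟨_, hreal x⟩ : E) : F) from rfl, hπ'] at h2
  exact (congrArg Subtype.val h2).symm

end CfsgLib.Geo.UnitExt
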