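/-
When the root groups consist of scalars, images of points are disjoint or equal, and meet the pairing with a
point in monomial maps.
-/
import Cfsg.Agent.Geo.UnitExtSpace
import Cfsg.Agent.Geo.UnitExtSingular
import Cfsg.Agent.Geo.UnitExtAll

set_option autoImplicit false
set_option linter.unusedSectionVars false

namespace CfsgLib.Geo.UnitExt

open Module CfsgLib.FieldMax CfsgLib.Forms

variable {F : Type*} [Field F] [Finite F] {K : Type*} [Field K] [Algebra F K] [Finite K] {q m : ℕ}

local notation "V" => (Fin m → K)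
local notation "GV" => ((Fin m → K) ≃ₗ[F] (Fin m → K))

/-- The parametrisation of an image of an isotropic point. -/
def IsMember (q : ℕ) (M : Subgroup GV) (j : K →ₗ[F] V) : Prop :=
  ∃ g ∈ M, ∃ u : V, u ≠ 0 ∧ ph q F u u = 0 ∧ ∀ k : K, j k = g (k • u)

/-- The scalar multiples of a vector. -/
def ptMap (F : Type*) [Field F] {K : Type*} [Field K] [Algebra F K] {m : ℕ} (u : Fin m → K) :
    K →ₗ[F] (Fin m → K) :=
  (LinearMap.toSpanSingleton K (Fin m → K) u).restrictScalars F

lemma ptMap_apply (u : V) (k : K) : ptMap F u k = k • u := rfl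

/-- Orthogonal vectors of the second image lie in the first. -/
def Nice (q : ℕ) (i j : K →ₗ[F] V) : Prop :=
  ∀ k, (∀ l, tf q F (j k) (i l) = 0) → j k ∈ LinearMap.range i

variable (D : Data q F K)
include D

/-- The pairing with a vector. -/
noncomputable def Data.lam (_E : Data q F K) (j : K →ₗ[F] V) (y : V) : K →ₗ[F] K where
  toFun k := ph q F (j k) y
  map_add' k l := by rw [map_add, ph_add_l]
  map_smul' c k := by
    rw [map_smul, show c • j k = algebraMap F K c • j k from (algebraMap_smul K c _).symm, ph_smul_l,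
      ← Algebra.smul_def, RingHom.id_apply]

lemma Data.lam_apply (j : K →ₗ[F] V) (y : V) (k : K) : D.lam j y k = ph q F (j k) y := rfl

lemma Data.exists_skew_basis :
    ∃ c : Fin (finrank F K) → K, (∀ i, c i + c i ^ qK q F K = 0) ∧ LinearIndependent F c := by
  set S : Set K := {a | a + a ^ qK q F K = 0}
  have hspan : Submodule.span F S = ⊤ := by
    refine eq_top_iff.2 fun v _ => ?_
    obtain ⟨ω, hω⟩ : ∃ ω : F, ω ^ q ≠ ω := by
      by_contra h
      push Not at h
      exact frobQ_ne_id D.card (RingHom.ext fun a => by rw [frobQ_apply, h]; rfl)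
    set ω' := algebraMap F K ω
    have hden : ω' - ω' ^ qK q F K ≠ 0 := by
      rw [show ω' ^ qK q F K = algebraMap F K (ω ^ q) from D.algebraMap_pow ω, sub_ne_zero]
      exact fun e => hω ((algebraMap F K).injective e).symm
    set c2 := (v + v ^ qK q F K) / (ω' - ω' ^ qK q F K) with hc2def
    have hc2 : c2 + c2 ^ qK q F K = 0 := by
      rw [hc2def, div_pow, D.sub_pow, D.add_pow, D.pow_pow, D.pow_pow, ← neg_sub ω', div_neg]
      ring
    have hc1 : (v - ω' * c2) + (v - ω' * c2) ^ qK q F K = 0 := by
      rw [D.sub_pow, mul_pow]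
      have e : c2 * (ω' - ω' ^ qK q F K) = v + v ^ qK q F K := div_mul_cancel₀ _ hden
      rw [eq_neg_of_add_eq_zero_right hc2]
      linear_combination -e
    rw [show v = (v - ω' * c2) + ω • c2 by rw [Algebra.smul_def]; ring]
    exact add_mem (Submodule.subset_span hc1) (Submodule.smul_mem _ _ (Submodule.subset_span hc2))
  obtain ⟨b, hbS, hb, hli⟩ := exists_linearIndependent F S
  rw [hspan] at hb
  have : Fintype b := Fintype.ofFinite b
  have hsp : Submodule.span F (Set.range (Subtype.val : b → K)) = ⊤ := by rw [Subtype.range_coe]; exact hb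
  let B : Basis b F K := Basis.mk hli hsp.ge
  have hcard : Fintype.card b = finrank F K := (Module.finrank_eq_card_basis B).symm
  let e := (Fintype.equivFinOfCardEq hcard).symm
  exact ⟨fun i => (e i : K), fun i => hbS (e i).2, hli.comp e e.injective⟩

/-- More skew maps than the dimension give a degenerate real combination on a subspace. -/
lemma Data.exists_degenerate {κ : Type*} [Fintype κ] (Γ : κ → (K →ₗ[F] K)) (hΓ : ∀ k, Skew (F := F) q (Γ k))
    (Y : Submodule F K) (hY : Y ≠ ⊥) (hlt : finrank F Y < Fintype.card κ) :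
    ∃ s : κ → F, (∀ k, s k ^ q = s k) ∧ s ≠ 0 ∧
      ∃ y ∈ Y, y ≠ 0 ∧ ∀ y' ∈ Y, hh (F := F) q ((∑ k, s k • Γ k) y) y' = 0 := by
  classical
  obtain ⟨d, hd0, hd⟩ := skew_exists' D.card
  let b := Module.finBasis F Y
  have hne : Nonempty (Fin (finrank F Y)) := by
    refine ⟨⟨0, Nat.pos_of_ne_zero fun e => hY (Submodule.finrank_eq_zero.1 e)⟩⟩
  let H : κ → Matrix (Fin (finrank F Y)) (Fin (finrank F Y)) F :=
    fun k => Matrix.of fun i j => d * hh q (Γ k (b i : K)) (b j : K)
  obtain ⟨s, hs, hs0, hdet⟩ := exists_singular D.card H (fun k i j => by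
    show d * hh q (Γ k (b j : K)) (b i : K) = (d * hh q (Γ k (b i : K)) (b j : K)) ^ q
    have h := hΓ k (b j : K) (b i : K)
    rw [mul_pow, ← D.hh_swap, eq_neg_of_add_eq_zero_right hd, eq_neg_of_add_eq_zero_left h]
    ring) (by rw [Fintype.card_fin]; exact hlt)
  obtain ⟨v, hv0, hv⟩ := Matrix.exists_vecMul_eq_zero_iff.2 hdet
  refine ⟨s, hs, hs0, (∑ i, v i • b i : Y), Submodule.coe_mem _, fun e => hv0 ?_, fun y' hy' => ?_⟩
  · have h := Fintype.linearIndependent_iff.1 b.linearIndependent v (Subtype.ext (by simpa using e))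
    exact funext h
  have hj : ∀ j, hh (F := F) q ((∑ k, s k • Γ k) (∑ i, v i • b i : Y)) (b j : K) = 0 := fun j => by
    have h := congrFun hv j
    simp only [Matrix.vecMul, dotProduct, Matrix.sum_apply, Matrix.smul_apply, H, Matrix.of_apply, smul_eq_mul,
      Pi.zero_apply] at h
    simp only [Submodule.coe_sum, Submodule.coe_smul, map_sum, map_smul, LinearMap.coe_sum, Finset.sum_apply,
      LinearMap.smul_apply]
    let φ : K →+ F := AddMonoidHom.mk' (fun a => hh q a (b j : K)) fun a a' => hh_add_left a a' _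
    change φ _ = 0
    simp only [map_sum, φ, AddMonoidHom.mk'_apply, hh_smul_left, Finset.smul_sum, smul_smul]
    have h' : d * ∑ i, ∑ k, v i * (s k * hh q (Γ k (b i : K)) (b j : K)) = 0 := by
      rw [Finset.mul_sum]
      refine Eq.trans (Finset.sum_congr rfl fun i _ => ?_) h
      rw [Finset.mul_sum, Finset.mul_sum]
      exact Finset.sum_congr rfl fun k _ => by ring
    have h'' := (mul_eq_zero.1 h').resolve_left hd0
    rw [← h'']
    exact Finset.sum_congr rfl fun i _ => Finset.sum_congr rfl fun k _ => by ring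
  have e : y' = ((∑ j, b.repr ⟨y', hy'⟩ j • b j : Y) : K) := by rw [b.sum_repr]
  set X := (∑ k, s k • Γ k) ((∑ i, v i • b i : Y) : K)
  rw [e, Submodule.coe_sum]
  let ψ : K →+ F := AddMonoidHom.mk' (fun a => hh q X a) fun a a' => D.hh_add_right _ a a'
  change ψ _ = 0
  rw [map_sum]
  refine Finset.sum_eq_zero fun j _ => ?_
  show hh q X ((b.repr ⟨y', hy'⟩ j • b j : Y) : K) = 0
  rw [Submodule.coe_smul, D.hh_smul_right, hj, mul_zero]

lemma Data.card_orth (A : K →ₗ[F] K) :
    Nat.card {a : K // ∀ k, hh (F := F) q a (A k) = 0} = Nat.card (LinearMap.ker A) := by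
  set U : Submodule F K := (Algebra.traceForm F K).orthogonal (LinearMap.range A)
  have hU : ∀ b, b ∈ U ↔ ∀ k, Algebra.trace F K (A k * b) = 0 := fun b =>
    ⟨fun h k => h (A k) (LinearMap.mem_range_self A k), fun h x hx => by
      obtain ⟨k, rfl⟩ := hx; exact h k⟩
  have key : ∀ a k, hh (F := F) q a (A k) = 0 ↔ Algebra.trace F K (A k * a ^ qK q F K) = 0 := fun a k => by
    rw [D.hh_swap (A k) a, pow_eq_zero_iff (by have := two_le_q D.card; omega)]
    exact Iff.rfl
  have e1 : Nat.card {a : K // ∀ k, hh (F := F) q a (A k) = 0} = Nat.card U :=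
    Nat.card_congr
      { toFun := fun a => ⟨a.1 ^ qK q F K, (hU _).2 fun k => (key _ k).1 (a.2 k)⟩
        invFun := fun b => ⟨b.1 ^ qK q F K, fun k => (key _ k).2 (by rw [D.pow_pow]; exact (hU _).1 b.2 k)⟩
        left_inv := fun a => Subtype.ext (D.pow_pow _)
        right_inv := fun b => Subtype.ext (D.pow_pow _) }
  have hrefl : (Algebra.traceForm F K).IsRefl := fun x y h => by
    rw [Algebra.traceForm_apply] at h ⊢; rwa [mul_comm]
  have h1 : finrank F U = finrank F K - finrank F (LinearMap.range A) :=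
    LinearMap.BilinForm.finrank_orthogonal (traceForm_nondegenerate F K) _
  have h2 := A.finrank_range_add_finrank_ker
  rw [e1, Module.natCard_eq_pow_finrank (K := F), h1,
    show finrank F K - finrank F (LinearMap.range A) = finrank F (LinearMap.ker A) by omega]
  exact Module.natCard_eq_pow_finrank.symm

/-- A map conjugating the skew scalars to scalars is monomial. -/
lemma Data.monomial {T T' : K →ₗ[F] K} (hT : Function.Injective T) (hT' : IsHAdj (F := F) q T T')
    (h : ∀ d : K, d + d ^ qK q F K = 0 → ∃ e, T.comp ((LinearMap.mulLeft F d).comp T') = LinearMap.mulLeft F e) :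
    ∃ σ : K →ₐ[F] K, ∀ k, T k = T 1 * σ k := by
  have hTs : Function.Surjective T := LinearMap.surjective_of_injective hT
  have hT'i : Function.Injective T' := by
    refine (injective_iff_map_eq_zero T').2 fun b hb => D.eq_zero_of_hh (F := F) fun a => ?_
    obtain ⟨k, rfl⟩ := hTs a
    rw [D.hh_swap (T k), hT', hb, D.hh_zero_right]
    exact _root_.zero_pow (by have := two_le_q D.card; omega)
  have hT's : Function.Surjective T' := LinearMap.surjective_of_injective hT'i
  -- all scalars go to scalars
  have hall : ∀ d : K, ∃ e, T.comp ((LinearMap.mulLeft F d).comp T') = LinearMap.mulLeft F e := by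
    intro d
    obtain ⟨c, hc, hli⟩ := D.exists_skew_basis
    have hsp : d ∈ Submodule.span F (Set.range c) := by
      rw [hli.span_eq_top_of_card_eq_finrank' (Fintype.card_fin _)]; trivial
    induction hsp using Submodule.span_induction with
    | mem x hx => obtain ⟨i, rfl⟩ := hx; exact h _ (hc i)
    | zero => exact ⟨0, LinearMap.ext fun x => by simp⟩
    | add x y _ _ hx hy =>
      obtain ⟨e, he⟩ := hx
      obtain ⟨e', he'⟩ := hy
      refine ⟨e + e', LinearMap.ext fun z => ?_⟩
      have h1 := LinearMap.congr_fun he z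
      have h2 := LinearMap.congr_fun he' z
      simp only [LinearMap.comp_apply, LinearMap.mulLeft_apply] at h1 h2 ⊢
      rw [add_mul, map_add, h1, h2, add_mul]
    | smul a x _ hx =>
      obtain ⟨e, he⟩ := hx
      refine ⟨a • e, LinearMap.ext fun z => ?_⟩
      have h1 := LinearMap.congr_fun he z
      simp only [LinearMap.comp_apply, LinearMap.mulLeft_apply] at h1 ⊢
      rw [smul_mul_assoc, map_smul, h1, smul_mul_assoc]
  choose e he using hall
  have he' : ∀ d z, T (d * T' z) = e d * z := fun d z => LinearMap.congr_fun (he d) z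
  have he1 : e 1 ≠ 0 := fun h0 => by
    have h2 : T (T' 1) = 0 := by simpa [h0] using he' 1 1
    exact one_ne_zero (hT'i ((hT (h2.trans (map_zero T).symm)).trans (map_zero T').symm))
  have hψ : ∀ d x, T (d * x) = e d / e 1 * T x := fun d x => by
    obtain ⟨z, rfl⟩ := hT's x
    have h1 := he' 1 z
    rw [one_mul] at h1
    rw [he', h1]
    field_simp
  have hT1 : T 1 ≠ 0 := fun h0 => one_ne_zero (hT (h0.trans (map_zero T).symm))
  have hdiv : ∀ d, e d / e 1 = T d / T 1 := fun d => by
    have := hψ d 1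
    rw [mul_one] at this
    rw [this, mul_div_assoc, div_self hT1, mul_one]
  refine ⟨
    { toFun := fun k => T k / T 1
      map_one' := div_self hT1
      map_mul' := fun a b => by rw [hψ, hdiv, mul_div_assoc]
      map_zero' := by rw [map_zero, zero_div]
      map_add' := fun a b => by rw [map_add, add_div]
      commutes' := fun a => by
        rw [Algebra.algebraMap_eq_smul_one, map_smul, smul_div_assoc, div_self hT1] }, fun k => ?_⟩
  show T k = T 1 * (T k / T 1)
  rw [mul_div_cancel₀ _ hT1]

variable {M : Subgroup ((Fin m → K) ≃ₗ[F] (Fin m → K))} (hM : EOver (F := F) q M)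
include hM

lemma IsMember.inj {j : K →ₗ[F] V} (hj : IsMember q M j) : Function.Injective j := by
  obtain ⟨g, -, u, hu0, -, hju⟩ := hj
  intro a b h
  rw [hju, hju] at h
  exact smul_left_injective K hu0 (g.injective h)

lemma IsMember.iso {j : K →ₗ[F] V} (hj : IsMember q M j) (k l : K) : tf q F (j k) (j l) = 0 := by
  obtain ⟨g, hg, u, -, hu, hju⟩ := hj
  rw [hju, hju, hM.isom g hg, tf, ph_smul_l, D.ph_smul_r, hu, mul_zero, mul_zero, map_zero]

omit D hM in
lemma IsMember.comp {j : K →ₗ[F] V} (hj : IsMember q M j) {g : GV} (hg : g ∈ M) :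
    IsMember q M ((g : V →ₗ[F] V).comp j) := by
  obtain ⟨g', hg', u, hu0, hu, hju⟩ := hj
  exact ⟨g * g', mul_mem hg hg', u, hu0, hu, fun k => by simp [hju]⟩

omit D hM in
lemma isMember_pt {u : V} (hu0 : u ≠ 0) (hu : ph q F u u = 0) : IsMember q M (ptMap F u) :=
  ⟨1, one_mem M, u, hu0, hu, fun k => rfl⟩

variable (hS : AllScalar D M)
include hS

/-- A member meeting a point non-trivially in the nice position is that point. -/
lemma disjoint_or_eq_pt (d : ℕ)
    (IH : ∀ i j : K →ₗ[F] V, IsMember q M i → IsMember q M j → Nice q i j →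
      finrank F K ≤ d + finrank F (LinearMap.range i ⊓ LinearMap.range j : Submodule F V) →
      LinearMap.range i = LinearMap.range j ∨ LinearMap.range i ⊓ LinearMap.range j = ⊥)
    {u : V} (hu0 : u ≠ 0) (hu : ph q F u u = 0) {j : K →ₗ[F] V} (hj : IsMember q M j) (hn : Nice q (ptMap F u) j)
    (hd : finrank F K ≤ d + 1 + finrank F (LinearMap.range (ptMap F u) ⊓ LinearMap.range j : Submodule F V)) :
    LinearMap.range (ptMap F u) = LinearMap.range j ∨ LinearMap.range (ptMap F u) ⊓ LinearMap.range j = ⊥ := by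
  classical
  by_contra hcon
  push Not at hcon
  obtain ⟨hne, hmeet⟩ := hcon
  set A := D.lam j u
  have hinj := IsMember.inj D hM hj
  have hpinj : Function.Injective (ptMap F u) := smul_left_injective K hu0
  have hker : ∀ k, A k = 0 ↔ j k ∈ LinearMap.range (ptMap F u) := fun k => by
    constructor
    · intro h
      refine hn k fun l => ?_
      rw [ptMap_apply, D.tf_smul_r, show ph q F (j k) u = 0 from h, hh_zero_left]
    · rintro ⟨a, ha⟩
      show ph q F (j k) u = 0
      rw [← ha, ptMap_apply, ph_smul_l, hu, mul_zero]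
  -- the coefficients of the meet are the orthogonal of the image
  have hU : ∀ a, (∀ k, hh (F := F) q a (A k) = 0) → a • u ∈ LinearMap.range j := by
    let f : LinearMap.ker A → {a : K // ∀ k, hh (F := F) q a (A k) = 0} := fun k =>
      ⟨((hker k.1).1 (LinearMap.mem_ker.1 k.2)).choose, fun l => by
        have h := ((hker k.1).1 (LinearMap.mem_ker.1 k.2)).choose_spec
        rw [ptMap_apply] at h
        have h2 := IsMember.iso D hM hj k.1 l
        rw [← h, D.tf_smul_l] at h2
        exact h2⟩
    have hf : ∀ k, (f k).1 • u = j k.1 := fun k => ((hker k.1).1 (LinearMap.mem_ker.1 k.2)).choose_spec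
    have hfinj : Function.Injective f := fun a b e => Subtype.ext (hinj (by rw [← hf, ← hf, e]))
    have hbij := (Nat.bijective_iff_injective_and_card f).2 ⟨hfinj, (D.card_orth A).symm⟩
    intro a ha
    obtain ⟨k, hk⟩ := hbij.2 ⟨a, ha⟩
    exact ⟨k.1, by rw [← hf k, hk]⟩
  set Y := LinearMap.range A
  have hYne : Y ≠ ⊥ := fun e => hne (by
    have hle : LinearMap.range j ≤ LinearMap.range (ptMap F u) := by
      rintro _ ⟨k, rfl⟩
      refine (hker k).1 ?_
      have : A k ∈ Y := LinearMap.mem_range_self A k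
      rwa [e, Submodule.mem_bot] at this
    refine (Submodule.eq_of_le_of_finrank_le hle ?_).symm
    rw [LinearMap.finrank_range_of_inj hinj, LinearMap.finrank_range_of_inj hpinj])
  have hYlt : finrank F Y < finrank F K := by
    by_contra hge
    push Not at hge
    refine hmeet (eq_bot_iff.2 fun x hx => ?_)
    obtain ⟨k, rfl⟩ := hx.2
    have h : finrank F Y + _ = _ := A.finrank_range_add_finrank_ker
    have hk0 : LinearMap.ker A = ⊥ := Submodule.finrank_eq_zero.1 (by omega)
    have : k ∈ LinearMap.ker A := LinearMap.mem_ker.2 ((hker k).2 hx.1)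
    rw [hk0, Submodule.mem_bot] at this
    rw [this, map_zero]
    exact zero_mem _
  obtain ⟨c₀, hc₀, hc₀li⟩ := D.exists_skew_basis
  obtain ⟨s, hs, hs0, y, hy, hy0, hdeg⟩ := D.exists_degenerate (fun i => LinearMap.mulLeft F (c₀ i))
    (fun i => D.mul_skew (hc₀ i)) Y hYne (by rw [Fintype.card_fin]; exact hYlt)
  set c := ∑ i, s i • c₀ i
  have hc : c + c ^ qK q F K = 0 := by
    rw [← frobQ_apply D.cardK c, map_sum, ← Finset.sum_add_distrib]
    refine Finset.sum_eq_zero fun i _ => ?_
    rw [frobQ_apply, D.smul_pow, hs, ← smul_add, hc₀, smul_zero]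
  have hc0 : c ≠ 0 := fun e => hs0 (funext (Fintype.linearIndependent_iff.1 hc₀li s e))
  have hsum : (∑ i, s i • LinearMap.mulLeft F (c₀ i)) = LinearMap.mulLeft F c := LinearMap.ext fun x => by
    simp [c, Finset.sum_mul]
  rw [hsum] at hdeg
  set τ := D.tel hu (LinearMap.mulLeft F c)
  have hτ : τ ∈ M := EOver.scalar_mem D hM hu0 hu hc
  set j2 : K →ₗ[F] V := (τ : V →ₗ[F] V).comp j
  have hj2 : ∀ k, j2 k = j k + (c * A k) • u := fun k => rfl
  have hnice : Nice q j j2 := by
    intro k hk
    have h0 : ∀ l, hh (F := F) q (c * A k) (A l) = 0 := fun l => by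
      have h := hk l
      rwa [hj2, D.tf_add_left, IsMember.iso D hM hj, zero_add, D.tf_smul_l] at h
    rw [hj2]
    exact add_mem (LinearMap.mem_range_self j k) (hU _ h0)
  obtain ⟨k0, hk0⟩ := hy
  obtain ⟨k1, hk1⟩ : (c * A k0) • u ∈ LinearMap.range j := hU _ fun l => by
    rw [hk0]; exact hdeg _ (LinearMap.mem_range_self A l)
  have hlt : LinearMap.range (ptMap F u) ⊓ LinearMap.range j < LinearMap.range j ⊓ LinearMap.range j2 := by
    refine lt_of_le_of_ne (fun x hx => ⟨hx.2, ?_⟩) fun e => ?_
    · obtain ⟨k, rfl⟩ := hx.2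
      exact ⟨k, by rw [hj2, (hker k).2 hx.1, mul_zero, zero_smul, add_zero]⟩
    · have hmem : j (k0 + k1) ∈ LinearMap.range j ⊓ LinearMap.range j2 :=
        ⟨LinearMap.mem_range_self j _, k0, by rw [hj2, map_add, hk1]⟩
      rw [← e] at hmem
      have h := (hker _).2 hmem.1
      rw [map_add, show A k1 = 0 by
        show ph q F (j k1) u = 0
        rw [hk1, ph_smul_l, hu, mul_zero], add_zero, hk0] at h
      exact hy0 h
  have hfr := Submodule.finrank_lt_finrank_of_lt hlt
  rcases IH j j2 hj (hj.comp hτ) hnice (by omega) with heq | hbot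
  swap
  · rw [hbot, finrank_bot] at hfr; omega
  obtain ⟨g, hg, u', hu'0, hu', hju⟩ := hj
  -- the induced map
  let e := LinearEquiv.ofInjective j hinj
  let T : K →ₗ[F] K := e.symm.toLinearMap.comp (j2.codRestrict (LinearMap.range j) fun k => by
    rw [heq]; exact LinearMap.mem_range_self j2 k)
  have hT : ∀ k, j (T k) = j2 k := fun k => by
    have h := congrArg Subtype.val (e.apply_symm_apply ⟨j2 k, by rw [heq]; exact LinearMap.mem_range_self j2 k⟩)
    exact h
  have hconj : g⁻¹ * τ * g ∈ M := mul_mem (mul_mem (inv_mem hg) hτ) hg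
  have hTu : ∀ k : K, (g⁻¹ * τ * g) (k • u') = T k • u' := fun k => by
    show g.symm (τ (g (k • u'))) = _
    rw [LinearEquiv.symm_apply_eq, ← hju, ← hju, hT]
    rfl
  obtain ⟨T', hT'⟩ := D.exists_hadj T
  have hTinj : Function.Injective T := fun a b h => hinj (τ.injective (by
    show j2 a = j2 b
    rw [← hT, ← hT, h]))
  obtain ⟨σ, hσ⟩ := D.monomial hTinj hT' fun d hdd => by
    obtain ⟨e', -, he'⟩ := hS u' hu' hu'0 _ (EOver.conj_mem D hM hu' hu' hconj hTu hT'
      (EOver.scalar_mem D hM hu'0 hu' hdd))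
    exact ⟨e', he'⟩
  have hfix : ∀ k, A k = 0 → T k = k := fun k hk => hinj (by
    rw [hT, hj2, hk, mul_zero, zero_smul, add_zero])
  have hsub : ∀ k, A (T k - k) = 0 := fun k => by
    show ph q F (j (T k - k)) u = 0
    rw [map_sub, hT, hj2, add_sub_cancel_left, ph_smul_l, hu, mul_zero]
  obtain ⟨x, hx, hx0⟩ := (Submodule.ne_bot_iff _).1 hmeet
  obtain ⟨k2, hk2⟩ := hx.2
  have hk20 : k2 ≠ 0 := fun e0 => hx0 (by rw [← hk2, e0, map_zero])
  have hAk2 : A k2 = 0 := (hker k2).2 (hk2 ▸ hx.1)
  have hTk : ∀ z, T (k2 * z) = k2 * σ z := fun z => by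
    rw [hσ, map_mul, ← mul_assoc, ← hσ, hfix k2 hAk2]
  let N : K →ₗ[F] K := σ.toLinearMap - LinearMap.id
  have hNle : LinearMap.range N ≤ LinearMap.ker N := by
    rintro _ ⟨z, rfl⟩
    have h := hfix _ (hsub (k2 * z))
    rw [hTk, ← mul_sub, hTk] at h
    have h' := mul_left_cancel₀ hk20 h
    rw [LinearMap.mem_ker]
    show σ (σ z - z) - (σ z - z) = 0
    rw [h', sub_self]
  by_cases hσid : σ = AlgHom.id F K
  · apply hy0
    have h := hT k0
    have hk : T k0 = k0 := by
      have h3 := hTk (k0 / k2)
      rw [mul_div_cancel₀ _ hk20, hσid, AlgHom.id_apply, mul_div_cancel₀ _ hk20] at h3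
      exact h3
    rw [hk, hj2, left_eq_add, smul_eq_zero] at h
    rw [← hk0]
    exact (mul_eq_zero.1 (h.resolve_right hu0)).resolve_left hc0
  · have hker1 : LinearMap.ker N ≤ F ∙ (1 : K) := fun z hz => by
      obtain ⟨a, ha⟩ := D.mem_range_of_fixed hσid (sub_eq_zero.1 (LinearMap.mem_ker.1 hz))
      exact Submodule.mem_span_singleton.2 ⟨a, by rw [← Algebra.algebraMap_eq_smul_one, ha]⟩
    have h1 := Submodule.finrank_mono hker1
    rw [finrank_span_singleton (one_ne_zero (α := K))] at h1
    have h2 := Submodule.finrank_mono hNle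
    have h3 := N.finrank_range_add_finrank_ker
    have := D.three_le
    omega

/-- Members in the nice position are equal or disjoint. -/
theorem disjoint_or_eq {i j : K →ₗ[F] V} (hi : IsMember q M i) (hj : IsMember q M j) (hn : Nice q i j) :
    LinearMap.range i = LinearMap.range j ∨ LinearMap.range i ⊓ LinearMap.range j = ⊥ := by
  suffices key : ∀ d, ∀ i j : K →ₗ[F] V, IsMember q M i → IsMember q M j → Nice q i j →
      finrank F K ≤ d + finrank F (LinearMap.range i ⊓ LinearMap.range j : Submodule F V) →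
      LinearMap.range i = LinearMap.range j ∨ LinearMap.range i ⊓ LinearMap.range j = ⊥ from
    key (finrank F K) i j hi hj hn (Nat.le_add_right _ _)
  intro d
  induction d with
  | zero =>
    intro i j hi hj _ hd
    left
    have e1 : LinearMap.range i ⊓ LinearMap.range j = LinearMap.range i :=
      Submodule.eq_of_le_of_finrank_le inf_le_left (by
        rw [LinearMap.finrank_range_of_inj (IsMember.inj D hM hi)]; omega)
    exact Submodule.eq_of_le_of_finrank_le (e1 ▸ inf_le_right) (by
      rw [LinearMap.finrank_range_of_inj (IsMember.inj D hM hi), LinearMap.finrank_range_of_inj (IsMember.inj D hM hj)])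
  | succ d IH =>
    intro i j hi hj hn hd
    obtain ⟨g, hg, u, hu0, hu, hiu⟩ := id hi
    set gl : V →ₗ[F] V := ((g⁻¹ : GV) : V →ₗ[F] V)
    have hgi : gl.comp i = ptMap F u := LinearMap.ext fun k => by
      show g.symm (i k) = _
      rw [hiu, LinearEquiv.symm_apply_apply]; rfl
    have hinjg : Function.Injective gl := (g⁻¹ : GV).injective
    have hn' : Nice q (ptMap F u) (gl.comp j) := by
      intro k hk
      obtain ⟨l, hl⟩ := hn k fun l => by
        rw [← hM.isom _ (inv_mem hg)]
        have := hk l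
        rwa [← hgi] at this
      exact ⟨l, by rw [← hgi]; exact congrArg gl hl⟩
    have emap : Submodule.map gl (LinearMap.range i ⊓ LinearMap.range j) =
        LinearMap.range (ptMap F u) ⊓ LinearMap.range (gl.comp j) := by
      rw [Submodule.map_inf gl hinjg, ← LinearMap.range_comp, ← LinearMap.range_comp, hgi]
    have hfr : finrank F (LinearMap.range (ptMap F u) ⊓ LinearMap.range (gl.comp j) : Submodule F V) =
        finrank F (LinearMap.range i ⊓ LinearMap.range j : Submodule F V) := by
      rw [← emap]; exact ((Submodule.equivMapOfInjective gl hinjg _).finrank_eq).symm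
    rcases disjoint_or_eq_pt D hM hS d IH hu0 hu (hj.comp (inv_mem hg)) hn' (by rw [hfr]; omega) with h | h
    · left
      refine Submodule.map_injective_of_injective hinjg ?_
      rw [← LinearMap.range_comp, ← LinearMap.range_comp, hgi]
      exact h
    · right
      refine Submodule.map_injective_of_injective hinjg ?_
      rw [emap, Submodule.map_bot]
      exact h

/-- An injective pairing of a member with an isotropic vector is monomial. -/
theorem member_monomial {j : K →ₗ[F] V} (hj : IsMember q M j) {u : V} (hu0 : u ≠ 0) (hu : ph q F u u = 0)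
    (hA : Function.Injective (D.lam j u)) : ∃ σ : K →ₐ[F] K, ∀ k, D.lam j u k = D.lam j u 1 * σ k := by
  classical
  set A := D.lam j u
  have hinj := IsMember.inj D hM hj
  obtain ⟨A', hA'⟩ := D.exists_hadj A
  have hA's : ∀ a k, hh (F := F) q a (A k) = hh q (A' a) k := fun a k => (D.hadj_symm hA' a k).symm
  have hA'i : Function.Injective A' := by
    refine (injective_iff_map_eq_zero A').2 fun a ha => D.eq_zero_of_hh (F := F) fun b => ?_
    obtain ⟨k, rfl⟩ := LinearMap.surjective_of_injective hA b
    rw [hA's, ha, hh_zero_left]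
  obtain ⟨g, hg, u', hu'0, hu', hju⟩ := id hj
  refine D.monomial hA hA' fun d hd => ?_
  by_contra hno
  push Not at hno
  have hd0 : d ≠ 0 := fun e => hno 0 (LinearMap.ext fun x => by simp [e])
  have hΔskew : ∀ d, d + d ^ qK q F K = 0 → Skew (F := F) q (A.comp ((LinearMap.mulLeft F d).comp A')) :=
    fun d hd a b => by
      simp only [LinearMap.comp_apply, LinearMap.mulLeft_apply]
      have h := D.mul_skew (q := q) hd (A' a) (A' b)
      simp only [LinearMap.mulLeft_apply] at h
      rw [hA', hA's]
      exact h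
  obtain ⟨c₀, hc₀, hc₀li⟩ := D.exists_skew_basis
  obtain ⟨s, hs, hs0, y, -, hy0, hdeg⟩ := D.exists_degenerate (κ := Option (Fin (finrank F K)))
    (fun o => o.elim (A.comp ((LinearMap.mulLeft F d).comp A')) fun i => LinearMap.mulLeft F (c₀ i))
    (fun o => by cases o with | none => exact hΔskew d hd | some i => exact D.mul_skew (hc₀ i))
    ⊤ (fun e => by
      have h := congrArg (fun S : Submodule F K => finrank F S) e
      simp only [finrank_top, finrank_bot] at h
      have := D.three_le
      omega)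
    (by rw [finrank_top, Fintype.card_option, Fintype.card_fin]; omega)
  set c' := ∑ i, s (some i) • c₀ i
  have hc' : c' + c' ^ qK q F K = 0 := by
    rw [← frobQ_apply D.cardK c', map_sum, ← Finset.sum_add_distrib]
    refine Finset.sum_eq_zero fun i _ => ?_
    rw [frobQ_apply, D.smul_pow, hs, ← smul_add, hc₀, smul_zero]
  set d1 := s none • d
  have hd1 : d1 + d1 ^ qK q F K = 0 := by rw [D.smul_pow, hs, ← smul_add, hd, smul_zero]
  have hΔy : A (d1 * A' y) + c' * y = 0 := by
    have h := D.eq_zero_of_hh fun b => hdeg b Submodule.mem_top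
    rw [Fintype.sum_option, LinearMap.add_apply, LinearMap.coe_sum, Finset.sum_apply] at h
    simp only [Option.elim, LinearMap.smul_apply, LinearMap.comp_apply, LinearMap.mulLeft_apply] at h
    rw [← h]
    congr 1
    · rw [← map_smul, ← smul_mul_assoc]
    · rw [Finset.sum_mul]; exact Finset.sum_congr rfl fun i _ => smul_mul_assoc _ _ _
  have hA'y : A' y ≠ 0 := fun e => hy0 (hA'i (e.trans (map_zero A').symm))
  have hs1 : s none ≠ 0 := fun e => by
    simp only [d1, e, zero_smul, zero_mul, map_zero, zero_add, mul_eq_zero] at hΔy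
    have hz := Fintype.linearIndependent_iff.1 hc₀li _ (hΔy.resolve_right hy0)
    exact hs0 (funext fun o => by cases o with | none => exact e | some i => exact hz i)
  have hd10 : d1 ≠ 0 := smul_ne_zero hs1 hd0
  have hc'0 : c' ≠ 0 := fun e => by
    rw [e, zero_mul, add_zero] at hΔy
    exact mul_ne_zero hd10 hA'y (hA (hΔy.trans (map_zero A).symm))
  set c := -c'⁻¹
  have hc : c + c ^ qK q F K = 0 := by
    rw [D.neg_pow, inv_pow, eq_neg_of_add_eq_zero_right hc', inv_neg]; ring
  set τ' := g * D.tel hu' (LinearMap.mulLeft F d1) * g⁻¹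
  have hτ' : τ' ∈ M := mul_mem (mul_mem hg (EOver.scalar_mem D hM hu'0 hu' hd1)) (inv_mem hg)
  set i : K →ₗ[F] V := (τ' : V →ₗ[F] V).comp (ptMap F u)
  have hi : ∀ a, i a = a • u + j (d1 * A' a) := fun a => by
    show g (D.tel hu' _ (g.symm (a • u))) = _
    have e : ph q F (g.symm (a • u)) u' = A' a := D.eq_of_hh (F := F) fun l => by
      rw [← D.tf_smul_r, ← hM.isom g hg, g.apply_symm_apply, ← hju, D.tf_smul_l]
      exact hA's a l
    rw [D.tel_apply, map_add, g.apply_symm_apply, LinearMap.mulLeft_apply, e, hju]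
  set j2 : K →ₗ[F] V := ((D.tel hu (LinearMap.mulLeft F c)) : V →ₗ[F] V).comp j
  have hj2 : ∀ k, j2 k = j k + (c * A k) • u := fun k => rfl
  have hiA : ∀ a, ph q F (i a) u = A (d1 * A' a) := fun a => by
    rw [hi, ph_add_l, ph_smul_l, hu, mul_zero, zero_add]; rfl
  have hij : ∀ a k, i a = j2 k → d1 * A' a = k ∧ a = c * A k := fun a k h => by
    have h1 := congrArg (fun z => ph q F z u) h
    simp only [hiA, hj2, ph_add_l, ph_smul_l, hu, mul_zero, add_zero] at h1
    have h2 : d1 * A' a = k := hA h1
    refine ⟨h2, ?_⟩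
    rw [hi, hj2, h2, add_comm] at h
    exact smul_left_injective K hu0 (add_left_cancel h)
  have hΔ1 := hΔskew d1 hd1
  have hnice : Nice q i j2 := by
    intro k hk
    have h0 : A k - A (d1 * A' (c * A k)) = 0 := D.eq_zero_of_hh (F := F) fun b => by
      have h := hk b
      rw [hj2, hi, D.tf_add_left, D.tf_add_right, D.tf_add_right, D.tf_smul_r, IsMember.iso D hM hj,
        D.tf_smul_r, ph_smul_l, hu, mul_zero, hh_zero_left, D.tf_smul_l] at h
      have h3 := hΔ1 (c * A k) b
      simp only [LinearMap.comp_apply, LinearMap.mulLeft_apply] at h3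
      rw [D.hh_sub_left]
      have e1 : ph q F (j k) u = A k := rfl
      have e2 : ph q F (j (d1 * A' b)) u = A (d1 * A' b) := rfl
      rw [e1, e2] at h
      linear_combination h - h3
    have h1 : d1 * A' (c * A k) = k := hA (sub_eq_zero.1 h0).symm
    exact ⟨c * A k, by rw [hi, h1, hj2, add_comm]⟩
  have hτc : D.tel hu (LinearMap.mulLeft F c) ∈ M := EOver.scalar_mem D hM hu0 hu hc
  rcases disjoint_or_eq D hM hS ((isMember_pt hu0 hu).comp hτ') (hj.comp hτc) hnice with heq | hbot
  swap
  · have hmem : i y ∈ LinearMap.range i ⊓ LinearMap.range j2 := by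
      refine ⟨LinearMap.mem_range_self i y, d1 * A' y, ?_⟩
      rw [hj2, hi, add_comm]
      congr 2
      rw [eq_neg_of_add_eq_zero_left hΔy]
      simp only [c]
      field_simp
    rw [hbot, Submodule.mem_bot] at hmem
    have h4 := hiA y
    rw [hmem, D.ph_zero_l] at h4
    exact mul_ne_zero hd10 hA'y (hA (h4.symm.trans (map_zero A).symm))
  refine hno ((s none)⁻¹ • c⁻¹) (LinearMap.ext fun z => ?_)
  have hc0 : c ≠ 0 := neg_ne_zero.2 (inv_ne_zero hc'0)
  have key : ∀ w, A (d1 * A' (c * w)) = w := fun w => by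
    obtain ⟨k, rfl⟩ := LinearMap.surjective_of_injective hA w
    obtain ⟨a, ha⟩ : j2 k ∈ LinearMap.range i := by rw [heq]; exact LinearMap.mem_range_self j2 k
    obtain ⟨h1, h2⟩ := hij a k ha
    rw [← h2, h1]
  have h := key (c⁻¹ * z)
  rw [← mul_assoc, mul_inv_cancel₀ hc0, one_mul, smul_mul_assoc, map_smul] at h
  simp only [LinearMap.comp_apply, LinearMap.mulLeft_apply]
  rw [smul_mul_assoc, ← h, smul_smul, inv_mul_cancel₀ hs1, one_smul]

end CfsgLib.Geo.UnitExt
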