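/-
When the root groups consist of scalars every member of the overgroup is semilinear.
-/
import Cfsg.Agent.Geo.UnitExtMember
import Cfsg.Agent.Geo.UnitExtChart

set_option autoImplicit false
set_option linter.unusedSectionVars false

namespace CfsgLib.Geo.UnitExt

open Module CfsgLib.FieldMax CfsgLib.Forms

variable {F : Type*} [Field F] [Finite F] {K : Type*} [Field K] [Algebra F K] [Finite K] {q m : ℕ}

local notation "V" => (Fin m → K)

variable (D : Data q F K) {M : Subgroup ((Fin m → K) ≃ₗ[F] (Fin m → K))} (hM : EOver (F := F) q M)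
  (hS : AllScalar D M)
include D

lemma Data.lam_add (j : K →ₗ[F] V) (y z : V) : D.lam j (y + z) = D.lam j y + D.lam j z :=
  LinearMap.ext fun k => D.ph_add_r _ _ _

lemma Data.lam_smul (j : K →ₗ[F] V) (c : K) (y : V) : D.lam j (c • y) = c ^ qK q F K • D.lam j y :=
  LinearMap.ext fun k => D.ph_smul_r _ _ _

/-- Two scalars leaving the sum of two maps injective wherever the first one is. -/
lemma Data.exists_avoid (A B : K →ₗ[F] K) :
    ∃ η₁ η₂ : K, η₁ ≠ η₂ ∧ η₁ ≠ 0 ∧ η₂ ≠ 0 ∧ ∀ k, A k ≠ 0 → A k + η₁ * B k ≠ 0 ∧ A k + η₂ * B k ≠ 0 := by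
  classical
  have : Fintype K := Fintype.ofFinite K
  set S : Finset K := Finset.univ.erase 0
  set f : K → K := fun k => -A k / B k
  obtain ⟨d, hd0, hd1⟩ : ∃ d : F, d ≠ 0 ∧ d ≠ 1 := by
    obtain ⟨ω, hω⟩ : ∃ ω : F, ω ^ q ≠ ω := by
      by_contra h
      push Not at h
      exact frobQ_ne_id D.card (RingHom.ext fun a => by rw [frobQ_apply, h]; rfl)
    refine ⟨ω, fun e => hω ?_, fun e => hω (by rw [e, one_pow])⟩
    rw [e]
    exact _root_.zero_pow (by have := two_le_q D.card; omega)
  have hfib : ∀ b ∈ S.image f, 2 ≤ ({a ∈ S | f a = b}).card := by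
    intro b hb
    obtain ⟨a, ha, rfl⟩ := Finset.mem_image.1 hb
    have ha0 := (Finset.mem_erase.1 ha).1
    have hne : d • a ≠ a := fun e => by
      have h : (d - 1) • a = 0 := by rw [sub_smul, one_smul, e, sub_self]
      exact (smul_eq_zero.1 h).elim (fun h => hd1 (sub_eq_zero.1 h)) ha0
    refine Finset.one_lt_card.2 ⟨a, by simp [ha], d • a, ?_, Ne.symm hne⟩
    simp only [Finset.mem_filter, S, Finset.mem_erase, Finset.mem_univ, and_true]
    refine ⟨smul_ne_zero hd0 ha0, ?_⟩
    simp only [f]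
    rw [map_smul, map_smul, Algebra.smul_def, Algebra.smul_def, ← mul_neg, mul_div_mul_left _ _ (by simpa using hd0)]
  have hcount := Finset.mul_card_image_le_card S (f := f) 2 hfib
  have hS : S.card + 1 = Fintype.card K := by
    rw [Finset.card_erase_of_mem (Finset.mem_univ _), Finset.card_univ]
    have := Fintype.card_pos (α := K)
    omega
  have hbig : 16 ≤ Fintype.card K := by
    rw [← Nat.card_eq_fintype_card, D.cardK]
    have h1 := D.qK_lt
    have h2 := two_le_q D.card
    have h3 : 4 ≤ qK q F K := by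
      have := D.three_le
      calc 4 = 2 ^ 2 := by norm_num
        _ ≤ q ^ 2 := Nat.pow_le_pow_left h2 2
        _ ≤ _ := Nat.pow_le_pow_right (by omega) (by omega)
    nlinarith
  have hsd := Finset.card_le_card_sdiff_add_card (s := S) (t := S.image f)
  obtain ⟨η₁, h1, η₂, h2, h12⟩ := Finset.one_lt_card.1 (show 1 < (S \ S.image f).card by omega)
  simp only [Finset.mem_sdiff, S, Finset.mem_erase, Finset.mem_univ, and_true] at h1 h2
  have good : ∀ η, η ∉ S.image f → η ≠ 0 → ∀ k, A k ≠ 0 → A k + η * B k ≠ 0 := by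
    intro η hη hη0 k hk e
    have hk0 : k ≠ 0 := fun e0 => hk (by rw [e0, map_zero])
    have hB : B k ≠ 0 := fun e0 => hk (by rwa [e0, mul_zero, add_zero] at e)
    refine hη (Finset.mem_image.2 ⟨k, Finset.mem_erase.2 ⟨hk0, Finset.mem_univ _⟩, ?_⟩)
    simp only [f]
    rw [div_eq_iff hB]
    linear_combination -e
  exact ⟨η₁, η₂, h12, h1.1, h2.1, fun k hk => ⟨good η₁ h1.2 h1.1 k hk, good η₂ h2.2 h2.1 k hk⟩⟩

/-- Two monomial members of a pencil give a monomial generator. -/
lemma Data.pencil {a : K} (ha : a ≠ 0) {σ₀ : K →ₐ[F] K} {B : K →ₗ[F] K} {η₁ η₂ : K} (h12 : η₁ ≠ η₂)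
    (h1 : η₁ ≠ 0) (h2 : η₂ ≠ 0) (e1 : ∃ (σ : K →ₐ[F] K) (b : K), a • σ₀.toLinearMap + η₁ • B = b • σ.toLinearMap)
    (e2 : ∃ (σ : K →ₐ[F] K) (b : K), a • σ₀.toLinearMap + η₂ • B = b • σ.toLinearMap) :
    ∃ b : K, B = b • σ₀.toLinearMap := by
  classical
  obtain ⟨σ₁, a₁, e1⟩ := e1
  obtain ⟨σ₂, a₂, e2⟩ := e2
  have r1 : ∀ ρ, (if σ₀ = ρ then a else 0) + η₁ * (autBasis F K).repr B ρ = if σ₁ = ρ then a₁ else 0 := fun ρ => by
    have h := congrArg (fun u => (autBasis F K).repr u ρ) e1
    simp only [map_add, Finsupp.add_apply, autBasis_repr_smul] at h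
    rw [map_smul, Finsupp.smul_apply, smul_eq_mul] at h
    exact h
  have r2 : ∀ ρ, (if σ₀ = ρ then a else 0) + η₂ * (autBasis F K).repr B ρ = if σ₂ = ρ then a₂ else 0 := fun ρ => by
    have h := congrArg (fun u => (autBasis F K).repr u ρ) e2
    simp only [map_add, Finsupp.add_apply, autBasis_repr_smul] at h
    rw [map_smul, Finsupp.smul_apply, smul_eq_mul] at h
    exact h
  refine ⟨(autBasis F K).repr B σ₀, (autBasis F K).repr.injective (Finsupp.ext fun ρ => ?_)⟩
  rw [autBasis_repr_smul]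
  split_ifs with h
  · rw [h]
  by_contra hne
  have g1 := r1 ρ
  have g2 := r2 ρ
  rw [if_neg h, zero_add] at g1 g2
  have s1 : σ₁ = ρ := by
    by_contra e
    rw [if_neg e] at g1
    exact mul_ne_zero h1 hne g1
  have s2 : σ₂ = ρ := by
    by_contra e
    rw [if_neg e] at g2
    exact mul_ne_zero h2 hne g2
  have k1 := r1 σ₀
  have k2 := r2 σ₀
  rw [if_pos rfl, if_neg (by rw [s1]; exact Ne.symm h)] at k1
  rw [if_pos rfl, if_neg (by rw [s2]; exact Ne.symm h)] at k2
  have : (η₁ - η₂) * (autBasis F K).repr B σ₀ = 0 := by linear_combination k1 - k2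
  have hz := (mul_eq_zero.1 this).resolve_left (sub_ne_zero.2 h12)
  rw [hz, mul_zero, add_zero] at k1
  exact ha k1

include hM hS

lemma monomial_form {j : K →ₗ[F] V} (hj : IsMember q M j) {u : V} (hu0 : u ≠ 0) (hu : ph q F u u = 0)
    (hA : Function.Injective (D.lam j u)) :
    ∃ (σ : K →ₐ[F] K) (b : K), D.lam j u = b • σ.toLinearMap := by
  obtain ⟨σ, hσ⟩ := member_monomial D hM hS hj hu0 hu hA
  exact ⟨σ, D.lam j u 1, LinearMap.ext hσ⟩

/-- The orthogonal of a good point pairs monomially. -/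
lemma perp_mem (hm : 4 ≤ m) {j : K →ₗ[F] V} (hj : IsMember q M j) {u : V} (hu0 : u ≠ 0) (hu : ph q F u u = 0)
    {a : K} (ha : a ≠ 0) {σ : K →ₐ[F] K} (hA : D.lam j u = a • σ.toLinearMap) {x : V} (hx : ph q F x u = 0) :
    ∃ b : K, D.lam j x = b • σ.toLinearMap := by
  let S : Submodule K V :=
    { carrier := {x | ∃ b : K, D.lam j x = b • σ.toLinearMap}
      zero_mem' := ⟨0, LinearMap.ext fun k => by rw [zero_smul]; exact D.ph_zero_r _⟩
      add_mem' := by
        rintro x y ⟨b, hb⟩ ⟨c, hc⟩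
        exact ⟨b + c, by rw [D.lam_add, hb, hc, add_smul]⟩
      smul_mem' := by
        rintro c x ⟨b, hb⟩
        exact ⟨c ^ qK q F K * b, by rw [D.lam_smul, hb, smul_smul]⟩ }
  refine TensorU.mem_of_iso_perp D.cardK hm hu0 hu S (fun y hy hyu => ?_) hx
  by_cases hyl : y ∈ K ∙ u
  · obtain ⟨c, rfl⟩ := Submodule.mem_span_singleton.1 hyl
    exact S.smul_mem c ⟨a, hA⟩
  obtain ⟨η₁, η₂, h12, h1, h2, hgood⟩ := D.exists_avoid (D.lam j u) (D.lam j y)
  have huy : ph q F u y = 0 := TensorU.swap0 D.cardK hyu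
  have hcomb : ∀ η : K, (∀ k, D.lam j u k ≠ 0 → D.lam j u k + η * D.lam j y k ≠ 0) →
      ∃ (σ' : K →ₐ[F] K) (b : K), a • σ.toLinearMap + η • D.lam j y = b • σ'.toLinearMap := fun η hη => by
    have he : D.lam j (u + η ^ qK q F K • y) = D.lam j u + η • D.lam j y := by
      rw [D.lam_add, D.lam_smul, D.pow_pow]
    obtain ⟨σ', b, hb⟩ := monomial_form D hM hS hj (u := u + η ^ qK q F K • y) (fun e => hyl (by
      by_cases hη0 : η = 0
      · rw [hη0, D.zero_pow, zero_smul, add_zero] at e; exact absurd e hu0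
      · refine Submodule.mem_span_singleton.2 ⟨-(η ^ qK q F K)⁻¹, ?_⟩
        rw [eq_neg_of_add_eq_zero_left e, smul_neg, neg_smul, neg_neg, smul_smul,
          inv_mul_cancel₀ (pow_ne_zero _ hη0), one_smul])) (by
      rw [ph_add_l, D.ph_add_r, D.ph_add_r, ph_smul_l, ph_smul_l, D.ph_smul_r, D.ph_smul_r, hu, huy,
        show ph q F y u = 0 from hyu, show ph q F y y = 0 from hy]
      ring) (by
      rw [he]
      refine (injective_iff_map_eq_zero _).2 fun k hk => ?_
      by_contra hk0
      refine hη k ?_ hk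
      rw [hA, LinearMap.smul_apply, smul_eq_mul]
      exact mul_ne_zero ha fun e => hk0 (σ.toRingHom.injective (e.trans (map_zero σ).symm)))
    exact ⟨σ', b, by rw [← hA, ← he, hb]⟩
  exact D.pencil ha h12 h1 h2 (hcomb η₁ fun k hk => (hgood k hk).1) (hcomb η₂ fun k hk => (hgood k hk).2)

/-- In three dimensions all values of a member are multiples of one automorphism. -/
lemma lam_monomial_three (hm : m = 3) {j : K →ₗ[F] V} (hj : IsMember q M j) :
    ∃ σ : K →ₐ[F] K, ∀ y, ∃ b : K, D.lam j y = b • σ.toLinearMap := by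
  classical
  subst hm
  have : Fintype K := Fintype.ofFinite K
  set Q := qK q F K with hQdef
  have hinj := IsMember.inj D hM hj
  let pt : K × K → (Fin 3 → K) := fun x => ![1, x.1, x.2]
  set P := chart K Q with hP
  have hpt0 : ∀ x, pt x ≠ 0 := fun x e => one_ne_zero (congrFun e 0 : (1 : K) = 0)
  have hiso : ∀ x ∈ P, ph q F (pt x) (pt x) = 0 := fun x hx => by
    have hx' := (Finset.mem_filter.1 hx).2
    rw [pow_succ', pow_succ'] at hx'
    show ∑ i, pt x i * pt x i ^ Q = 0
    rw [Fin.sum_univ_three]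
    simpa [pt] using hx'
  have hline : ∀ v : Fin 3 → K, v ≠ 0 → (P.filter fun x => ph q F v (pt x) = 0).card ≤ Q + 1 := by
    intro v hv
    refine le_trans (Finset.card_le_card ?_) (card_chart_line D.cardK (c₀ := v 0 ^ Q) (c₁ := v 1 ^ Q)
      (c₂ := v 2 ^ Q) fun h => hv (funext fun i => ?_))
    · intro x hx
      obtain ⟨hxP, h0⟩ := Finset.mem_filter.1 hx
      have h1 : ph q F (pt x) v = 0 := TensorU.swap0 D.cardK h0
      have h2 : ∑ i, pt x i * v i ^ Q = 0 := h1
      rw [Fin.sum_univ_three] at h2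
      refine Finset.mem_filter.2 ⟨hxP, ?_⟩
      simp only [pt, Matrix.cons_val_zero, Matrix.cons_val_one, Matrix.cons_val, one_mul] at h2
      linear_combination h2
    · have hQ0 : Q ≠ 0 := by have := two_le_q D.cardK; omega
      rw [pow_eq_zero_iff hQ0, pow_eq_zero_iff hQ0, pow_eq_zero_iff hQ0] at h
      fin_cases i
      · exact h.1
      · exact h.2.1
      · exact h.2.2
  -- the bad points
  set Bad := P.filter fun x => ∃ k : K, k ≠ 0 ∧ D.lam j (pt x) k = 0 with hBad
  have hthree : ∃ d₁ d₂ d₃ : F, d₁ ≠ 0 ∧ d₂ ≠ 0 ∧ d₃ ≠ 0 ∧ d₁ ≠ d₂ ∧ d₁ ≠ d₃ ∧ d₂ ≠ d₃ := by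
    have : Fintype F := Fintype.ofFinite F
    obtain ⟨a, b, c, ha, hb, hc, hab, hac, hbc⟩ := Finset.two_lt_card_iff.1
      (show 2 < ((Finset.univ : Finset F).erase 0).card by
        rw [Finset.card_erase_of_mem (Finset.mem_univ _), Finset.card_univ, ← Nat.card_eq_fintype_card, D.card]
        have := Nat.pow_le_pow_left (two_le_q D.card) 2
        omega)
    exact ⟨a, b, c, (Finset.mem_erase.1 ha).1, (Finset.mem_erase.1 hb).1, (Finset.mem_erase.1 hc).1, hab, hac, hbc⟩
  obtain ⟨d₁, d₂, d₃, hd₁, hd₂, hd₃, h12, h13, h23⟩ := hthree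
  have hBcard : Bad.card * 3 ≤ ((Finset.univ : Finset K).erase 0).card * (Q + 1) := by
    refine Finset.card_mul_le_card_mul (fun x k => D.lam j (pt x) k = 0) (fun x hx => ?_) fun k hk => ?_
    · obtain ⟨-, k, hk0, hk⟩ := Finset.mem_filter.1 hx
      have hmem : ∀ d : F, d ≠ 0 →
          d • k ∈ ((Finset.univ : Finset K).erase 0).bipartiteAbove (fun x k => D.lam j (pt x) k = 0) x :=
        fun d hd => Finset.mem_bipartiteAbove _ |>.2
          ⟨Finset.mem_erase.2 ⟨smul_ne_zero hd hk0, Finset.mem_univ _⟩, by rw [map_smul, hk, smul_zero]⟩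
      have hne : ∀ d d' : F, d ≠ d' → d • k ≠ d' • k := fun d d' h e => h (smul_left_injective F hk0 e)
      refine Finset.two_lt_card_iff.2 ⟨_, _, _, hmem d₁ hd₁, hmem d₂ hd₂, hmem d₃ hd₃, hne _ _ h12, hne _ _ h13,
        hne _ _ h23⟩
    · refine le_trans (Finset.card_le_card ?_) (hline (j k) fun e => (Finset.mem_erase.1 hk).1 (hinj (by
        rw [e, map_zero])))
      intro x hx
      obtain ⟨h1, h2⟩ := Finset.mem_bipartiteBelow _ |>.1 hx
      exact Finset.mem_filter.2 ⟨(Finset.mem_filter.1 h1).1, h2⟩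
  -- the good points
  set G := P \ Bad with hG
  have hgood : ∀ x ∈ G, ∃ (σ : K →ₐ[F] K) (b : K), b ≠ 0 ∧ D.lam j (pt x) = b • σ.toLinearMap := by
    intro x hx
    obtain ⟨hxP, hxB⟩ := Finset.mem_sdiff.1 hx
    have hker : ∀ k, D.lam j (pt x) k = 0 → k = 0 := fun k hk => by
      by_contra hk0
      exact hxB (Finset.mem_filter.2 ⟨hxP, k, hk0, hk⟩)
    obtain ⟨σ, b, hb⟩ := monomial_form D hM hS hj (hpt0 x) (hiso x hxP) ((injective_iff_map_eq_zero _).2 hker)
    exact ⟨σ, b, fun e => one_ne_zero (hker 1 (by rw [hb, e, zero_smul]; rfl)), hb⟩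
  have hGbig : 2 * Q ^ 2 + 2 < G.card ∧ Q + 1 < G.card := by
    have h1 := le_card_chart (K := K) D.cardK
    have h2 := Finset.card_le_card_sdiff_add_card (s := P) (t := Bad)
    rw [← hG] at h2
    rw [← hP] at h1
    rw [Finset.card_erase_of_mem (Finset.mem_univ _), Finset.card_univ, ← Nat.card_eq_fintype_card, D.cardK,
      ← hQdef] at hBcard
    have hQ8 : 8 ≤ Q :=
      calc 8 = 2 ^ 3 := by norm_num
        _ ≤ q ^ 3 := Nat.pow_le_pow_left (two_le_q D.card) 3
        _ ≤ _ := Nat.pow_le_pow_right (by have := two_le_q D.card; omega) D.three_le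
    obtain ⟨R, hR⟩ : ∃ R, Q ^ 2 = R + (Q + 1) := ⟨Q ^ 2 - (Q + 1), by
      have : Q + 1 ≤ Q ^ 2 := by nlinarith
      omega⟩
    obtain ⟨N, hN⟩ : ∃ N, Q ^ 2 = N + 1 := ⟨Q ^ 2 - 1, by
      have := Nat.one_le_pow 2 Q (by omega)
      omega⟩
    rw [show Q ^ 2 - (Q + 1) = R by omega] at h1
    rw [show Q ^ 2 - 1 = N by omega] at hBcard
    constructor <;> nlinarith
  -- two classes are small
  have hclass : ∀ w ∈ G, ∀ (σw : K →ₐ[F] K) (bw : K), bw ≠ 0 → D.lam j (pt w) = bw • σw.toLinearMap →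
      (G.filter fun x => ¬ ∃ b : K, D.lam j (pt x) = b • σw.toLinearMap).card ≤ Q ^ 2 + 1 := by
    intro w _ σw bw hbw hw
    let f : K × K → Option K := fun x => if x.1 = w.1 then none else some ((x.2 - w.2) / (x.1 - w.1))
    refine le_trans (Finset.card_le_card_of_injOn f (t := Finset.univ) (fun x _ => Finset.mem_univ _) ?_) (by
      rw [Finset.card_univ, Fintype.card_option, ← Nat.card_eq_fintype_card, D.cardK])
    intro x hx x' hx' e
    simp only [Finset.coe_filter, Set.mem_ofPred_eq] at hx hx'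
    by_contra hne
    have hxw : ∀ {y}, (¬ ∃ b : K, D.lam j (pt y) = b • σw.toLinearMap) → y ≠ w := fun h e => h ⟨bw, e ▸ hw⟩
    obtain ⟨σ, b, hb0, hb⟩ := hgood x hx.1
    obtain ⟨σ', b', hb0', hb'⟩ := hgood x' hx'.1
    obtain ⟨c, hc1, hc2⟩ : ∃ c : K, x'.1 - w.1 = c * (x.1 - w.1) ∧ x'.2 - w.2 = c * (x.2 - w.2) := by
      simp only [f] at e
      split_ifs at e with h1 h2
      · have hx2 : x.2 - w.2 ≠ 0 := fun h => hxw hx.2 (Prod.ext h1 (sub_eq_zero.1 h))
        exact ⟨(x'.2 - w.2) / (x.2 - w.2), by rw [h2, h1, sub_self, mul_zero], by rw [div_mul_cancel₀ _ hx2]⟩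
      · have h1' := sub_ne_zero.2 h1
        refine ⟨(x'.1 - w.1) / (x.1 - w.1), by rw [div_mul_cancel₀ _ h1'], ?_⟩
        rename_i h2
        have h2' := sub_ne_zero.2 h2
        have e' := Option.some.inj e
        rw [div_eq_div_iff h1' h2'] at e'
        field_simp
        linear_combination -e'
    have hc0 : c ≠ 0 := fun h => hxw hx'.2 (Prod.ext (sub_eq_zero.1 (by rw [hc1, h, zero_mul]))
      (sub_eq_zero.1 (by rw [hc2, h, zero_mul])))
    have hc1' : c ≠ 1 := fun h => hne (Prod.ext (by linear_combination -hc1 - (x.1 - w.1) * h)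
      (by linear_combination -hc2 - (x.2 - w.2) * h))
    have hcomb : pt x' = (1 - c) • pt w + c • pt x := by
      funext i
      fin_cases i
      · show (1 : K) = (1 - c) * 1 + c * 1
        ring
      · show x'.1 = (1 - c) * w.1 + c * x.1
        linear_combination hc1
      · show x'.2 = (1 - c) * w.2 + c * x.2
        linear_combination hc2
    have key := congrArg (D.lam j) hcomb
    rw [D.lam_add, D.lam_smul, D.lam_smul, hb', hw, hb, smul_smul, smul_smul] at key
    have hσ : σw ≠ σ := fun h => hx.2 ⟨b, h ▸ hb⟩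
    have hσ' : σw ≠ σ' := fun h => hx'.2 ⟨b', h ▸ hb'⟩
    have h := congrArg (fun u => (autBasis F K).repr u σw) key
    simp only [map_add, Finsupp.add_apply, autBasis_repr_smul, if_neg (Ne.symm hσ), if_neg (Ne.symm hσ'),
      add_zero, if_true] at h
    rcases mul_eq_zero.1 h.symm with h | h
    · exact sub_ne_zero.2 (Ne.symm hc1') (pow_eq_zero_iff (show Q ≠ 0 by
        have := two_le_q D.cardK; omega) |>.1 h)
    · exact hbw h
  obtain ⟨w, hw⟩ := Finset.card_pos.1 (show 0 < G.card by omega)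
  obtain ⟨σ, b, hb0, hb⟩ := hgood w hw
  have hone : ∀ x ∈ G, ∃ c : K, D.lam j (pt x) = c • σ.toLinearMap := by
    by_contra hno
    push Not at hno
    obtain ⟨x, hx, hxσ⟩ := hno
    obtain ⟨σ', b', hb0', hb'⟩ := hgood x hx
    have h1 := hclass w hw σ b hb0 hb
    have h2 := hclass x hx σ' b' hb0' hb'
    have hcov : G ⊆ (G.filter fun x => ¬ ∃ c : K, D.lam j (pt x) = c • σ.toLinearMap) ∪
        (G.filter fun x => ¬ ∃ c : K, D.lam j (pt x) = c • σ'.toLinearMap) := by
      intro y hy
      rw [Finset.mem_union, Finset.mem_filter, Finset.mem_filter]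
      by_contra hboth
      push Not at hboth
      obtain ⟨σy, by', hy0, hyb⟩ := hgood y hy
      obtain ⟨c, hc⟩ := hboth.1 hy
      obtain ⟨c', hc'⟩ := hboth.2 hy
      have hy1 : σy = σ := by
        by_contra hne
        have h := congrArg (fun u => (autBasis F K).repr u σy) (hyb.symm.trans hc)
        simp only [autBasis_repr_smul, if_true, if_neg (Ne.symm hne)] at h
        exact hy0 h
      have hy2 : σy = σ' := by
        by_contra hne
        have h := congrArg (fun u => (autBasis F K).repr u σy) (hyb.symm.trans hc')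
        simp only [autBasis_repr_smul, if_true, if_neg (Ne.symm hne)] at h
        exact hy0 h
      exact hxσ b' (by rw [hb', ← hy2, hy1])
    have h3 := (Finset.card_le_card hcov).trans (Finset.card_union_le _ _)
    omega
  let S : Submodule K (Fin 3 → K) :=
    { carrier := {x | ∃ b : K, D.lam j x = b • σ.toLinearMap}
      zero_mem' := ⟨0, LinearMap.ext fun k => by rw [zero_smul]; exact D.ph_zero_r _⟩
      add_mem' := by
        rintro x y ⟨b, hb⟩ ⟨c, hc⟩
        exact ⟨b + c, by rw [D.lam_add, hb, hc, add_smul]⟩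
      smul_mem' := by
        rintro c x ⟨b, hb⟩
        exact ⟨c ^ qK q F K * b, by rw [D.lam_smul, hb, smul_smul]⟩ }
  refine ⟨σ, fun y => ?_⟩
  suffices hy : y ∈ S from hy
  by_contra hy
  obtain ⟨f, hfy, hfS⟩ := Submodule.exists_le_ker_of_notMem hy
  let v : Fin 3 → K := fun i => (f (Pi.single i 1)) ^ Q
  have hvf : ∀ z, f z = ph q F z v := fun z => by
    conv_lhs => rw [← Finset.univ_sum_single z]
    rw [map_sum]
    refine Finset.sum_congr rfl fun i _ => ?_
    rw [show Pi.single (M := fun _ => K) i (z i) = z i • Pi.single i 1 by simp [← Pi.single_smul'], map_smul,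
      smul_eq_mul, show v i ^ Q = f (Pi.single i 1) from D.pow_pow _]
  have h := hline v fun e => hfy (by rw [hvf, e]; exact D.ph_zero_r _)
  have hsub : G ⊆ P.filter fun x => ph q F v (pt x) = 0 := fun x hx => Finset.mem_filter.2
    ⟨(Finset.mem_sdiff.1 hx).1, TensorU.swap0 D.cardK (by
      show ph q F (pt x) v = 0
      rw [← hvf]; exact LinearMap.mem_ker.1 (hfS (hone x hx)))⟩
  have := Finset.card_le_card hsub
  omega

/-- Every member is a monomial parametrisation of a point. -/
theorem member_line (hm : m = 2 ∨ 3 ≤ m) {j : K →ₗ[F] V} (hj : IsMember q M j) :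
    ∃ σ : K →ₐ[F] K, ∀ k, j k = σ k • j 1 := by
  classical
  have hm2 : 2 ≤ m := by omega
  have hinj := IsMember.inj D hM hj
  by_cases hline : ∃ v : V, ∀ k, ∃ t : K, j k = t • v
  · obtain ⟨v, hv⟩ := hline
    choose t ht using hv
    have hv0 : v ≠ 0 := fun e => one_ne_zero (hinj (by rw [map_zero, ht, e, smul_zero]) : (1 : K) = 0)
    have hts : Function.Surjective t := Finite.injective_iff_surjective.1 fun a b e => hinj (by rw [ht, ht b, e])
    have hvv : ph q F v v = 0 := by
      refine D.eq_zero_of_hh (F := F) fun l => ?_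
      obtain ⟨a, ha⟩ := hts 1
      obtain ⟨b, hb⟩ := hts l
      have h := IsMember.iso D hM hj a b
      rwa [ht a, ht b, ha, hb, one_smul, D.tf_smul_r] at h
    obtain ⟨w, hvw, hwv, hw⟩ := TensorU.exists_hyp D.cardK hv0 hvv
    have hw0 : w ≠ 0 := fun e => by rw [e, TensorU.zero_r D.cardK] at hvw; exact zero_ne_one hvw
    have hlam : ∀ k, D.lam j w k = t k := fun k => by
      rw [D.lam_apply, ht k, ph_smul_l, show ph q F v w = 1 from hvw, mul_one]
    obtain ⟨σ, hσ⟩ := member_monomial D hM hS hj hw0 hw fun a b e => by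
      rw [hlam, hlam] at e
      exact hinj (by rw [ht, ht b, e])
    refine ⟨σ, fun k => ?_⟩
    rw [ht k, ht 1, smul_smul, ← hlam, ← hlam, hσ k, mul_comm]
  push Not at hline
  -- a point where the kernel is minimal is good
  obtain ⟨p, hp0, hp⟩ := TensorU.exists_iso D.cardK hm2
  have hniceGood : ∀ u : V, u ≠ 0 → ph q F u u = 0 → (∀ k, D.lam j u k = 0 → ∃ t : K, j k = t • u) →
      Function.Injective (D.lam j u) := by
    intro u hu0 hu h
    refine (injective_iff_map_eq_zero _).2 fun k hk => ?_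
    have hn : Nice q (ptMap F u) j := fun k hk => by
      obtain ⟨t, ht⟩ := h k (D.eq_zero_of_hh (F := F) fun l => by
        have := hk l
        rwa [ptMap_apply, D.tf_smul_r] at this)
      exact ⟨t, ht.symm⟩
    rcases disjoint_or_eq D hM hS (isMember_pt hu0 hu) hj hn with e | e
    · exfalso
      obtain ⟨k', hk'⟩ := hline u
      obtain ⟨t, ht⟩ : j k' ∈ LinearMap.range (ptMap F u) := by rw [e]; exact LinearMap.mem_range_self j k'
      exact hk' t ht.symm
    · obtain ⟨t, ht⟩ := h k hk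
      have : j k ∈ LinearMap.range (ptMap F u) ⊓ LinearMap.range j := ⟨⟨t, ht.symm⟩, LinearMap.mem_range_self j k⟩
      rw [e, Submodule.mem_bot] at this
      exact hinj (this.trans (map_zero j).symm)
  have hperp : ∀ u : V, u ≠ 0 → ∀ x, (∀ z, ph q F z u = 0 → ph q F x z = 0) → ∃ t : K, x = t • u := by
    intro u _ x hx
    have h : x ∈ UTv.perp (qK q F K) (UTv.perp (qK q F K) (K ∙ u)) := fun z hz =>
      hx z (hz u (Submodule.mem_span_singleton_self u))
    rw [TensorU.le_perp_perp D.cardK] at h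
    obtain ⟨t, ht⟩ := Submodule.mem_span_singleton.1 h
    exact ⟨t, ht.symm⟩
  rcases (show m = 2 ∨ m = 3 ∨ 4 ≤ m by omega) with hm | hm | hm
  rotate_left
  · -- three dimensions
    obtain ⟨σ, hall⟩ := lam_monomial_three D hM hS hm hj
    refine ⟨σ, fun k => TensorU.eq_of_forall D.cardK fun y => ?_⟩
    obtain ⟨b, hb⟩ := hall y
    have h1 := LinearMap.congr_fun hb k
    have h2 := LinearMap.congr_fun hb 1
    simp only [D.lam_apply, LinearMap.smul_apply, AlgHom.toLinearMap_apply, smul_eq_mul, map_one, mul_one] at h1 h2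
    show ph q F (j k) y = ph q F (σ k • j 1) y
    rw [ph_smul_l, h1, h2, mul_comm]
  rotate_left
  · -- the plane
    subst hm
    have hgood : ∀ u : Fin 2 → K, u ≠ 0 → ph q F u u = 0 → Function.Injective (D.lam j u) := fun u hu0 hu =>
      hniceGood u hu0 hu fun k hk => by
        have h1 := UTv.finrank_perp D.cardK (K ∙ u)
        rw [finrank_span_singleton hu0] at h1
        have he : (K ∙ u) = UTv.perp (qK q F K) (K ∙ u) := by
          refine Submodule.eq_of_le_of_finrank_le (fun z hz w hw => ?_) ?_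
          · obtain ⟨a, rfl⟩ := Submodule.mem_span_singleton.1 hz
            obtain ⟨b, rfl⟩ := Submodule.mem_span_singleton.1 hw
            show ph q F (a • u) (b • u) = 0
            rw [ph_smul_l, D.ph_smul_r, hu, mul_zero, mul_zero]
          · rw [finrank_span_singleton hu0]; omega
        have : j k ∈ UTv.perp (qK q F K) (K ∙ u) := fun w hw => by
          obtain ⟨b, rfl⟩ := Submodule.mem_span_singleton.1 hw
          show ph q F (j k) (b • u) = 0
          rw [D.ph_smul_r, show ph q F (j k) u = 0 from hk, mul_zero]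
        rw [← he] at this
        obtain ⟨t, ht⟩ := Submodule.mem_span_singleton.1 this
        exact ⟨t, ht.symm⟩
    obtain ⟨w, hpw, hwp, hw⟩ := TensorU.exists_hyp D.cardK hp0 hp
    have hw0 : w ≠ 0 := fun e => by rw [e, TensorU.zero_r D.cardK] at hpw; exact zero_ne_one hpw
    obtain ⟨σ, a, hA⟩ := monomial_form D hM hS hj hw0 hw (hgood w hw0 hw)
    have ha : a ≠ 0 := fun e => by
      have h := hgood w hw0 hw
      rw [hA, e, zero_smul] at h
      exact one_ne_zero (h (by simp) : (1 : K) = 0)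
    obtain ⟨c, hc, hli⟩ := D.exists_skew_basis
    have h3 := D.three_le
    set c₁ := c ⟨0, by omega⟩
    set c₂ := c ⟨1, by omega⟩
    have h12 : c₁ ≠ c₂ := fun e => by simpa [Fin.ext_iff] using hli.injective e
    have hone : ∀ i, ∃ (σ' : K →ₐ[F] K) (b : K),
        a • σ.toLinearMap + (c i) ^ qK q F K • D.lam j p = b • σ'.toLinearMap := fun i => by
      have he : D.lam j (w + c i • p) = D.lam j w + (c i) ^ qK q F K • D.lam j p := by rw [D.lam_add, D.lam_smul]
      have hiso : ph q F (w + c i • p) (w + c i • p) = 0 := by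
        rw [ph_add_l, D.ph_add_r, D.ph_add_r, ph_smul_l, ph_smul_l, D.ph_smul_r, D.ph_smul_r,
          show ph q F w w = 0 from hw, show ph q F w p = 1 from hwp, show ph q F p w = 1 from hpw,
          show ph q F p p = 0 from hp]
        linear_combination hc i
      have hne : w + c i • p ≠ 0 := fun e => by
        have h := congrArg (fun z => ph q F z p) e
        simp only [ph_add_l, ph_smul_l, show ph q F w p = 1 from hwp, show ph q F p p = 0 from hp, mul_zero,
          add_zero, D.ph_zero_l] at h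
        exact one_ne_zero h
      obtain ⟨σ', b, hb⟩ := monomial_form D hM hS hj hne hiso (hgood _ hne hiso)
      exact ⟨σ', b, by rw [← hA, ← he, hb]⟩
    obtain ⟨b, hb⟩ := D.pencil ha (fun e => h12 (by
      have := congrArg (fun z => z ^ qK q F K) e
      simpa only [D.pow_pow] using this)) (pow_ne_zero _ (hli.ne_zero _)) (pow_ne_zero _ (hli.ne_zero _))
      (hone _) (hone _)
    refine ⟨σ, fun k => TensorU.eq_of_forall D.cardK fun y => ?_⟩
    let S : Submodule K (Fin 2 → K) :=
      { carrier := {x | ∀ k, ph q F (j k) x = ph q F (σ k • j 1) x}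
        zero_mem' := fun k => by rw [D.ph_zero_r, D.ph_zero_r]
        add_mem' := fun {x z} hx hz k => by rw [D.ph_add_r, D.ph_add_r, hx, hz]
        smul_mem' := fun c x hx k => by rw [D.ph_smul_r, D.ph_smul_r, hx] }
    have hmono : ∀ (y : Fin 2 → K) (e : K), D.lam j y = e • σ.toLinearMap → y ∈ S := fun y e he k => by
      have h1 := LinearMap.congr_fun he k
      have h2 := LinearMap.congr_fun he 1
      simp only [D.lam_apply, LinearMap.smul_apply, AlgHom.toLinearMap_apply, smul_eq_mul, map_one, mul_one] at h1 h2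
      rw [ph_smul_l, h1, h2, mul_comm]
    have htop : y ∈ S := by
      refine TensorU.mem_of_pair D.cardK S hp hw hpw hwp (hmono p b hb) (hmono w a hA) fun t _ => ?_
      have hx0 : y - Cfsg.hermForm 2 K (qK q F K) y w • p - Cfsg.hermForm 2 K (qK q F K) y p • w = 0 := by
        refine TensorU.eq_zero_of_forall D.cardK fun z => ?_
        set x0 := y - Cfsg.hermForm 2 K (qK q F K) y w • p - Cfsg.hermForm 2 K (qK q F K) y p • w with hx0
        have hxp : ph q F x0 p = 0 := by
          simp only [hx0, D.ph_sub_l, ph_smul_l]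
          rw [show ph q F p p = 0 from hp, show ph q F w p = 1 from hwp]
          show ph q F y p - _ * 0 - ph q F y p * 1 = 0
          ring
        have hxw : ph q F x0 w = 0 := by
          simp only [hx0, D.ph_sub_l, ph_smul_l]
          rw [show ph q F p w = 1 from hpw, show ph q F w w = 0 from hw]
          show ph q F y w - ph q F y w * 1 - _ * 0 = 0
          ring
        have hsp : z ∈ Submodule.span K (Set.range ![p, w]) := by
          have hli2 : LinearIndependent K ![p, w] := by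
            rw [LinearIndependent.pair_iff]
            intro s t hst
            have h1 := congrArg (fun z => ph q F z w) hst
            have h2 := congrArg (fun z => ph q F z p) hst
            simp only [ph_add_l, ph_smul_l, show ph q F p w = 1 from hpw, show ph q F w p = 1 from hwp,
              show ph q F p p = 0 from hp, show ph q F w w = 0 from hw, mul_zero, mul_one, add_zero, zero_add,
              D.ph_zero_l] at h1 h2
            exact ⟨h1, h2⟩
          rw [hli2.span_eq_top_of_card_eq_finrank' (by simp)]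
          trivial
        obtain ⟨s, t, rfl⟩ : ∃ s t : K, s • p + t • w = z := by
          rw [Matrix.range_cons_cons_empty, Submodule.mem_span_pair] at hsp
          exact hsp
        show ph q F x0 _ = 0
        rw [D.ph_add_r, D.ph_smul_r, D.ph_smul_r, hxp, hxw, mul_zero, mul_zero, add_zero]
      rw [hx0, zero_add]
      exact S.add_mem (S.smul_mem _ (hmono p b hb)) (hmono w a hA)
    exact htop k
  -- larger dimension
  let P : Set V := {u | u ≠ 0 ∧ ph q F u u = 0}
  obtain ⟨u, ⟨hu0, hu⟩, hmin⟩ : ∃ u ∈ P, ∀ u' ∈ P,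
      finrank F (LinearMap.ker (D.lam j u)) ≤ finrank F (LinearMap.ker (D.lam j u')) := by
    obtain ⟨u, hu, hmin⟩ := Set.exists_min_image P (fun u => finrank F (LinearMap.ker (D.lam j u)))
      (Set.toFinite P) ⟨p, hp0, hp⟩
    exact ⟨u, hu, hmin⟩
  have hAinj : Function.Injective (D.lam j u) := by
    refine hniceGood u hu0 hu fun k hk => ?_
    by_contra hno
    push Not at hno
    obtain ⟨z, hzu, hzk⟩ : ∃ z, ph q F z u = 0 ∧ ph q F (j k) z ≠ 0 := by
      by_contra h
      push Not at h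
      obtain ⟨t, ht⟩ := hperp u hu0 (j k) h
      exact hno t ht
    obtain ⟨u2, hu2, hu2u, hu2k⟩ : ∃ u2, ph q F u2 u2 = 0 ∧ ph q F u2 u = 0 ∧ ph q F (j k) u2 ≠ 0 := by
      by_contra h
      push Not at h
      let S : Submodule K V :=
        { carrier := {x | ph q F (j k) x = 0}
          zero_mem' := D.ph_zero_r _
          add_mem' := fun {a b} ha hb => by show ph q F (j k) (a + b) = 0; rw [D.ph_add_r, ha, hb, add_zero]
          smul_mem' := fun c a ha => by show ph q F (j k) (c • a) = 0; rw [D.ph_smul_r, ha, mul_zero] }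
      exact hzk (TensorU.mem_of_iso_perp D.cardK hm hu0 hu S h hzu)
    obtain ⟨η, η', -, hη0, -, hη⟩ := D.exists_avoid (D.lam j u) (D.lam j u2)
    set u' := u + η ^ qK q F K • u2
    have hlam : ∀ l, D.lam j u' l = D.lam j u l + η * D.lam j u2 l := fun l => by
      simp only [u', D.lam_add, D.lam_smul, D.pow_pow, LinearMap.add_apply, LinearMap.smul_apply, smul_eq_mul]
    have hu'k : D.lam j u' k ≠ 0 := by
      rw [hlam, hk, zero_add]
      exact mul_ne_zero hη0 hu2k
    have hu'P : u' ∈ P := by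
      refine ⟨fun e => hu'k (by rw [e]; exact D.ph_zero_r _), ?_⟩
      have huu2 : ph q F u u2 = 0 := TensorU.swap0 D.cardK hu2u
      simp only [u']
      rw [ph_add_l, D.ph_add_r, D.ph_add_r, ph_smul_l, ph_smul_l, D.ph_smul_r, D.ph_smul_r, hu, huu2, hu2u, hu2]
      ring
    have hlt : LinearMap.ker (D.lam j u') < LinearMap.ker (D.lam j u) := by
      refine lt_of_le_of_ne (fun l hl => ?_) fun e => hu'k ?_
      · rw [LinearMap.mem_ker] at hl ⊢
        by_contra hne
        rw [hlam] at hl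
        exact (hη l hne).1 hl
      · have : k ∈ LinearMap.ker (D.lam j u) := LinearMap.mem_ker.2 hk
        rw [← e] at this
        exact LinearMap.mem_ker.1 this
    have := Submodule.finrank_lt_finrank_of_lt hlt
    have := hmin u' hu'P
    omega
  obtain ⟨σ, a, hA⟩ := monomial_form D hM hS hj hu0 hu hAinj
  have ha : a ≠ 0 := fun e => by
    rw [hA, e, zero_smul] at hAinj
    exact one_ne_zero (hAinj (by simp) : (1 : K) = 0)
  obtain ⟨z, hz0, hz, hzu, hzn⟩ := TensorU.exists_iso_off D.cardK hm hu0 hu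
  obtain ⟨bz, hbz⟩ := perp_mem D hM hS hm hj hu0 hu ha hA hzu
  obtain ⟨ξ, hξ0, hξa⟩ : ∃ ξ : K, ξ ≠ 0 ∧ a + ξ ^ qK q F K * bz ≠ 0 := by
    by_cases h1 : a + bz = 0
    · obtain ⟨ω, hω⟩ := TensorU.moved_exists D.cardK
      refine ⟨ω, fun e => hω (by rw [e, D.zero_pow]), fun e => ?_⟩
      have h2 : (ω ^ qK q F K - 1) * bz = 0 := by linear_combination e - h1
      rcases mul_eq_zero.1 h2 with h3 | h3
      · have h4 := congrArg (fun z => z ^ qK q F K) (sub_eq_zero.1 h3)
        simp only [D.pow_pow, one_pow] at h4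
        exact hω (by rw [h4, one_pow])
      · exact ha (by rw [h3, add_zero] at h1; exact h1)
    · exact ⟨1, one_ne_zero, by rw [one_pow, one_mul]; exact h1⟩
  set u' := u + ξ • z
  have huz : ph q F u z = 0 := TensorU.swap0 D.cardK hzu
  have hu' : ph q F u' u' = 0 := by
    simp only [u']
    rw [ph_add_l, D.ph_add_r, D.ph_add_r, ph_smul_l, ph_smul_l, D.ph_smul_r, D.ph_smul_r, hu, huz,
      show ph q F z u = 0 from hzu, show ph q F z z = 0 from hz]
    ring
  have hA' : D.lam j u' = (a + ξ ^ qK q F K * bz) • σ.toLinearMap := by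
    simp only [u', D.lam_add, D.lam_smul, hA, hbz, smul_smul, ← add_smul]
  have hu'n : u' ∉ K ∙ u := fun h => hzn (by
    have h2 := (K ∙ u).sub_mem h (Submodule.mem_span_singleton_self u)
    simp only [u', add_sub_cancel_left] at h2
    have h3 := (K ∙ u).smul_mem ξ⁻¹ h2
    rwa [inv_smul_smul₀ hξ0] at h3)
  have hu'0 : u' ≠ 0 := fun e => hu'n (by rw [e]; exact zero_mem _)
  obtain ⟨y0, hy0u, hy0u'⟩ : ∃ y0, ph q F y0 u = 0 ∧ ph q F y0 u' ≠ 0 := by
    by_contra h
    push Not at h
    obtain ⟨t, ht⟩ := hperp u hu0 u' fun z hz => TensorU.swap0 D.cardK (h z hz)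
    exact hu'n (Submodule.mem_span_singleton.2 ⟨t, ht.symm⟩)
  have hall : ∀ y, ∃ b : K, D.lam j y = b • σ.toLinearMap := fun y => by
    set t := ph q F y u' / ph q F y0 u'
    obtain ⟨b0, hb0⟩ := perp_mem D hM hS hm hj hu0 hu ha hA hy0u
    obtain ⟨b1, hb1⟩ := perp_mem D hM hS hm hj hu'0 hu' hξa hA' (x := y - t • y0) (by
      rw [D.ph_sub_l, ph_smul_l, div_mul_cancel₀ _ hy0u', sub_self])
    refine ⟨b1 + t ^ qK q F K * b0, ?_⟩
    rw [show y = (y - t • y0) + t • y0 by rw [sub_add_cancel], D.lam_add, D.lam_smul, hb1, hb0, smul_smul, add_smul]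
  refine ⟨σ, fun k => TensorU.eq_of_forall D.cardK fun y => ?_⟩
  obtain ⟨b, hb⟩ := hall y
  have h1 := LinearMap.congr_fun hb k
  have h2 := LinearMap.congr_fun hb 1
  simp only [D.lam_apply, LinearMap.smul_apply, AlgHom.toLinearMap_apply, smul_eq_mul, map_one, mul_one] at h1 h2
  show ph q F (j k) y = ph q F (σ k • j 1) y
  rw [ph_smul_l, h1, h2, mul_comm]

/-- Every element of the overgroup is semilinear. -/
theorem semi_of_allScalar (hm : m = 2 ∨ 3 ≤ m) {g : (Fin m → K) ≃ₗ[F] (Fin m → K)} (hg : g ∈ M) : SemiV g := by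
  have hm2 : 2 ≤ m := by omega
  have hline : ∀ u : V, u ≠ 0 → ph q F u u = 0 → ∃ σ : K →ₐ[F] K, ∀ k : K, g (k • u) = σ k • g u := by
    intro u hu0 hu
    have hj : IsMember q M ((g : V →ₗ[F] V).comp (ptMap F u)) := (isMember_pt hu0 hu).comp hg
    obtain ⟨σ, hσ⟩ := member_line D hM hS hm hj
    refine ⟨σ, fun k => ?_⟩
    have h := hσ k
    simpa [ptMap_apply] using h
  choose σ hσ using hline
  have hpair : ∀ u u' : V, ∀ hu0 : u ≠ 0, ∀ hu : ph q F u u = 0, ∀ hu'0 : u' ≠ 0, ∀ hu' : ph q F u' u' = 0,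
      ph q F u u' ≠ 0 → σ u hu0 hu = σ u' hu'0 hu' := by
    intro u u' hu0 hu hu'0 hu' huu'
    set s := σ u hu0 hu
    set s' := σ u' hu'0 hu'
    set e := ainv s (ph q F (g u) (g u'))
    have key : ∀ l : K, ainv s (s' l) ^ qK q F K * e = l ^ qK q F K * ph q F u u' := fun l => by
      refine sub_eq_zero.1 (eq_zero_of_trace (F := F) fun k => ?_)
      rw [sub_mul, map_sub, sub_eq_zero]
      have h := hM.isom g hg (k • u) (l • u')
      rw [hσ u hu0 hu, hσ u' hu'0 hu', tf, tf, ph_smul_l, ph_smul_l, D.ph_smul_r, D.ph_smul_r,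
        ← trace_aut (ainv s)] at h
      simp only [map_mul, map_pow] at h
      rw [show σ u hu0 hu = s from rfl, show σ u' hu'0 hu' = s' from rfl, ainv_apply] at h
      rw [mul_comm _ k, h, mul_comm k]
    have k1 := key 1
    rw [map_one, map_one, one_pow, one_mul, one_mul] at k1
    refine AlgHom.ext fun l => ?_
    have h := key l
    rw [k1] at h
    have h2 := mul_right_cancel₀ huu' h
    have h3 : ainv s (s' l) = l := by
      have := congrArg (fun z => z ^ qK q F K) h2
      simpa only [D.pow_pow] using this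
    conv_lhs => rw [← h3, apply_ainv]
  have hconst : ∀ u u' : V, ∀ hu0 : u ≠ 0, ∀ hu : ph q F u u = 0, ∀ hu'0 : u' ≠ 0, ∀ hu' : ph q F u' u' = 0,
      σ u hu0 hu = σ u' hu'0 hu' := by
    intro u u' hu0 hu hu'0 hu'
    obtain ⟨w, huw, hwu, hw⟩ := TensorU.exists_hyp D.cardK hu0 hu
    have hw0 : w ≠ 0 := fun e => by rw [e, TensorU.zero_r D.cardK] at huw; exact zero_ne_one huw
    have huw' : ph q F u w ≠ 0 := by rw [show ph q F u w = 1 from huw]; exact one_ne_zero
    by_cases h1 : ph q F w u' = 0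
    · obtain ⟨w', hu'w', hw'u', hw'⟩ := TensorU.exists_hyp D.cardK hu'0 hu'
      have hw'0 : w' ≠ 0 := fun e => by rw [e, TensorU.zero_r D.cardK] at hu'w'; exact zero_ne_one hu'w'
      have hw'u'' : ph q F w' u' ≠ 0 := by rw [show ph q F w' u' = 1 from hw'u']; exact one_ne_zero
      by_cases h2 : ph q F u w' = 0
      · obtain ⟨t, ht0, ht⟩ : ∃ t : K, t ≠ 0 ∧ ph q F (w + t • w') (w + t • w') = 0 := by
          rcases eq_or_ne (ph q F w w') 0 with h0 | h0
          · refine ⟨1, one_ne_zero, ?_⟩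
            rw [one_smul, ph_add_l, D.ph_add_r, D.ph_add_r, show ph q F w w = 0 from hw,
              show ph q F w' w' = 0 from hw', h0, show ph q F w' w = 0 from TensorU.swap0 D.cardK h0]
            ring
          · obtain ⟨k, hk0, hk⟩ := skew_exists' D.cardK
            refine ⟨(k / ph q F w w') ^ qK q F K, pow_ne_zero _ (div_ne_zero hk0 h0), ?_⟩
            simp only [ph_add_l, D.ph_add_r, ph_smul_l, D.ph_smul_r, show ph q F w w = 0 from hw,
              show ph q F w' w' = 0 from hw', mul_zero, add_zero, zero_add, D.pow_pow, D.ph_swap w w',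
              div_mul_cancel₀ _ h0]
            rw [← mul_pow, div_mul_cancel₀ _ h0, add_comm]
            exact hk
        have huz : ph q F u (w + t • w') ≠ 0 := by rw [D.ph_add_r, D.ph_smul_r, h2, mul_zero, add_zero]; exact huw'
        have hzu' : ph q F (w + t • w') u' ≠ 0 := by
          rw [ph_add_l, ph_smul_l, h1, show ph q F w' u' = 1 from hw'u', zero_add, mul_one]; exact ht0
        have hz0 : w + t • w' ≠ 0 := fun e => huz (by rw [e]; exact D.ph_zero_r u)
        rw [hpair u _ hu0 hu hz0 ht huz, hpair _ u' hz0 ht hu'0 hu' hzu']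
      · rw [hpair u w' hu0 hu hw'0 hw' h2, hpair w' u' hw'0 hw' hu'0 hu' hw'u'']
    · rw [hpair u w hu0 hu hw0 hw huw', hpair w u' hw0 hw hu'0 hu' h1]
  obtain ⟨p, hp0, hp⟩ := TensorU.exists_iso D.cardK hm2
  set s := σ p hp0 hp
  let S : Submodule K V :=
    { carrier := {x | ∀ k : K, g (k • x) = s k • g x}
      zero_mem' := fun k => by simp
      add_mem' := fun {x y} hx hy k => by rw [smul_add, map_add, hx k, hy k, map_add, smul_add]
      smul_mem' := fun c x hx k => by rw [smul_smul, hx, hx, smul_smul, map_mul] }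
  have htop : ∀ x, x ∈ S := TensorU.mem_of_iso D.cardK hm2 S fun z hz k => by
    rcases eq_or_ne z 0 with rfl | hz0
    · simp
    · rw [hσ z hz0 hz, hconst z p hz0 hz hp0 hp]
  exact fun k => ⟨s k, fun x => htop x k⟩

end CfsgLib.Geo.UnitExt
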