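/-
The normaliser of an adjoint-closed field of degree three or five is maximal in the special unitary group.
-/
import Cfsg.Agent.Geo.UnitExtLines
import Cfsg.Agent.Aschbacher.UnitaryMember
import Cfsg.Agent.Elusive.FieldTower
import Cfsg.Agent.Forms.OfBilin
import Mathlib.RingTheory.Norm.Transitivity

set_option autoImplicit false
set_option linter.unusedSectionVars false

namespace CfsgLib.Geo.UnitExt

open Module Cfsg Cfsg.Geo CfsgLib.Geo CfsgLib.FieldMax CfsgLib.Forms
open scoped Matrix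

section Phase

variable {F : Type*} [Field F] [Finite F] {K : Type*} [Field K] [Algebra F K] [Finite K] {q m : ℕ}

local notation "V" => (Fin m → K)

variable (D : Data q F K)
include D

lemma Data.card_phaseF : Nat.card {x : F // x ^ (q + 1) = 1} = q + 1 :=
  card_norm_fiber D.card one_ne_zero (one_pow q)

lemma Data.exists_phase : ∃ z : K, z * z ^ qK q F K = 1 ∧ ∀ c : F, algebraMap F K c ≠ z := by
  by_contra hcon
  push Not at hcon
  have h1 := card_norm_fiber D.cardK (μ := (1 : K)) one_ne_zero (one_pow _)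
  choose f hf using fun x : {x : K // x ^ (qK q F K + 1) = 1} => hcon x.1 (by rw [← pow_succ']; exact x.2)
  have h2 : Nat.card {x : K // x ^ (qK q F K + 1) = 1} ≤ Nat.card {x : F // x ^ (q + 1) = 1} := by
    refine Nat.card_le_card_of_injective (fun x => ⟨f x, (algebraMap F K).injective ?_⟩) fun x y h => ?_
    · rw [map_one, pow_succ, map_mul, ← D.algebraMap_pow, hf, ← pow_succ]
      exact x.2
    · exact Subtype.ext (by rw [← hf x, ← hf y, show f x = f y from congrArg Subtype.val h])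
  rw [h1, D.card_phaseF] at h2
  have := D.qK_lt
  omega

lemma Data.exists_phase_norm (h5 : finrank F K = 5 ∨ (finrank F K = 3 ∧ 3 ≤ q)) :
    ∃ z : K, z * z ^ qK q F K = 1 ∧ (∀ c : F, algebraMap F K c ≠ z) ∧ Algebra.norm F z = 1 := by
  classical
  obtain ⟨d, hd⟩ : ∃ d, finrank F K = d := ⟨_, rfl⟩
  rw [hd] at h5
  by_contra hcon
  push Not at hcon
  set Q := qK q F K
  have hq := two_le_q D.card
  have hΦ : Nat.card {x : K // x ^ (Q + 1) = 1} = Q + 1 := card_norm_fiber D.cardK one_ne_zero (one_pow _)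
  have hN : ∀ x : {x : K // x ^ (Q + 1) = 1}, Algebra.norm F x.1 ^ (q + 1) = 1 := fun x => by
    rw [pow_succ, ← D.pow_qK, ← pow_succ, ← map_pow, x.2, map_one]
  let f : {x : K // x ^ (Q + 1) = 1} → {y : F // y ^ (q + 1) = 1} := fun x => ⟨Algebra.norm F x.1, hN x⟩
  have : Fintype {x : K // x ^ (Q + 1) = 1} := Fintype.ofFinite _
  have : Fintype {y : F // y ^ (q + 1) = 1} := Fintype.ofFinite _
  have hfib : ∀ y ∈ (Finset.univ : Finset {y : F // y ^ (q + 1) = 1}),
      (Finset.univ.filter fun x => f x = y).card ≤ d := by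
    intro y _
    rcases Finset.eq_empty_or_nonempty (Finset.univ.filter fun x => f x = y) with h | ⟨x₀, hx₀⟩
    · rw [h]; simp
    have hx0 : (x₀ : K) ≠ 0 := fun e => by
      have h := x₀.2
      rw [e, _root_.zero_pow (Nat.succ_ne_zero _)] at h
      exact zero_ne_one h
    let P : Polynomial F := Polynomial.X ^ d - Polynomial.C 1
    have hP : P ≠ 0 := Polynomial.X_pow_sub_C_ne_zero (by omega) _
    have hmem : ∀ x ∈ Finset.univ.filter (fun x => f x = y),
        ∃ c : F, algebraMap F K c = (x : K) / x₀ ∧ c ^ d = 1 := by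
      intro x hx
      have e : Algebra.norm F ((x : K) / x₀) = 1 := by
        have h1 : Algebra.norm F (x : K) = Algebra.norm F (x₀ : K) := by
          have e1 := (Finset.mem_filter.1 hx).2
          have e2 := (Finset.mem_filter.1 hx₀).2
          exact congrArg Subtype.val (e1.trans e2.symm)
        have h2 := map_mul (Algebra.norm F) ((x : K) / x₀) (x₀ : K)
        rw [div_mul_cancel₀ _ hx0, h1] at h2
        exact mul_right_cancel₀ (Algebra.norm_ne_zero_iff.2 hx0) (by rw [← h2, one_mul])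
      have hp : ((x : K) / x₀) * ((x : K) / x₀) ^ Q = 1 := by
        rw [← pow_succ', div_pow, x.2, x₀.2, div_one]
      obtain ⟨c, hc⟩ : ∃ c : F, algebraMap F K c = (x : K) / x₀ := by
        by_contra hno
        push Not at hno
        exact hcon _ hp hno e
      refine ⟨c, hc, ?_⟩
      rw [← hc, Algebra.norm_algebraMap, hd] at e
      exact e
    choose g hg hg5 using hmem
    refine le_trans (Finset.card_le_card_of_injOn (fun x => if hx : x ∈ Finset.univ.filter (fun x => f x = y)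
      then g x hx else 0) (t := P.roots.toFinset) ?_ ?_) ?_
    · intro x hx
      simp only [Finset.mem_coe] at hx ⊢
      rw [dif_pos hx, Multiset.mem_toFinset, Polynomial.mem_roots hP]
      simp [P, hg5 x hx]
    · intro x hx x' hx' e
      simp only [Finset.mem_coe] at hx hx'
      dsimp only at e
      rw [dif_pos hx, dif_pos hx'] at e
      have h1 := hg x hx
      rw [e, hg x' hx', div_left_inj' hx0] at h1
      exact Subtype.ext h1.symm
    · exact (Multiset.toFinset_card_le _).trans ((Polynomial.card_roots' P).trans_eq (Polynomial.natDegree_X_pow_sub_C))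
  have h := Finset.card_le_mul_card_image_of_maps_to (f := f) (s := Finset.univ) (t := Finset.univ)
    (fun x _ => Finset.mem_univ _) d hfib
  rw [Finset.card_univ, Finset.card_univ, ← Nat.card_eq_fintype_card, ← Nat.card_eq_fintype_card, hΦ,
    D.card_phaseF] at h
  rcases h5 with h5 | ⟨h5, hq3⟩
  · subst h5
    have h6 : Q = q * q * q * q * q := by simp only [Q, qK, hd]; ring
    have h7 : 2 * (q * q * q * q) ≤ Q := by
      rw [h6, mul_comm 2]
      exact Nat.mul_le_mul_left _ hq
    have h8 : 8 * q ≤ q * q * q * q := Nat.mul_le_mul_right q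
      (show 8 ≤ q * q * q from le_trans (by norm_num) (Nat.mul_le_mul (Nat.mul_le_mul hq hq) hq))
    omega
  · subst h5
    have h6 : Q = q * q * q := by simp only [Q, qK, hd]; ring
    have h7 : 9 * q ≤ Q := h6 ▸ Nat.mul_le_mul_right q (Nat.mul_le_mul hq3 hq3)
    omega

/-- The restriction of a matrix to the smaller field. -/
noncomputable def glEquiv (F : Type*) [Field F] {K : Type*} [Field K] [Algebra F K] {m : ℕ}
    (G : GL (Fin m) K) : (Fin m → K) ≃ₗ[F] (Fin m → K) :=
  (Matrix.toLin'OfInv (M := ((G⁻¹ : GL (Fin m) K) : Matrix (Fin m) (Fin m) K))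
    (M' := (G : Matrix (Fin m) (Fin m) K)) (Units.inv_mul G) (Units.mul_inv G)).restrictScalars F

omit D in
lemma glEquiv_apply (G : GL (Fin m) K) (x : V) :
    glEquiv F G x = (G : Matrix (Fin m) (Fin m) K) *ᵥ x := rfl

omit D in
lemma det_glEquiv (G : GL (Fin m) K) :
    ((LinearEquiv.det (glEquiv F G) : Fˣ) : F) = Algebra.norm F (G : Matrix (Fin m) (Fin m) K).det := by
  rw [LinearEquiv.coe_det, show ((glEquiv F G : _ ≃ₗ[F] _) : V →ₗ[F] V) =
    (Matrix.toLin' (G : Matrix (Fin m) (Fin m) K)).restrictScalars F from rfl, LinearMap.det_restrictScalars,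
    LinearMap.det_toLin']

lemma Data.phase (hm : m = 2 → finrank F K = 5 ∨ (finrank F K = 3 ∧ 3 ≤ q)) (hm' : m = 2 ∨ 3 ≤ m)
    {M : Subgroup ((Fin m → K) ≃ₗ[F] (Fin m → K))}
    (semi : ∀ g : (Fin m → K) ≃ₗ[F] (Fin m → K), SemiV g → Isom q g → LinearEquiv.det g = 1 → g ∈ M) (u : V) :
    ∃ z : K, z * z ^ qK q F K = 1 ∧ (∀ c : F, algebraMap F K c ≠ z) ∧
      (ph q F u u = 0 → ∃ n ∈ M, ∀ k : K, n (k • u) = (z * k) • u) := by
  classical
  suffices h : ∃ z : K, z * z ^ qK q F K = 1 ∧ (∀ c : F, algebraMap F K c ≠ z) ∧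
      (ph q F u u = 0 → ∃ G : GL (Fin m) K, (∀ x y, ph q F ((G : Matrix (Fin m) (Fin m) K) *ᵥ x)
        ((G : Matrix (Fin m) (Fin m) K) *ᵥ y) = ph q F x y) ∧
        Algebra.norm F (G : Matrix (Fin m) (Fin m) K).det = 1 ∧
        ∀ k : K, (G : Matrix (Fin m) (Fin m) K) *ᵥ (k • u) = (z * k) • u) by
    obtain ⟨z, h1, h2, h3⟩ := h
    refine ⟨z, h1, h2, fun hu => ?_⟩
    obtain ⟨G, hG, hd, hGu⟩ := h3 hu
    refine ⟨glEquiv F G, semi _ (fun k => ⟨k, fun x => ?_⟩) (fun x y => ?_)
      (Units.ext ((det_glEquiv G).trans hd)), hGu⟩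
    · rw [glEquiv_apply, glEquiv_apply, Matrix.mulVec_smul]
    · rw [tf, tf, glEquiv_apply, glEquiv_apply, hG]
  -- scalar matrices
  have hscal : ∀ z : K, z * z ^ qK q F K = 1 → ∀ G₀ : GL (Fin m) K, G₀ ∈ Cfsg.GU m K (qK q F K) →
      ∃ G : GL (Fin m) K, (∀ x y, ph q F ((G : Matrix (Fin m) (Fin m) K) *ᵥ x)
        ((G : Matrix (Fin m) (Fin m) K) *ᵥ y) = ph q F x y) ∧
        (G : Matrix (Fin m) (Fin m) K).det = z ^ m * (G₀ : Matrix (Fin m) (Fin m) K).det ∧
        ∀ x : V, (G : Matrix (Fin m) (Fin m) K) *ᵥ x = z • ((G₀ : Matrix (Fin m) (Fin m) K) *ᵥ x) := by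
    intro z hz G₀ hG₀
    have hz0 : z ≠ 0 := fun e => by rw [e, zero_mul] at hz; exact zero_ne_one hz
    refine ⟨Matrix.GeneralLinearGroup.mkOfDetNeZero (z • (G₀ : Matrix (Fin m) (Fin m) K)) ?_, fun x y => ?_, ?_,
      fun x => ?_⟩
    · rw [Matrix.det_smul, Fintype.card_fin]
      exact mul_ne_zero (pow_ne_zero _ hz0) (Matrix.GeneralLinearGroup.det G₀).ne_zero
    · change ph q F ((z • (G₀ : Matrix (Fin m) (Fin m) K)) *ᵥ x) ((z • (G₀ : Matrix (Fin m) (Fin m) K)) *ᵥ y) = _
      rw [Matrix.smul_mulVec, Matrix.smul_mulVec, ph_smul_l, D.ph_smul_r, ← mul_assoc, hz, one_mul]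
      exact UTv.mem_GU.1 hG₀ x y
    · change (z • (G₀ : Matrix (Fin m) (Fin m) K)).det = _
      rw [Matrix.det_smul, Fintype.card_fin]
    · change (z • (G₀ : Matrix (Fin m) (Fin m) K)) *ᵥ x = _
      rw [Matrix.smul_mulVec]
  rcases hm' with h2 | h3
  · obtain ⟨z, hz, hzF, hzN⟩ := D.exists_phase_norm (hm h2)
    refine ⟨z, hz, hzF, fun _ => ?_⟩
    obtain ⟨G, hG, hd, hGx⟩ := hscal z hz 1 (one_mem _)
    refine ⟨G, hG, by rw [hd, Units.val_one, Matrix.det_one, mul_one, map_pow, hzN, one_pow], fun k => ?_⟩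
    rw [hGx, Units.val_one, Matrix.one_mulVec, smul_smul]
  · obtain ⟨z, hz, hzF⟩ := D.exists_phase
    refine ⟨z, hz, hzF, fun hu => ?_⟩
    have hz0 : z ≠ 0 := fun e => by rw [e, zero_mul] at hz; exact zero_ne_one hz
    obtain ⟨e, he, heu⟩ := Unit.exists_anisotropic_perp (UTv.isUnitaryForm D.cardK (n := m)) ![u]
      (by rw [Fintype.card_fin]; omega)
    have hl : (z ^ m)⁻¹ * ((z ^ m)⁻¹) ^ qK q F K = 1 := by
      rw [inv_pow, ← mul_inv, pow_right_comm, ← mul_pow, hz, one_pow, inv_one]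
    obtain ⟨G₀, hG₀, hd₀, hG₀x⟩ := UTv.exists_refl D.cardK (W := ⊤) (u := e) Submodule.mem_top he hl
    obtain ⟨G, hG, hd, hGx⟩ := hscal z hz G₀ hG₀.1
    refine ⟨G, hG, by rw [hd, hd₀, mul_inv_cancel₀ (pow_ne_zero _ hz0), map_one], fun k => ?_⟩
    have hke : Cfsg.hermForm m K (qK q F K) (k • u) e = 0 := by
      have h0 : Cfsg.hermForm m K (qK q F K) u e = 0 := by
        first
          | exact TensorU.swap0 D.cardK (by simpa using heu 0)
          | simpa using heu 0
      rw [TensorU.smul_l, h0, mul_zero]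
    rw [hGx, hG₀x, hke, mul_zero, zero_smul, add_zero, smul_smul]

end Phase

variable {F : Type*} [Field F] [Fintype F] {n q r : ℕ}

/-- Maximality, over the field in dimension two or at least three. -/
theorem ext_unitary_maximal_of (hF : Fintype.card F = q ^ 2) (hr : r = 3 ∨ r = 5) (hn : n = 2 * r ∨ 3 * r ≤ n)
    (h25 : n = 2 * r → r = 5 ∨ 3 ≤ q) (K : Subalgebra F (Matrix (Fin n) (Fin n) F)) (hK : IsFieldSubalgebra r K)
    (hac : IsAdjointClosedFor (Cfsg.hermForm n F q) K) :
    IsMaximalIn (Cfsg.GU n F q ⊓ specialLinear (Fin n) F)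
      (subalgebraNormalizer K ⊓ (Cfsg.GU n F q ⊓ specialLinear (Fin n) F)) := by
  classical
  have hFn : Nat.card F = q ^ 2 := by rw [Nat.card_eq_fintype_card, hF]
  have hn6 : 6 ≤ n := by omega
  have hrp : r.Prime := by rcases hr with rfl | rfl <;> norm_num
  have : Nonempty (Fin n) := ⟨⟨0, by omega⟩⟩
  have hrank : finrank F K = r := hK.finrank_eq
  letI : CommRing K :=
    { (inferInstance : Ring K) with
      mul_comm := fun x y => Subtype.ext (hK.comm x x.2 y y.2) }
  have hf : IsField K :=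
    { exists_pair_ne := ⟨0, 1, fun h => zero_ne_one (congrArg Subtype.val h)⟩
      mul_comm := mul_comm
      mul_inv_cancel := fun {x} hx => by
        obtain ⟨y, hy, hxy⟩ := hK.inv x x.2 fun e => hx (Subtype.ext e)
        exact ⟨⟨y, hy⟩, Subtype.ext hxy⟩ }
  letI : Field K := hf.toField
  have : Finite (Matrix (Fin n) (Fin n) F) := Finite.of_equiv (Fin n → Fin n → F) Matrix.of
  have : Finite K := Finite.of_injective _ Subtype.val_injective
  have D : Data q F K := ⟨hFn, by rw [hrank]; exact hrp, by rw [hrank]; rcases hr with rfl | rfl <;> decide⟩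
  letI : Module K (Fin n → F) :=
    { smul := fun k v => (k : Matrix (Fin n) (Fin n) F) *ᵥ v
      one_smul := fun v => Matrix.one_mulVec v
      mul_smul := fun k l v => (Matrix.mulVec_mulVec v _ _).symm
      smul_zero := fun k => Matrix.mulVec_zero _
      smul_add := fun k v w => Matrix.mulVec_add _ v w
      add_smul := fun k l v => Matrix.add_mulVec _ _ v
      zero_smul := fun v => Matrix.zero_mulVec v }
  have hsm : ∀ (k : K) (v : Fin n → F), k • v = (k : Matrix (Fin n) (Fin n) F) *ᵥ v := fun k v => rfl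
  have : IsScalarTower F K (Fin n → F) := ⟨fun a k v => Matrix.smul_mulVec a _ v⟩
  have : Module.Finite K (Fin n → F) := Module.Finite.right F K _
  have huf := UTv.isUnitaryForm hFn (n := n)
  -- the adjoint is the involution
  have hac' : ∀ k : K, ∃ k' : K, ∀ u v, Cfsg.hermForm n F q (k • u) v = Cfsg.hermForm n F q u (k' • v) := fun k => by
    obtain ⟨k', hk', h⟩ := hac k.1 k.2
    exact ⟨⟨k', hk'⟩, h⟩
  choose J hJ using hac'
  have huniq : ∀ k k' : K, (∀ u v, Cfsg.hermForm n F q u (k • v) = Cfsg.hermForm n F q u (k' • v)) → k = k' := fun k k' h => by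
    apply Subtype.ext
    refine Matrix.toLin'.injective (LinearMap.ext fun v => ?_)
    rw [Matrix.toLin'_apply, Matrix.toLin'_apply]
    exact TensorU.eq_of_forall hFn fun y => by
      rw [TensorU.swap hFn y, TensorU.swap hFn y]; exact congrArg (· ^ q) (h y v)
  have hJ2 : ∀ k, J (J k) = k := fun k => huniq _ _ fun u v => by
    have h := hJ k v u
    rw [← hJ, TensorU.swap hFn v (J k • u), ← h, ← TensorU.swap hFn]
  have hJadd : ∀ a b, J (a + b) = J a + J b := fun a b => huniq _ _ fun u v => by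
    rw [← hJ, add_smul, add_smul, TensorU.add_l, hJ, hJ]
    exact (TensorU.add_r hFn _ _ _).symm
  have hJmul : ∀ a b, J (a * b) = J a * J b := fun a b => huniq _ _ fun u v => by
    rw [← hJ, mul_comm a b, mul_smul, hJ, hJ, smul_smul, mul_comm (J a)]
  have hJalg : ∀ c : F, J (algebraMap F K c) = algebraMap F K (c ^ q) := fun c => huniq _ _ fun u v => by
    rw [← hJ, algebraMap_smul, algebraMap_smul]
    show Cfsg.hermForm n F q (c • u) v = Cfsg.hermForm n F q u (c ^ q • v)
    rw [TensorU.smul_l, TensorU.smul_r hFn, CfsgLib.Forms.pow_q_q hFn]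
  have hJone : J 1 = 1 := by
    have := hJalg 1
    rwa [map_one, one_pow, map_one] at this
  have hJ0 : J 0 = 0 := by
    have := hJalg 0
    rwa [map_zero, _root_.zero_pow (by have := two_le_q hFn; omega), map_zero] at this
  let ψσ : K →ₐ[F] K :=
    { toFun := fun k => J k ^ qK q F K
      map_one' := by rw [hJone, one_pow]
      map_mul' := fun a b => by rw [hJmul, mul_pow]
      map_zero' := by rw [hJ0, D.zero_pow]
      map_add' := fun a b => by rw [hJadd, D.add_pow]
      commutes' := fun c => by rw [hJalg, D.algebraMap_pow, CfsgLib.Forms.pow_q_q hFn] }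
  have hJpow : ∀ k, J k = k ^ qK q F K := by
    have hpow : ∀ (k : K) (i : ℕ), J (k ^ i) = J k ^ i := fun k i => by
      induction i with
      | zero => rw [pow_zero, pow_zero, hJone]
      | succ i ih => rw [pow_succ, pow_succ, hJmul, ih]
    have hid : ψσ = AlgHom.id F K := by
      by_contra hne
      refine D.sq_ne_id hne (AlgHom.ext fun k => ?_)
      show J (J k ^ qK q F K) ^ qK q F K = k
      rw [hpow, hJ2, D.pow_pow]
    intro k
    have h : J k ^ qK q F K = k := AlgHom.congr_fun hid k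
    conv_rhs => rw [← h, D.pow_pow]
  have hadj : ∀ (k : K) u v, Cfsg.hermForm n F q (k • u) v = Cfsg.hermForm n F q u (k ^ qK q F K • v) := fun k u v => by rw [← hJpow]; exact hJ k u v
  -- the form over the field
  let L : (Fin n → F) → (Fin n → F) → Module.Dual F K := fun x y =>
    { toFun := fun k => Cfsg.hermForm n F q (k • x) y
      map_add' := fun k l => by rw [add_smul]; exact TensorU.add_l _ _ _
      map_smul' := fun a k => by rw [smul_assoc]; exact TensorU.smul_l _ _ _ }
  let eD := LinearMap.BilinForm.toDual (Algebra.traceForm F K) (traceForm_nondegenerate F K)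
  let B₀ : (Fin n → F) → (Fin n → F) → K := fun x y => eD.symm (L x y)
  have hB : ∀ x y (k : K), Algebra.trace F K (k * B₀ x y) = Cfsg.hermForm n F q (k • x) y := fun x y k => by
    have h : eD (B₀ x y) k = Cfsg.hermForm n F q (k • x) y := by rw [eD.apply_symm_apply]; rfl
    rw [mul_comm]
    exact h
  have hBu : ∀ {a b : K}, (∀ k, Algebra.trace F K (k * a) = Algebra.trace F K (k * b)) → a = b := fun {a b} h =>
    sub_eq_zero.1 (eq_zero_of_trace (F := F) fun k => by
      rw [sub_mul, map_sub, mul_comm a, mul_comm b, h, sub_self])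
  have hB' : ∀ x y, Algebra.trace F K (B₀ x y) = Cfsg.hermForm n F q x y := fun x y => by
    have h := hB x y 1
    rwa [one_mul, one_smul] at h
  have hswap : ∀ x y, B₀ y x = B₀ x y ^ qK q F K := fun x y => hBu fun k => by
    rw [hB, hadj, TensorU.swap hFn (k ^ qK q F K • x) y, ← hB, ← D.trace_pow, mul_pow, D.pow_pow]
  have hBadd : ∀ x x' y, B₀ (x + x') y = B₀ x y + B₀ x' y := fun x x' y => hBu fun k => by
    rw [mul_add, map_add, hB, hB, hB, smul_add]; exact TensorU.add_l _ _ _
  have hBsmul : ∀ (c : K) x y, B₀ (c • x) y = c * B₀ x y := fun c x y => hBu fun k => by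
    rw [← mul_assoc, hB, hB, mul_smul]
  have hBadd' : ∀ x y y', B₀ x (y + y') = B₀ x y + B₀ x y' := fun x y y' => by
    rw [hswap (y + y') x, hBadd, D.add_pow, ← hswap, ← hswap]
  have hBsmul' : ∀ (c : K) x y, B₀ x (c • y) = c ^ qK q F K * B₀ x y := fun c x y => by
    rw [hswap (c • y) x, hBsmul, mul_pow, ← hswap]
  let Bs : (Fin n → F) →ₛₗ[frobQ D.cardK] (Fin n → F) →ₗ[K] K :=
    LinearMap.mk₂'ₛₗ (frobQ D.cardK) (RingHom.id K) (fun x y => B₀ y x)
      (fun a b c => hBadd' c a b) (fun c a b => hBsmul' c b a)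
      (fun a b c => hBadd b c a) (fun c a b => hBsmul c b a)
  have hBsS : Bs.IsSymm := ⟨fun x y => by
    show B₀ y x ^ qK q F K = B₀ x y
    exact (hswap y x).symm⟩
  have hBnd : ∀ x, (∀ y, B₀ y x = 0) → x = 0 := fun x h => TensorU.eq_zero_of_forall hFn fun y => by
    show Cfsg.hermForm n F q x y = 0
    rw [← hB', hswap y x, h, D.zero_pow, map_zero]
  have hBsN : Bs.Nondegenerate := by
    refine ⟨fun x hx => hBnd x hx, fun y hy => hBnd y fun x => ?_⟩
    rw [hswap y x, show B₀ y x = 0 from hy x, D.zero_pow]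
  set m := finrank K (Fin n → F)
  have hmn : r * m = n := by
    have := Module.finrank_mul_finrank F K (Fin n → F)
    rwa [hrank, Module.finrank_fin_fun] at this
  obtain ⟨b, hb⟩ := exists_orthonormal_herm (frobQ_ne_id D.cardK) (frobQ_invol D.cardK)
    (fun a ha ha0 => finite_norm_surjective (frobQ_ne_id D.cardK) (frobQ_invol D.cardK) a ha ha0)
    m (Fin n → F) Bs hBsS hBsN rfl
  let ψK : (Fin n → F) ≃ₗ[K] (Fin m → K) := b.equivFun
  have hψB : ∀ x y, ph q F (ψK x) (ψK y) = B₀ x y := fun x y => by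
    let φ : (Fin n → F) →+ K := AddMonoidHom.mk' (fun z => B₀ z y) fun a b => hBadd a b y
    conv_rhs => rw [← b.sum_repr x]
    show _ = φ _
    rw [map_sum]
    show (∑ i, ψK x i * (ψK y i) ^ qK q F K) = _
    refine Finset.sum_congr rfl fun i _ => ?_
    show _ = B₀ (b.repr x i • b i) y
    rw [hBsmul]
    congr 1
    let φ' : (Fin n → F) →+ K := AddMonoidHom.mk' (fun z => B₀ (b i) z) fun a c => hBadd' (b i) a c
    conv_rhs => rw [← b.sum_repr y]
    show _ = φ' _
    rw [map_sum, Finset.sum_eq_single i]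
    · show _ = B₀ (b i) (b.repr y i • b i)
      rw [hBsmul', show B₀ (b i) (b i) = Bs (b i) (b i) from rfl, hb, if_pos rfl, mul_one]
      rfl
    · intro j _ hj
      show B₀ (b i) (b.repr y j • b j) = 0
      rw [hBsmul', show B₀ (b i) (b j) = Bs (b j) (b i) from rfl, hb, if_neg hj, mul_zero]
    · simp
  let ψ : (Fin n → F) ≃ₗ[F] (Fin m → K) := ψK.restrictScalars F
  have hψf : ∀ x y, tf q F (ψ x) (ψ y) = Cfsg.hermForm n F q x y := fun x y => by
    rw [tf, show ph q F (ψ x) (ψ y) = B₀ x y from hψB x y, hB']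
  let toEq : GL (Fin n) F → ((Fin n → F) ≃ₗ[F] (Fin n → F)) := fun g =>
    Matrix.toLin'OfInv (M := ((g⁻¹ : GL (Fin n) F) : Matrix (Fin n) (Fin n) F)) (M' := (g : Matrix (Fin n) (Fin n) F))
      (Units.inv_mul g) (Units.mul_inv g)
  let T : GL (Fin n) F →* ((Fin m → K) ≃ₗ[F] (Fin m → K)) :=
    MonoidHom.mk' (fun g => ψ.symm.trans ((toEq g).trans ψ)) fun g h => LinearEquiv.ext fun x => by
      show ψ (((g * h : GL (Fin n) F) : Matrix (Fin n) (Fin n) F) *ᵥ ψ.symm x) =
        ψ ((g : Matrix (Fin n) (Fin n) F) *ᵥ ψ.symm (ψ ((h : Matrix (Fin n) (Fin n) F) *ᵥ ψ.symm x)))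
      rw [LinearEquiv.symm_apply_apply, Units.val_mul, Matrix.mulVec_mulVec]
  have hT : ∀ g v, T g (ψ v) = ψ ((g : Matrix (Fin n) (Fin n) F) *ᵥ v) := fun g v => by
    show ψ ((g : Matrix (Fin n) (Fin n) F) *ᵥ ψ.symm (ψ v)) = _
    rw [LinearEquiv.symm_apply_apply]
  have hψs : ∀ (k : K) v, ψ ((k : Matrix (Fin n) (Fin n) F) *ᵥ v) = k • ψ v := fun k v => ψK.map_smul k v
  have hdet : ∀ g, LinearEquiv.det (T g) = Matrix.GeneralLinearGroup.det g := fun g => by
    refine Units.ext ?_
    rw [LinearEquiv.coe_det]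
    show LinearMap.det ((ψ : (Fin n → F) →ₗ[F] (Fin m → K)).comp
      ((Matrix.toLin' (g : Matrix (Fin n) (Fin n) F)).comp (ψ.symm : (Fin m → K) →ₗ[F] (Fin n → F)))) = _
    rw [LinearMap.det_conj, LinearMap.det_toLin']
    rfl
  have hisom : ∀ g, Isom q (T g) ↔ g ∈ Cfsg.GU n F q := fun g => by
    rw [UTv.mem_GU]
    constructor
    · intro h u v
      have h1 := h (ψ u) (ψ v)
      rwa [hT, hT, hψf, hψf] at h1
    · intro h x y
      obtain ⟨u, rfl⟩ := ψ.surjective x
      obtain ⟨v, rfl⟩ := ψ.surjective y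
      rw [hT, hT, hψf, hψf]
      exact h u v
  have hsemi : ∀ g, SemiV (T g) ↔ g ∈ subalgebraNormalizer K := by
    intro g
    constructor
    · intro h
      refine CfsgLib.Elusive.mem_normalizer_of_conj fun k hk => ?_
      obtain ⟨k', hk'⟩ := h ⟨k, hk⟩
      suffices e : (g : Matrix _ _ F) * k = (k' : Matrix (Fin n) (Fin n) F) * (g : Matrix _ _ F) by
        rw [e, mul_assoc, Units.mul_inv, mul_one]; exact k'.2
      refine Matrix.toLin'.injective (LinearMap.ext fun v => ψ.injective ?_)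
      have h1 := hk' (ψ v)
      rw [← hψs, hT, hT, ← hψs] at h1
      simpa only [Matrix.toLin'_apply, ← Matrix.mulVec_mulVec] using h1
    · intro h k
      refine ⟨⟨_, (h k).1 k.2⟩, fun x => ?_⟩
      obtain ⟨v, rfl⟩ := ψ.surjective x
      rw [← hψs, hT, hT, ← hψs]
      congr 1
      simp only [Matrix.mulVec_mulVec, mul_assoc, Units.inv_mul, mul_one]
  have hsurj : Function.Surjective T := by
    intro s
    let A : Matrix (Fin n) (Fin n) F :=
      LinearMap.toMatrix' ((ψ.trans (s.trans ψ.symm) : _ ≃ₗ[F] _) : (Fin n → F) →ₗ[F] (Fin n → F))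
    let A' : Matrix (Fin n) (Fin n) F :=
      LinearMap.toMatrix' ((ψ.trans (s.symm.trans ψ.symm) : _ ≃ₗ[F] _) : (Fin n → F) →ₗ[F] (Fin n → F))
    refine ⟨⟨A, A', ?_, ?_⟩, LinearEquiv.ext fun x => ?_⟩
    · rw [← LinearMap.toMatrix'_comp, ← LinearMap.toMatrix'_id]
      congr 1
      exact LinearMap.ext fun x => by simp
    · rw [← LinearMap.toMatrix'_comp, ← LinearMap.toMatrix'_id]
      congr 1
      exact LinearMap.ext fun x => by simp
    · show ψ (A *ᵥ ψ.symm x) = s x
      rw [← Matrix.toLin'_apply, Matrix.toLin'_toMatrix']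
      simp
  refine ⟨lt_of_le_of_ne inf_le_right fun h => CfsgLib.Aschbacher.isoSL_not_le_field huf
    (by rw [Fintype.card_fin]; omega) hrp.two_le hK (h.ge.trans inf_le_left), fun N hN hNS => ?_⟩
  by_cases hle : N ≤ subalgebraNormalizer K
  · exact Or.inl (le_antisymm (le_inf hle hNS) hN)
  right
  obtain ⟨g, hgN, hgK⟩ := SetLike.not_le_iff_exists.1 hle
  have hsemiM : ∀ s, SemiV s → Isom q s → LinearEquiv.det s = 1 → s ∈ N.map T := fun s hs hi hd => by
    obtain ⟨y, rfl⟩ := hsurj s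
    refine Subgroup.mem_map_of_mem T (hN ⟨(hsemi y).1 hs, (hisom y).1 hi, ?_⟩)
    rw [hdet] at hd
    exact hd
  have hm : m = 2 ∨ 3 ≤ m := by
    rcases hn with h | h
    · exact Or.inl (Nat.eq_of_mul_eq_mul_left hrp.pos (by rw [hmn, h]; ring))
    · exact Or.inr (Nat.le_of_mul_le_mul_left (by rw [hmn, mul_comm]; exact h) hrp.pos)
  have hov : EOver (F := F) q (N.map T) :=
    { semi := hsemiM
      isom := fun s hs => by
        obtain ⟨y, hy, rfl⟩ := Subgroup.mem_map.1 hs
        exact (hisom y).2 (hNS hy).1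
      phase := fun u => D.phase (fun h2 => by
        rw [hrank]
        rcases h25 (by rw [← hmn, h2]; ring) with h5 | h3
        · exact Or.inl h5
        · rcases hr with h | h
          · exact Or.inr ⟨h, h3⟩
          · exact Or.inl h)
        (by omega) hsemiM u }
  have hns : ¬ AllScalar D (N.map T) := fun hS =>
    hgK ((hsemi g).1 (semi_of_allScalar D hov hS hm (Subgroup.mem_map_of_mem T hgN)))
  refine le_antisymm hNS (UTv.suGL_le_of_full hFn (by omega) fun v hv => UTv.full_of_mem hFn hv fun c hc => ?_)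
  obtain ⟨s, hs, hsx⟩ := EOver.transvection_mem D hov (by omega) (by rw [hrank]; exact hr) hns
    (v := ψ v) (by rw [hψf]; exact hv) hc
  obtain ⟨y, hy, rfl⟩ := Subgroup.mem_map.1 hs
  suffices y = tvec v (UTv.uax q v c) (UTv.uax_dot_self hv c) from this ▸ hy
  refine gl_ext_mulVec fun x => ψ.injective ?_
  rw [← hT, hsx, UTv.utv_mulVec hFn hv, map_add, map_smul, hψf]

/-- Maximality. -/
theorem ext_unitary_maximal (hF : Fintype.card F = q ^ 2) (hr : r = 3 ∨ r = 5) (hn : n = 2 * r ∨ 4 * r ≤ n)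
    (h25 : n = 2 * r → r = 5 ∨ 3 ≤ q) (K : Subalgebra F (Matrix (Fin n) (Fin n) F)) (hK : IsFieldSubalgebra r K)
    (hac : IsAdjointClosedFor (Cfsg.hermForm n F q) K) :
    IsMaximalIn (Cfsg.GU n F q ⊓ specialLinear (Fin n) F)
      (subalgebraNormalizer K ⊓ (Cfsg.GU n F q ⊓ specialLinear (Fin n) F)) :=
  ext_unitary_maximal_of hF hr (hn.imp_right fun h => le_trans (Nat.mul_le_mul_right r (by norm_num)) h) h25 K hK hac

end CfsgLib.Geo.UnitExt
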