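/-
The symplectic subfield group is maximal in the special unitary group.
-/
import Cfsg.Agent.Geo.UnitTv
import Cfsg.Agent.Geo.SubfieldOvergroup

set_option autoImplicit false

namespace CfsgLib.Geo.UTv

open Matrix Cfsg Cfsg.Geo CfsgLib.Geo

variable {n q : ℕ} {F : Type*} [Field F] [Finite F] {hF : Nat.card F = q ^ 2}

/-- The data of a symplectic structure over the small field inside a unitary space. -/
structure SympSub (n q : ℕ) (F : Type*) [Field F] (F₀ : Subfield F) (ζ : F) (P : GL (Fin n) F) : Prop where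
  fixed : ∀ x ∈ F₀, x ^ q = x
  card : Nat.card F₀ = q
  ne_zero : ζ ≠ 0
  skew : ζ + ζ ^ q = 0
  rational : IsFormRationalStructure (Cfsg.hermForm n F q) F₀ ζ P
  alt : ∀ u : Fin n → F, (∀ i, u i ∈ F₀) →
    Cfsg.hermForm n F q ((P : Matrix (Fin n) (Fin n) F) *ᵥ u) ((P : Matrix (Fin n) (Fin n) F) *ᵥ u) = 0

variable {F₀ : Subfield F} {ζ : F} {P : GL (Fin n) F}

/-- The alternating form over the small field. -/
abbrev om (q : ℕ) (ζ : F) (P : GL (Fin n) F) (u v : Fin n → F) : F :=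
  ζ * Cfsg.hermForm n F q ((P : Matrix (Fin n) (Fin n) F) *ᵥ u) ((P : Matrix (Fin n) (Fin n) F) *ᵥ v)

/-- A multiple of a rational vector. -/
def IsRat (F₀ : Subfield F) (P : GL (Fin n) F) (z : Fin n → F) : Prop :=
  ∃ (c : F) (r : Fin n → F), RatVec F₀ r ∧ z = c • ((P : Matrix (Fin n) (Fin n) F) *ᵥ r)

variable (hS : SympSub n q F F₀ ζ P)
include hS hF

omit hF [Finite F] in
lemma om_mem {u v : Fin n → F} (hu : RatVec F₀ u) (hv : RatVec F₀ v) : om q ζ P u v ∈ F₀ :=
  hS.rational u v hu hv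

omit hS in
lemma om_add_left (u u' v : Fin n → F) : om q ζ P (u + u') v = om q ζ P u v + om q ζ P u' v := by
  rw [om, Matrix.mulVec_add, CfsgLib.Unitary.herm_add_left, mul_add]

omit hS in
lemma om_add_right (u v v' : Fin n → F) : om q ζ P u (v + v') = om q ζ P u v + om q ζ P u v' := by
  rw [om, Matrix.mulVec_add, Unit.add_right (isUnitaryForm hF), mul_add]

omit hS in
lemma om_smul_left (c : F) (u v : Fin n → F) : om q ζ P (c • u) v = c * om q ζ P u v := by
  rw [om, Matrix.mulVec_smul, CfsgLib.Unitary.herm_smul_left]; ring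

lemma om_smul_right {c : F} (hc : c ∈ F₀) (u v : Fin n → F) : om q ζ P u (c • v) = c * om q ζ P u v := by
  rw [om, Matrix.mulVec_smul, Unit.smul_right (isUnitaryForm hF), frobEquiv_apply, hS.fixed c hc]; ring

lemma om_self {u : Fin n → F} (hu : RatVec F₀ u) : om q ζ P u u = 0 := by
  rw [om, hS.alt u hu, mul_zero]

lemma om_swap {u v : Fin n → F} (hu : RatVec F₀ u) (hv : RatVec F₀ v) : om q ζ P v u = -om q ζ P u v := by
  have h := om_self (hF := hF) hS (u := u + v) fun i => F₀.add_mem (hu i) (hv i)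
  rw [om_add_left (hF := hF), om_add_right (hF := hF), om_add_right (hF := hF), om_self (hF := hF) hS hu,
    om_self (hF := hF) hS hv] at h
  linear_combination h

lemma exists_s : ∃ s : F, s ^ q ≠ s ∧ ∀ x : F, ∃ a ∈ F₀, ∃ b ∈ F₀, x = a + b * s := by
  obtain ⟨s, hs⟩ : ∃ s : F, s ^ q ≠ s := by
    by_contra h
    push Not at h
    exact (isUnitaryForm hF (n := n)).ne_refl (RingEquiv.ext fun a => by rw [frobEquiv_apply, h]; rfl)
  refine ⟨s, hs, fun x => ?_⟩
  let φ : F₀ × F₀ → F := fun p => (p.1 : F) + (p.2 : F) * s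
  have hinj : Function.Injective φ := by
    rintro ⟨a, b⟩ ⟨a', b'⟩ h
    simp only [φ] at h
    by_cases hb : b = b'
    · subst hb
      exact Prod.ext (Subtype.ext (add_right_cancel h)) rfl
    · have hs0 : s = ((a' : F) - a) / ((b : F) - b') := by
        rw [eq_div_iff (sub_ne_zero.2 fun e => hb (Subtype.ext e))]
        linear_combination h
      exact absurd (hS.fixed s (hs0 ▸ F₀.div_mem (F₀.sub_mem a'.2 a.2) (F₀.sub_mem b.2 b'.2))) hs
  have hbij : Function.Bijective φ :=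
    hinj.bijective_of_nat_card_le (le_of_eq (by rw [Nat.card_prod, hS.card, hF, pow_two]))
  obtain ⟨p, hp⟩ := hbij.2 x
  exact ⟨p.1, p.1.2, p.2, p.2.2, hp.symm⟩

lemma exists_decomp {s : F} (hs : ∀ x : F, ∃ a ∈ F₀, ∃ b ∈ F₀, x = a + b * s) (z : Fin n → F) :
    ∃ e f, RatVec F₀ e ∧ RatVec F₀ f ∧ z = (P : Matrix (Fin n) (Fin n) F) *ᵥ (e + s • f) := by
  choose a ha b hb hab using fun i => hs ((((P⁻¹ : GL (Fin n) F) : Matrix (Fin n) (Fin n) F) *ᵥ z) i)
  refine ⟨a, b, ha, hb, ?_⟩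
  have : a + s • b = ((P⁻¹ : GL (Fin n) F) : Matrix (Fin n) (Fin n) F) *ᵥ z :=
    funext fun i => by rw [hab i, Pi.add_apply, Pi.smul_apply, smul_eq_mul, mul_comm]
  rw [this, mulVec_inv_mulVec]

omit hS in
lemma isRat_of_dep {s : F} {e f : Fin n → F} (he : RatVec F₀ e) (hf : RatVec F₀ f)
    (h : e = 0 ∨ ∃ t ∈ F₀, f = t • e) : IsRat F₀ P ((P : Matrix (Fin n) (Fin n) F) *ᵥ (e + s • f)) := by
  rcases h with rfl | ⟨t, ht, rfl⟩
  · exact ⟨s, f, hf, by rw [zero_add, Matrix.mulVec_smul]⟩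
  · exact ⟨1 + s * t, e, he, by rw [← Matrix.mulVec_smul, add_smul, one_smul, smul_smul]⟩

omit hS in
lemma exists_basis_om {e : Fin n → F} (hζ : ζ ≠ 0) (he : e ≠ 0) :
    ∃ i, om q ζ P e (Pi.single i 1) ≠ 0 := by
  by_contra hc
  push Not at hc
  have hf := isUnitaryForm hF (n := n)
  apply he
  have h0 : (P : Matrix (Fin n) (Fin n) F) *ᵥ e = 0 := by
    refine Unit.eq_zero_of_axis hf (funext fun j => ?_)
    change Cfsg.hermForm n F q (Pi.single j 1) _ = 0
    rw [hf.herm, map_eq_zero, ← mulVec_inv_mulVec P (Pi.single j 1),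
      pi_eq_sum_univ' (((P⁻¹ : GL (Fin n) F) : Matrix (Fin n) (Fin n) F) *ᵥ Pi.single j 1), Matrix.mulVec_sum]
    have hsum : ∀ (a : Fin n → F) (b : Fin n → (Fin n → F)), Cfsg.hermForm n F q a (∑ i, b i) =
        ∑ i, Cfsg.hermForm n F q a (b i) := fun a b => by
      let φ : (Fin n → F) →+ F := AddMonoidHom.mk' (Cfsg.hermForm n F q a) (Unit.add_right hf a)
      exact map_sum φ b _
    rw [hsum]
    refine Finset.sum_eq_zero fun i _ => ?_
    rw [Matrix.mulVec_smul, Unit.smul_right hf, (mul_eq_zero.1 (hc i)).resolve_left hζ, mul_zero]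
  rw [← inv_mulVec_mulVec P e, h0, Matrix.mulVec_zero]

lemma skew_of_rat {x : F} (hx : x ∈ F₀) : ζ * x + (ζ * x) ^ q = 0 := by
  rw [mul_pow, hS.fixed x hx, ← add_mul, hS.skew, zero_mul]

omit hF [Finite F] in
lemma ratVec_sub {u v : Fin n → F} (hu : RatVec F₀ u) (hv : RatVec F₀ v) : RatVec F₀ (u - v) :=
  fun i => F₀.sub_mem (hu i) (hv i)

/-- A rational transvection lies in the subfield subgroup. -/
lemma rat_utv_mem {v : Fin n → F} (hv : RatVec F₀ v) {c : F} (hc : c + c ^ q = 0) :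
    tvec ((P : Matrix (Fin n) (Fin n) F) *ᵥ v) (uax q _ c) (uax_dot_self (hS.alt v hv) c) ∈
      subfieldSubgroup F₀ P ⊓ suGL n F q := by
  refine ⟨?_, utv_mem hF (hS.alt v hv) hc⟩
  set T := tvec ((P : Matrix (Fin n) (Fin n) F) *ᵥ v) (uax q _ c) (uax_dot_self (hS.alt v hv) c) with hT
  refine ⟨P⁻¹ * T * P, Subgroup.mem_sup_left (mem_range_map fun k l => ?_), by simp [MulAut.conj_apply, mul_assoc]⟩
  have hcz : c / ζ ∈ F₀ := by
    obtain ⟨s, hs, hdec⟩ := exists_s (hF := hF) hS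
    obtain ⟨a, ha, b, hb, hab⟩ := hdec (c / ζ)
    have hfix : (c / ζ) ^ q = c / ζ := by
      rw [div_pow, eq_neg_of_add_eq_zero_right hc, eq_neg_of_add_eq_zero_right hS.skew, neg_div_neg_eq]
    have h1 : b * (s ^ q - s) = 0 := by
      rw [hab, ← frobEquiv_apply hF, map_add, map_mul, frobEquiv_apply, frobEquiv_apply, frobEquiv_apply,
        hS.fixed a ha, hS.fixed b hb] at hfix
      linear_combination hfix
    rw [hab, (mul_eq_zero.1 h1).resolve_right (sub_ne_zero.2 hs), zero_mul, add_zero]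
    exact ha
  have e : ((P⁻¹ * T * P : GL (Fin n) F) : Matrix (Fin n) (Fin n) F) *ᵥ Pi.single l 1 =
      Pi.single l 1 + (c / ζ * om q ζ P (Pi.single l 1) v) • v := by
    rw [mul_mulVec, mul_mulVec, hT, utv_mulVec hF (hS.alt v hv), Matrix.mulVec_add, Matrix.mulVec_smul,
      inv_mulVec_mulVec, inv_mulVec_mulVec, om, ← mul_assoc, div_mul_cancel₀ c hS.ne_zero]
  rw [Matrix.mulVec_single_one] at e
  have := congrFun e k
  rw [Matrix.col_apply] at this
  rw [this, Pi.add_apply, Pi.smul_apply, smul_eq_mul]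
  exact F₀.add_mem (ratVec_single l F₀.one_mem k)
    (F₀.mul_mem (F₀.mul_mem hcz (om_mem hS (ratVec_single l F₀.one_mem) hv)) (hv k))

/-- A rational transvection carrying `u` to `u'`. -/
lemma sub_step {u u' : Fin n → F} (hu : RatVec F₀ u) (hu' : RatVec F₀ u') (h : om q ζ P u u' ≠ 0) :
    ∃ T ∈ subfieldSubgroup F₀ P ⊓ suGL n F q,
      (T : Matrix (Fin n) (Fin n) F) *ᵥ ((P : Matrix (Fin n) (Fin n) F) *ᵥ u) =
        (P : Matrix (Fin n) (Fin n) F) *ᵥ u' ∧
      ∀ x, RatVec F₀ x → ∃ x', RatVec F₀ x' ∧ (om q ζ P x u = 0 → om q ζ P x u' = 0 → x' = x) ∧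
        (T : Matrix (Fin n) (Fin n) F) *ᵥ ((P : Matrix (Fin n) (Fin n) F) *ᵥ x) =
          (P : Matrix (Fin n) (Fin n) F) *ᵥ x' := by
  have hv := ratVec_sub hS hu' hu
  have hneg : (-1 : F) ∈ F₀ := F₀.neg_mem F₀.one_mem
  have hsub : ∀ x, om q ζ P x (u' - u) = om q ζ P x u' - om q ζ P x u := fun x => by
    rw [show u' - u = u' + (-1 : F) • u by module, om_add_right (hF := hF), om_smul_right (hF := hF) hS hneg]
    ring
  have hc : ζ * (om q ζ P u u')⁻¹ + (ζ * (om q ζ P u u')⁻¹) ^ q = 0 :=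
    skew_of_rat (hF := hF) hS (F₀.inv_mem (om_mem hS hu hu'))
  refine ⟨_, rat_utv_mem (hF := hF) hS hv hc, ?_, fun x hx =>
    ⟨x + ((om q ζ P u u')⁻¹ * om q ζ P x (u' - u)) • (u' - u), fun i => F₀.add_mem (hx i)
      (F₀.mul_mem (F₀.mul_mem (F₀.inv_mem (om_mem hS hu hu')) (om_mem hS hx hv)) (hv i)),
      fun h1 h2 => by rw [hsub, h1, h2, sub_zero, mul_zero, zero_smul, add_zero], ?_⟩⟩
  · rw [utv_mulVec hF (hS.alt _ hv), mul_comm ζ, mul_assoc,
      show ζ * Cfsg.hermForm n F q _ _ = om q ζ P u (u' - u) from rfl, hsub, om_self (hF := hF) hS hu,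
      sub_zero, inv_mul_cancel₀ h, one_smul, ← Matrix.mulVec_add, add_sub_cancel]
  · rw [utv_mulVec hF (hS.alt _ hv), Matrix.mulVec_add, Matrix.mulVec_smul, mul_comm ζ, mul_assoc]

/-- Totally isotropic rational pairs are conjugate inside the subfield group. -/
lemma sub_pair {e f e' f' : Fin n → F} (he : RatVec F₀ e) (hf : RatVec F₀ f) (he' : RatVec F₀ e')
    (hf' : RatVec F₀ f') (hind : e ≠ 0 ∧ ∀ t ∈ F₀, f ≠ t • e) (hind' : e' ≠ 0 ∧ ∀ t ∈ F₀, f' ≠ t • e')
    (hef : om q ζ P e f = 0) (hef' : om q ζ P e' f' = 0) :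
    ∃ T ∈ subfieldSubgroup F₀ P ⊓ suGL n F q,
      (T : Matrix (Fin n) (Fin n) F) *ᵥ ((P : Matrix (Fin n) (Fin n) F) *ᵥ e) =
        (P : Matrix (Fin n) (Fin n) F) *ᵥ e' ∧
      (T : Matrix (Fin n) (Fin n) F) *ᵥ ((P : Matrix (Fin n) (Fin n) F) *ᵥ f) =
        (P : Matrix (Fin n) (Fin n) F) *ᵥ f' := by
  have hsw : ∀ u v, RatVec F₀ u → RatVec F₀ v → om q ζ P v u = -om q ζ P u v := fun u v =>
    om_swap (hF := hF) hS
  have hboth : ∀ u v (C : (Fin n → F) → Prop), (∀ a b, C a → C b → C (a + b)) →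
      (∃ a, RatVec F₀ a ∧ C a ∧ om q ζ P u a ≠ 0) → (∃ b, RatVec F₀ b ∧ C b ∧ om q ζ P v b ≠ 0) →
      ∃ x, RatVec F₀ x ∧ C x ∧ om q ζ P u x ≠ 0 ∧ om q ζ P v x ≠ 0 := by
    rintro u v C hC ⟨a, ha, hCa, hua⟩ ⟨b, hb, hCb, hvb⟩
    by_cases hva : om q ζ P v a = 0
    · by_cases hub : om q ζ P u b = 0
      · exact ⟨a + b, fun i => F₀.add_mem (ha i) (hb i), hC a b hCa hCb,
          by rwa [om_add_right (hF := hF), hub, add_zero], by rwa [om_add_right (hF := hF), hva, zero_add]⟩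
      · exact ⟨b, hb, hCb, hub, hvb⟩
    · exact ⟨a, ha, hCa, hua, hva⟩
  -- move the first vector
  obtain ⟨T1, hT1, e1, f1, hf1, h1⟩ : ∃ T ∈ subfieldSubgroup F₀ P ⊓ suGL n F q,
      (T : Matrix (Fin n) (Fin n) F) *ᵥ ((P : Matrix (Fin n) (Fin n) F) *ᵥ e) =
        (P : Matrix (Fin n) (Fin n) F) *ᵥ e' ∧ ∃ f1, RatVec F₀ f1 ∧
      (T : Matrix (Fin n) (Fin n) F) *ᵥ ((P : Matrix (Fin n) (Fin n) F) *ᵥ f) =
        (P : Matrix (Fin n) (Fin n) F) *ᵥ f1 := by
    by_cases h : om q ζ P e e' = 0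
    · obtain ⟨i, hi⟩ := exists_basis_om (hF := hF) (q := q) (P := P) hS.ne_zero hind.1
      obtain ⟨j, hj⟩ := exists_basis_om (hF := hF) (q := q) (P := P) hS.ne_zero hind'.1
      obtain ⟨x, hx, -, hex, he'x⟩ := hboth e e' (fun _ => True) (fun _ _ _ _ => trivial)
        ⟨_, ratVec_single i F₀.one_mem, trivial, hi⟩ ⟨_, ratVec_single j F₀.one_mem, trivial, hj⟩
      obtain ⟨A, hA, a1, a2⟩ := sub_step (hF := hF) hS he hx hex
      obtain ⟨f1, hf1, -, a3⟩ := a2 f hf
      obtain ⟨B, hB, b1, b2⟩ := sub_step (hF := hF) hS hx he' (by rw [hsw e' x he' hx, neg_ne_zero]; exact he'x)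
      obtain ⟨f2, hf2, -, b3⟩ := b2 f1 hf1
      exact ⟨B * A, Subgroup.mul_mem _ hB hA, by rw [mul_mulVec, a1, b1], f2, hf2, by rw [mul_mulVec, a3, b3]⟩
    · obtain ⟨A, hA, a1, a2⟩ := sub_step (hF := hF) hS he he' h
      obtain ⟨f1, hf1, -, a3⟩ := a2 f hf
      exact ⟨A, hA, a1, f1, hf1, a3⟩
  have hef1 : om q ζ P e' f1 = 0 := by
    rw [om, ← e1, ← h1, herm_mulVec hT1.2]; exact hef
  have hind1 : ∀ t ∈ F₀, f1 ≠ t • e' := by
    intro t ht heq
    apply hind.2 t ht
    have h2 : (T1 : Matrix (Fin n) (Fin n) F) *ᵥ ((P : Matrix (Fin n) (Fin n) F) *ᵥ f) =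
        (T1 : Matrix (Fin n) (Fin n) F) *ᵥ ((P : Matrix (Fin n) (Fin n) F) *ᵥ (t • e)) := by
      rw [h1, heq, Matrix.mulVec_smul, Matrix.mulVec_smul, Matrix.mulVec_smul, e1]
    have h3 := congrArg (fun w => ((P⁻¹ : GL (Fin n) F) : Matrix (Fin n) (Fin n) F) *ᵥ
      (((T1⁻¹ : GL (Fin n) F) : Matrix (Fin n) (Fin n) F) *ᵥ w)) h2
    simpa [inv_mulVec_mulVec] using h3
  have hperp : ∀ g0 : Fin n → F, RatVec F₀ g0 → (∀ t ∈ F₀, g0 ≠ t • e') →
      ∃ a, RatVec F₀ a ∧ om q ζ P e' a = 0 ∧ om q ζ P g0 a ≠ 0 := by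
    intro g0 hg0 hind0
    obtain ⟨i, hi⟩ := exists_basis_om (hF := hF) (q := q) (P := P) hS.ne_zero hind'.1
    by_contra hc
    push Not at hc
    set t := om q ζ P g0 (Pi.single i 1) / om q ζ P e' (Pi.single i 1)
    have ht : t ∈ F₀ := F₀.div_mem (om_mem hS hg0 (ratVec_single i F₀.one_mem))
      (om_mem hS he' (ratVec_single i F₀.one_mem))
    refine hind0 t ht (sub_eq_zero.1 (by_contra fun hne => ?_))
    obtain ⟨j, hj⟩ := exists_basis_om (hF := hF) (q := q) (P := P) hS.ne_zero hne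
    set c := om q ζ P e' (Pi.single j 1) / om q ζ P e' (Pi.single i 1)
    have hc0 : c ∈ F₀ := F₀.div_mem (om_mem hS he' (ratVec_single j F₀.one_mem))
      (om_mem hS he' (ratVec_single i F₀.one_mem))
    have := hc (Pi.single j 1 + (-c) • Pi.single i 1)
      (fun k => F₀.add_mem (ratVec_single j F₀.one_mem k)
        (F₀.mul_mem (F₀.neg_mem hc0) (ratVec_single i F₀.one_mem k)))
      (by rw [om_add_right (hF := hF), om_smul_right (hF := hF) hS (F₀.neg_mem hc0), neg_mul,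
        div_mul_cancel₀ _ hi, add_neg_cancel])
    rw [om_add_right (hF := hF), om_smul_right (hF := hF) hS (F₀.neg_mem hc0)] at this
    apply hj
    rw [show g0 - t • e' = g0 + (-t) • e' by module, om_add_left (hF := hF), om_smul_left (hF := hF)]
    simp only [t, c] at this ⊢
    field_simp at this ⊢
    linear_combination this
  by_cases h : om q ζ P f1 f' = 0
  · obtain ⟨x, hx, hex, h2, h3⟩ := hboth f1 f' (fun a => om q ζ P e' a = 0)
      (fun a b ha hb => by rw [om_add_right (hF := hF), ha, hb, add_zero]) (hperp f1 hf1 hind1)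
      (hperp f' hf' hind'.2)
    obtain ⟨A, hA, a1, a2⟩ := sub_step (hF := hF) hS hf1 hx h2
    obtain ⟨B, hB, b1, b2⟩ := sub_step (hF := hF) hS hx hf' (by rw [hsw f' x hf' hx, neg_ne_zero]; exact h3)
    obtain ⟨ea, -, hfa, a3⟩ := a2 e' he'
    obtain ⟨eb, -, hfb, b3⟩ := b2 e' he'
    rw [hfa hef1 hex] at a3
    rw [hfb hex hef'] at b3
    exact ⟨B * A * T1, Subgroup.mul_mem _ (Subgroup.mul_mem _ hB hA) hT1,
      by rw [mul_mulVec, mul_mulVec, e1, a3, b3], by rw [mul_mulVec, mul_mulVec, h1, a1, b1]⟩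
  · obtain ⟨A, hA, a1, a2⟩ := sub_step (hF := hF) hS hf1 hf' h
    obtain ⟨ea, -, hfa, a3⟩ := a2 e' he'
    rw [hfa hef1 hef'] at a3
    exact ⟨A * T1, Subgroup.mul_mem _ hA hT1, by rw [mul_mulVec, e1, a3], by rw [mul_mulVec, h1, a1]⟩

theorem sympSub_key (hn : 4 ≤ n) {M : Subgroup (GL (Fin n) F)} (hM : subfieldSubgroup F₀ P ⊓ suGL n F q ≤ M)
    (hMI : M ≤ suGL n F q) (hMX : ¬ M ≤ subfieldSubgroup F₀ P) : suGL n F q ≤ M := by
  classical
  have hfull : ∀ z, IsRat F₀ P z → Full q M z := by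
    rintro _ ⟨c, r, hr, rfl⟩
    exact full_smul hF (full_of_mem hF (hS.alt r hr) fun d hd => hM (rat_utv_mem (hF := hF) hS hr hd)) c
  obtain ⟨g, hgM, hgX⟩ := SetLike.not_le_iff_exists.1 hMX
  -- a full centre outside the rational points
  obtain ⟨z, hzF, hz⟩ : ∃ z, Full q M z ∧ ¬ IsRat F₀ P z := by
    by_contra hcon
    push Not at hcon
    have him : ∀ r, RatVec F₀ r →
        IsRat F₀ P ((g : Matrix (Fin n) (Fin n) F) *ᵥ ((P : Matrix (Fin n) (Fin n) F) *ᵥ r)) := fun r hr =>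
      hcon _ (full_conj hF hMI (hfull _ ⟨1, r, hr, (one_smul F _).symm⟩) hgM)
    choose lam R hR hg using fun i => him (Pi.single i 1) (ratVec_single i F₀.one_mem)
    set A : GL (Fin n) F := P⁻¹ * g * P with hA
    have hAcol : ∀ i, (A : Matrix (Fin n) (Fin n) F) *ᵥ Pi.single i 1 = lam i • R i := fun i => by
      rw [hA, mul_mulVec, mul_mulVec, hg, Matrix.mulVec_smul, inv_mulVec_mulVec]
    have hAinj : ∀ x : Fin n → F, (A : Matrix (Fin n) (Fin n) F) *ᵥ x = 0 → x = 0 := fun x hx => by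
      rw [← inv_mulVec_mulVec A x, hx, Matrix.mulVec_zero]
    have hlam0 : ∀ i, lam i ≠ 0 := fun i h0 => by
      have h1 := congrFun (hAinj (Pi.single i 1) (by rw [hAcol, h0, zero_smul])) i
      simp at h1
    have hratio : ∀ i j, i ≠ j → lam j / lam i ∈ F₀ := by
      intro i j hij
      obtain ⟨mu, R', hR', hg'⟩ := him (Pi.single i 1 + Pi.single j 1) (fun k =>
        F₀.add_mem (ratVec_single i F₀.one_mem k) (ratVec_single j F₀.one_mem k))
      have hsum : lam i • R i + lam j • R j = mu • R' := by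
        rw [← hAcol, ← hAcol, ← Matrix.mulVec_add, hA, mul_mulVec, mul_mulVec, hg', Matrix.mulVec_smul,
          inv_mulVec_mulVec]
      obtain ⟨k, hk⟩ : ∃ k, R i k ≠ 0 := by
        by_contra hall
        push Not at hall
        have h0 : R i = 0 := funext hall
        have := congrFun (hAinj (Pi.single i 1) (by rw [hAcol, h0, smul_zero])) i
        simp at this
      obtain ⟨l, hl⟩ : ∃ l, R i k * R j l - R i l * R j k ≠ 0 := by
        by_contra hall
        push Not at hall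
        have h0 : (A : Matrix (Fin n) (Fin n) F) *ᵥ
            ((R i k / lam j) • Pi.single j 1 - (R j k / lam i) • Pi.single i 1) = 0 := by
          rw [Matrix.mulVec_sub, Matrix.mulVec_smul, Matrix.mulVec_smul, hAcol, hAcol, smul_smul, smul_smul,
            div_mul_cancel₀ _ (hlam0 j), div_mul_cancel₀ _ (hlam0 i)]
          funext l
          simp only [Pi.sub_apply, Pi.smul_apply, smul_eq_mul, Pi.zero_apply]
          linear_combination hall l
        have := congrFun (hAinj _ h0) j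
        simp [Ne.symm hij, hk, hlam0 j] at this
      have h1 := congrFun hsum k
      have h2 := congrFun hsum l
      simp only [Pi.add_apply, Pi.smul_apply, smul_eq_mul] at h1 h2
      set d := R i k * R j l - R i l * R j k
      have hmu : mu ≠ 0 := by
        rintro rfl
        refine hlam0 i ((mul_eq_zero.1 (show lam i * d = 0 by simp only [d]; linear_combination R j l * h1 - R j k * h2)).resolve_right hl)
      have e1 : lam i * d = mu * (R' k * R j l - R' l * R j k) := by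
        simp only [d]; linear_combination R j l * h1 - R j k * h2
      have e2 : lam j * d = mu * (R i k * R' l - R i l * R' k) := by
        simp only [d]; linear_combination R i k * h2 - R i l * h1
      have hne : R' k * R j l - R' l * R j k ≠ 0 := fun h0 => by
        rw [h0, mul_zero] at e1
        exact hlam0 i ((mul_eq_zero.1 e1).resolve_right hl)
      have : lam j / lam i = (R i k * R' l - R i l * R' k) / (R' k * R j l - R' l * R j k) := by
        rw [← mul_div_mul_right (lam j) (lam i) hl, e1, e2, mul_div_mul_left _ _ hmu]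
      rw [this]
      exact F₀.div_mem (F₀.sub_mem (F₀.mul_mem (hR i k) (hR' l)) (F₀.mul_mem (hR i l) (hR' k)))
        (F₀.sub_mem (F₀.mul_mem (hR' k) (hR j l)) (F₀.mul_mem (hR' l) (hR j k)))
    let i₀ : Fin n := ⟨0, by omega⟩
    refine hgX ⟨A, mem_ratScalar_of_scaled (inv_ne_zero (hlam0 i₀)) fun k l => ?_,
      by simp [hA, MulAut.conj_apply, mul_assoc]⟩
    have hkl : (A : Matrix (Fin n) (Fin n) F) k l = lam l * R l k := by
      have := congrFun (hAcol l) k
      rwa [Matrix.mulVec_single_one, Matrix.col_apply, Pi.smul_apply, smul_eq_mul] at this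
    rw [hkl, ← mul_assoc, ← div_eq_inv_mul]
    refine F₀.mul_mem ?_ (hR l k)
    rcases eq_or_ne i₀ l with rfl | h
    · rw [div_self (hlam0 _)]; exact F₀.one_mem
    · exact hratio i₀ l h
  obtain ⟨s, hs, hdec⟩ := exists_s (hF := hF) hS
  -- isotropic irrational points come from totally isotropic rational pairs
  have hshape : ∀ y, Cfsg.hermForm n F q y y = 0 → ¬ IsRat F₀ P y → ∃ e f, RatVec F₀ e ∧ RatVec F₀ f ∧
      y = (P : Matrix (Fin n) (Fin n) F) *ᵥ (e + s • f) ∧ (e ≠ 0 ∧ ∀ t ∈ F₀, f ≠ t • e) ∧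
      om q ζ P e f = 0 := by
    intro y hy hyR
    obtain ⟨e, f, he, hf, rfl⟩ := exists_decomp (hF := hF) hS hdec y
    refine ⟨e, f, he, hf, rfl, ⟨fun h0 => hyR (isRat_of_dep (hF := hF) he hf (Or.inl h0)),
      fun t ht h0 => hyR (isRat_of_dep (hF := hF) he hf (Or.inr ⟨t, ht, h0⟩))⟩, ?_⟩
    have hu := isUnitaryForm hF (n := n)
    have h1 := congrArg (fun w => ζ * w) hy
    simp only [Matrix.mulVec_add, Matrix.mulVec_smul, hu.add_left, Unit.add_right hu, hu.smul_left,
      Unit.smul_right hu, frobEquiv_apply, hS.alt e he, hS.alt f hf, mul_zero, add_zero, zero_add] at h1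
    have h2 : om q ζ P e f * (s ^ q - s) = 0 := by
      have h3 := om_swap (hF := hF) hS he hf
      simp only [om] at h3 ⊢
      linear_combination h1 - s * h3
    exact (mul_eq_zero.1 h2).resolve_right (sub_ne_zero.2 hs)
  obtain ⟨e, f, he, hf, rfl, hind, hef⟩ := hshape z hzF.1 hz
  refine suGL_le_of_full hF hn fun y hy => ?_
  by_cases hyR : IsRat F₀ P y
  · exact hfull y hyR
  obtain ⟨e', f', he', hf', rfl, hind', hef'⟩ := hshape y hy hyR
  obtain ⟨T, hT, t1, t2⟩ := sub_pair (hF := hF) hS he hf he' hf' hind hind' hef hef'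
  have h1 := full_conj hF hMI hzF (hM hT)
  rwa [Matrix.mulVec_add, Matrix.mulVec_smul, Matrix.mulVec_add, Matrix.mulVec_smul, t1, t2,
    ← Matrix.mulVec_smul, ← Matrix.mulVec_add] at h1

theorem sympSub_proper (hn : 3 ≤ n) : ¬ suGL n F q ≤ subfieldSubgroup F₀ P := by
  classical
  have hu := isUnitaryForm hF (n := n)
  intro hle
  obtain ⟨s, hs, hdec⟩ := exists_s (hF := hF) hS
  let i : Fin n := ⟨0, by omega⟩
  set e : Fin n → F := Pi.single i 1 with hedef
  have he : RatVec F₀ e := ratVec_single i F₀.one_mem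
  have he0 : e ≠ 0 := by simp [hedef]
  obtain ⟨k, hk⟩ := exists_basis_om (hF := hF) (q := q) (P := P) hS.ne_zero he0
  obtain ⟨j, hji, hjk⟩ : ∃ j : Fin n, j ≠ i ∧ j ≠ k := by
    by_contra hc
    push Not at hc
    have : (Finset.univ : Finset (Fin n)) ⊆ {i, k} := fun x _ => by
      by_cases hx : x = i
      · simp [hx]
      · simp [hc x hx]
    have := (Finset.card_le_card this).trans Finset.card_le_two
    simp at this
    omega
  set c := om q ζ P e (Pi.single j 1) / om q ζ P e (Pi.single k 1)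
  have hc0 : c ∈ F₀ := F₀.div_mem (om_mem hS he (ratVec_single j F₀.one_mem))
    (om_mem hS he (ratVec_single k F₀.one_mem))
  set f : Fin n → F := Pi.single j 1 + (-c) • Pi.single k 1 with hfdef
  have hf : RatVec F₀ f := fun l => F₀.add_mem (ratVec_single j F₀.one_mem l)
    (F₀.mul_mem (F₀.neg_mem hc0) (ratVec_single k F₀.one_mem l))
  have hef : om q ζ P e f = 0 := by
    rw [hfdef, om_add_right (hF := hF), om_smul_right (hF := hF) hS (F₀.neg_mem hc0), neg_mul,
      div_mul_cancel₀ _ hk, add_neg_cancel]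
  have hfe : ∀ t : F, f ≠ t • e := fun t h => by
    have := congrFun h j
    simp [hfdef, hedef, hji, hjk] at this
  -- an irrational isotropic point
  set z := (P : Matrix (Fin n) (Fin n) F) *ᵥ (e + s • f) with hz
  have hhef : ζ * Cfsg.hermForm n F q ((P : Matrix (Fin n) (Fin n) F) *ᵥ e) ((P : Matrix (Fin n) (Fin n) F) *ᵥ f) = 0 :=
    hef
  have hef0 := (mul_eq_zero.1 hhef).resolve_left hS.ne_zero
  have hzz : Cfsg.hermForm n F q z z = 0 := by
    simp only [hz, Matrix.mulVec_add, Matrix.mulVec_smul, hu.add_left, Unit.add_right hu, hu.smul_left,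
      Unit.smul_right hu, hS.alt e he, hS.alt f hf, hef0,
      hu.herm ((P : Matrix (Fin n) (Fin n) F) *ᵥ f) ((P : Matrix (Fin n) (Fin n) F) *ᵥ e), map_zero,
      mul_zero, add_zero]
  -- a rational point sent outside the rational points
  obtain ⟨x, hx, hxe, hxf⟩ : ∃ x, RatVec F₀ x ∧ om q ζ P e x = 0 ∧ om q ζ P f x ≠ 0 := by
    by_contra hcc
    push Not at hcc
    set t := om q ζ P f (Pi.single k 1) / om q ζ P e (Pi.single k 1)
    refine hfe t (sub_eq_zero.1 (by_contra fun hne => ?_))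
    obtain ⟨l, hl⟩ := exists_basis_om (hF := hF) (q := q) (P := P) hS.ne_zero hne
    set d := om q ζ P e (Pi.single l 1) / om q ζ P e (Pi.single k 1)
    have hd0 : d ∈ F₀ := F₀.div_mem (om_mem hS he (ratVec_single l F₀.one_mem))
      (om_mem hS he (ratVec_single k F₀.one_mem))
    have := hcc (Pi.single l 1 + (-d) • Pi.single k 1)
      (fun x => F₀.add_mem (ratVec_single l F₀.one_mem x)
        (F₀.mul_mem (F₀.neg_mem hd0) (ratVec_single k F₀.one_mem x)))
      (by rw [om_add_right (hF := hF), om_smul_right (hF := hF) hS (F₀.neg_mem hd0), neg_mul,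
        div_mul_cancel₀ _ hk, add_neg_cancel])
    rw [om_add_right (hF := hF), om_smul_right (hF := hF) hS (F₀.neg_mem hd0)] at this
    apply hl
    rw [show f - t • e = f + (-t) • e by module, om_add_left (hF := hF), om_smul_left (hF := hF)]
    simp only [t, d] at this ⊢
    field_simp at this ⊢
    linear_combination this
  obtain ⟨cc, hcc0, hcc⟩ := Unit.exists_skew hu.ne_refl hu.involutive
  have hcc' : cc + cc ^ q = 0 := by rw [← frobEquiv_apply hF, hcc, add_neg_cancel]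
  set T := tvec z (uax q z cc) (uax_dot_self hzz cc) with hT
  have hTX := hle (utv_mem hF hzz hcc')
  -- the image of the rational point
  set w := cc * Cfsg.hermForm n F q ((P : Matrix (Fin n) (Fin n) F) *ᵥ x) z with hw
  have hwval : w = cc / ζ * s ^ q * om q ζ P x f := by
    have h1 : om q ζ P x e = 0 := by rw [om_swap (hF := hF) hS he hx, hxe, neg_zero]
    have h2 : Cfsg.hermForm n F q ((P : Matrix (Fin n) (Fin n) F) *ᵥ x) ((P : Matrix (Fin n) (Fin n) F) *ᵥ e) = 0 :=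
      (mul_eq_zero.1 h1).resolve_left hS.ne_zero
    rw [hw, hz, Matrix.mulVec_add, Matrix.mulVec_smul, Unit.add_right hu, Unit.smul_right hu, h2, zero_add,
      frobEquiv_apply, om, div_mul_eq_mul_div, div_mul_eq_mul_div, eq_div_iff hS.ne_zero]
    ring
  obtain ⟨A, hA, hAT⟩ := hTX
  obtain ⟨d, hd0, hdA⟩ := exists_scaled_of_mem hA
  have hcol : RatVec F₀ (d • ((A : Matrix (Fin n) (Fin n) F) *ᵥ x)) := fun l => by
    simp only [Pi.smul_apply, smul_eq_mul, Matrix.mulVec, dotProduct, Finset.mul_sum, ← mul_assoc]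
    exact F₀.sum_mem fun y _ => F₀.mul_mem (hdA l y) (hx y)
  have hAx : (A : Matrix (Fin n) (Fin n) F) *ᵥ x = x + w • e + (w * s) • f := by
    have h1 : T = P * A * P⁻¹ := by rw [hT, ← hAT]; rfl
    have h2 : (A : Matrix (Fin n) (Fin n) F) *ᵥ x = ((P⁻¹ : GL (Fin n) F) : Matrix (Fin n) (Fin n) F) *ᵥ
        ((T : Matrix (Fin n) (Fin n) F) *ᵥ ((P : Matrix (Fin n) (Fin n) F) *ᵥ x)) := by
      rw [h1, mul_mulVec, mul_mulVec, inv_mulVec_mulVec, inv_mulVec_mulVec]
    rw [h2, hT, utv_mulVec hF hzz, ← hw, hz, ← Matrix.mulVec_smul, ← Matrix.mulVec_add, inv_mulVec_mulVec,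
      smul_add, smul_smul, add_assoc]
  rw [hAx] at hcol
  have hcz : cc / ζ ∈ F₀ := by
    obtain ⟨a, ha, b, hb, hab⟩ := hdec (cc / ζ)
    have hfix : (cc / ζ) ^ q = cc / ζ := by
      rw [div_pow, eq_neg_of_add_eq_zero_right hcc', eq_neg_of_add_eq_zero_right hS.skew, neg_div_neg_eq]
    have h1 : b * (s ^ q - s) = 0 := by
      rw [hab, ← frobEquiv_apply hF, map_add, map_mul, frobEquiv_apply, frobEquiv_apply, frobEquiv_apply,
        hS.fixed a ha, hS.fixed b hb] at hfix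
      linear_combination hfix
    rw [hab, (mul_eq_zero.1 h1).resolve_right (sub_ne_zero.2 hs), zero_mul, add_zero]
    exact ha
  have hxf' : om q ζ P x f ≠ 0 := by rw [om_swap (hF := hF) hS hf hx, neg_ne_zero]; exact hxf
  -- pairing with rational vectors
  have hp : ∀ y, RatVec F₀ y → d * (om q ζ P x y + w * om q ζ P e y + w * s * om q ζ P f y) ∈ F₀ := by
    intro y hy
    have h1 := om_mem hS hcol hy
    rwa [om_smul_left (hF := hF), om_add_left (hF := hF), om_add_left (hF := hF), om_smul_left (hF := hF),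
      om_smul_left (hF := hF)] at h1
  have hdF : d ∈ F₀ := by
    have h1 := hp f hf
    rw [hef, om_self (hF := hF) hS hf, mul_zero, mul_zero, add_zero, add_zero] at h1
    have h2 := F₀.div_mem h1 (om_mem hS hx hf)
    rwa [mul_div_cancel_right₀ _ hxf'] at h2
  have hwsF : w * s ∈ F₀ := by
    have h1 := hp x hx
    rw [hxe, om_self (hF := hF) hS hx, mul_zero, zero_add, zero_add] at h1
    have h2 := F₀.div_mem h1 (F₀.mul_mem hdF (om_mem hS hf hx))
    rwa [show d * (w * s * om q ζ P f x) = w * s * (d * om q ζ P f x) by ring,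
      mul_div_cancel_right₀ _ (mul_ne_zero hd0 hxf)] at h2
  obtain ⟨l, hl⟩ := exists_basis_om (hF := hF) (q := q) (P := P) hS.ne_zero he0
  have hwF : w ∈ F₀ := by
    have hy := ratVec_single l F₀.one_mem
    have h1 := F₀.div_mem (hp _ hy) hdF
    rw [mul_div_cancel_left₀ _ hd0] at h1
    have h2 := F₀.div_mem (F₀.sub_mem (F₀.sub_mem h1 (om_mem hS hx hy))
      (F₀.mul_mem hwsF (om_mem hS hf hy))) (om_mem hS he hy)
    rwa [show om q ζ P x (Pi.single l 1) + w * om q ζ P e (Pi.single l 1) + w * s * om q ζ P f (Pi.single l 1) -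
      om q ζ P x (Pi.single l 1) - w * s * om q ζ P f (Pi.single l 1) = w * om q ζ P e (Pi.single l 1) by ring,
      mul_div_cancel_right₀ _ hl] at h2
  have hne : cc / ζ * om q ζ P x f ≠ 0 := mul_ne_zero (div_ne_zero hcc0 hS.ne_zero) hxf'
  have hsF : s ^ q ∈ F₀ := by
    have h1 := F₀.div_mem hwF (F₀.mul_mem hcz (om_mem hS hx hf))
    rwa [hwval, show cc / ζ * s ^ q * om q ζ P x f = s ^ q * (cc / ζ * om q ζ P x f) by ring,
      mul_div_cancel_right₀ _ hne] at h1
  have h1 := hS.fixed _ hsF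
  rw [← frobEquiv_apply hF, ← frobEquiv_apply hF, hu.involutive] at h1
  exact hs (by rw [← frobEquiv_apply hF]; exact h1.symm)

end CfsgLib.Geo.UTv
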