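/-
The maximality results for the geometric classes of the special unitary group, for n at least ten.
-/
import Cfsg.Agent.Geo.UnitSubspace
import Cfsg.Agent.Geo.UnitFrameMax
import Cfsg.Agent.Geo.UnitSingularPair
import Cfsg.Agent.Geo.UnitSubfieldOvergroup
import Cfsg.Agent.Geo.UnitOrthogonalSub
import Cfsg.Agent.Geo.UnitSymplecticSub
import Cfsg.Agent.Geo.TensorUnitBridge
import Cfsg.Agent.Geo.UnitExtBridge

set_option autoImplicit false

namespace CfsgLib.Geo.UnitAll

open Cfsg Cfsg.Geo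

variable {F : Type*} [Field F] [Fintype F] {n q : ℕ} (hF : Fintype.card F = q ^ 2)

local notation "suG" => Cfsg.GU n F q ⊓ Cfsg.Geo.specialLinear (Fin n) F

include hF

lemma natCard : Nat.card F = q ^ 2 := by rw [Nat.card_eq_fintype_card, hF]

theorem singular (hn : 4 ≤ n) {W : Submodule F (Fin n → F)} (hW0 : W ≠ ⊥)
    (hW : IsTotallySingularFor (Cfsg.hermForm n F q) W) : IsMaximalIn suG (subspaceStabilizer W ⊓ suG) :=
  isMaximalIn_of_key (UTv.singular_proper (natCard hF) hW hW0)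
    fun _ h1 h2 h3 => UTv.singular_key (natCard hF) hn hW h1 h2 h3

theorem nondeg (hn : 4 ≤ n) {W : Submodule F (Fin n → F)} (hW0 : W ≠ ⊥)
    (hW : IsNondegenerateOn (Cfsg.hermForm n F q) W) (hd : 2 * Module.finrank F W < n)
    (h6 : Module.finrank F W + 4 ≤ n) : IsMaximalIn suG (subspaceStabilizer W ⊓ suG) :=
  isMaximalIn_of_key (UTv.nondeg_proper (natCard hF) hW hW0 (by omega))
    fun _ h1 h2 h3 => UTv.nondeg_key (natCard hF) hW h1 h2 hn (by omega) hd h3

theorem decomp (hn : 10 ≤ n) {t k : ℕ} {D : Fin t → Submodule F (Fin n → F)}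
    (hD : IsNondegenerateMDecomposition (Cfsg.hermForm n F q) k D) (hex : ¬ (k = 2 ∧ q = 2)) :
    IsMaximalIn suG (decompositionStabilizer D ⊓ suG) := by
  rcases (show k = 1 ∨ 2 ≤ k by have := hD.decomp.pos; omega) with rfl | hk
  · exact UFrame.frame_maximal (natCard hF) hn hD
  · exact isMaximalIn_of_key (UTv.decomp_proper (natCard hF) hD hk)
      fun M hM hMI hMX => UTv.decomp_key (natCard hF) hD hk hex hM hMI hMX

theorem lagrangian {k : ℕ} (hk : 3 ≤ k) {D : Fin 2 → Submodule F (Fin n → F)} (hD : IsMDecomposition k D)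
    (hts : ∀ i, IsTotallySingularFor (Cfsg.hermForm n F q) (D i)) :
    IsMaximalIn suG (decompositionStabilizer D ⊓ suG) := by
  have h : UTv.UPair q (D 0) (D 1) :=
    { singW := hts 0
      singU := hts 1
      split := fun x => by
        have e : iSup D ≤ D 0 ⊔ D 1 := iSup_le fun i => by
          fin_cases i
          · exact le_sup_left
          · exact le_sup_right
        obtain ⟨w, hw, u, hu, e⟩ := Submodule.mem_sup.1 (e (hD.iSup_eq_top ▸ Submodule.mem_top) : x ∈ D 0 ⊔ D 1)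
        exact ⟨w, hw, u, hu, e.symm⟩
      disj := fun x hx hx' =>
        Submodule.disjoint_def.1 (hD.indep.pairwiseDisjoint (by decide : (0 : Fin 2) ≠ 1)) x hx hx' }
  exact isMaximalIn_of_key (UTv.uPair_proper (natCard hF) D hD h (by omega))
    fun _ h1 h2 h3 => UTv.uPair_key (natCard hF) D hD h hk h1 h2 h3

theorem tensor {n₁ n₂ : ℕ} (h1 : 2 ≤ n₁) (h12 : n₁ < n₂) (h4 : 4 ≤ n₂) (hex : ¬ (n₁ = 2 ∧ q = 2))
    (e : Fin n ≃ Fin n₁ × Fin n₂) (P : GL (Fin n) F)
    {f₁ : (Fin n₁ → F) → (Fin n₁ → F) → F} {f₂ : (Fin n₂ → F) → (Fin n₂ → F) → F}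
    (hf₁ : IsUnitaryFormPow q f₁) (hf₂ : IsUnitaryFormPow q f₂)
    (hT : IsTensorFormStructure (fun x : F => x ^ q) (Cfsg.hermForm n F q) f₁ f₂ e P) :
    IsMaximalIn suG (tensorProductSubgroup n₁ n₂ e P ⊓ suG) :=
  TensorU.tensor_unitary_maximal (natCard hF) h1 h12 h4 hex e P hf₁ hf₂ hT

theorem subfieldOdd (hn : 6 ≤ n) {F₀ : Subfield F} {r : ℕ} {P : GL (Fin n) F} (hr : r.Prime) (hro : Odd r)
    (hcard : Fintype.card F = Nat.card F₀ ^ r)
    (hP : IsFormRationalStructure (Cfsg.hermForm n F q) F₀ 1 P) :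
    IsMaximalIn suG (subfieldSubgroup F₀ P ⊓ suG) := by
  have hcard' : Nat.card F = Nat.card F₀ ^ r := by rw [Nat.card_eq_fintype_card, hcard]
  have hS : UTv.UnitSub n q F F₀ P := ⟨UTv.moves_of_odd (natCard hF) hr hro hcard', hP⟩
  exact isMaximalIn_of_key (UTv.unitSub_proper (natCard hF) hS hn hr hcard')
    fun M h1 h2 h3 => UTv.unitSub_key (natCard hF) hS hn hr hro hcard' h1 h2 h3

lemma fixed_of_card {F₀ : Subfield F} (hcard : Fintype.card F = Nat.card F₀ ^ 2) :
    Nat.card F₀ = q ∧ ∀ x ∈ F₀, x ^ q = x := by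
  have hq : Nat.card F₀ = q := Nat.pow_left_injective (by norm_num) (hcard.symm.trans hF)
  haveI := Fintype.ofFinite F₀
  refine ⟨hq, fun x hx => ?_⟩
  have h1 := FiniteField.pow_card (⟨x, hx⟩ : F₀)
  rw [← Nat.card_eq_fintype_card, hq] at h1
  exact congrArg Subtype.val h1

theorem subfieldSymp (hn : 4 ≤ n) {F₀ : Subfield F} {P : GL (Fin n) F} {ζ : F}
    (hcard : Fintype.card F = Nat.card F₀ ^ 2) (hζ0 : ζ ≠ 0) (hζ : ζ + ζ ^ q = 0)
    (hP : IsFormRationalStructure (Cfsg.hermForm n F q) F₀ ζ P)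
    (halt : ∀ u : Fin n → F, (∀ i, u i ∈ F₀) → Cfsg.hermForm n F q
      (Matrix.mulVec (P : Matrix (Fin n) (Fin n) F) u) (Matrix.mulVec (P : Matrix (Fin n) (Fin n) F) u) = 0) :
    IsMaximalIn suG (subfieldSubgroup F₀ P ⊓ suG) := by
  obtain ⟨hq, hfix⟩ := fixed_of_card hF hcard
  have hS : UTv.SympSub n q F F₀ ζ P :=
    { fixed := hfix
      card := hq
      ne_zero := hζ0
      skew := hζ
      rational := hP
      alt := halt }
  exact isMaximalIn_of_key (UTv.sympSub_proper (hF := natCard hF) hS (by omega))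
    fun M h1 h2 h3 => UTv.sympSub_key (hF := natCard hF) hS (by omega) h1 h2 h3

theorem subfieldOrth (hn : 6 ≤ n) (hodd : Odd q) {F₀ : Subfield F} {P : GL (Fin n) F}
    (hcard : Fintype.card F = Nat.card F₀ ^ 2) (hP : IsFormRationalStructure (Cfsg.hermForm n F q) F₀ 1 P) :
    IsMaximalIn suG (subfieldSubgroup F₀ P ⊓ suG) := by
  obtain ⟨hq, hfix⟩ := fixed_of_card hF hcard
  have h2 : (2 : F) ≠ 0 := by
    intro h0
    haveI : CharP F 2 := CharTwo.of_one_ne_zero_of_two_eq_zero one_ne_zero h0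
    have h3 := FiniteField.even_card_of_char_two (F := F) (ringChar.eq F 2)
    have h4 : Odd (Fintype.card F) := by rw [hF]; exact hodd.pow
    rw [Nat.odd_iff] at h4
    omega
  have hS : UTv.OrthSub n q F F₀ P :=
    { fixed := hfix
      mem_of_fixed := UTv.mem_of_fixed (natCard hF) hfix hq h2
      two := h2
      rational := hP }
  exact isMaximalIn_of_key (UTv.orthSub_proper (natCard hF) hS hn)
    fun M h1 h2 h3 => UTv.orthSub_key (natCard hF) hS hn h1 h2 h3

end CfsgLib.Geo.UnitAll
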